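import Groth.Agent.H43.DeltaCompare
import Mathlib.CategoryTheory.Sites.SheafCohomology.Basic
import Groth.Prelude.Def_FreeSh

/-!
# `R^q` of the forgetful functor from sheaves to presheaves is the cohomology presheaf

For a small site `(C, J)`, let `T : Sheaf J Ab ⥤ Sheaf ⊥ Ab` forget the sheaf condition.
We show `(T.rightDerived q).obj M ≅ ⟨M.cohomologyPresheaf q, _⟩` (as presheaves!), and that
`T` preserves injectives.  (helper43)
-/

set_option autoImplicit false
universe u v w
open CategoryTheory Limits Opposite Abelian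

namespace Groth.Agent.H43.CohPresheafRD

section General

variable {T : Type u} [Category.{v} T] {V : Type w} [Category.{v} V] [Abelian V]

lemma functor_exact_iff (S : ShortComplex (T ⥤ V)) :
    S.Exact ↔ ∀ t : T, (S.map ((evaluation T V).obj t)).Exact := by
  rw [ShortComplex.exact_iff_isZero_homology, Functor.isZero_iff]
  refine forall_congr' fun t => ?_
  rw [ShortComplex.exact_iff_isZero_homology]
  exact Iso.isZero_iff (S.mapHomologyIso ((evaluation T V).obj t)).symm

end General

variable {C : Type u} [SmallCategory C]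

instance : (sheafToPresheaf (⊥ : GrothendieckTopology C) AddCommGrpCat.{u}).IsEquivalence :=
  (sheafBotEquivalence AddCommGrpCat.{u}).isEquivalence_functor

lemma sheafBot_exact_iff
    (S : ShortComplex (Sheaf (⊥ : GrothendieckTopology C) AddCommGrpCat.{u})) :
    S.Exact ↔ ∀ X : Cᵒᵖ, (S.map (sheafToPresheaf _ _ ⋙ (evaluation _ _).obj X)).Exact := by
  rw [← ShortComplex.exact_map_iff_of_faithful S (sheafToPresheaf _ _), functor_exact_iff]
  rfl

variable (J : GrothendieckTopology C)

/-- forgetting the sheaf condition, with values in sheaves for the trivial topology -/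
noncomputable def T :
    Sheaf J AddCommGrpCat.{u} ⥤ Sheaf (⊥ : GrothendieckTopology C) AddCommGrpCat.{u} :=
  sheafToPresheaf J AddCommGrpCat.{u} ⋙ (sheafBotEquivalence AddCommGrpCat.{u}).inverse

instance : (T J).Additive where
  map_add := rfl

/-- the left adjoint of `T`: sheafification. -/
noncomputable def L :
    Sheaf (⊥ : GrothendieckTopology C) AddCommGrpCat.{u} ⥤ Sheaf J AddCommGrpCat.{u} :=
  (sheafBotEquivalence AddCommGrpCat.{u}).functor ⋙ presheafToSheaf J AddCommGrpCat.{u}

/-- sheafification is left adjoint to `T`. -/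
noncomputable def adj : L J ⊣ T J :=
  (sheafBotEquivalence AddCommGrpCat.{u}).toAdjunction.comp
    (sheafificationAdjunction J AddCommGrpCat.{u})

instance : PreservesFiniteLimits (L J) := by
  dsimp only [L]
  infer_instance

instance (I : Sheaf J AddCommGrpCat.{u}) [Injective I] : Injective ((T J).obj I) :=
  Injective.injective_of_adjoint (adj J) I

instance : PreservesFiniteLimits (T J) :=
  have : (T J).IsRightAdjoint := (adj J).isRightAdjoint
  inferInstance

/-- The cohomology presheaf functor, valued in sheaves for the trivial topology. -/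
noncomputable def EP (n : ℕ) :
    Sheaf J AddCommGrpCat.{u} ⥤ Sheaf (⊥ : GrothendieckTopology C) AddCommGrpCat.{u} :=
  Sheaf.cohomologyPresheafFunctor J n ⋙ (sheafBotEquivalence AddCommGrpCat.{u}).inverse

/-- the free abelian sheaf on a representable -/
noncomputable abbrev freeZ (V : C) : Sheaf J AddCommGrpCat.{u} :=
  (yoneda ⋙ (Functor.whiskeringRight _ _ _).obj AddCommGrpCat.free ⋙ presheafToSheaf _ _).obj V

lemma EP_obj_obj (n : ℕ) (M : Sheaf J AddCommGrpCat.{u}) (V : Cᵒᵖ) :
    ((EP J n).obj M).obj.obj V = AddCommGrpCat.of (Ext (freeZ J V.unop) M n) := rfl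

/-- the connecting morphism of cohomology presheaves -/
noncomputable def δNat (S : ShortComplex (Sheaf J AddCommGrpCat.{u})) (hS : S.ShortExact) (n : ℕ) :
    S.X₃.cohomologyPresheaf n ⟶ S.X₁.cohomologyPresheaf (n + 1) where
  app V := AddCommGrpCat.ofHom (hS.extClass.postcomp (freeZ J V.unop) rfl)
  naturality V W g := by
    ext x
    change ((Ext.mk₀ _).comp x (zero_add n)).comp hS.extClass (rfl : n + 1 = n + 1) =
      (Ext.mk₀ _).comp (x.comp hS.extClass (rfl : n + 1 = n + 1)) (zero_add (n + 1))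
    apply Ext.comp_assoc
    lia


/-- the connecting morphism, in sheaves for the trivial topology -/
noncomputable def δ (S : ShortComplex (Sheaf J AddCommGrpCat.{u})) (hS : S.ShortExact) (n : ℕ) :
    (EP J n).obj S.X₃ ⟶ (EP J (n + 1)).obj S.X₁ :=
  (sheafBotEquivalence AddCommGrpCat.{u}).inverse.map (δNat J S hS n)

lemma comp_g_extClass {A : Type*} [Category A] [Abelian A] [HasExt.{w} A]
    {S : ShortComplex A} (hS : S.ShortExact) {X : A} {n : ℕ} (x : Ext X S.X₂ n) :
    (x.comp (Ext.mk₀ S.g) (add_zero n)).comp hS.extClass (rfl : n + 1 = n + 1) = 0 := by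
  simp only [Ext.comp_assoc_of_second_deg_zero, ShortComplex.ShortExact.comp_extClass,
    Ext.comp_zero]

lemma extClass_comp_f {A : Type*} [Category A] [Abelian A] [HasExt.{w} A]
    {S : ShortComplex A} (hS : S.ShortExact) {X : A} {n : ℕ} (x : Ext X S.X₃ n) :
    (x.comp hS.extClass (rfl : n + 1 = n + 1)).comp (Ext.mk₀ S.f) (add_zero (n + 1)) = 0 := by
  simp only [Ext.comp_assoc_of_third_deg_zero, ShortComplex.ShortExact.extClass_comp,
    Ext.comp_zero]

lemma w₃ (S : ShortComplex (Sheaf J AddCommGrpCat.{u})) (hS : S.ShortExact) (n : ℕ) :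
    (EP J n).map S.g ≫ δ J S hS n = 0 := by
  apply (sheafToPresheaf _ _).map_injective
  ext V x
  exact comp_g_extClass hS (X := freeZ J V.unop) x

lemma w₁ (S : ShortComplex (Sheaf J AddCommGrpCat.{u})) (hS : S.ShortExact) (n : ℕ) :
    δ J S hS n ≫ (EP J (n + 1)).map S.f = 0 := by
  apply (sheafToPresheaf _ _).map_injective
  ext V x
  exact extClass_comp_f hS (X := freeZ J V.unop) x

lemma exact₃ (S : ShortComplex (Sheaf J AddCommGrpCat.{u})) (hS : S.ShortExact) (n : ℕ) :
    (ShortComplex.mk _ _ (w₃ J S hS n)).Exact := by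
  rw [sheafBot_exact_iff]
  intro V
  exact Ext.covariant_sequence_exact₃' (freeZ J V.unop) hS n (n + 1) rfl

lemma exact₁ (S : ShortComplex (Sheaf J AddCommGrpCat.{u})) (hS : S.ShortExact) (n : ℕ) :
    (ShortComplex.mk _ _ (w₁ J S hS n)).Exact := by
  rw [sheafBot_exact_iff]
  intro V
  exact Ext.covariant_sequence_exact₁' (freeZ J V.unop) hS n (n + 1) rfl


lemma isZero_EP_of_injective (I : Sheaf J AddCommGrpCat.{u}) [Injective I] (n : ℕ) :
    IsZero ((EP J (n + 1)).obj I) := by
  refine (sheafBotEquivalence AddCommGrpCat.{u}).inverse.map_isZero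
    (X := I.cohomologyPresheaf (n + 1)) ?_
  rw [Functor.isZero_iff]
  intro V
  have : Subsingleton (Ext (freeZ J V.unop) I (n + 1)) :=
    subsingleton_of_forall_eq 0 (fun x => Ext.eq_zero_of_injective x)
  exact AddCommGrpCat.isZero_of_subsingleton (AddCommGrpCat.of (Ext (freeZ J V.unop) I (n + 1)))

section Eps

variable {A : Type*} [Category A] [Abelian A] [HasExt.{w} A]

lemma addEquiv₀_mk₀_comp {X Y Z : A} (f : X ⟶ Y) (x : Ext Y Z 0) :
    Ext.addEquiv₀ ((Ext.mk₀ f).comp x (zero_add 0)) = f ≫ Ext.addEquiv₀ x := by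
  obtain ⟨φ, rfl⟩ := (Ext.mk₀_bijective Y Z).2 x
  rw [Ext.mk₀_comp_mk₀, ← Ext.addEquiv₀_symm_apply, ← Ext.addEquiv₀_symm_apply,
    AddEquiv.apply_symm_apply, AddEquiv.apply_symm_apply]

lemma addEquiv₀_comp_mk₀ {X Y Z : A} (x : Ext X Y 0) (g : Y ⟶ Z) :
    Ext.addEquiv₀ (x.comp (Ext.mk₀ g) (add_zero 0)) = Ext.addEquiv₀ x ≫ g := by
  obtain ⟨φ, rfl⟩ := (Ext.mk₀_bijective X Y).2 x
  rw [Ext.mk₀_comp_mk₀, ← Ext.addEquiv₀_symm_apply, ← Ext.addEquiv₀_symm_apply,
    AddEquiv.apply_symm_apply, AddEquiv.apply_symm_apply]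

end Eps

/-- sections of `M` over `V` as `Ext⁰(ℤ_V, M)` -/
noncomputable def εEquiv (M : Sheaf J AddCommGrpCat.{u}) (V : C) :
    Ext (freeZ J V) M 0 ≃+ M.obj.obj (op V) :=
  (Ext.addEquiv₀ (X := freeZ J V) (Y := M)).trans (CohFree.homEquivSect J V M)

/-- `H⁰`-presheaf of `M` is `M` -/
noncomputable def εPre (M : Sheaf J AddCommGrpCat.{u}) : M.cohomologyPresheaf 0 ≅ M.obj :=
  NatIso.ofComponents (fun V => (εEquiv J M V.unop).toAddCommGrpIso) (by
    intro V W g
    ext x
    change CohFree.evalGen J W.unop M (Ext.addEquiv₀ ((Ext.mk₀ (CohCx.freeSheafMap J g.unop)).comp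
        (show Ext (freeZ J V.unop) M 0 from x) (zero_add 0))) =
      (M.obj.map g).hom (CohFree.evalGen J V.unop M (Ext.addEquiv₀
        (show Ext (freeZ J V.unop) M 0 from x)))
    rw [addEquiv₀_mk₀_comp, CohFree.evalGen_freeSheafMap_comp]
    rfl)


/-- `EP 0 ≅ T` -/
noncomputable def ε : EP J 0 ≅ T J :=
  NatIso.ofComponents
    (fun M => (sheafBotEquivalence AddCommGrpCat.{u}).inverse.mapIso (εPre J M)) (by
    intro M N f
    apply (sheafToPresheaf _ _).map_injective
    ext V x
    change CohFree.evalGen J V.unop N (Ext.addEquiv₀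
        ((show Ext (freeZ J V.unop) M 0 from x).comp (Ext.mk₀ f) (add_zero 0))) =
      (f.hom.app V).hom (CohFree.evalGen J V.unop M (Ext.addEquiv₀
        (show Ext (freeZ J V.unop) M 0 from x)))
    rw [addEquiv₀_comp_mk₀]
    rfl)

/-- The δ-functor data of the cohomology presheaves. -/
noncomputable def deltaData : DeltaCompare.DeltaData (T J) where
  G := EP J
  δ := δ J
  w₃ := w₃ J
  w₁ := w₁ J
  exact₃ := exact₃ J
  exact₁ := exact₁ J
  isZero I _ n := isZero_EP_of_injective J I n
  ε := ε J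

/-- **`R^q` of the forgetful functor is the cohomology presheaf.** -/
theorem nonempty_rightDerived_iso (M : Sheaf J AddCommGrpCat.{u}) (q : ℕ) :
    Nonempty (((T J).rightDerived q).obj M ≅
      (⟨M.cohomologyPresheaf q, Presheaf.isSheaf_bot _⟩ :
        Sheaf (⊥ : GrothendieckTopology C) AddCommGrpCat.{u})) := by
  obtain ⟨e⟩ := (deltaData J).nonempty_iso q M
  exact ⟨e.symm⟩

end Groth.Agent.H43.CohPresheafRD
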