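import Groth.Agent.H43.CechContract
import Groth.Agent.H43.CohPresheafRD

/-!
# Čech cohomology of presheaves is the derived functor of `Ȟ⁰`

(helper43)
-/

set_option autoImplicit false
universe u
open CategoryTheory Limits Opposite Simplicial

namespace Groth.Agent.H43.CechDelta

open CechContract CohPresheafRD

section Pi

variable {I : Type u} {A₁ A₂ A₃ : I → AddCommGrpCat.{u}} (f : ∀ x, A₁ x ⟶ A₂ x)
  (g : ∀ x, A₂ x ⟶ A₃ x)

lemma π_map_apply (x : I) (c : (∏ᶜ A₁ : AddCommGrpCat.{u})) :
    (Pi.π A₂ x).hom ((Limits.Pi.map f).hom c) = (f x).hom ((Pi.π A₁ x).hom c) :=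
  ConcreteCategory.congr_hom (Pi.map_π f x) c

lemma pi_ext {c c' : (∏ᶜ A₁ : AddCommGrpCat.{u})}
    (h : ∀ x, (Pi.π A₁ x).hom c = (Pi.π A₁ x).hom c') : c = c' := by
  apply (Concrete.productEquiv A₁).injective
  funext x
  rw [Concrete.productEquiv_apply_apply, Concrete.productEquiv_apply_apply]
  exact h x

lemma pi_shortExact (w : ∀ x, f x ≫ g x = 0)
    (h : ∀ x, (ShortComplex.mk (f x) (g x) (w x)).ShortExact) :
    (ShortComplex.mk (Limits.Pi.map f) (Limits.Pi.map g) (by
      apply Pi.hom_ext
      intro x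
      rw [Category.assoc, Limits.Pi.map_π, Limits.Pi.map_π_assoc, w, comp_zero, zero_comp])).ShortExact := by
  have hmono : ∀ x, Function.Injective (f x).hom := fun x =>
    (AddCommGrpCat.mono_iff_injective _).1 (h x).mono_f
  have hepi : ∀ x, Function.Surjective (g x).hom := fun x =>
    (AddCommGrpCat.epi_iff_surjective _).1 (h x).epi_g
  have hex : ∀ x (b : A₂ x), (g x).hom b = 0 → ∃ a, (f x).hom a = b := fun x =>
    (ShortComplex.ab_exact_iff _).1 (h x).exact
  refine ShortComplex.ShortExact.mk' ?_ ?_ ?_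
  · rw [ShortComplex.ab_exact_iff]
    intro c hc
    have hc' : ∀ x, (g x).hom ((Pi.π A₂ x).hom c) = 0 := fun x => by
      rw [← π_map_apply]
      have : (Limits.Pi.map g).hom c = 0 := hc
      rw [this, map_zero]
    choose b hb using fun x => hex x _ (hc' x)
    refine ⟨(Concrete.productEquiv A₁).symm b, ?_⟩
    apply pi_ext
    intro x
    change (Pi.π A₂ x).hom ((Limits.Pi.map f).hom _) = _
    rw [π_map_apply, Concrete.productEquiv_symm_apply_π]
    exact hb x
  · rw [AddCommGrpCat.mono_iff_injective]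
    intro c c' hcc'
    apply pi_ext
    intro x
    apply hmono x
    rw [← π_map_apply, ← π_map_apply]
    exact congrArg _ hcc'
  · rw [AddCommGrpCat.epi_iff_surjective]
    intro c
    choose b hb using fun x => hepi x ((Pi.π A₃ x).hom c)
    refine ⟨(Concrete.productEquiv A₂).symm b, ?_⟩
    apply pi_ext
    intro x
    change (Pi.π A₃ x).hom ((Limits.Pi.map g).hom _) = _
    rw [π_map_apply, Concrete.productEquiv_symm_apply_π]
    exact hb x

end Pi


variable {C : Type u} [SmallCategory C] {X : C} [HasFiniteProducts (Over X)] {ι : Type u}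
  (Y : ι → Over X)

/-- abbreviation for presheaves as sheaves for the trivial topology -/
abbrev PSh (C : Type u) [SmallCategory C] := Sheaf (⊥ : GrothendieckTopology C) AddCommGrpCat.{u}

/-- The Čech complex functor on presheaves. -/
noncomputable def CC : PSh C ⥤ CochainComplex AddCommGrpCat.{u} ℕ :=
  sheafToPresheaf _ _ ⋙ (Functor.whiskeringLeft _ _ _).obj (Over.forget X).op ⋙
    cechComplexFunctor Y

lemma CC_obj (P : PSh C) :
    (CC Y).obj P = (cechComplexFunctor Y).obj ((Over.forget X).op ⋙ P.obj) := rfl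

lemma CC_map_f {P P' : PSh C} (φ : P ⟶ P') (n : ℕ) :
    ((CC Y).map φ).f n =
      Limits.Pi.map (fun x : Fin (n + 1) → ι => φ.hom.app (op (∏ᶜ (Y ∘ x)).left)) := rfl

instance : (CC Y).Additive where
  map_add {P P'} {φ ψ} := by
    ext n : 1
    change Limits.Pi.map (fun x : Fin (n + 1) → ι => (φ + ψ).hom.app (op (∏ᶜ (Y ∘ x)).left)) =
      Limits.Pi.map (fun x : Fin (n + 1) → ι => φ.hom.app (op (∏ᶜ (Y ∘ x)).left)) +
        Limits.Pi.map (fun x : Fin (n + 1) → ι => ψ.hom.app (op (∏ᶜ (Y ∘ x)).left))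
    apply Pi.hom_ext
    intro x
    rw [Limits.Pi.map_π, Preadditive.add_comp, Limits.Pi.map_π, Limits.Pi.map_π,
      ← Preadditive.comp_add]
    rfl

/-- evaluation of a short exact sequence of presheaves is short exact -/
lemma shortExact_app {S : ShortComplex (PSh C)} (hS : S.ShortExact) (V : Cᵒᵖ) :
    (ShortComplex.mk (S.f.hom.app V) (S.g.hom.app V)
      (congrArg (fun m => m.hom.app V) S.zero)).ShortExact :=
  hS.map_of_exact (sheafToPresheaf _ _ ⋙ (evaluation _ _).obj V)

lemma shortExact_map_CC {S : ShortComplex (PSh C)} (hS : S.ShortExact) :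
    (S.map (CC Y)).ShortExact := by
  apply HomologicalComplex.shortExact_of_degreewise_shortExact
  intro n
  exact pi_shortExact (fun x : Fin (n + 1) → ι => S.f.hom.app (op (∏ᶜ (Y ∘ x)).left))
    (fun x => S.g.hom.app (op (∏ᶜ (Y ∘ x)).left)) _
    (fun x => shortExact_app hS (op (∏ᶜ (Y ∘ x)).left))


/-- Čech cohomology functors on presheaves -/
noncomputable def G (n : ℕ) : PSh C ⥤ AddCommGrpCat.{u} :=
  CC Y ⋙ HomologicalComplex.homologyFunctor _ _ n

instance (n : ℕ) : (G Y n).Additive := by
  dsimp only [G]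
  infer_instance

lemma G_obj (n : ℕ) (P : PSh C) :
    (G Y n).obj P = ((cechComplexFunctor Y).obj ((Over.forget X).op ⋙ P.obj)).homology n := rfl

/-- the cofree presheaf as an object of `PSh C` -/
noncomputable def cofreeSh (P : PSh C) : PSh C := ⟨cofree P.obj, Presheaf.isSheaf_bot _⟩

/-- the embedding into the cofree presheaf -/
noncomputable def ηSh (P : PSh C) : P ⟶ cofreeSh P := ⟨η P.obj⟩

instance (P : PSh C) : Mono (ηSh P) :=
  (sheafToPresheaf _ _).mono_of_mono_map (inferInstanceAs (Mono (η P.obj)))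

/-- **Čech cohomology is effaceable**: it vanishes in positive degrees on injective presheaves. -/
theorem isZero_G_succ_of_injective (I : PSh C) [Injective I] (n : ℕ) :
    IsZero ((G Y (n + 1)).obj I) := by
  have hz : IsZero ((G Y (n + 1)).obj (cofreeSh I)) := isZero_homology_cofree Y I.obj n
  rw [IsZero.iff_id_eq_zero]
  have h : ηSh I ≫ Injective.factorThru (𝟙 I) (ηSh I) = 𝟙 I := Injective.comp_factorThru _ _
  rw [← (G Y (n + 1)).map_id, ← h, Functor.map_comp, hz.eq_of_tgt ((G Y (n + 1)).map (ηSh I)) 0,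
    zero_comp]

instance : PreservesFiniteLimits (G Y 0) := by
  rw [Functor.preservesFiniteLimits_iff_forall_exact_map_and_mono]
  intro S hS
  have hS' := shortExact_map_CC Y hS
  refine ⟨hS'.homology_exact₂ 0, ?_⟩
  have : Mono (S.map (CC Y)).f := hS'.mono_f
  have h1 : Mono (HomologicalComplex.cyclesMap (S.map (CC Y)).f 0) := by
    have : Mono ((S.map (CC Y)).f.f 0) := inferInstance
    have : Mono (HomologicalComplex.cyclesMap (S.map (CC Y)).f 0 ≫ (S.map (CC Y)).X₂.iCycles 0) := by
      rw [HomologicalComplex.cyclesMap_i]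
      infer_instance
    exact mono_of_mono _ ((S.map (CC Y)).X₂.iCycles 0)
  have h2 := CochainComplex.isoHomologyπ₀_inv_naturality (S.map (CC Y)).f
  have : Mono (HomologicalComplex.homologyMap (S.map (CC Y)).f 0 ≫
      (S.map (CC Y)).X₂.isoHomologyπ₀.inv) := by
    rw [h2]
    infer_instance
  exact mono_of_mono (HomologicalComplex.homologyMap (S.map (CC Y)).f 0)
    (S.map (CC Y)).X₂.isoHomologyπ₀.inv

/-- The δ-functor structure of Čech cohomology on presheaves. -/
noncomputable def deltaData : DeltaCompare.DeltaData (G Y 0) where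
  G := G Y
  δ S hS n := (shortExact_map_CC Y hS).δ n (n + 1) rfl
  w₃ S hS n := (shortExact_map_CC Y hS).comp_δ n (n + 1) rfl
  w₁ S hS n := (shortExact_map_CC Y hS).δ_comp n (n + 1) rfl
  exact₃ S hS n := (shortExact_map_CC Y hS).homology_exact₃ n (n + 1) rfl
  exact₁ S hS n := (shortExact_map_CC Y hS).homology_exact₁ n (n + 1) rfl
  isZero I _ n := isZero_G_succ_of_injective Y I n
  ε := Iso.refl _

/-- **Čech cohomology of presheaves is the right derived functor of `Ȟ⁰`** (objectwise). -/
theorem nonempty_iso_rightDerived (n : ℕ) (P : PSh C) :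
    Nonempty ((G Y n).obj P ≅ ((G Y 0).rightDerived n).obj P) :=
  (deltaData Y).nonempty_iso n P

end Groth.Agent.H43.CechDelta
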