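import Groth.Agent.H43.CechDelta

/-!
# Čech cohomology of a presheaf vanishing on the Čech nerve

(helper43)
-/

set_option autoImplicit false
universe u
open CategoryTheory Limits Opposite

namespace Groth.Agent.H43.CechZero

open CechDelta

variable {C : Type u} [SmallCategory C] {X : C} [HasFiniteProducts (Over X)] {ι : Type u}
  (Y : ι → Over X)

lemma isZero_pi {D : Type*} [Category D] [HasZeroMorphisms D] {β : Type*} (f : β → D)
    [HasProduct f] (hf : ∀ b, IsZero (f b)) : IsZero (∏ᶜ f) := by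
  rw [IsZero.iff_id_eq_zero]
  apply Pi.hom_ext
  intro b
  exact (hf b).eq_of_tgt _ _

/-- If `P` vanishes on all `(n+1)`-fold fibre products then `Ȟⁿ(Y, P) = 0`. -/
lemma isZero_G (P : PSh C) (n : ℕ)
    (hP : ∀ x : Fin (n + 1) → ι, IsZero (P.obj.obj (op (∏ᶜ (Y ∘ x)).left))) :
    IsZero ((G Y n).obj P) := by
  have h : IsZero (((CC Y).obj P).X n) :=
    isZero_pi (fun x : Fin (n + 1) → ι => P.obj.obj (op (∏ᶜ (Y ∘ x)).left)) hP
  exact ShortComplex.isZero_homology_of_isZero_X₂ _ h

end Groth.Agent.H43.CechZero
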