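import Groth.Agent.H43.CechSurj
import Groth.Agent.H43.CechZero

/-!
# Dimension shifting for Cartan's criterion

(helper43)
-/

set_option autoImplicit false
universe u
open CategoryTheory Limits Opposite Abelian

namespace Groth.Agent.H43.Cartan

open CechDelta CohPresheafRD PresheafSS

variable {C : Type u} [SmallCategory C] (J : GrothendieckTopology C)

section Sections

variable (V : C)

/-- the free abelian sheaf on a representable -/
noncomputable abbrev Z : Sheaf J AddCommGrpCat.{u} := (Fr J).obj (yoneda.obj V)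

/-- morphisms out of the free sheaf on `h_V` are the sections over `V` -/
noncomputable def θ (M : Sheaf J AddCommGrpCat.{u}) : (Z J V ⟶ M) ≃ M.obj.obj (op V) :=
  ((adjFr J).homEquiv (yoneda.obj V) M).trans yonedaEquiv

lemma θ_comp {M M' : Sheaf J AddCommGrpCat.{u}} (q : Z J V ⟶ M) (g : M ⟶ M') :
    θ J V M' (q ≫ g) = (g.hom.app (op V)).hom (θ J V M q) := by
  unfold θ
  rw [Equiv.trans_apply, Equiv.trans_apply, Adjunction.homEquiv_naturality_right]
  rfl

/-- lifting morphisms out of the free sheaf along a map surjective on sections -/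
lemma exists_lift {M M' : Sheaf J AddCommGrpCat.{u}} (g : M ⟶ M')
    (hg : Function.Surjective (g.hom.app (op V)).hom) (q : Z J V ⟶ M') :
    ∃ q' : Z J V ⟶ M, q' ≫ g = q := by
  obtain ⟨t, ht⟩ := hg (θ J V M' q)
  refine ⟨(θ J V M).symm t, ?_⟩
  apply (θ J V M').injective
  rw [θ_comp, Equiv.apply_symm_apply, ht]

end Sections

section Shift

variable {J} {S : ShortComplex (Sheaf J AddCommGrpCat.{u})} (hS : S.ShortExact) [Injective S.X₂]
  (V : C)

include hS in
/-- `H¹(V, F) = 0` if `I(V) → Q(V)` is surjective -/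
lemma subsingleton_ext_one (hg : Function.Surjective (S.g.hom.app (op V)).hom) :
    Subsingleton (Ext (Z J V) S.X₁ 1) := by
  refine subsingleton_of_forall_eq 0 (fun x₁ => ?_)
  obtain ⟨x₃, rfl⟩ := Ext.covariant_sequence_exact₁ (Z J V) hS x₁
    (Ext.eq_zero_of_injective _) (zero_add 1)
  obtain ⟨q, rfl⟩ := (Ext.mk₀_bijective (Z J V) S.X₃).2 x₃
  obtain ⟨q', rfl⟩ := exists_lift J V S.g hg q
  rw [← Ext.mk₀_comp_mk₀, Ext.comp_assoc_of_second_deg_zero, hS.comp_extClass, Ext.comp_zero]

include hS in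
/-- `H^{p+2}(V, F) = 0` if `H^{p+1}(V, Q) = 0` -/
lemma subsingleton_ext_succ (p : ℕ) (hQ : Subsingleton (Ext (Z J V) S.X₃ (p + 1))) :
    Subsingleton (Ext (Z J V) S.X₁ (p + 2)) := by
  refine subsingleton_of_forall_eq 0 (fun x₁ => ?_)
  obtain ⟨x₃, rfl⟩ := Ext.covariant_sequence_exact₁ (Z J V) hS x₁
    (Ext.eq_zero_of_injective _) (rfl : (p + 1) + 1 = p + 2)
  rw [Subsingleton.elim x₃ 0, Ext.zero_comp]

end Shift

section Cech

variable {J} {S : ShortComplex (Sheaf J AddCommGrpCat.{u})} (hS : S.ShortExact)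
  {U : C} [HasFiniteProducts (Over U)] {ι : Type u} (Y : ι → Over U)

include hS in
/-- evaluation at an object where `g` is surjective -/
lemma shortExact_app (V : Cᵒᵖ) (hg : Function.Surjective (S.g.hom.app V).hom) :
    (ShortComplex.mk (S.f.hom.app V) (S.g.hom.app V)
      (congrArg (fun m => m.hom.app V) S.zero)).ShortExact := by
  have := hS.mono_f
  let FV : Sheaf J AddCommGrpCat.{u} ⥤ AddCommGrpCat.{u} :=
    sheafToPresheaf J AddCommGrpCat.{u} ⋙ (evaluation Cᵒᵖ AddCommGrpCat.{u}).obj V
  have hex : (S.map FV).Exact :=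
    hS.exact.map_of_mono_of_preservesKernel FV inferInstance inferInstance
  have hmono : Mono (FV.map S.f) := inferInstance
  exact ShortComplex.ShortExact.mk' hex hmono ((AddCommGrpCat.epi_iff_surjective _).2 hg)

include hS in
/-- the Čech complexes of a short exact sequence of sheaves that is exact on the Čech nerve -/
lemma shortExact_map_CC
    (hg : ∀ (n : ℕ) (x : Fin (n + 1) → ι),
      Function.Surjective (S.g.hom.app (op (∏ᶜ (Y ∘ x)).left)).hom) :
    ((S.map (T J)).map (CC Y)).ShortExact := by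
  apply HomologicalComplex.shortExact_of_degreewise_shortExact
  intro n
  exact pi_shortExact (fun x : Fin (n + 1) → ι => S.f.hom.app (op (∏ᶜ (Y ∘ x)).left))
    (fun x => S.g.hom.app (op (∏ᶜ (Y ∘ x)).left)) _
    (fun x => shortExact_app hS (op (∏ᶜ (Y ∘ x)).left) (hg n x))

include hS in
/-- Čech-acyclicity passes to the quotient by a Čech-acyclic subsheaf with injective middle term -/
lemma isZero_cech_quotient [Injective S.X₂]
    (hg : ∀ (n : ℕ) (x : Fin (n + 1) → ι),
      Function.Surjective (S.g.hom.app (op (∏ᶜ (Y ∘ x)).left)).hom)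
    (p : ℕ) (hF : IsZero ((G Y (p + 2)).obj ((T J).obj S.X₁))) :
    IsZero ((G Y (p + 1)).obj ((T J).obj S.X₃)) := by
  have hS' := shortExact_map_CC hS Y hg
  have hI : IsZero ((G Y (p + 1)).obj ((T J).obj S.X₂)) :=
    isZero_G_succ_of_injective Y ((T J).obj S.X₂) p
  have hex := hS'.homology_exact₃ (p + 1) (p + 2) rfl
  exact hex.isZero_X₂ (hI.eq_of_src _ _) (hF.eq_of_tgt _ _)

end Cech

end Groth.Agent.H43.Cartan
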