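import Groth.Agent.H43.PresheafSS

/-!
# The free abelian sheaf on a covering sieve is the free sheaf on the representable

(helper43)
-/

set_option autoImplicit false
universe u
open CategoryTheory Limits Opposite

namespace Groth.Agent.H43.CoverFree

open Groth.Agent.H43.CohPresheafRD Groth.Agent.H43.PresheafSS

variable {C : Type u} [SmallCategory C] (J : GrothendieckTopology C)

lemma isIso_Fr_map_functorInclusion {X : C} (S : Sieve X) (hS : S ∈ J X) :
    IsIso ((Fr J).map S.functorInclusion) := by
  rw [isIso_iff_coyoneda_map_bijective]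
  intro M
  have key : ∀ x : (Fr J).obj (yoneda.obj X) ⟶ M,
      (adjFr J).homEquiv _ _ ((Fr J).map S.functorInclusion ≫ x) =
        S.functorInclusion ≫ (adjFr J).homEquiv _ _ x :=
    fun x => (adjFr J).homEquiv_naturality_left _ _
  have hsh : Presieve.IsSheafFor ((Ufun J).obj M) S.arrows :=
    ((isSheaf_iff_isSheaf_of_type J _).1 (isSheaf_Ufun J M)) S hS
  rw [Presieve.isSheafFor_iff_yonedaSheafCondition] at hsh
  constructor
  · intro x y hxy
    apply ((adjFr J).homEquiv _ _).injective
    obtain ⟨g, _, hg⟩ := hsh (S.functorInclusion ≫ (adjFr J).homEquiv _ _ x)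
    have h1 := hg ((adjFr J).homEquiv _ _ x) rfl
    have h2 := hg ((adjFr J).homEquiv _ _ y) (by
      change S.functorInclusion ≫ (adjFr J).homEquiv _ _ y =
        S.functorInclusion ≫ (adjFr J).homEquiv _ _ x
      rw [← key, ← key]
      exact congrArg _ hxy.symm)
    exact h1.trans h2.symm
  · intro y
    obtain ⟨g, hg, _⟩ := hsh ((adjFr J).homEquiv _ _ y)
    refine ⟨((adjFr J).homEquiv _ _).symm g, ?_⟩
    apply ((adjFr J).homEquiv _ _).injective
    dsimp only
    rw [key, Equiv.apply_symm_apply, hg]

/-- `ℤ[a R]^a ≅ ℤ[h_X]^a` for a covering sieve `R` of `X`. -/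
noncomputable def isoFree {X : C} (S : Sieve X) (hS : S ∈ J X) :
    Q J S.functor ≅ (presheafToSheaf J AddCommGrpCat.{u}).obj (yoneda.obj X ⋙ AddCommGrpCat.free.{u}) :=
  (asIso ((Fr J).map (toSheafify J S.functor))).symm ≪≫
    (have := isIso_Fr_map_functorInclusion J S hS
     (asIso ((Fr J).map S.functorInclusion) : _ ≅ _))

end Groth.Agent.H43.CoverFree
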