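import Groth.Agent.H43.CechH0
import Groth.Agent.H43.CoverFree

/-!
# Vanishing of `Ext¹(ℤ[R], F)` and surjectivity on sections

(helper43) For a short exact sequence of abelian sheaves `0 → F → G → H → 0`, a section `s` of `H`
over `U` and a covering family `Y` of `U` on whose members `s` lifts to `G`: if
`Ext¹_{PSh}(ℤ[R], F) = 0` (`R` the sieve generated by `Y`; this group is `Ȟ¹(Y, F)`), then `s` lifts
to a section of `G` over `U`.
-/

set_option autoImplicit false
universe w v u
open CategoryTheory Limits Opposite Abelian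

namespace Groth.Agent.H43.CechSurj

section Abstract

variable {A : Type u} [Category.{v} A] [Abelian A] [HasExt.{w} A]

/-- Lifting along a left exact sequence when `Ext¹` vanishes. -/
lemma exists_lift_of_subsingleton_ext {X : A} (S : ShortComplex A) (hS : S.Exact) [Mono S.f]
    [Subsingleton (Ext X S.X₁ 1)] (σ : X ⟶ S.X₃) (hσ : σ ≫ cokernel.π S.g = 0) :
    ∃ ψ : X ⟶ S.X₂, ψ ≫ S.g = σ := by
  let m : cokernel S.f ⟶ S.X₃ := cokernel.desc S.f S.g S.zero
  have hm : Mono m := hS.mono_cokernelDesc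
  have hem : cokernel.π S.f ≫ m = S.g := cokernel.π_desc _ _ _
  have hσ' : σ ≫ cokernel.π m = 0 := by
    have : cokernel.π m = cokernel.π S.g ≫ cokernel.desc S.g (cokernel.π m) (by
        rw [← hem, Category.assoc, cokernel.condition, comp_zero]) :=
      (cokernel.π_desc _ _ _).symm
    rw [this, reassoc_of% hσ, zero_comp]
  let σ' : X ⟶ cokernel S.f := Abelian.monoLift m σ hσ'
  have hσ'' : σ' ≫ m = σ := Abelian.monoLift_comp m σ hσ'
  let S' : ShortComplex A := ShortComplex.mk S.f (cokernel.π S.f) (cokernel.condition _)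
  have hS' : S'.ShortExact := { exact := ShortComplex.exact_cokernel S.f }
  obtain ⟨x₂, hx₂⟩ := Ext.covariant_sequence_exact₃ X hS' (Ext.mk₀ σ') rfl
    (Subsingleton.elim _ _)
  obtain ⟨ψ, rfl⟩ := (Ext.mk₀_bijective X S.X₂).2 x₂
  refine ⟨ψ, ?_⟩
  have h1 : ψ ≫ cokernel.π S.f = σ' := by
    apply (Ext.mk₀_bijective X (cokernel S.f)).1
    rw [← hx₂, Ext.mk₀_comp_mk₀]
  rw [← hem, ← Category.assoc, h1, hσ'']

end Abstract

open CechPts CechContract CechDelta CohPresheafRD PresheafSS CechH0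

variable {C : Type u} [SmallCategory C] {J : GrothendieckTopology C} {U : C}
  [HasFiniteProducts (Over U)] {ι : Type u} (Y : ι → Over U)

section Sections

variable (M : Sheaf J AddCommGrpCat.{u})

/-- the family of restrictions of a section to the arrows of the sieve -/
noncomputable def σ₀ (s : M.obj.obj (op U)) :
    Rf Y ⟶ (Ufun (⊥ : GrothendieckTopology C)).obj ((T J).obj M) where
  app V := ↾(fun r => (M.obj.map r.1.op).hom s)
  naturality V V' k := by
    ext ⟨f, hf⟩
    change (M.obj.map (k.unop ≫ f).op).hom s = (M.obj.map k).hom ((M.obj.map f.op).hom s)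
    rw [op_comp, M.obj.map_comp]
    rfl

/-- the morphism `ℤ[R] ⟶ M` attached to a section -/
noncomputable def σ (s : M.obj.obj (op U)) : ZR Y ⟶ (T J).obj M :=
  ((adjFr (⊥ : GrothendieckTopology C)).homEquiv (Rf Y) ((T J).obj M)).symm (σ₀ Y M s)

lemma σ_univ (s : M.obj.obj (op U)) (V : Cᵒᵖ) (r : (Rf Y).obj V) :
    ((σ Y M s).hom.app V).hom (univ Y V r) = (M.obj.map r.1.op).hom s := by
  have := homEquiv_app Y ((T J).obj M) (σ Y M s) V r
  rw [← this]
  unfold σ
  rw [Equiv.apply_symm_apply]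
  rfl

/-- morphisms out of `ℤ[R]` are determined by their values on the universal elements -/
lemma hom_ext_univ {P : PSh C} (ψ ψ' : ZR Y ⟶ P)
    (h : ∀ (V : Cᵒᵖ) (r : (Rf Y).obj V),
      (ψ.hom.app V).hom (univ Y V r) = (ψ'.hom.app V).hom (univ Y V r)) : ψ = ψ' := by
  apply ((adjFr (⊥ : GrothendieckTopology C)).homEquiv (Rf Y) P).injective
  ext V r
  exact (homEquiv_app Y P ψ V r).trans ((h V r).trans (homEquiv_app Y P ψ' V r).symm)

variable {M} in
lemma σ_comp {M' : Sheaf J AddCommGrpCat.{u}} (g : M ⟶ M') (s : M.obj.obj (op U)) :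
    σ Y M s ≫ (T J).map g = σ Y M' ((g.hom.app (op U)).hom s) := by
  apply hom_ext_univ
  intro V r
  rw [σ_univ]
  change (g.hom.app V).hom (((σ Y M s).hom.app V).hom (univ Y V r)) = _
  rw [σ_univ]
  exact ConcreteCategory.congr_hom (g.hom.naturality r.1.op) s

/-- a morphism `ℤ[R] ⟶ M` into a sheaf, `R` covering, comes from a section -/
lemma exists_section (hY : R Y ∈ J U) (ψ : ZR Y ⟶ (T J).obj M) :
    ∃ t : M.obj.obj (op U), ∀ (V : Cᵒᵖ) (r : (Rf Y).obj V),
      (M.obj.map r.1.op).hom t = (ψ.hom.app V).hom (univ Y V r) := by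
  have hsh : Presieve.IsSheafFor ((Ufun J).obj M) (R Y).arrows :=
    ((isSheaf_iff_isSheaf_of_type J _).1 (isSheaf_Ufun J M)) (R Y) hY
  rw [Presieve.isSheafFor_iff_yonedaSheafCondition] at hsh
  let φ : Rf Y ⟶ (Ufun J).obj M :=
    (adjFr (⊥ : GrothendieckTopology C)).homEquiv (Rf Y) ((T J).obj M) ψ
  obtain ⟨g, hg, _⟩ := hsh φ
  refine ⟨g.app (op U) (𝟙 U), fun V r => ?_⟩
  have h1 : φ.app V r = (ψ.hom.app V).hom (univ Y V r) := homEquiv_app Y ((T J).obj M) ψ V r
  rw [← h1, ← hg]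
  have h2 := NatTrans.naturality_apply g r.1.op (𝟙 U)
  change g.app V (r.1 ≫ 𝟙 U) = _ at h2
  rw [Category.comp_id] at h2
  exact h2.symm

/-- sections of a sheaf are determined by their restrictions to a covering sieve -/
lemma section_ext (hY : R Y ∈ J U) (a b : M.obj.obj (op U))
    (h : ∀ (V : Cᵒᵖ) (r : (Rf Y).obj V), (M.obj.map r.1.op).hom a = (M.obj.map r.1.op).hom b) :
    a = b := by
  have hsh : Presieve.IsSheafFor ((Ufun J).obj M) (R Y).arrows :=
    ((isSheaf_iff_isSheaf_of_type J _).1 (isSheaf_Ufun J M)) (R Y) hY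
  exact hsh.isSeparatedFor.ext (fun V f hf => h (op V) ⟨f, hf⟩)

end Sections

/-- **Lifting sections**: if `Ext¹(ℤ[R], F) = 0` and `s` lifts to `G` on the arrows of the covering
sieve `R`, then `s` lifts to `G` over `U`. -/
theorem exists_lift (S : ShortComplex (Sheaf J AddCommGrpCat.{u})) (hS : S.ShortExact)
    (hY : R Y ∈ J U) [HasExt.{w} (PSh C)] [Subsingleton (Ext (ZR Y) ((T J).obj S.X₁) 1)]
    (s : S.X₃.obj.obj (op U)) (hs : R Y ≤ Presheaf.imageSieve S.g.hom s) :
    ∃ t : S.X₂.obj.obj (op U), (S.g.hom.app (op U)).hom t = s := by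
  have := hS.mono_f
  have hex : (S.map (T J)).Exact :=
    hS.exact.map_of_mono_of_preservesKernel (T J) inferInstance inferInstance
  have hmono : Mono (S.map (T J)).f := by
    change Mono ((T J).map S.f)
    infer_instance
  have hσ : σ Y S.X₃ s ≫ cokernel.π (S.map (T J)).g = 0 := by
    apply hom_ext_univ
    intro V r
    obtain ⟨t, ht⟩ := hs _ r.2
    change ((cokernel.π ((T J).map S.g)).hom.app V).hom
      (((σ Y S.X₃ s).hom.app V).hom (univ Y V r)) = 0
    rw [σ_univ]
    have ht' : (S.X₃.obj.map r.1.op).hom s = (((T J).map S.g).hom.app V).hom t := ht.symm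
    rw [ht']
    have h0 := congrArg (fun m => (m.hom.app V).hom t) (cokernel.condition ((T J).map S.g))
    exact h0
  haveI : Subsingleton (Ext (ZR Y) (S.map (T J)).X₁ 1) := ‹_›
  obtain ⟨ψ, hψ⟩ := exists_lift_of_subsingleton_ext (X := ZR Y) (S.map (T J)) hex
    (σ Y S.X₃ s) hσ
  obtain ⟨t, ht⟩ := exists_section Y S.X₂ hY ψ
  refine ⟨t, section_ext Y S.X₃ hY _ _ (fun V r => ?_)⟩
  have h1 := ConcreteCategory.congr_hom (S.g.hom.naturality r.1.op) t
  refine h1.symm.trans ?_
  change (S.g.hom.app V).hom ((S.X₂.obj.map r.1.op).hom t) = _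
  rw [ht, ← σ_univ Y S.X₃ s V r, ← hψ]
  rfl

end Groth.Agent.H43.CechSurj
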