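import Groth.Agent.H43.CohPresheafRD
import Groth.Agent.H30.GrothSSExt
import Groth.Prelude.Def_CohCx

/-!
# The presheaf-cohomology spectral sequence: abutment identification

(helper43) For S12105.
-/

set_option autoImplicit false
universe u v w
open CategoryTheory Limits Opposite Abelian

namespace Groth.Agent.H43.PresheafSS

open Groth.Agent.H43.CohPresheafRD

section Adj

variable {A B : Type*} [Category A] [Category B] [Preadditive A] [Preadditive B]
  {L : A ⥤ B} {R : B ⥤ A} (adj : L ⊣ R) [L.Additive]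

/-- `Hom(P, R -) ≅ Hom(L P, -)` as functors to abelian groups. -/
noncomputable def compCoyonedaIso (P : A) :
    R ⋙ preadditiveCoyoneda.obj (op P) ≅ preadditiveCoyoneda.obj (op (L.obj P)) :=
  NatIso.ofComponents (fun M => (adj.homAddEquiv P M).symm.toAddCommGrpIso) (by
    intro M N f
    ext x
    exact adj.homEquiv_naturality_right_symm x f)

end Adj

variable {C : Type u} [SmallCategory C] (J : GrothendieckTopology C)

/-- free abelian sheaf on a presheaf of sets -/
noncomputable def Fr : (Cᵒᵖ ⥤ Type u) ⥤ Sheaf J AddCommGrpCat.{u} :=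
  (Functor.whiskeringRight _ _ _).obj AddCommGrpCat.free.{u} ⋙ presheafToSheaf J AddCommGrpCat.{u}

/-- underlying presheaf of sets of an abelian sheaf -/
noncomputable def Ufun : Sheaf J AddCommGrpCat.{u} ⥤ (Cᵒᵖ ⥤ Type u) :=
  sheafToPresheaf J AddCommGrpCat.{u} ⋙
    (Functor.whiskeringRight _ _ _).obj (forget AddCommGrpCat.{u})

/-- the free-forgetful adjunction -/
noncomputable def adjFr : Fr J ⊣ Ufun J :=
  (AddCommGrpCat.adj.{u}.whiskerRight Cᵒᵖ).comp (sheafificationAdjunction J AddCommGrpCat.{u})

lemma isSheaf_Ufun (M : Sheaf J AddCommGrpCat.{u}) : Presheaf.IsSheaf J ((Ufun J).obj M) :=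
  ((sheafCompose J (forget AddCommGrpCat.{u})).obj M).property

instance isIso_Fr_map_toSheafify (R : Cᵒᵖ ⥤ Type u) : IsIso ((Fr J).map (toSheafify J R)) := by
  rw [isIso_iff_coyoneda_map_bijective]
  intro M
  have key : ∀ x : (Fr J).obj (sheafify J R) ⟶ M,
      (adjFr J).homEquiv _ _ ((Fr J).map (toSheafify J R) ≫ x) =
        toSheafify J R ≫ (adjFr J).homEquiv _ _ x :=
    fun x => (adjFr J).homEquiv_naturality_left _ _
  constructor
  · intro x y hxy
    apply ((adjFr J).homEquiv _ _).injective
    apply sheafify_hom_ext J _ _ (isSheaf_Ufun J M)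
    rw [← key, ← key]
    exact congrArg _ hxy
  · intro y
    refine ⟨((adjFr J).homEquiv _ _).symm
      (sheafifyLift J ((adjFr J).homEquiv _ _ y) (isSheaf_Ufun J M)), ?_⟩
    apply ((adjFr J).homEquiv _ _).injective
    dsimp only
    rw [key, Equiv.apply_symm_apply, toSheafify_sheafifyLift]


instance : (L J).Additive := (adj J).left_adjoint_additive

variable (R : Cᵒᵖ ⥤ Type u)

/-- the free abelian presheaf on `R`, as a sheaf for the trivial topology -/
noncomputable abbrev P0 : Sheaf (⊥ : GrothendieckTopology C) AddCommGrpCat.{u} :=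
  (presheafToSheaf (⊥ : GrothendieckTopology C) AddCommGrpCat.{u}).obj (R ⋙ AddCommGrpCat.free.{u})

/-- the free abelian sheaf on the sheaf associated to `R` -/
noncomputable abbrev Q : Sheaf J AddCommGrpCat.{u} :=
  (presheafToSheaf J AddCommGrpCat.{u}).obj
    (((presheafToSheaf J (Type u)).obj R).obj ⋙ AddCommGrpCat.free.{u})

/-- `a_J` of the free presheaf on `R` is the free sheaf on `aR`. -/
noncomputable def isoQ : Q J R ≅ (L J).obj (P0 R) :=
  (asIso ((Fr J).map (toSheafify J R))).symm ≪≫
    (presheafToSheaf J AddCommGrpCat.{u}).mapIso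
      (isoSheafify (⊥ : GrothendieckTopology C) (Presheaf.isSheaf_bot (R ⋙ AddCommGrpCat.free.{u})))

/-- the composite functor is `Hom(ℤ[aR], -)` -/
noncomputable def compIso :
    T J ⋙ preadditiveCoyoneda.obj (op (P0 R)) ≅ preadditiveCoyoneda.obj (op (Q J R)) :=
  compCoyonedaIso (adj J) (P0 R) ≪≫ preadditiveCoyoneda.mapIso (isoQ J R).op

end Groth.Agent.H43.PresheafSS
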