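import Groth.Agent.H43.CechDelta
import Groth.Agent.H43.PresheafSS

/-!
# `Ȟ⁰` of a family is `Hom` out of the free presheaf on the sieve it generates

(helper43)
-/

set_option autoImplicit false
universe u
open CategoryTheory Limits Opposite Simplicial

namespace Groth.Agent.H43.CechH0

open CechPts CechContract CechDelta CohPresheafRD PresheafSS

variable {C : Type u} [SmallCategory C] {X : C} [HasFiniteProducts (Over X)] {ι : Type u}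
  (Y : ι → Over X)

section Ev

variable (P : Cᵒᵖ ⥤ AddCommGrpCat.{u})

/-- evaluation of a Čech cochain at a point of the Čech nerve -/
noncomputable def ev' {n : ℕ} (c : (Ξ Y P).obj ⦋n⦌) (W : C) (p : A Y (Fin (n + 1)) W) :
    P.obj (op W) :=
  (P.map p.2.op).hom
    ((Pi.π (fun x : Fin (n + 1) → ι => P.obj (op (∏ᶜ (Y ∘ x)).left)) p.1).hom c)

lemma ev'_map {n m : ℕ} (θ : (⦋m⦌ : SimplexCategory) ⟶ ⦋n⦌) (c : (Ξ Y P).obj ⦋m⦌)
    (W : C) (p : A Y (Fin (n + 1)) W) :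
    ev' Y P (((Ξ Y P).map θ).hom c) W p = ev' Y P c W (p.reindex θ.toOrderHom) := by
  obtain ⟨x, g⟩ := p
  have := ConcreteCategory.congr_hom (Ξ_map_π Y P θ x) c
  dsimp only [ev', A.reindex]
  rw [op_comp, P.map_comp]
  exact congrArg (P.map g.op).hom this

lemma ev'_precomp {n : ℕ} (c : (Ξ Y P).obj ⦋n⦌) {W W' : C} (k : W' ⟶ W)
    (p : A Y (Fin (n + 1)) W) :
    ev' Y P c W' ⟨p.1, k ≫ p.2⟩ = (P.map k.op).hom (ev' Y P c W p) := by
  dsimp only [ev']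
  rw [op_comp, P.map_comp]
  rfl

lemma ev'_id {n : ℕ} (c : (Ξ Y P).obj ⦋n⦌) (x : Fin (n + 1) → ι) :
    ev' Y P c _ ⟨x, 𝟙 _⟩ =
      (Pi.π (fun x : Fin (n + 1) → ι => P.obj (op (∏ᶜ (Y ∘ x)).left)) x).hom c := by
  dsimp only [ev']
  rw [op_id, P.map_id]
  rfl

lemma ev'_injective {n : ℕ} (c c' : (Ξ Y P).obj ⦋n⦌)
    (h : ∀ W p, ev' Y P c W p = ev' Y P c' W p) : c = c' := by
  apply pi_ext (A₁ := fun x : Fin (n + 1) → ι => P.obj (op (∏ᶜ (Y ∘ x)).left))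
  intro x
  exact ((ev'_id Y P c x).symm.trans (h _ _)).trans (ev'_id Y P c' x)

end Ev

/-! ### The sieve generated by the family -/

/-- the sieve generated by the family -/
abbrev R : Sieve X := Sieve.ofArrows (fun i => (Y i).left) (fun i => (Y i).hom)

lemma mem_R_iff {W : C} (f : W ⟶ X) : (R Y).arrows f ↔ ∃ s : Pt Y W, s.str = f := by
  rw [Sieve.mem_ofArrows_iff]
  constructor
  · rintro ⟨i, a, rfl⟩
    exact ⟨⟨i, a⟩, rfl⟩
  · rintro ⟨⟨i, a⟩, rfl⟩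
    exact ⟨i, a, rfl⟩

variable {Y}

/-- a one-point tuple -/
def b1 {W : C} (f : W ⟶ X) (s : Pt Y W) (hs : s.str = f) : B Y (Fin 1) W :=
  ⟨(f, fun _ => s), fun _ => hs⟩

/-- a two-point tuple -/
def b2 {W : C} (f : W ⟶ X) (s s' : Pt Y W) (hs : s.str = f) (hs' : s'.str = f) :
    B Y (Fin 2) W :=
  ⟨(f, ![s, s']), fun a => by
    fin_cases a
    · exact hs
    · exact hs'⟩

lemma b2_reindex_zero {W : C} (f : W ⟶ X) (s s' : Pt Y W) (hs : s.str = f) (hs' : s'.str = f) :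
    (b2 f s s' hs hs').reindex (Fin.succAbove (0 : Fin 2)) = b1 f s' hs' := by
  ext a
  · rfl
  · fin_cases a
    rfl

lemma b2_reindex_one {W : C} (f : W ⟶ X) (s s' : Pt Y W) (hs : s.str = f) (hs' : s'.str = f) :
    (b2 f s s' hs hs').reindex (Fin.succAbove (1 : Fin 2)) = b1 f s hs := by
  ext a
  · rfl
  · fin_cases a
    rfl

lemma eq_b1 {W : C} (b : B Y (Fin 1) W) : b = b1 b.1.1 (b.1.2 0) (b.2 0) := by
  ext a
  · rfl
  · fin_cases a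
    rfl

variable (Y)

section Indep

variable (P : Cᵒᵖ ⥤ AddCommGrpCat.{u})

/-- the value of a `0`-cocycle at a point only depends on the map to `X` -/
lemma ev'_indep (c : (Ξ Y P).obj ⦋0⦌)
    (hc : ((Ξ Y P).δ (0 : Fin 2)).hom c = ((Ξ Y P).δ (1 : Fin 2)).hom c)
    {W : C} (f : W ⟶ X) (s s' : Pt Y W) (hs : s.str = f) (hs' : s'.str = f) :
    ev' Y P c W (toA (b1 f s hs)) = ev' Y P c W (toA (b1 f s' hs')) := by
  have h0 := ev'_map Y P (SimplexCategory.δ (0 : Fin 2)) c W (toA (b2 f s s' hs hs'))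
  have h1 := ev'_map Y P (SimplexCategory.δ (1 : Fin 2)) c W (toA (b2 f s s' hs hs'))
  change _ = ev' Y P c W ((toA (b2 f s s' hs hs')).reindex (Fin.succAbove 0)) at h0
  change _ = ev' Y P c W ((toA (b2 f s s' hs hs')).reindex (Fin.succAbove 1)) at h1
  rw [toA_reindex, b2_reindex_zero] at h0
  rw [toA_reindex, b2_reindex_one] at h1
  rw [← h0, ← h1]
  exact congrArg (fun z => ev' Y P z W _) hc.symm

end Indep


/-! ### The comparison map -/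

/-- the functor of points of the sieve -/
abbrev Rf : Cᵒᵖ ⥤ Type u := (R Y).functor

/-- the free abelian presheaf on the sieve -/
noncomputable abbrev ZR : PSh C := P0 (Rf Y)

/-- the universal element -/
noncomputable def univ (V : Cᵒᵖ) (r : (Rf Y).obj V) : (ZR Y).obj.obj V :=
  ((adjFr (⊥ : GrothendieckTopology C)).unit.app (Rf Y)).app V r

lemma homEquiv_app (P : PSh C) (ψ : ZR Y ⟶ P) (V : Cᵒᵖ) (r : (Rf Y).obj V) :
    ((adjFr (⊥ : GrothendieckTopology C)).homEquiv (Rf Y) P ψ).app V r =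
      (ψ.hom.app V).hom (univ Y V r) := by
  rw [Adjunction.homEquiv_unit]
  rfl

/-- the structure map of the `0`-th Čech objects lies in the sieve -/
lemma mem_hom (x : Fin 1 → ι) : (R Y).arrows (∏ᶜ (Y ∘ x)).hom := by
  rw [mem_R_iff]
  exact ⟨⟨x 0, (Pi.π (Y ∘ x) 0).left⟩, Over.w (Pi.π (Y ∘ x) 0)⟩

/-- components of the comparison map -/
noncomputable def Ψc (P : PSh C) (x : Fin 1 → ι) :
    AddCommGrpCat.of (ZR Y ⟶ P) ⟶ P.obj.obj (op (∏ᶜ (Y ∘ x)).left) :=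
  AddCommGrpCat.ofHom
    { toFun := fun ψ => (ψ.hom.app (op (∏ᶜ (Y ∘ x)).left)).hom
        (univ Y (op (∏ᶜ (Y ∘ x)).left) ⟨(∏ᶜ (Y ∘ x)).hom, mem_hom Y x⟩)
      map_zero' := rfl
      map_add' := fun _ _ => rfl }

/-- the comparison map `Hom(ℤ[R], P) ⟶ Č⁰(Y, P)` -/
noncomputable def Ψ (P : PSh C) :
    AddCommGrpCat.of (ZR Y ⟶ P) ⟶ ((CC Y).obj P).X 0 :=
  Pi.lift (Ψc Y P)

lemma Ψ_π (P : PSh C) (x : Fin 1 → ι) :
    Ψ Y P ≫ Pi.π (fun x : Fin 1 → ι => P.obj.obj (op (∏ᶜ (Y ∘ x)).left)) x = Ψc Y P x :=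
  Pi.lift_π _ _

lemma π_Ψ (P : PSh C) (ψ : ZR Y ⟶ P) (x : Fin 1 → ι) :
    (Pi.π (fun x : Fin 1 → ι => P.obj.obj (op (∏ᶜ (Y ∘ x)).left)) x).hom ((Ψ Y P).hom ψ) =
      (ψ.hom.app (op (∏ᶜ (Y ∘ x)).left)).hom
        (univ Y (op (∏ᶜ (Y ∘ x)).left) ⟨(∏ᶜ (Y ∘ x)).hom, mem_hom Y x⟩) :=
  ConcreteCategory.congr_hom (Ψ_π Y P x) ψ

lemma mem_of_A {n : ℕ} {W : C} (p : A Y (Fin (n + 1)) W) : (R Y).arrows (toB p).1.1 := by
  rw [mem_R_iff]
  exact ⟨(toB p).1.2 0, (toB p).2 0⟩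

lemma ev'_Ψ (P : PSh C) (ψ : ZR Y ⟶ P) (W : C) (p : A Y (Fin 1) W) :
    ev' Y P.obj ((Ψ Y P).hom ψ) W p =
      (ψ.hom.app (op W)).hom (univ Y (op W) ⟨(toB p).1.1, mem_of_A Y p⟩) := by
  obtain ⟨x, g⟩ := p
  dsimp only [ev']
  rw [π_Ψ]
  have h1 := ConcreteCategory.congr_hom (ψ.hom.naturality g.op)
    (univ Y (op (∏ᶜ (Y ∘ x)).left) ⟨(∏ᶜ (Y ∘ x)).hom, mem_hom Y x⟩)
  have h2 := NatTrans.naturality_apply
    ((adjFr (⊥ : GrothendieckTopology C)).unit.app (Rf Y)) g.op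
    (⟨(∏ᶜ (Y ∘ x)).hom, mem_hom Y x⟩ : (Rf Y).obj (op (∏ᶜ (Y ∘ x)).left))
  refine h1.symm.trans ?_
  exact congrArg (ψ.hom.app (op W)).hom h2.symm


lemma ev'_Ψ_toA (P : PSh C) (ψ : ZR Y ⟶ P) (W : C) (b : B Y (Fin 1) W)
    (hb : (R Y).arrows b.1.1) :
    ev' Y P.obj ((Ψ Y P).hom ψ) W (toA b) =
      (ψ.hom.app (op W)).hom (univ Y (op W) ⟨b.1.1, hb⟩) := by
  rw [ev'_Ψ]
  congr 2
  apply Subtype.ext
  change (toB (toA b)).1.1 = b.1.1
  rw [toB_toA]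

lemma δ_Ψ (P : PSh C) (ψ : ZR Y ⟶ P) :
    ((Ξ Y P.obj).δ (0 : Fin 2)).hom ((Ψ Y P).hom ψ) =
      ((Ξ Y P.obj).δ (1 : Fin 2)).hom ((Ψ Y P).hom ψ) := by
  apply ev'_injective
  intro W p
  have h0 := ev'_map Y P.obj (SimplexCategory.δ (0 : Fin 2)) ((Ψ Y P).hom ψ) W p
  have h1 := ev'_map Y P.obj (SimplexCategory.δ (1 : Fin 2)) ((Ψ Y P).hom ψ) W p
  refine h0.trans (Eq.trans ?_ h1.symm)
  rw [ev'_Ψ, ev'_Ψ]
  congr 2
  apply Subtype.ext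
  change (toB (p.reindex (Fin.succAbove 0))).1.1 = (toB (p.reindex (Fin.succAbove 1))).1.1
  rw [toB_reindex, toB_reindex]
  rfl

lemma Ψ_injective (P : PSh C) : Function.Injective (Ψ Y P).hom := by
  intro (ψ : ZR Y ⟶ P) (ψ' : ZR Y ⟶ P) h
  apply ((adjFr (⊥ : GrothendieckTopology C)).homEquiv (Rf Y) P).injective
  ext V ⟨f, hf⟩
  obtain ⟨s, hs⟩ := (mem_R_iff Y f).1 hf
  refine (homEquiv_app Y P ψ V ⟨f, hf⟩).trans (Eq.trans ?_ (homEquiv_app Y P ψ' V ⟨f, hf⟩).symm)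
  have e := ev'_Ψ_toA Y P ψ V.unop (b1 f s hs) hf
  have e' := ev'_Ψ_toA Y P ψ' V.unop (b1 f s hs) hf
  exact e.symm.trans ((congrArg (fun z => ev' Y P.obj z V.unop (toA (b1 f s hs))) h).trans e')


section Surj

variable (P : PSh C) (c : (Ξ Y P.obj).obj ⦋0⦌)
  (hc : ((Ξ Y P.obj).δ (0 : Fin 2)).hom c = ((Ξ Y P.obj).δ (1 : Fin 2)).hom c)

/-- the value of the cocycle on an arrow of the sieve -/
noncomputable def φval (W : C) (r : (Rf Y).obj (op W)) : P.obj.obj (op W) :=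
  ev' Y P.obj c W (toA (b1 r.1 (σ r.1 ((mem_R_iff Y r.1).1 r.2)) (σ_str _ _)))

include hc in
lemma φval_eq (W : C) (r : (Rf Y).obj (op W)) (s : Pt Y W) (hs : s.str = r.1) :
    φval Y P c W r = ev' Y P.obj c W (toA (b1 r.1 s hs)) :=
  ev'_indep Y P.obj c hc r.1 _ s _ hs

include hc in
/-- the natural transformation attached to a cocycle -/
noncomputable def φc : Rf Y ⟶ (Ufun (⊥ : GrothendieckTopology C)).obj P where
  app V := ↾(fun r => φval Y P c V.unop r)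
  naturality V V' k := by
    ext ⟨f, hf⟩
    obtain ⟨s, hs⟩ := (mem_R_iff Y f).1 hf
    change φval Y P c V'.unop ⟨k.unop ≫ f, _⟩ = (P.obj.map k).hom (φval Y P c V.unop ⟨f, hf⟩)
    rw [φval_eq Y P c hc V.unop ⟨f, hf⟩ s hs,
      φval_eq Y P c hc V'.unop ⟨k.unop ≫ f, _⟩ ⟨s.1, k.unop ≫ s.2⟩
        (by dsimp [Pt.str] at hs ⊢; rw [Category.assoc, hs])]
    have := ev'_precomp Y P.obj c k.unop (toA (b1 f s hs))
    rw [Quiver.Hom.op_unop] at this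
    rw [← this]
    congr 1
    exact (toA_precomp k.unop (b1 f s hs)).symm

include hc in
lemma Ψ_φc : (Ψ Y P).hom (((adjFr (⊥ : GrothendieckTopology C)).homEquiv (Rf Y) P).symm
    (φc Y P c hc)) = c := by
  apply ev'_injective
  intro W p
  have e1 := ev'_Ψ_toA Y P (((adjFr (⊥ : GrothendieckTopology C)).homEquiv (Rf Y) P).symm
    (φc Y P c hc)) W (toB p) (mem_of_A Y p)
  rw [toA_toB] at e1
  refine e1.trans ?_
  have e2 := homEquiv_app Y P (((adjFr (⊥ : GrothendieckTopology C)).homEquiv (Rf Y) P).symm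
    (φc Y P c hc)) (op W) ⟨(toB p).1.1, mem_of_A Y p⟩
  rw [Equiv.apply_symm_apply] at e2
  refine e2.symm.trans ?_
  change φval Y P c W ⟨(toB p).1.1, mem_of_A Y p⟩ = _
  rw [φval_eq Y P c hc W ⟨(toB p).1.1, mem_of_A Y p⟩ ((toB p).1.2 0) ((toB p).2 0)]
  have e3 : toA (b1 (toB p).1.1 ((toB p).1.2 0) ((toB p).2 0)) = p := by
    rw [← eq_b1, toA_toB]
  rw [e3]
  rfl

end Surj


/-! ### The natural isomorphism -/

lemma d0_eq (P : PSh C) :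
    ((CC Y).obj P).d 0 1 = (Ξ Y P.obj).δ (0 : Fin 2) - (Ξ Y P.obj).δ (1 : Fin 2) := by
  have : ((CC Y).obj P).d 0 1 =
      AlgebraicTopology.AlternatingCofaceMapComplex.objD (Ξ Y P.obj) 0 :=
    CochainComplex.of_d (fun n => (Ξ Y P.obj).obj ⦋n⦌)
      (AlgebraicTopology.AlternatingCofaceMapComplex.objD (Ξ Y P.obj)) 0
  rw [this]
  dsimp only [AlgebraicTopology.AlternatingCofaceMapComplex.objD]
  rw [Fin.sum_univ_two]
  simp only [Fin.val_zero, pow_zero, one_smul, Fin.val_one, pow_one, neg_smul]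
  rw [sub_eq_add_neg]

lemma d0_apply (P : PSh C) (c : (Ξ Y P.obj).obj ⦋0⦌) :
    (((CC Y).obj P).d 0 1).hom c =
      ((Ξ Y P.obj).δ (0 : Fin 2)).hom c - ((Ξ Y P.obj).δ (1 : Fin 2)).hom c := by
  rw [d0_eq]
  rfl

lemma Ψ_d (P : PSh C) : Ψ Y P ≫ ((CC Y).obj P).d 0 1 = 0 := by
  ext ψ
  change (((CC Y).obj P).d 0 1).hom ((Ψ Y P).hom ψ) = 0
  rw [d0_apply, δ_Ψ, sub_self]
  rfl

lemma Ψ_exact (P : PSh C) : (ShortComplex.mk (Ψ Y P) (((CC Y).obj P).d 0 1) (Ψ_d Y P)).Exact := by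
  rw [ShortComplex.ab_exact_iff]
  intro c hc
  have hc' : ((Ξ Y P.obj).δ (0 : Fin 2)).hom c = ((Ξ Y P.obj).δ (1 : Fin 2)).hom c := by
    have : (((CC Y).obj P).d 0 1).hom c = 0 := hc
    rw [d0_apply] at this
    exact sub_eq_zero.1 this
  exact ⟨_, Ψ_φc Y P c hc'⟩

instance (P : PSh C) : Mono (Ψ Y P) := by
  rw [AddCommGrpCat.mono_iff_injective]
  exact Ψ_injective Y P

/-- `Hom(ℤ[R], P)` is the group of `0`-cocycles -/
noncomputable def cyclesIso (P : PSh C) :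
    AddCommGrpCat.of (ZR Y ⟶ P) ≅ ((CC Y).obj P).cycles 0 :=
  IsLimit.conePointUniqueUpToIso (Ψ_exact Y P).fIsKernel (((CC Y).obj P).cyclesIsKernel 0 1 (by simp))

lemma cyclesIso_hom_i (P : PSh C) :
    (cyclesIso Y P).hom ≫ ((CC Y).obj P).iCycles 0 = Ψ Y P :=
  IsLimit.conePointUniqueUpToIso_hom_comp (Ψ_exact Y P).fIsKernel
    (((CC Y).obj P).cyclesIsKernel 0 1 (by simp)) WalkingParallelPair.zero

/-- post-composition on `Hom(ℤ[R], -)` with explicit types -/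
noncomputable def homMap {P P' : PSh C} (g : P ⟶ P') :
    AddCommGrpCat.of (ZR Y ⟶ P) ⟶ AddCommGrpCat.of (ZR Y ⟶ P') :=
  (preadditiveCoyoneda.obj (op (ZR Y))).map g

lemma homMap_Ψc {P P' : PSh C} (g : P ⟶ P') (x : Fin 1 → ι) :
    homMap Y g ≫ Ψc Y P' x = Ψc Y P x ≫ g.hom.app (op (∏ᶜ (Y ∘ x)).left) := rfl

lemma Ψ_naturality {P P' : PSh C} (g : P ⟶ P') :
    homMap Y g ≫ Ψ Y P' = Ψ Y P ≫ ((CC Y).map g).f 0 := by
  apply Pi.hom_ext (f := fun x : Fin 1 → ι => P'.obj.obj (op (∏ᶜ (Y ∘ x)).left))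
  intro x
  have h1 : ((CC Y).map g).f 0 ≫
      Pi.π (fun x : Fin 1 → ι => P'.obj.obj (op (∏ᶜ (Y ∘ x)).left)) x =
      Pi.π (fun x : Fin 1 → ι => P.obj.obj (op (∏ᶜ (Y ∘ x)).left)) x ≫
        g.hom.app (op (∏ᶜ (Y ∘ x)).left) := by
    rw [CC_map_f]
    exact Limits.Pi.map_π (fun x : Fin 1 → ι => g.hom.app (op (∏ᶜ (Y ∘ x)).left)) x
  have h2 : (homMap Y g ≫ Ψ Y P') ≫
      Pi.π (fun x : Fin 1 → ι => P'.obj.obj (op (∏ᶜ (Y ∘ x)).left)) x =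
      Ψc Y P x ≫ g.hom.app (op (∏ᶜ (Y ∘ x)).left) := by
    rw [Category.assoc, Ψ_π, homMap_Ψc]
  have h3 : (Ψ Y P ≫ ((CC Y).map g).f 0) ≫
      Pi.π (fun x : Fin 1 → ι => P'.obj.obj (op (∏ᶜ (Y ∘ x)).left)) x =
      Ψc Y P x ≫ g.hom.app (op (∏ᶜ (Y ∘ x)).left) := by
    exact (Category.assoc _ _ _).trans ((congrArg (Ψ Y P ≫ ·) h1).trans
      ((Category.assoc _ _ _).symm.trans
        (congrArg (· ≫ g.hom.app (op (∏ᶜ (Y ∘ x)).left)) (Ψ_π Y P x))))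
  exact h2.trans h3.symm

/-- the components of `ε₀` -/
noncomputable def ε₀app (P : PSh C) :
    AddCommGrpCat.of (ZR Y ⟶ P) ≅ ((CC Y).obj P).homology 0 :=
  cyclesIso Y P ≪≫ ((CC Y).obj P).isoHomologyπ₀

lemma ε₀app_hom_comp (P : PSh C) :
    (ε₀app Y P).hom ≫ ((CC Y).obj P).isoHomologyπ₀.inv ≫ ((CC Y).obj P).iCycles 0 = Ψ Y P := by
  have h : (ε₀app Y P).hom = (cyclesIso Y P).hom ≫ ((CC Y).obj P).isoHomologyπ₀.hom := rfl
  rw [h, Category.assoc, Iso.hom_inv_id_assoc]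
  exact cyclesIso_hom_i Y P

lemma ε₀app_naturality {P P' : PSh C} (g : P ⟶ P') :
    homMap Y g ≫ (ε₀app Y P').hom =
      (ε₀app Y P).hom ≫ HomologicalComplex.homologyMap ((CC Y).map g) 0 := by
  rw [← cancel_mono (((CC Y).obj P').isoHomologyπ₀.inv ≫ ((CC Y).obj P').iCycles 0)]
  rw [Category.assoc, ε₀app_hom_comp, Ψ_naturality, Category.assoc,
    CochainComplex.isoHomologyπ₀_inv_naturality_assoc, HomologicalComplex.cyclesMap_i,
    ← Category.assoc (((CC Y).obj P).isoHomologyπ₀.inv), ← Category.assoc (ε₀app Y P).hom,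
    ε₀app_hom_comp]

/-- **`Ȟ⁰(Y, -)` is `Hom(ℤ[R], -)`** on presheaves, `R` the sieve generated by `Y`. -/
noncomputable def ε₀ : preadditiveCoyoneda.obj (op (ZR Y)) ≅ G Y 0 :=
  NatIso.ofComponents (fun P => ε₀app Y P) (fun g => ε₀app_naturality Y g)

end Groth.Agent.H43.CechH0
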