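import Groth.Agent.H43.DegSS

/-!
# Spectral sequences with at most one non-zero term on each line `p + q = n`

(helper43) If the first page of a cohomological spectral sequence is supported on a set `S` of positions
no two of which are joined by a differential of any page, and on the line `p + q = n` only
`(s, n - s)` may lie in `S`, then every abutment with finite filtration on `H n` has
`H n ≅ E_{r₀}^{s, n-s}`.  Special cases: concentration in the row `q = 0` (`r₀ ≥ 2`) and in the
column `p = 0` (`r₀ ≥ 1`).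
-/

set_option autoImplicit false
universe v u
open CategoryTheory Limits

namespace Groth.Agent.H43.SSRow

open Groth.Agent.H43.DegSS

variable {C : Type u} [Category.{v} C] [Abelian C]

/-- homology is the object when all differentials vanish -/
noncomputable def homologyIsoX {κ : Type*} {c : ComplexShape κ} (K : HomologicalComplex C c)
    (hd : ∀ i j, K.d i j = 0) (j : κ) : K.homology j ≅ K.X j :=
  (K.isoHomologyπ _ j rfl (hd _ _)).symm ≪≫ K.iCyclesIso j _ rfl (hd _ _)

variable {r₀ : ℤ} (E : CohomologicalSpectralSequence C r₀) (S : Set (ℤ × ℤ))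

section

variable (hrel : ∀ r : ℤ, r₀ ≤ r → ∀ i j : ℤ × ℤ, i + (⟨r, 1 - r⟩ : ℤ × ℤ) = j → i ∉ S ∨ j ∉ S)
include hrel

lemma d_eq_zero_of (r : ℤ) (hr : r₀ ≤ r)
    (hX : ∀ pq : ℤ × ℤ, pq ∉ S → IsZero ((E.page r hr).X pq)) (i j : ℤ × ℤ) :
    (E.page r hr).d i j = 0 := by
  by_cases hrel' : (ComplexShape.up' (⟨r, 1 - r⟩ : ℤ × ℤ)).Rel i j
  · have h : i + (⟨r, 1 - r⟩ : ℤ × ℤ) = j := hrel'
    rcases hrel r hr i j h with hi | hj
    · exact (hX i hi).eq_of_src _ _
    · exact (hX j hj).eq_of_tgt _ _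
  · exact (E.page r hr).shape i j hrel'

variable (hE : ∀ pq : ℤ × ℤ, pq ∉ S → IsZero ((E.page r₀ le_rfl).X pq))
include hE

omit hrel in
lemma isZero_page (r : ℤ) (hr : r₀ ≤ r) :
    ∀ pq : ℤ × ℤ, pq ∉ S → IsZero ((E.page r hr).X pq) := by
  induction r, hr using Int.leInduction with
  | base => exact hE
  | succ r hr ih =>
    intro pq hpq
    exact IsZero.of_iso (ShortComplex.isZero_homology_of_isZero_X₂ _ (ih pq hpq))
      (E.iso r (r + 1) pq rfl hr).symm

lemma nonempty_pageIso (r : ℤ) (hr : r₀ ≤ r) (pq : ℤ × ℤ) :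
    Nonempty ((E.page r hr).X pq ≅ (E.page r₀ le_rfl).X pq) := by
  induction r, hr using Int.leInduction with
  | base => exact ⟨Iso.refl _⟩
  | succ r hr ih =>
    obtain ⟨e⟩ := ih
    exact ⟨(E.iso r (r + 1) pq rfl hr).symm ≪≫
      homologyIsoX _ (d_eq_zero_of E S hrel r hr (isZero_page E S hE r hr)) pq ≪≫ e⟩

variable {H : ℤ → C} (a : SpSeq.Abutment E H)

omit hrel in
lemma isZero_gr (pq : ℤ × ℤ) (hpq : pq ∉ S) :
    IsZero (SpSeq.grPiece (a.fil (pq.1 + pq.2)) (a.anti _) pq.1) :=
  IsZero.of_iso (isZero_page E S hE _ (a.stat pq).1 pq hpq) (a.β pq).symm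

omit hrel in
lemma fil_succ_eq (n p : ℤ) (hp : (p, n - p) ∉ S) : a.fil n (p + 1) = a.fil n p := by
  have key := isZero_gr E S hE a (p, n - p) hp
  have e : p + (n - p) = n := by lia
  simp only at key
  rw [e] at key
  have hle : a.fil n (p + 1) ≤ a.fil n p := a.anti n (Int.le_add_one le_rfl)
  have hepi : Epi ((a.fil n (p + 1)).ofLE (a.fil n p) hle) :=
    Preadditive.epi_of_isZero_cokernel _ key
  have hiso : IsIso ((a.fil n (p + 1)).ofLE (a.fil n p) hle) := isIso_of_mono_of_epi _
  refine le_antisymm hle (Subobject.le_of_comm (inv ((a.fil n (p + 1)).ofLE (a.fil n p) hle)) ?_)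
  rw [IsIso.inv_comp_eq, Subobject.ofLE_arrow]

variable (n s : ℤ) (hs : ∀ p : ℤ, p ≠ s → (p, n - p) ∉ S)
include hs

omit hrel in
lemma fil_eq_top (hfin : a.IsFinite n) : a.fil n s = ⊤ := by
  obtain ⟨⟨c, hc⟩, _⟩ := hfin
  have hc : a.fil n c = ⊤ := hc
  by_cases hcn : c ≤ s
  · have : ∀ (m : ℤ) (_ : c ≤ m), m ≤ s → a.fil n m = ⊤ := by
      intro m hm
      induction m, hm using Int.leInduction with
      | base => exact fun _ => hc
      | succ m hm ih =>
        intro hmn
        rw [fil_succ_eq E S hE a n m (hs m (by lia))]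
        exact ih (by lia)
    exact this s hcn le_rfl
  · exact top_le_iff.1 (hc ▸ a.anti n (by lia : s ≤ c))

omit hrel in
lemma fil_eq_bot (hfin : a.IsFinite n) : a.fil n (s + 1) = ⊥ := by
  obtain ⟨_, ⟨b, hb⟩⟩ := hfin
  have hb : a.fil n b = ⊥ := hb
  by_cases hbn : s + 1 ≤ b
  · have : ∀ (m : ℤ) (_ : m ≤ b), s + 1 ≤ m → a.fil n m = ⊥ := by
      intro m hm
      induction m, hm using Int.leInductionDown with
      | base => exact fun _ => hb
      | pred m hm ih =>
        intro hmn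
        have := fil_succ_eq E S hE a n (m - 1) (hs _ (by lia))
        rw [sub_add_cancel] at this
        rw [← this]
        exact ih (by lia)
    exact this (s + 1) hbn le_rfl
  · exact le_bot_iff.1 (hb ▸ a.anti n (by lia : b ≤ s + 1))

/-- **Collapse**: `H n ≅ E^{s,n-s}` when `(s, n - s)` is the only position of the line `p + q = n`
in the support. -/
theorem nonempty_iso_of_support (hfin : a.IsFinite n) :
    Nonempty (H n ≅ (E.page r₀ le_rfl).X (s, n - s)) := by
  obtain ⟨e⟩ := nonempty_pageIso E S hrel hE _ (a.stat (s, n - s)).1 (s, n - s)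
  have β := a.β (s, n - s)
  have e0 : s + (n - s) = n := by lia
  simp only at β
  rw [e0] at β
  exact ⟨(subquotTopBot bot_le).symm ≪≫
    subquotCongr (fil_eq_top E S hE a n s hs hfin).symm (fil_eq_bot E S hE a n s hs hfin).symm _
      (a.anti n (Int.le_add_one le_rfl)) ≪≫ β.symm ≪≫ e⟩

end

variable {H : ℤ → C} (a : SpSeq.Abutment E H)

/-- **Row collapse**: if `E_{r₀}^{p,q} = 0` for `q ≠ 0` (and `r₀ ≥ 2`) then `H n ≅ E^{n,0}`. -/
theorem nonempty_iso (h2 : 2 ≤ r₀)
    (hE : ∀ pq : ℤ × ℤ, pq.2 ≠ 0 → IsZero ((E.page r₀ le_rfl).X pq))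
    (n : ℤ) (hfin : a.IsFinite n) :
    Nonempty (H n ≅ (E.page r₀ le_rfl).X (n, 0)) := by
  have := nonempty_iso_of_support E {pq | pq.2 = 0} (fun r hr i j h => by
      by_cases hi : i.2 = 0
      · right
        rw [← h]
        simp only [Set.mem_ofPred_eq, Prod.snd_add, hi, zero_add]
        lia
      · exact Or.inl hi) (fun pq hpq => hE pq hpq) a n n (fun p hp => by
      simp only [Set.mem_ofPred_eq]
      lia) hfin
  rwa [sub_self] at this

/-- **Column collapse**: if `E_{r₀}^{p,q} = 0` for `p ≠ 0` (and `r₀ ≥ 1`) then `H n ≅ E^{0,n}`. -/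
theorem nonempty_iso_col (h1 : 1 ≤ r₀)
    (hE : ∀ pq : ℤ × ℤ, pq.1 ≠ 0 → IsZero ((E.page r₀ le_rfl).X pq))
    (n : ℤ) (hfin : a.IsFinite n) :
    Nonempty (H n ≅ (E.page r₀ le_rfl).X (0, n)) := by
  have := nonempty_iso_of_support E {pq | pq.1 = 0} (fun r hr i j h => by
      by_cases hi : i.1 = 0
      · right
        rw [← h]
        simp only [Set.mem_ofPred_eq, Prod.fst_add, hi, zero_add]
        lia
      · exact Or.inl hi) (fun pq hpq => hE pq hpq) a n 0 (fun p hp => by
      simpa only [Set.mem_ofPred_eq] using hp) hfin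
  rwa [sub_zero] at this

end Groth.Agent.H43.SSRow
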