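import Groth.Agent.H43.LambdaBasic
import Mathlib.RingTheory.PowerSeries.Substitution
import Mathlib.RingTheory.PowerSeries.WellKnown

set_option autoImplicit false
universe u

namespace Groth.Agent.H43

open LambdaRing PowerSeries Finset

variable {K : Type u} [CommRing K]

/-- the series `t/(1-t)` -/
noncomputable def uSer (K : Type u) [CommRing K] : PowerSeries K := X * mk 1

theorem hasSubst_uSer : HasSubst (uSer K) :=
  HasSubst.of_constantCoeff_zero' (by simp [uSer])

theorem uSer_mul_one_sub : uSer K * (1 - X) = X := by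
  rw [uSer, mul_assoc, mk_one_mul_one_sub_eq_one, mul_one]

theorem coeff_uSer_pow (d n : ℕ) :
    coeff n (uSer K ^ (d + 1)) = if d + 1 ≤ n then ((n - 1).choose d : K) else 0 := by
  rw [uSer, mul_pow, mk_one_pow_eq_mk_choose_add, coeff_X_pow_mul']
  split_ifs with h
  · rw [coeff_mk]
    congr 2
    omega
  · rfl

variable [LambdaOps K]

/-- the series `γ_t(x) = Σ γ^k(x) t^k` -/
noncomputable def gammaSeries (x : K) : PowerSeries K := PowerSeries.mk fun k => gamma k x

theorem coeff_gammaSeries (x : K) (n : ℕ) : coeff n (gammaSeries x) = gamma n x := by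
  simp [gammaSeries]

theorem gammaSeries_eq_subst (x : K) : gammaSeries x = (lamSeries x).subst (uSer K) := by
  ext n
  rw [coeff_gammaSeries, coeff_subst' hasSubst_uSer]
  rw [finsum_eq_sum_of_support_subset (s := range (n + 1))]
  · match n with
    | 0 =>
      simp [gamma_zero, coeff_lamSeries, LambdaOps.lam_zero]
    | (m + 1) =>
      rw [gamma_succ, Finset.sum_range_succ' _ (m + 1)]
      simp only [pow_zero, coeff_one, if_neg (Nat.succ_ne_zero m), smul_zero, add_zero]
      refine Finset.sum_congr rfl fun j hj => ?_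
      rw [Finset.mem_range] at hj
      rw [coeff_uSer_pow, if_pos (by omega), coeff_lamSeries, smul_eq_mul, Nat.add_sub_cancel,
        mul_comm]
  · intro d hd
    rw [Function.mem_support] at hd
    rw [Finset.coe_range, Set.mem_Iio]
    by_contra hlt
    apply hd
    obtain ⟨e, rfl⟩ : ∃ e, d = e + 1 := ⟨d - 1, by omega⟩
    rw [coeff_uSer_pow, if_neg (by omega), smul_zero]

theorem gammaSeries_add (x y : K) : gammaSeries (x + y) = gammaSeries x * gammaSeries y := by
  rw [gammaSeries_eq_subst, gammaSeries_eq_subst, gammaSeries_eq_subst, lamSeries_add,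
    subst_mul hasSubst_uSer]

theorem gamma_add (n : ℕ) (x y : K) :
    gamma n (x + y) = ∑ p ∈ antidiagonal n, gamma p.1 x * gamma p.2 y := by
  rw [← coeff_gammaSeries, gammaSeries_add, coeff_mul]
  simp [coeff_gammaSeries]

theorem gammaSeries_zero : gammaSeries (0 : K) = 1 := by
  rw [gammaSeries_eq_subst, lamSeries_zero, ← coe_substAlgHom (R := K) hasSubst_uSer, map_one]

theorem constantCoeff_gammaSeries (x : K) : constantCoeff (gammaSeries x) = 1 := by
  rw [← coeff_zero_eq_constantCoeff_apply, coeff_gammaSeries, gamma_zero]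

theorem gamma_one_arg (h1 : ∀ k : ℕ, 2 ≤ k → LambdaOps.lam k (1 : K) = 0) (k : ℕ) :
    gamma k (1 : K) = 1 := by
  match k with
  | 0 => exact gamma_zero _
  | (m + 1) =>
    rw [gamma_succ, Finset.sum_range_succ' _ m]
    rw [Finset.sum_eq_zero]
    · simp [LambdaOps.lam_one]
    · intro j _
      rw [h1 (j + 1 + 1) (by omega), mul_zero]

theorem gamma_line {y : K} (hy : ∀ j : ℕ, 2 ≤ j → LambdaOps.lam j y = 0) (k : ℕ) :
    gamma (k + 1) y = y := by
  rw [gamma_succ, Finset.sum_range_succ' _ k]
  rw [Finset.sum_eq_zero]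
  · simp [LambdaOps.lam_one]
  · intro j _
    rw [hy (j + 1 + 1) (by omega), mul_zero]

theorem gammaSeries_one (h1 : ∀ k : ℕ, 2 ≤ k → LambdaOps.lam k (1 : K) = 0) :
    gammaSeries (1 : K) = mk 1 := by
  ext n; rw [coeff_gammaSeries, gamma_one_arg h1, coeff_mk, Pi.one_apply]

theorem gammaSeries_line_sub_one (h1 : ∀ k : ℕ, 2 ≤ k → LambdaOps.lam k (1 : K) = 0)
    {y : K} (hy : ∀ j : ℕ, 2 ≤ j → LambdaOps.lam j y = 0) :
    gammaSeries (y - 1) = 1 + C (y - 1) * X := by
  have hline : gammaSeries y = 1 + C y * uSer K := by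
    ext n
    rw [coeff_gammaSeries]
    match n with
    | 0 => simp [gamma_zero, uSer]
    | (m + 1) =>
      rw [gamma_line hy, map_add, coeff_one, if_neg (Nat.succ_ne_zero m), zero_add, coeff_C_mul,
        uSer, coeff_succ_X_mul, coeff_mk, Pi.one_apply, mul_one]
  have h : gammaSeries (y - 1) * gammaSeries (1 : K) = gammaSeries y := by
    rw [← gammaSeries_add, sub_add_cancel]
  rw [gammaSeries_one h1] at h
  have h2 : gammaSeries (y - 1) = gammaSeries y * (1 - X) := by
    rw [← h, mul_assoc, mk_one_mul_one_sub_eq_one, mul_one]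
  rw [h2, hline, add_mul, mul_assoc, uSer_mul_one_sub, one_mul, map_sub, map_one]
  ring

end Groth.Agent.H43

namespace Groth.Agent.H43

open LambdaRing PowerSeries Finset

variable {K : Type u} [CommRing K] [LambdaOps K]

theorem gammaSeries_sum {ι : Type*} (s : Finset ι) (a : ι → K) :
    gammaSeries (∑ i ∈ s, a i) = ∏ i ∈ s, gammaSeries (a i) := by
  classical
  induction s using Finset.induction_on with
  | empty => simp [gammaSeries_zero]
  | insert i s hi ih => rw [Finset.sum_insert hi, Finset.prod_insert hi, gammaSeries_add, ih]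

omit [LambdaOps K] in
theorem coeff_prod_one_add_C_mul_X {ι : Type*} [DecidableEq ι] (s : Finset ι) (a : ι → K) (k : ℕ) :
    coeff k (∏ i ∈ s, (1 + C (a i) * X : PowerSeries K)) =
      ∑ t ∈ s.powersetCard k, ∏ i ∈ t, a i := by
  rw [Finset.prod_one_add, map_sum]
  have : ∀ t ∈ s.powerset, coeff k (∏ i ∈ t, (C (a i) * X : PowerSeries K)) =
      if t.card = k then ∏ i ∈ t, a i else 0 := by
    intro t _
    rw [Finset.prod_mul_distrib, Finset.prod_const, ← map_prod, coeff_C_mul, coeff_X_pow]
    split_ifs with h1 h2 h2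
    · rw [mul_one]
    · exact absurd h1.symm h2
    · exact absurd h2.symm h1
    · rw [mul_zero]
  rw [Finset.sum_congr rfl this, ← Finset.sum_filter]
  congr 1
  ext t
  simp [Finset.mem_powersetCard]

theorem gamma_sum_sub_card (h1 : ∀ k : ℕ, 2 ≤ k → LambdaOps.lam k (1 : K) = 0) (n : ℕ)
    (y : Fin n → K) (hy : ∀ (i : Fin n) (j : ℕ), 2 ≤ j → LambdaOps.lam j (y i) = 0) (k : ℕ) :
    gamma k (∑ i : Fin n, y i - (n : K)) =
      ∑ s ∈ (univ : Finset (Fin n)).powersetCard k, ∏ i ∈ s, (y i - 1) := by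
  have e : ∑ i : Fin n, y i - (n : K) = ∑ i : Fin n, (y i - 1) := by
    rw [Finset.sum_sub_distrib]; simp
  rw [e, ← coeff_gammaSeries, gammaSeries_sum,
    Finset.prod_congr rfl (fun i _ => gammaSeries_line_sub_one h1 (hy i)),
    coeff_prod_one_add_C_mul_X]

end Groth.Agent.H43
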