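import Groth.Prelude.Def_LambdaRing
import Mathlib.Tactic.Ring
import Mathlib.Tactic.Linarith
import Mathlib.Algebra.BigOperators.NatAntidiagonal
import Mathlib.Tactic.LinearCombination
import Mathlib.RingTheory.PowerSeries.Trunc

set_option autoImplicit false
universe u

namespace Groth.Agent.H43

open LambdaRing PowerSeries Finset

variable {K : Type u} [CommRing K] [LambdaOps K]

theorem coeff_lamSeries (x : K) (n : ℕ) : coeff n (lamSeries x) = LambdaOps.lam n x := by
  simp [lamSeries]

theorem lamSeries_add (x y : K) : lamSeries (x + y) = lamSeries x * lamSeries y := by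
  ext n
  rw [coeff_lamSeries, coeff_mul, LambdaOps.lam_add,
    Finset.Nat.sum_antidiagonal_eq_sum_range_succ_mk]
  simp [coeff_lamSeries]

theorem constantCoeff_lamSeries (x : K) : constantCoeff (lamSeries x) = 1 := by
  rw [← coeff_zero_eq_constantCoeff_apply, coeff_lamSeries, LambdaOps.lam_zero]

theorem lamSeries_zero : lamSeries (0 : K) = 1 := by
  have h : lamSeries (0 : K) * lamSeries (0 : K) = lamSeries (0 : K) := by
    rw [← lamSeries_add, add_zero]
  have hu : IsUnit (lamSeries (0 : K)) := by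
    rw [PowerSeries.isUnit_iff_constantCoeff, constantCoeff_lamSeries]; exact isUnit_one
  exact hu.mul_left_cancel (by rw [h, mul_one])

theorem lam_zero_arg (n : ℕ) : LambdaOps.lam n (0 : K) = if n = 0 then 1 else 0 := by
  rw [← coeff_lamSeries, lamSeries_zero, coeff_one]

theorem lamSeries_one (h1 : ∀ k : ℕ, 2 ≤ k → LambdaOps.lam k (1 : K) = 0) :
    lamSeries (1 : K) = 1 + X := by
  ext n
  rw [coeff_lamSeries]
  match n with
  | 0 => simp [LambdaOps.lam_zero]
  | 1 => simp [LambdaOps.lam_one]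
  | (k + 2) =>
    rw [h1 (k + 2) (by omega)]
    simp [coeff_one, coeff_X]

theorem lamSeries_natCast (h1 : ∀ k : ℕ, 2 ≤ k → LambdaOps.lam k (1 : K) = 0) (m : ℕ) :
    lamSeries (m : K) = (1 + X) ^ m := by
  induction m with
  | zero => simp [lamSeries_zero]
  | succ m ih => rw [Nat.cast_succ, lamSeries_add, ih, lamSeries_one h1, pow_succ]

theorem lam_natCast (h1 : ∀ k : ℕ, 2 ≤ k → LambdaOps.lam k (1 : K) = 0) (m k : ℕ) :
    LambdaOps.lam k (m : K) = (m.choose k : K) := by
  rw [← coeff_lamSeries, lamSeries_natCast h1]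
  have : ((1 + X : PowerSeries K)) ^ m = (((1 + Polynomial.X : Polynomial K) ^ m : Polynomial K) : PowerSeries K) := by
    simp
  rw [this, Polynomial.coeff_coe, Polynomial.coeff_one_add_X_pow]

/-- `λ^n(y) = λ^n(y-1) + λ^(n-1)(y-1)`. -/
theorem lam_succ_eq (h1 : ∀ k : ℕ, 2 ≤ k → LambdaOps.lam k (1 : K) = 0) (n : ℕ) (y : K) :
    LambdaOps.lam (n + 1) y = LambdaOps.lam (n + 1) (y - 1) + LambdaOps.lam n (y - 1) := by
  have h : lamSeries y = lamSeries (y - 1) * (1 + X) := by
    rw [← lamSeries_one h1, ← lamSeries_add, sub_add_cancel]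
  rw [← coeff_lamSeries, h, mul_add, mul_one, map_add, coeff_succ_mul_X, coeff_lamSeries,
    coeff_lamSeries]

theorem lam_sub_one (h1 : ∀ k : ℕ, 2 ≤ k → LambdaOps.lam k (1 : K) = 0) (n : ℕ) (y : K) :
    LambdaOps.lam n (y - 1) =
      (-1 : K) ^ n * ∑ i ∈ range (n + 1), (-1 : K) ^ i * LambdaOps.lam i y := by
  induction n with
  | zero => simp [LambdaOps.lam_zero]
  | succ n ih =>
    have h := lam_succ_eq h1 n y
    have h2 : (-1 : K) ^ (n + 1) * (-1 : K) ^ (n + 1) = 1 := by
      rw [← pow_add, ← two_mul, pow_mul]; simp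
    rw [Finset.sum_range_succ, mul_add, pow_succ, mul_assoc ((-1 : K) ^ n) (-1),
      mul_comm (-1 : K), ← mul_assoc ((-1 : K) ^ n), ← ih, h, ← pow_succ]
    linear_combination (-(LambdaOps.lam (n + 1) (y - 1) + LambdaOps.lam n (y - 1))) * h2
    
end Groth.Agent.H43

namespace Groth.Agent.H43

open LambdaRing PowerSeries Finset

variable {K : Type u} [CommRing K] [LambdaOps K]

theorem gamma_zero (x : K) : gamma 0 x = 1 := by simp [gamma]

theorem gamma_succ (m : ℕ) (x : K) :
    gamma (m + 1) x = ∑ j ∈ range (m + 1), (m.choose j : K) * LambdaOps.lam (j + 1) x := by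
  rw [gamma, if_neg (Nat.succ_ne_zero m), Finset.sum_range_succ']
  simp

theorem gamma_eq_lam (h1 : ∀ k : ℕ, 2 ≤ k → LambdaOps.lam k (1 : K) = 0) (n : ℕ) (x : K) :
    gamma n x = LambdaOps.lam n (x + (n : K) - 1) := by
  match n with
  | 0 => simp [gamma_zero, LambdaOps.lam_zero]
  | (m + 1) =>
    have e : x + ((m + 1 : ℕ) : K) - 1 = x + (m : K) := by push_cast; ring
    rw [e, LambdaOps.lam_add, gamma_succ, Finset.sum_range_succ' _ (m + 1)]
    simp only [lam_natCast h1, Nat.sub_zero, Nat.choose_succ_self, Nat.cast_zero, mul_zero,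
      add_zero]
    refine Finset.sum_congr rfl fun j hj => ?_
    rw [Finset.mem_range] at hj
    have : m + 1 - (j + 1) = m - j := by omega
    rw [this, Nat.choose_symm (by omega), mul_comm]

end Groth.Agent.H43
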