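import Groth.Prelude.Def_LambdaSp
import Groth.Agent.H43.LambdaBasic

set_option autoImplicit false
universe u

namespace Groth.Agent.H43

open LambdaRing PowerSeries Finset

variable {K : Type u} [CommRing K] [LambdaOps K]

theorem lamSeries_mul_inv (x : K) : lamSeries x * (lamSeries x).invOfUnit 1 = 1 :=
  PowerSeries.mul_invOfUnit _ _ (by rw [constantCoeff_lamSeries]; rfl)

theorem inv_mul_lamSeries (x : K) : (lamSeries x).invOfUnit 1 * lamSeries x = 1 := by
  rw [mul_comm, lamSeries_mul_inv]

theorem logDerivSeries_mul (x : K) :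
    logDerivSeries x * lamSeries x = derivative K (lamSeries x) := by
  rw [logDerivSeries, mul_assoc, inv_mul_lamSeries, mul_one]

theorem logDerivSeries_eq_of_mul {x : K} {L : PowerSeries K}
    (h : L * lamSeries x = derivative K (lamSeries x)) : logDerivSeries x = L := by
  rw [logDerivSeries, ← h, mul_assoc, lamSeries_mul_inv, mul_one]

theorem logDerivSeries_add (x y : K) :
    logDerivSeries (x + y) = logDerivSeries x + logDerivSeries y := by
  apply logDerivSeries_eq_of_mul
  rw [lamSeries_add, Derivation.leibniz, ← logDerivSeries_mul x, ← logDerivSeries_mul y]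
  simp only [smul_eq_mul]
  ring

theorem adamsOp_succ (k : ℕ) (x : K) :
    adamsOp (k + 1) x = (-1) ^ k * coeff k (logDerivSeries x) := rfl

theorem coeff_logDerivSeries (k : ℕ) (x : K) :
    coeff k (logDerivSeries x) = (-1) ^ k * adamsOp (k + 1) x := by
  rw [adamsOp_succ, ← mul_assoc, ← pow_add, ← two_mul, pow_mul]
  simp

theorem adamsOp_add (k : ℕ) (x y : K) : adamsOp k (x + y) = adamsOp k x + adamsOp k y := by
  match k with
  | 0 => simp [adamsOp]
  | (k + 1) => rw [adamsOp_succ, logDerivSeries_add, map_add, mul_add]; rfl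

theorem logDerivSeries_one (h1 : ∀ k : ℕ, 2 ≤ k → LambdaOps.lam k (1 : K) = 0) :
    logDerivSeries (1 : K) = PowerSeries.mk fun k => (-1 : K) ^ k := by
  apply logDerivSeries_eq_of_mul
  rw [lamSeries_one h1]
  ext n
  simp only [map_add, derivative_one, derivative_X, zero_add, coeff_one]
  rw [mul_add, mul_one, map_add, coeff_mk]
  match n with
  | 0 => simp
  | (n + 1) => simp [coeff_succ_mul_X, pow_succ]

theorem adamsOp_one_of (h1 : ∀ k : ℕ, 2 ≤ k → LambdaOps.lam k (1 : K) = 0) (k : ℕ) (hk : 1 ≤ k) :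
    adamsOp k (1 : K) = 1 := by
  obtain ⟨k, rfl⟩ := Nat.exists_eq_add_of_le' hk
  rw [adamsOp_succ, logDerivSeries_one h1, coeff_mk, ← pow_add, ← two_mul, pow_mul]
  simp

end Groth.Agent.H43
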