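import Groth.Agent.H43.Adams
import Mathlib.RingTheory.PowerSeries.Substitution
import Mathlib.RingTheory.PowerSeries.Exp
import Mathlib.Algebra.Module.Rat

set_option autoImplicit false
universe u

namespace Groth.Agent.H43

open LambdaRing PowerSeries Finset

section ode

variable {K : Type u} [CommRing K]

theorem derivative_map_comm {K' : Type*} [CommRing K'] (f : K →+* K') (p : PowerSeries K) :
    derivative K' (map f p) = map f (derivative K p) := by
  ext n
  simp [coeff_derivative]

/-- uniqueness for `f' g = g' f` with constant coefficients one -/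
theorem eq_of_logDeriv_eq [IsAddTorsionFree K] {f g : PowerSeries K}
    (hf : constantCoeff f = 1) (hg : constantCoeff g = 1)
    (h : derivative K f * g = derivative K g * f) : f = g := by
  set gi := g.invOfUnit 1 with hgi
  have hgg : g * gi = 1 := PowerSeries.mul_invOfUnit _ _ (by rw [hg]; rfl)
  have hdgi : derivative K gi = - (derivative K g * gi * gi) := by
    have := congrArg (derivative K) hgg
    rw [Derivation.leibniz, derivative_one] at this
    simp only [smul_eq_mul] at this
    have h2 : gi * (g * derivative K gi + gi * derivative K g) = 0 := by rw [this, mul_zero]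
    have h3 : gi * (g * derivative K gi + gi * derivative K g) =
        (g * gi) * derivative K gi + derivative K g * gi * gi := by ring
    rw [h3, hgg, one_mul] at h2
    exact eq_neg_of_add_eq_zero_left h2
  have hh : derivative K (f * gi) = 0 := by
    rw [Derivation.leibniz, hdgi]
    simp only [smul_eq_mul]
    have : f * -(derivative K g * gi * gi) + gi * derivative K f =
        gi * gi * (derivative K f * g - derivative K g * f) + (1 - g * gi) * gi * derivative K f := by
      ring
    rw [this, h, sub_self, mul_zero, hgg, sub_self, zero_mul, zero_mul, add_zero]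
  have hc : constantCoeff (f * gi) = 1 := by
    have : constantCoeff gi = 1 := by
      have := congrArg constantCoeff hgg
      rwa [map_mul, hg, one_mul, map_one] at this
    rw [map_mul, hf, this, mul_one]
  have h1 : f * gi = 1 := by
    apply derivative.ext
    · rw [hh, derivative_one]
    · rw [hc, map_one]
  calc f = f * (g * gi) := by rw [hgg, mul_one]
    _ = (f * gi) * g := by ring
    _ = g := by rw [h1, one_mul]

variable [Algebra ℚ K]

/-- formal integral with zero constant term -/
noncomputable def integ (L : PowerSeries K) : PowerSeries K :=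
  PowerSeries.mk fun n => if n = 0 then 0 else algebraMap ℚ K (1 / n) * coeff (n - 1) L

theorem constantCoeff_integ (L : PowerSeries K) : constantCoeff (integ L) = 0 := by
  rw [← coeff_zero_eq_constantCoeff_apply, integ, coeff_mk, if_pos rfl]

theorem derivative_integ (L : PowerSeries K) : derivative K (integ L) = L := by
  ext n
  rw [coeff_derivative, integ, coeff_mk, if_neg (Nat.succ_ne_zero n), Nat.add_sub_cancel]
  have key : (n + 1 : K) = algebraMap ℚ K (n + 1) := by
    rw [map_add, map_natCast, map_one]
  rw [key, mul_comm, ← mul_assoc, ← map_mul]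
  have : ((n : ℚ) + 1) * (1 / ((n + 1 : ℕ) : ℚ)) = 1 := by
    push_cast; field_simp
  rw [this, map_one, one_mul]

theorem hasSubst_integ (L : PowerSeries K) : HasSubst (integ L) :=
  HasSubst.of_constantCoeff_zero' (constantCoeff_integ L)

/-- the solution of `f' = L f`, `f(0) = 1` -/
noncomputable def odeSol (L : PowerSeries K) : PowerSeries K := (exp K).subst (integ L)

theorem derivative_odeSol (L : PowerSeries K) :
    derivative K (odeSol L) = L * odeSol L := by
  rw [odeSol, derivative_subst (hasSubst_integ L), derivative_exp, derivative_integ, mul_comm]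

theorem constantCoeff_odeSol (L : PowerSeries K) : constantCoeff (odeSol L) = 1 := by
  have h : exp K = (exp K - 1) + 1 := by ring
  rw [odeSol, h, subst_add (hasSubst_integ L)]
  have h1 : constantCoeff ((exp K - 1 : PowerSeries K).subst (integ L)) = 0 :=
    constantCoeff_subst_eq_zero (constantCoeff_integ L) _ (by simp)
  have h2 : (1 : PowerSeries K).subst (integ L) = 1 := by
    rw [← coe_substAlgHom (R := K) (hasSubst_integ L), map_one]
  rw [map_add, h1, h2, map_one, zero_add]

end ode

end Groth.Agent.H43

namespace Groth.Agent.H43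

open LambdaRing PowerSeries Finset

section hom

variable {K K' : Type u} [CommRing K] [CommRing K'] [LambdaOps K] [LambdaOps K']

theorem map_lamSeries_of_isLambdaHom {f : K →+* K'} (hf : IsLambdaHom f) (x : K) :
    map f (lamSeries x) = lamSeries (f x) := by
  ext n
  rw [coeff_map, coeff_lamSeries, coeff_lamSeries, hf]

theorem logDerivSeries_map_of_eq {f : K →+* K'} {x : K}
    (h : map f (lamSeries x) = lamSeries (f x)) :
    logDerivSeries (f x) = map f (logDerivSeries x) := by
  apply logDerivSeries_eq_of_mul
  rw [← h, ← map_mul, logDerivSeries_mul, derivative_map_comm]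

theorem adamsOp_map_of_eq {f : K →+* K'} {x : K}
    (h : map f (lamSeries x) = lamSeries (f x)) (k : ℕ) :
    f (adamsOp k x) = adamsOp k (f x) := by
  match k with
  | 0 => simp [adamsOp]
  | (k + 1) =>
    rw [adamsOp_succ, adamsOp_succ, logDerivSeries_map_of_eq h, coeff_map, map_mul, map_pow,
      map_neg, map_one]

theorem isLambdaHom_iff_adams [Algebra ℚ K'] (f : K →+* K') :
    IsLambdaHom f ↔ ∀ k : ℕ, 1 ≤ k → ∀ x : K, f (adamsOp k x) = adamsOp k (f x) := by
  have : IsAddTorsionFree K' := IsAddTorsionFree.of_module_rat K'
  constructor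
  · intro hf k _ x
    exact adamsOp_map_of_eq (map_lamSeries_of_isLambdaHom hf x) k
  · intro h i x
    have hL : map f (logDerivSeries x) = logDerivSeries (f x) := by
      ext n
      rw [coeff_map, coeff_logDerivSeries, coeff_logDerivSeries, map_mul, map_pow, map_neg,
        map_one, h (n + 1) (by omega)]
    have key : map f (lamSeries x) = lamSeries (f x) := by
      apply eq_of_logDeriv_eq
      · rw [← coeff_zero_eq_constantCoeff_apply, coeff_map, coeff_lamSeries, LambdaOps.lam_zero,
          map_one]
      · exact constantCoeff_lamSeries _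
      · rw [derivative_map_comm, ← logDerivSeries_mul, ← logDerivSeries_mul, map_mul, hL]
        ring
    have := congrArg (coeff i) key
    rwa [coeff_map, coeff_lamSeries, coeff_lamSeries] at this

end hom

end Groth.Agent.H43

namespace Groth.Agent.H43

open LambdaRing PowerSeries Finset

section exist

variable {K : Type u} [CommRing K] [Algebra ℚ K]

/-- the prescribed logarithmic derivative series -/
noncomputable def psiSeries (ψ : ℕ → K →+ K) (x : K) : PowerSeries K :=
  PowerSeries.mk fun k => (-1 : K) ^ k * ψ (k + 1) x

omit [Algebra ℚ K] in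
theorem psiSeries_add (ψ : ℕ → K →+ K) (x y : K) :
    psiSeries ψ (x + y) = psiSeries ψ x + psiSeries ψ y := by
  ext n; simp [psiSeries, mul_add]

theorem odeSol_add (L M : PowerSeries K) : odeSol (L + M) = odeSol L * odeSol M := by
  have : IsAddTorsionFree K := IsAddTorsionFree.of_module_rat K
  apply eq_of_logDeriv_eq (constantCoeff_odeSol _)
  · rw [map_mul, constantCoeff_odeSol, constantCoeff_odeSol, mul_one]
  · rw [Derivation.leibniz, derivative_odeSol, derivative_odeSol, derivative_odeSol]
    simp only [smul_eq_mul]
    ring

/-- the pre-λ-structure with prescribed Adams operations -/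
@[reducible] noncomputable def lambdaOpsOfAdams (ψ : ℕ → K →+ K) (hψ : ψ 1 = AddMonoidHom.id K) :
    LambdaOps K where
  lam n x := coeff n (odeSol (psiSeries ψ x))
  lam_zero x := by
    rw [coeff_zero_eq_constantCoeff_apply, constantCoeff_odeSol]
  lam_one x := by
    have h := congrArg (coeff 0) (derivative_odeSol (psiSeries ψ x))
    have h2 : coeff 0 (psiSeries ψ x) = x := by
      rw [psiSeries, coeff_mk, pow_zero, one_mul, zero_add, hψ]; rfl
    rw [coeff_derivative, coeff_zero_eq_constantCoeff_apply, map_mul, constantCoeff_odeSol,
      mul_one, ← coeff_zero_eq_constantCoeff_apply, h2] at h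
    simpa using h
  lam_add k x y := by
    rw [psiSeries_add, odeSol_add, coeff_mul, Finset.Nat.sum_antidiagonal_eq_sum_range_succ_mk]

theorem lamSeries_lambdaOpsOfAdams (ψ : ℕ → K →+ K) (hψ : ψ 1 = AddMonoidHom.id K) (x : K) :
    @lamSeries K _ (lambdaOpsOfAdams ψ hψ) x = odeSol (psiSeries ψ x) := by
  ext n
  rw [@coeff_lamSeries K _ (lambdaOpsOfAdams ψ hψ)]
  rfl

theorem existsUnique_lambdaOps (ψ : ℕ → K →+ K) (hψ : ψ 1 = AddMonoidHom.id K) :
    ∃! L : LambdaOps K, ∀ k : ℕ, 1 ≤ k → ∀ x : K, @adamsOp K _ L k x = ψ k x := by
  have tf : IsAddTorsionFree K := IsAddTorsionFree.of_module_rat K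
  refine ⟨lambdaOpsOfAdams ψ hψ, ?_, ?_⟩
  · intro k hk x
    obtain ⟨k, rfl⟩ := Nat.exists_eq_add_of_le' hk
    let _ := lambdaOpsOfAdams ψ hψ
    have hL : logDerivSeries x = psiSeries ψ x := by
      apply logDerivSeries_eq_of_mul
      rw [lamSeries_lambdaOpsOfAdams, derivative_odeSol]
    rw [adamsOp_succ, hL, psiSeries, coeff_mk, ← mul_assoc, ← pow_add, ← two_mul, pow_mul]
    simp
  · intro L' hL'
    have key : ∀ x : K, @lamSeries K _ L' x = odeSol (psiSeries ψ x) := by
      intro x
      apply eq_of_logDeriv_eq (@constantCoeff_lamSeries K _ L' x) (constantCoeff_odeSol _)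
      have hL : @logDerivSeries K _ L' x = psiSeries ψ x := by
        ext n
        rw [@coeff_logDerivSeries K _ L', hL' (n + 1) (by omega), psiSeries, coeff_mk]
      rw [← @logDerivSeries_mul K _ L', hL, derivative_odeSol]
      ring
    have hlam : ∀ n x, @LambdaOps.lam K _ L' n x = @LambdaOps.lam K _ (lambdaOpsOfAdams ψ hψ) n x := by
      intro n x
      rw [← @coeff_lamSeries K _ L', key]
      rfl
    cases L' with
    | mk lam' z o a =>
      have : lam' = (lambdaOpsOfAdams ψ hψ).lam := by
        funext n x; exact hlam n x
      subst this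
      rfl

end exist

end Groth.Agent.H43
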