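import Groth.Agent.H43.Stability

set_option autoImplicit false
universe u

namespace Groth.Agent.H43

open MvPolynomial LambdaRing Finset

variable {K : Type u} [CommRing K] [LambdaOps K]

/-- In a special λ-ring the Adams operations are multiplicative. -/
theorem adams_mul_of_special (hK : IsSpecial K) (k : ℕ) (hk : 1 ≤ k) (x y : K) :
    adamsOp k (x * y) = adamsOp k x * adamsOp k y := by
  have hexC : ∀ j : ℕ, ∃ C : MvPolynomial (Fin k ⊕ Fin k) ℤ, esymm2 ℤ k k C = mulGen k j :=
    fun j => exists_esymm2_eq_mulGen k j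
  choose C hC using hexC
  have hexP : ∀ q : ℕ, ∃ Pq : MvPolynomial (Fin k) ℤ, esymm1 ℤ k k Pq = psum (Fin k) ℤ q :=
    fun q => exists_esymm1_eq_of_isSymmetric ℤ k (psum_isSymmetric' k q)
  choose Pr hPr using hexP
  have key := transfer_p
    (esymm2 ℤ k k : MvPolynomial (Fin k ⊕ Fin k) ℤ →+* MvPolynomial (Fin k ⊕ Fin k) ℤ)
    (esymm2_injective ℤ (le_refl k)) (evalLam2 x y k : MvPolynomial (Fin k ⊕ Fin k) ℤ →+* K)
    (mulRoots k) C (fun r => rename Sum.inl (Pr r) * rename Sum.inr (Pr r)) k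
    (fun j _ => by rw [RingHom.coe_coe, hC j, mulGen_eq])
    (fun r _ _ => by
      rw [RingHom.coe_coe, map_mul, esymm2_rename_inl, esymm2_rename_inr, hPr r, sum_pow_mulRoots])
    (fun j => LambdaOps.lam j (x * y)) (fun r => adamsOp r (x * y))
    (fun j _ _ => newtonRel_lam (x * y) j)
    (fun j hj => by
      rw [RingHom.coe_coe]
      exact (lam_mul_general hK x y hj (C j) (hC j)).symm)
    k hk le_rfl
  rw [← key, RingHom.coe_coe, map_mul, evalLam2_rename_inl, evalLam2_rename_inr,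
    evalLam1_psum x k k hk le_rfl _ (hPr k), evalLam1_psum y k k hk le_rfl _ (hPr k)]

theorem adams_one_of_special (hK : IsSpecial K) (k : ℕ) (hk : 1 ≤ k) : adamsOp k (1 : K) = 1 :=
  adamsOp_one_of hK.lam_one_eq_zero k hk

/-- `ψ^r(λ^i x)` in a special λ-ring -/
theorem adams_lam_of_special (hK : IsSpecial K) (x : K) (N r i : ℕ) (hr : 1 ≤ r) (hN : i * r ≤ N)
    (D : MvPolynomial (Fin N) ℤ) (hD : esymm1 ℤ N N D = (powRoots N r).esymm i) :
    evalLam1 x N D = adamsOp r (LambdaOps.lam i x) := by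
  have hexC : ∀ l : ℕ, ∃ C : MvPolynomial (Fin N) ℤ, esymm1 ℤ N N C = compGen N i l :=
    fun l => exists_esymm1_eq_compGen N i l
  choose C hC using hexC
  have hexD : ∀ q : ℕ, ∃ D : MvPolynomial (Fin N) ℤ, esymm1 ℤ N N D = (powRoots N q).esymm i :=
    fun q => exists_esymm1_eq_powRoots N q i
  choose D' hD' using hexD
  have key := transfer_p
    (esymm1 ℤ N N : MvPolynomial (Fin N) ℤ →+* MvPolynomial (Fin N) ℤ)
    (esymm1_injective ℤ (le_refl N)) (evalLam1 x N : MvPolynomial (Fin N) ℤ →+* K)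
    (compRoots N i) C D' r
    (fun l _ => by rw [RingHom.coe_coe, hC l, compGen_eq])
    (fun q _ _ => by rw [RingHom.coe_coe, hD' q, sum_pow_compRoots])
    (fun l => LambdaOps.lam l (LambdaOps.lam i x)) (fun q => adamsOp q (LambdaOps.lam i x))
    (fun l _ _ => newtonRel_lam (LambdaOps.lam i x) l)
    (fun l hl => by
      rw [RingHom.coe_coe]
      refine (lam_lam_general hK x ?_ (C l) (hC l)).symm
      exact (Nat.mul_le_mul_left i hl).trans hN)
    r hr le_rfl
  have : D = D' r := esymm1_injective ℤ (le_refl N) (by rw [hD, hD' r])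
  rw [this]
  exact key

/-- In a special λ-ring, `ψ^r ∘ ψ^q = ψ^{rq}`. -/
theorem adams_comp_of_special (hK : IsSpecial K) (r q : ℕ) (hr : 1 ≤ r) (hq : 1 ≤ q) (x : K) :
    adamsOp r (adamsOp q x) = adamsOp (r * q) x := by
  set N := r * q with hNdef
  have hexD : ∀ i : ℕ, ∃ D : MvPolynomial (Fin N) ℤ, esymm1 ℤ N N D = (powRoots N r).esymm i :=
    fun i => exists_esymm1_eq_powRoots N r i
  choose D hD using hexD
  have hexP : ∀ q : ℕ, ∃ Pq : MvPolynomial (Fin N) ℤ, esymm1 ℤ N N Pq = psum (Fin N) ℤ q :=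
    fun q => exists_esymm1_eq_of_isSymmetric ℤ N (psum_isSymmetric' N q)
  choose Pr hPr using hexP
  have key := transfer_p
    (esymm1 ℤ N N : MvPolynomial (Fin N) ℤ →+* MvPolynomial (Fin N) ℤ)
    (esymm1_injective ℤ (le_refl N)) (evalLam1 x N : MvPolynomial (Fin N) ℤ →+* K)
    (powRoots N r) D (fun s => Pr (r * s)) q
    (fun i _ => by rw [RingHom.coe_coe, hD i])
    (fun s _ _ => by rw [RingHom.coe_coe, hPr, sum_pow_powRoots])
    (fun i => adamsOp r (LambdaOps.lam i x)) (fun s => adamsOp r (adamsOp s x))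
    (fun j _ _ => by
      exact (newtonRel_lam x j).map
        (adamsRingHom (adams_one_of_special hK) (adams_mul_of_special hK) r hr))
    (fun i hi => by
      rw [RingHom.coe_coe]
      refine adams_lam_of_special hK x N r i hr ?_ (D i) (hD i)
      rw [hNdef, Nat.mul_comm r q]
      exact Nat.mul_le_mul_right r hi)
    q hq le_rfl
  rw [← key, RingHom.coe_coe]
  exact evalLam1_psum x N (r * q) (Nat.mul_pos hr hq) le_rfl _ (hPr _)

end Groth.Agent.H43
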