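import Mathlib.RingTheory.Binomial
import Mathlib.RingTheory.MvPolynomial.Basic
import Mathlib.Algebra.Polynomial.Roots
import Mathlib.Algebra.Module.Torsion.Free

set_option autoImplicit false
universe u v

namespace Groth.Agent.H43

open MvPolynomial

section principle

variable {K : Type u} [CommRing K] [BinomialRing K] {n : ℕ} {τ : Type*}

/-- evaluation of the first block of variables at the binomial coefficients of `c` -/
noncomputable def binEval (τ : Type*) (n : ℕ) (c : K) :
    MvPolynomial (Fin n ⊕ τ) ℤ →ₐ[ℤ] MvPolynomial τ K :=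
  aeval (Sum.elim (fun k : Fin n => C (Ring.choose c ((k : ℕ) + 1))) X)

/-- clearing denominators: a multiple of the value is the value of a polynomial in `c` -/
theorem exists_binEval_eq (F : MvPolynomial (Fin n ⊕ τ) ℤ) :
    ∃ E : ℕ, E ≠ 0 ∧ ∃ q : Polynomial (MvPolynomial τ ℤ), ∀ c : K,
      E • binEval τ n c F = Polynomial.eval₂ (MvPolynomial.map (Int.castRingHom K)) (C c) q := by
  induction F using MvPolynomial.induction_on with
  | C a =>
    refine ⟨1, one_ne_zero, Polynomial.C (C a), fun c => ?_⟩
    rw [Polynomial.eval₂_C, one_smul, MvPolynomial.map_C]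
    simp [binEval]
  | add p q hp hq =>
    obtain ⟨E₁, hE₁, q₁, h₁⟩ := hp
    obtain ⟨E₂, hE₂, q₂, h₂⟩ := hq
    refine ⟨E₁ * E₂, mul_ne_zero hE₁ hE₂, (E₂ : Polynomial (MvPolynomial τ ℤ)) * q₁ +
      (E₁ : Polynomial (MvPolynomial τ ℤ)) * q₂, fun c => ?_⟩
    rw [map_add, Polynomial.eval₂_add, Polynomial.eval₂_mul, Polynomial.eval₂_mul,
      Polynomial.eval₂_natCast, Polynomial.eval₂_natCast, ← h₁ c, ← h₂ c]
    simp only [nsmul_eq_mul, Nat.cast_mul]
    ring
  | mul_X p i hp =>
    obtain ⟨E₁, hE₁, q₁, h₁⟩ := hp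
    rcases i with k | r
    · refine ⟨E₁ * ((k : ℕ) + 1).factorial, mul_ne_zero hE₁ (Nat.factorial_ne_zero _),
        q₁ * (descPochhammer ℤ ((k : ℕ) + 1)).map (algebraMap ℤ (MvPolynomial τ ℤ)), fun c => ?_⟩
      have hd : Polynomial.eval₂ (MvPolynomial.map (Int.castRingHom K)) (C c)
          ((descPochhammer ℤ ((k : ℕ) + 1)).map (algebraMap ℤ (MvPolynomial τ ℤ))) =
          C (((k : ℕ) + 1).factorial • Ring.choose c ((k : ℕ) + 1)) := by
        rw [Polynomial.eval₂_map, ← Ring.descPochhammer_eq_factorial_smul_choose,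
          ← Polynomial.aeval_eq_smeval]
        have : (MvPolynomial.map (Int.castRingHom K)).comp (algebraMap ℤ (MvPolynomial τ ℤ)) =
            algebraMap ℤ (MvPolynomial τ K) := Subsingleton.elim _ _
        rw [this, ← Polynomial.aeval_def]
        exact Polynomial.aeval_algHom_apply
          ((Algebra.ofId K (MvPolynomial τ K)).restrictScalars ℤ) c _
      rw [Polynomial.eval₂_mul, hd, ← h₁ c, map_mul]
      have hX : binEval τ n c (X (Sum.inl k)) = C (Ring.choose c ((k : ℕ) + 1)) := by
        simp [binEval]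
      rw [hX]
      simp only [nsmul_eq_mul, Nat.cast_mul, map_mul, map_natCast]
      ring
    · refine ⟨E₁, hE₁, q₁ * Polynomial.C (X r), fun c => ?_⟩
      have hX : binEval τ n c (X (Sum.inr r)) = X r := by
        simp [binEval]
      rw [Polynomial.eval₂_mul, Polynomial.eval₂_C, ← h₁ c, map_mul, hX, MvPolynomial.map_X,
        smul_mul_assoc]

theorem binEval_natCast (m : ℕ) (F : MvPolynomial (Fin n ⊕ τ) ℤ) :
    binEval τ n (m : K) F = MvPolynomial.map (Int.castRingHom K)
      (aeval (Sum.elim (fun k : Fin n => (C (Nat.choose m ((k : ℕ) + 1) : ℤ) : MvPolynomial τ ℤ)) X)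
        F) := by
  induction F using MvPolynomial.induction_on with
  | C a => simp [binEval]
  | add p q hp hq => rw [map_add, map_add, map_add, hp, hq]
  | mul_X p i hp =>
    rw [map_mul, map_mul, map_mul, hp]
    congr 1
    rcases i with k | r
    · simp [binEval, Ring.choose_natCast]
    · simp [binEval]

/-- the principle: an integral polynomial identity between the binomial coefficients `C(m, k)`
valid for all natural numbers `m` is valid for the binomial coefficients of every element of a
binomial ring -/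
theorem binEval_eq_zero (F : MvPolynomial (Fin n ⊕ τ) ℤ)
    (hF : ∀ m : ℕ, aeval (Sum.elim
      (fun k : Fin n => (C (Nat.choose m ((k : ℕ) + 1) : ℤ) : MvPolynomial τ ℤ)) X) F = 0)
    (c : K) : binEval τ n c F = 0 := by
  rcases subsingleton_or_nontrivial K with hs | hn
  · exact Subsingleton.elim _ _
  have := BinomialRing.toIsAddTorsionFree (R := K)
  have : CharZero K := CharZero.of_isAddTorsionFree K K
  obtain ⟨E, hE, q, hq⟩ := exists_binEval_eq (K := K) F
  have hroot : ∀ m : ℕ, q.eval (C (m : ℤ)) = 0 := by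
    intro m
    apply MvPolynomial.map_injective (Int.castRingHom K) Int.cast_injective
    rw [map_zero, ← Polynomial.eval₂_at_apply, MvPolynomial.map_C]
    have := hq (m : K)
    rw [binEval_natCast, hF m, map_zero, smul_zero] at this
    rw [this]
    simp
  have hq0 : q = 0 := by
    apply Polynomial.eq_zero_of_infinite_isRoot
    refine Set.Infinite.mono ?_ (Set.infinite_range_of_injective
      (f := fun m : ℕ => (C (m : ℤ) : MvPolynomial τ ℤ)) ?_)
    · rintro _ ⟨m, rfl⟩
      exact hroot m
    · intro a b hab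
      exact Nat.cast_injective (MvPolynomial.C_injective τ ℤ hab)
  have h0 := hq c
  rw [hq0, Polynomial.eval₂_zero] at h0
  ext m
  have h1 := congrArg (MvPolynomial.coeff m) h0
  rw [MvPolynomial.coeff_smul, MvPolynomial.coeff_zero] at h1
  rw [MvPolynomial.coeff_zero]
  exact nsmul_right_injective hE (by simpa using h1)

theorem aeval_binom_eq_zero {A : Type v} [CommRing A] [Algebra K A]
    (F : MvPolynomial (Fin n ⊕ τ) ℤ)
    (hF : ∀ m : ℕ, aeval (Sum.elim
      (fun k : Fin n => (C (Nat.choose m ((k : ℕ) + 1) : ℤ) : MvPolynomial τ ℤ)) X) F = 0)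
    (c : K) (z : τ → A) :
    aeval (Sum.elim (fun k : Fin n => algebraMap K A (Ring.choose c ((k : ℕ) + 1))) z) F = 0 := by
  have h := congrArg (aeval z : MvPolynomial τ K →ₐ[K] A) (binEval_eq_zero F hF c)
  rw [map_zero] at h
  rw [← h]
  clear h hF
  induction F using MvPolynomial.induction_on with
  | C a => simp [binEval]
  | add p q hp hq => rw [map_add, map_add, map_add, hp, hq]
  | mul_X p i hp =>
    rw [map_mul, map_mul, map_mul, hp]
    congr 1
    rcases i with k | r
    · simp [binEval]
    · simp [binEval]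

end principle

end Groth.Agent.H43
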