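import Groth.Agent.H43.S8704aux

set_option autoImplicit false
universe u v

namespace Groth.Agent.H43

open LambdaRing Finset Pointwise

section mulfil

variable {K : Type u} [CommRing K] {A : Type v} [CommRing A] [Algebra K A]

theorem MulFil.pow_mem {M : ℕ → Submodule K A} (hM : MulFil M) {a : ℕ} {y : A} (hy : y ∈ M a)
    (e : ℕ) : y ^ e ∈ M (a * e) := by
  induction e with
  | zero => simpa using hM.one_mem
  | succ e ih => rw [pow_succ, Nat.mul_succ]; exact hM.mul_mem _ _ _ _ ih hy

theorem MulFil.prod_mem {M : ℕ → Submodule K A} (hM : MulFil M) {ι : Type*} (s : Finset ι)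
    (w : ι → ℕ) (y : ι → A) (hy : ∀ i ∈ s, y i ∈ M (w i)) :
    ∏ i ∈ s, y i ∈ M (∑ i ∈ s, w i) := by
  classical
  induction s using Finset.induction_on with
  | empty => simpa using hM.one_mem
  | insert i s hi ih =>
    rw [Finset.prod_insert hi, Finset.sum_insert hi]
    exact hM.mul_mem _ _ _ _ (hy i (Finset.mem_insert_self i s))
      (ih fun j hj => hy j (Finset.mem_insert_of_mem hj))

end mulfil

section gfil

variable {K : Type u} [CommRing K] {A : Type v} [CommRing A] [LambdaOps A]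

theorem mulFil_gammaFil (ε : A →+* K) :
    MulFil (K := A) (A := A) (fun k => gammaFil ε k) where
  one_mem := Ideal.subset_span ⟨[], by simp, by simp, by simp⟩
  mul_mem := by
    intro a b y z hy hz
    have h := Ideal.mul_mem_mul hy hz
    unfold gammaFil at h ⊢
    rw [Ideal.span_mul_span'] at h
    refine Ideal.span_mono ?_ h
    rintro _ ⟨y, ⟨l1, h1, h1', rfl⟩, z, ⟨l2, h2, h2', rfl⟩, rfl⟩
    refine ⟨l1 ++ l2, ?_, ?_, ?_⟩
    · intro p hp
      rcases List.mem_append.mp hp with hp | hp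
      · exact h1 p hp
      · exact h2 p hp
    · rw [List.map_append, List.sum_append]; omega
    · simp only [List.map_append, List.prod_append]
  anti := by
    intro a b hab
    apply Ideal.span_mono
    rintro y ⟨l, h1, h2, h3⟩
    exact ⟨l, h1, hab.trans h2, h3⟩

theorem gamma_mem_gammaFil (ε : A →+* K) {z : A} (hz : ε z = 0) (i : ℕ) :
    gamma i z ∈ gammaFil ε i :=
  Ideal.subset_span ⟨[(i, z)], by simpa using hz, by simp, by simp⟩

theorem gammaFil_le_of_good (ε : A →+* K) {M : ℕ → Ideal A} (hM : MulFil (K := A) (A := A) M)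
    (h : ∀ z : A, ε z = 0 → z ∈ gammaGood (K := A) M) (k : ℕ) : gammaFil ε k ≤ M k := by
  unfold gammaFil
  rw [Ideal.span_le]
  rintro y ⟨l, hl, hk, rfl⟩
  exact hM.anti _ _ hk (prod_gamma_mem hM l fun p hp => h p.2 (hl p hp))

end gfil

section wt

variable {A : Type v} [CommRing A] {n : ℕ}

/-- the ideal generated by the monomials of weight at least `k` in the `g j`, `g j` of weight
`j + 1` -/
def wtIdeal (g : Fin n → A) (k : ℕ) : Ideal A :=
  Ideal.span {m : A | ∃ e : Fin n → ℕ, k ≤ ∑ j : Fin n, ((j : ℕ) + 1) * e j ∧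
    m = ∏ j : Fin n, g j ^ e j}

theorem mulFil_wtIdeal (g : Fin n → A) : MulFil (K := A) (A := A) (fun k => wtIdeal g k) where
  one_mem := Ideal.subset_span ⟨fun _ => 0, by simp, by simp⟩
  mul_mem := by
    intro a b y z hy hz
    have h := Ideal.mul_mem_mul hy hz
    unfold wtIdeal at h ⊢
    rw [Ideal.span_mul_span'] at h
    refine Ideal.span_mono ?_ h
    rintro _ ⟨y, ⟨e1, h1, rfl⟩, z, ⟨e2, h2, rfl⟩, rfl⟩
    refine ⟨e1 + e2, ?_, ?_⟩
    · simp only [Pi.add_apply, mul_add, Finset.sum_add_distrib]; omega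
    · simp only [Pi.add_apply, pow_add, Finset.prod_mul_distrib]
  anti := by
    intro a b hab
    apply Ideal.span_mono
    rintro y ⟨e, h1, h2⟩
    exact ⟨e, hab.trans h1, h2⟩

theorem aeval_mem_wtIdeal {R : Type*} [CommRing R] [Algebra R A] (g : Fin n → A) (k : ℕ)
    (H : MvPolynomial (Fin n) R)
    (hH : ∀ m ∈ H.support, k ≤ ∑ j : Fin n, ((j : ℕ) + 1) * m j) :
    MvPolynomial.aeval g H ∈ wtIdeal g k := by
  rw [MvPolynomial.aeval_def, MvPolynomial.eval₂_eq']
  refine Ideal.sum_mem _ fun m hm => Ideal.mul_mem_left _ _ (Ideal.subset_span ⟨m, hH m hm, rfl⟩)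

end wt

end Groth.Agent.H43
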