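import Groth.Agent.H43.Isobaric

set_option autoImplicit false
universe u

namespace Groth.Agent.H43

open LambdaRing MvPolynomial Finset

section rep

variable (d : ℕ)

/-- `G` is uniformly representable: `λ^n` of the value of `G` at the `λ^i N` is the value of a
polynomial `G'` independent of the (special) λ-ring and of the element `N` (truncated at `d`). -/
def Rep (G : MvPolynomial (Fin d) ℤ) : Prop :=
  ∀ n : ℕ, ∃ G' : MvPolynomial (Fin d) ℤ,
    ∀ (K : Type u) [CommRing K] [LambdaOps K], IsSpecial K → ∀ N : K,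
      (∀ i : ℕ, d < i → LambdaOps.lam i N = 0) →
        LambdaOps.lam n (evalLam1 N d G) = evalLam1 N d G'

variable {d}

theorem rep_zero : Rep.{u} d (0 : MvPolynomial (Fin d) ℤ) := by
  intro n
  refine ⟨C (if n = 0 then 1 else 0), ?_⟩
  intro K _ _ hK N hN
  rw [map_zero, ← coeff_lamSeries, lamSeries_zero, PowerSeries.coeff_one]
  split_ifs <;> simp

theorem rep_one : Rep.{u} d (1 : MvPolynomial (Fin d) ℤ) := by
  intro n
  refine ⟨C (if n = 0 then 1 else if n = 1 then 1 else 0), ?_⟩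
  intro K _ _ hK N hN
  rw [map_one]
  match n with
  | 0 => simp [LambdaOps.lam_zero]
  | 1 => simp [LambdaOps.lam_one]
  | (n + 2) =>
    rw [hK.lam_one_eq_zero (n + 2) (by omega)]
    simp

theorem lamSeries_neg_one {K : Type*} [CommRing K] [LambdaOps K]
    (h1 : ∀ k : ℕ, 2 ≤ k → LambdaOps.lam k (1 : K) = 0) :
    lamSeries (-1 : K) = PowerSeries.mk fun k => (-1 : K) ^ k := by
  have h : lamSeries (-1 : K) * lamSeries (1 : K) = 1 := by
    rw [← lamSeries_add, neg_add_cancel, lamSeries_zero]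
  rw [lamSeries_one h1] at h
  have h2 : (PowerSeries.mk fun k => (-1 : K) ^ k) * (1 + PowerSeries.X) = 1 := by
    ext n
    rw [mul_add, mul_one, map_add, PowerSeries.coeff_mk]
    match n with
    | 0 => simp
    | (n + 1) => simp [PowerSeries.coeff_succ_mul_X, pow_succ]
  calc lamSeries (-1 : K) = lamSeries (-1 : K) * ((1 + PowerSeries.X) *
        (PowerSeries.mk fun k => (-1 : K) ^ k)) := by rw [mul_comm (1 + PowerSeries.X), h2, mul_one]
    _ = _ := by rw [← mul_assoc, h, one_mul]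

theorem rep_neg_one : Rep.{u} d (C (-1) : MvPolynomial (Fin d) ℤ) := by
  intro n
  refine ⟨C ((-1) ^ n), ?_⟩
  intro K _ _ hK N hN
  have : evalLam1 N d (C (-1) : MvPolynomial (Fin d) ℤ) = (-1 : K) := by simp [evalLam1]
  rw [this, ← coeff_lamSeries, lamSeries_neg_one hK.lam_one_eq_zero, PowerSeries.coeff_mk]
  simp [evalLam1]

theorem rep_add {G₁ G₂ : MvPolynomial (Fin d) ℤ} (h₁ : Rep.{u} d G₁) (h₂ : Rep.{u} d G₂) :
    Rep.{u} d (G₁ + G₂) := by
  intro n
  choose G₁' hG₁' using h₁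
  choose G₂' hG₂' using h₂
  refine ⟨∑ i ∈ range (n + 1), G₁' i * G₂' (n - i), ?_⟩
  intro K _ _ hK N hN
  rw [map_add, LambdaOps.lam_add, map_sum]
  refine Finset.sum_congr rfl fun i _ => ?_
  rw [map_mul, hG₁' i K hK N hN, hG₂' (n - i) K hK N hN]

theorem rep_mul {G₁ G₂ : MvPolynomial (Fin d) ℤ} (h₁ : Rep.{u} d G₁) (h₂ : Rep.{u} d G₂) :
    Rep.{u} d (G₁ * G₂) := by
  intro n
  choose G₁' hG₁' using h₁
  choose G₂' hG₂' using h₂
  obtain ⟨P, hP⟩ := exists_isMulPoly n
  refine ⟨aeval (Sum.elim (fun k : Fin n => G₁' ((k : ℕ) + 1))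
    (fun k : Fin n => G₂' ((k : ℕ) + 1))) P, ?_⟩
  intro K _ _ hK N hN
  rw [map_mul, hK.lam_mul n P hP, evalLam1, comp_aeval_apply]
  congr 2
  funext k
  rcases k with k | k
  · simp only [Sum.elim_inl]
    exact hG₁' _ K hK N hN
  · simp only [Sum.elim_inr]
    exact hG₂' _ K hK N hN

theorem rep_X (k : Fin d) : Rep.{u} d (X k : MvPolynomial (Fin d) ℤ) := by
  intro n
  obtain ⟨Q, hQ⟩ := exists_isCompPoly ((k : ℕ) + 1) n
  refine ⟨aeval (fun l : Fin (((k : ℕ) + 1) * n) =>
    if h : (l : ℕ) < d then (X ⟨l, h⟩ : MvPolynomial (Fin d) ℤ) else 0) Q, ?_⟩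
  intro K _ _ hK N hN
  have : evalLam1 N d (X k : MvPolynomial (Fin d) ℤ) = LambdaOps.lam ((k : ℕ) + 1) N := by
    simp [evalLam1]
  rw [this, hK.lam_lam ((k : ℕ) + 1) n Q hQ, evalLam1, comp_aeval_apply]
  congr 2
  funext l
  split_ifs with h
  · simp
  · rw [map_zero]
    exact hN _ (by omega)

theorem rep_C (a : ℤ) : Rep.{u} d (C a : MvPolynomial (Fin d) ℤ) := by
  induction a using Int.induction_on with
  | zero => simpa using rep_zero
  | succ i ih =>
    have : (C ((i : ℤ) + 1) : MvPolynomial (Fin d) ℤ) = C (i : ℤ) + 1 := by simp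
    rw [this]
    exact rep_add ih rep_one
  | pred i ih =>
    have : (C (-(i : ℤ) - 1) : MvPolynomial (Fin d) ℤ) = C (-(i : ℤ)) + C (-1) := by
      rw [← C_add]; congr 1
    rw [this]
    exact rep_add ih rep_neg_one

theorem rep_all (G : MvPolynomial (Fin d) ℤ) : Rep.{u} d G := by
  induction G using MvPolynomial.induction_on with
  | C a => exact rep_C a
  | add p q hp hq => exact rep_add hp hq
  | mul_X p i hp => exact rep_mul hp (rep_X i)

end rep

end Groth.Agent.H43
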