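import Groth.Agent.H43.LineRing
import Groth.Agent.H43.PolyRep
import Groth.Agent.H43.Gamma
import Mathlib.Algebra.BigOperators.Group.Finset.Powerset

set_option autoImplicit false
universe u

namespace Groth.Agent.H43

open LambdaRing MvPolynomial Finset

section gen

variable {K : Type*} [CommRing K] [LambdaOps K]

theorem lamSeries_sum {ι : Type*} (s : Finset ι) (a : ι → K) :
    lamSeries (∑ i ∈ s, a i) = ∏ i ∈ s, lamSeries (a i) := by
  classical
  induction s using Finset.induction_on with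
  | empty => simp [lamSeries_zero]
  | insert i s hi ih => rw [Finset.sum_insert hi, Finset.prod_insert hi, lamSeries_add, ih]

/-- the polynomial `λ_{-1}` in the variables `λ^1 N, …, λ^d N` -/
noncomputable def lamAltPoly (d : ℕ) : MvPolynomial (Fin d) ℤ :=
  1 + ∑ k : Fin d, C ((-1 : ℤ) ^ ((k : ℕ) + 1)) * X k

theorem evalLam1_lamAltPoly (d : ℕ) (N : K) :
    evalLam1 N d (lamAltPoly d) = ∑ i ∈ range (d + 1), (-1 : K) ^ i * LambdaOps.lam i N := by
  rw [Finset.sum_range_succ', lamAltPoly, map_add, map_one, map_sum, ← Fin.sum_univ_eq_sum_range,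
    add_comm]
  congr 1
  · refine Finset.sum_congr rfl fun k _ => ?_
    simp [evalLam1]
  · simp [LambdaOps.lam_zero]

end gen

section lineSym

variable {σ : Type u} [Fintype σ]

attribute [local instance] lineLambdaOps

/-- the sum of the variables -/
noncomputable def lineN (σ : Type u) [Fintype σ] : LineRing σ := ∑ i : σ, MvPolynomial.X i

theorem lam_lineN (k : ℕ) : LambdaOps.lam k (lineN σ) = esymm σ ℤ k := by
  classical
  rw [← coeff_lamSeries, lineN, lamSeries_sum]
  simp only [lamSeries_line_X]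
  rw [coeff_prod_one_add_C_mul_X]
  rfl

theorem lam_lineN_eq_zero (k : ℕ) (hk : Fintype.card σ < k) : LambdaOps.lam k (lineN σ) = 0 := by
  rw [lam_lineN, esymm, Finset.powersetCard_eq_empty.mpr (by simpa using hk), Finset.sum_empty]

theorem evalLam1_lineN (d : ℕ) (G : MvPolynomial (Fin d) ℤ) :
    evalLam1 (lineN σ) d G = (esymmAlgHom σ ℤ d G).val := by
  rw [esymmAlgHom_apply, evalLam1]
  congr 2
  funext k
  exact lam_lineN _

theorem evalLam1_lineN_lamAltPoly (d : ℕ) (hd : Fintype.card σ = d) :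
    evalLam1 (lineN σ) d (lamAltPoly d) = lamMinusOne (Finset.univ : Finset σ) := by
  classical
  rw [evalLam1_lamAltPoly, lamMinusOne]
  simp only [lam_lineN, sub_eq_add_neg]
  rw [Finset.prod_one_add, Finset.sum_powerset, Finset.card_univ, hd]
  refine Finset.sum_congr rfl fun k _ => ?_
  rw [esymm, Finset.mul_sum]
  refine Finset.sum_congr rfl fun t ht => ?_
  rw [Finset.mem_powersetCard] at ht
  rw [Finset.prod_neg, ht.2]

omit [Fintype σ] in
theorem lamMinusOne_ne_zero (s : Finset σ) : lamMinusOne s ≠ 0 := by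
  intro h
  have := congrArg (MvPolynomial.eval (fun _ => (0 : ℤ))) h
  simp [lamMinusOne] at this

end lineSym

end Groth.Agent.H43

namespace Groth.Agent.H43

open LambdaRing MvPolynomial Finset

section main

attribute [local instance] lineLambdaOps

/-- `λ_{-1}(N)` divides `λ^j(λ_{-1}(N))` for `j ≥ 1`. -/
theorem lamAlt_dvd_lam_lamAlt {K : Type u} [CommRing K] [LambdaOps K] (hK : IsSpecial K) (d : ℕ)
    (N : K) (hN : ∀ i : ℕ, d < i → LambdaOps.lam i N = 0) (j : ℕ) (hj : 1 ≤ j) :
    (∑ i ∈ range (d + 1), (-1 : K) ^ i * LambdaOps.lam i N) ∣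
      LambdaOps.lam j (∑ i ∈ range (d + 1), (-1 : K) ^ i * LambdaOps.lam i N) := by
  obtain ⟨G', hG'⟩ := rep_all.{u} (lamAltPoly d) j
  let σ := ULift.{u} (Fin d)
  have hcard : Fintype.card σ = d := by simp [σ]
  have hL := hG' (LineRing σ) isSpecial_line (lineN σ)
    (fun i hi => lam_lineN_eq_zero i (by rw [hcard]; exact hi))
  rw [evalLam1_lineN_lamAltPoly d hcard] at hL
  have hmem := lam_lamMinusOne_mem (Finset.univ : Finset σ) j hj
  obtain ⟨r, hr⟩ := Ideal.mem_span_singleton'.mp hmem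
  have hY : lamMinusOne (Finset.univ : Finset σ) = (esymmAlgHom σ ℤ d (lamAltPoly d)).val := by
    rw [← evalLam1_lineN_lamAltPoly d hcard, evalLam1_lineN]
  have hsymm : r.IsSymmetric := by
    intro e
    have h1 : rename e (LambdaOps.lam j (lamMinusOne (Finset.univ : Finset σ))) =
        LambdaOps.lam j (lamMinusOne (Finset.univ : Finset σ)) := by
      rw [hL, evalLam1_lineN]
      exact (esymmAlgHom σ ℤ d G').2 e
    have h2 : rename e (lamMinusOne (Finset.univ : Finset σ)) =
        lamMinusOne (Finset.univ : Finset σ) := by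
      rw [hY]
      exact (esymmAlgHom σ ℤ d (lamAltPoly d)).2 e
    have h3 : rename e r * lamMinusOne (Finset.univ : Finset σ) =
        r * lamMinusOne (Finset.univ : Finset σ) := by
      rw [hr, ← h1, ← hr, map_mul, h2]
    exact mul_right_cancel₀ (lamMinusOne_ne_zero _) h3
  obtain ⟨R, hR⟩ := esymmAlgHom_surjective (σ := σ) ℤ (le_of_eq hcard) ⟨r, hsymm⟩
  have hG'eq : G' = R * lamAltPoly d := by
    apply esymmAlgHom_injective (σ := σ) ℤ (le_of_eq hcard.symm)
    apply Subtype.ext
    rw [map_mul, Subalgebra.coe_mul, hR, ← hY, ← evalLam1_lineN, ← hL, ← hr]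
  rw [← evalLam1_lamAltPoly d N, hG' K hK N hN, hG'eq, map_mul]
  exact Dvd.intro_left _ rfl

/-- an isobaric polynomial of positive weight in the `Y`-variables takes values in any ideal
containing the values of the `Y`-variables -/
theorem aeval_mem_of_isobaric {K : Type*} [CommRing K] {n : ℕ} (hn : 1 ≤ n)
    (P : MvPolynomial (Fin n ⊕ Fin n) ℤ)
    (hP : IsWeightedHomogeneous (wXY n) P ((n, n) : ℕ × ℕ)) (I : Ideal K)
    (a b : Fin n → K) (hb : ∀ k, b k ∈ I) : aeval (Sum.elim a b) P ∈ I := by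
  rw [P.as_sum, map_sum]
  refine Ideal.sum_mem _ fun dd hdd => ?_
  rw [aeval_monomial]
  apply Ideal.mul_mem_left
  have hw : Finsupp.weight (wXY n) dd = ((n, n) : ℕ × ℕ) := hP (mem_support_iff.mp hdd)
  -- some `Y`-variable occurs
  have hex : ∃ k : Fin n, dd (Sum.inr k) ≠ 0 := by
    by_contra hcon
    push Not at hcon
    have h2 : (Finsupp.weight (wXY n) dd).2 = 0 := by
      rw [Finsupp.weight_apply, Finsupp.sum, Prod.snd_sum]
      refine Finset.sum_eq_zero fun v _ => ?_
      rcases v with v | v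
      · simp [wXY]
      · simp [wXY, hcon v]
    rw [hw] at h2
    simp only at h2
    omega
  obtain ⟨k, hk⟩ := hex
  rw [Finsupp.prod]
  have hmem : Sum.inr k ∈ dd.support := Finsupp.mem_support_iff.mpr hk
  rw [← Finset.mul_prod_erase _ _ hmem]
  apply Ideal.mul_mem_right
  simp only [Sum.elim_inr]
  exact Ideal.pow_mem_of_mem _ (hb k) _ (Nat.pos_of_ne_zero hk)

theorem S8691_main {K : Type u} [CommRing K] [LambdaOps K] (hK : IsSpecial K) (d : ℕ)
    (N : K) (hN : ∀ i : ℕ, d < i → LambdaOps.lam i N = 0) (p : ℕ) (hp : 1 ≤ p) (x : K) :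
    (∑ i ∈ range (d + 1), (-1 : K) ^ i * LambdaOps.lam i N) ∣
      LambdaOps.lam p (x * ∑ i ∈ range (d + 1), (-1 : K) ^ i * LambdaOps.lam i N) := by
  obtain ⟨P, hP⟩ := exists_isMulPoly p
  rw [hK.lam_mul p P hP, ← Ideal.mem_span_singleton]
  apply aeval_mem_of_isobaric hp P hP.2
  intro k
  rw [Ideal.mem_span_singleton]
  exact lamAlt_dvd_lam_lamAlt hK d N hN _ (by omega)

end main

end Groth.Agent.H43
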