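import Groth.Agent.H43.BinomPrinciple
import Groth.Agent.H43.S8691aux
import Groth.Agent.H43.FilBasic

set_option autoImplicit false
universe u v

namespace Groth.Agent.H43

open LambdaRing MvPolynomial Finset

section ext1

variable {S : Type*} [Zero S] {i : ℕ}

/-- extension by zero of a family indexed by `1, …, i` -/
def ext1 (a : Fin i → S) (k : ℕ) : S :=
  if h : 1 ≤ k ∧ k ≤ i then a ⟨k - 1, by omega⟩ else 0

theorem ext1_of_mem (a : Fin i → S) (k : ℕ) (h1 : 1 ≤ k) (h2 : k ≤ i) :
    ext1 a k = a ⟨k - 1, by omega⟩ := by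
  rw [ext1, dif_pos ⟨h1, h2⟩]

theorem ext1_zero (a : Fin i → S) : ext1 a 0 = 0 := by
  rw [ext1, dif_neg (by omega)]

theorem map_ext1 {S' : Type*} [Zero S'] {F : Type*} [FunLike F S S'] [ZeroHomClass F S S'] (f : F)
    (a : Fin i → S) (k : ℕ) : f (ext1 a k) = ext1 (fun r => f (a r)) k := by
  unfold ext1
  split_ifs
  · rfl
  · exact map_zero f

end ext1

section series

variable {A : Type*} [CommRing A]

theorem coeff_pow_congr (i : ℕ) (f g : PowerSeries A)
    (h : ∀ r ≤ i, PowerSeries.coeff r f = PowerSeries.coeff r g) (k : ℕ) :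
    ∀ r ≤ i, PowerSeries.coeff r (f ^ k) = PowerSeries.coeff r (g ^ k) := by
  induction k with
  | zero => intro r _; simp
  | succ k ih =>
    intro r hr
    rw [pow_succ, pow_succ, PowerSeries.coeff_mul, PowerSeries.coeff_mul]
    refine Finset.sum_congr rfl fun p hp => ?_
    rw [mem_antidiagonal] at hp
    rw [ih p.1 (by omega), h p.2 (by omega)]

theorem coeff_pow_eq_zero_of_lt {u : PowerSeries A} (hu : PowerSeries.constantCoeff u = 0)
    {i k : ℕ} (h : i < k) : PowerSeries.coeff i (u ^ k) = 0 := by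
  obtain ⟨v, rfl⟩ := PowerSeries.X_dvd_iff.mpr hu
  rw [mul_pow, PowerSeries.coeff_X_pow_mul', if_neg (by omega)]

end series

section poly

variable (i : ℕ)

/-- the binomial variables `C_0 = 1, C_1, …, C_i` -/
noncomputable def cvar (k : ℕ) : MvPolynomial (Fin i ⊕ Fin i) ℤ :=
  if k = 0 then 1 else ext1 (fun r : Fin i => X (Sum.inl r)) k

/-- the series `Z_1 t + ⋯ + Z_i t^i` -/
noncomputable def zser : PowerSeries (MvPolynomial (Fin i ⊕ Fin i) ℤ) :=
  PowerSeries.mk (ext1 fun r : Fin i => X (Sum.inr r))

/-- the polynomial `Σ_k C_k [t^i] (Z_1 t + ⋯ + Z_i t^i)^k` -/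
noncomputable def binomT : MvPolynomial (Fin i ⊕ Fin i) ℤ :=
  ∑ k ∈ range (i + 1), cvar i k * PowerSeries.coeff i (zser i ^ k)

theorem aeval_binomT {A : Type*} [CommRing A] (cc zz : Fin i → A) :
    aeval (Sum.elim cc zz) (binomT i) =
      ∑ k ∈ range (i + 1), (if k = 0 then 1 else ext1 cc k) *
        PowerSeries.coeff i (PowerSeries.mk (ext1 zz) ^ k) := by
  rw [binomT, map_sum]
  refine Finset.sum_congr rfl fun k _ => ?_
  rw [map_mul]
  congr 1
  · unfold cvar
    split_ifs
    · exact map_one _
    · rw [map_ext1]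
      simp
  · have : PowerSeries.map (aeval (Sum.elim cc zz) : MvPolynomial (Fin i ⊕ Fin i) ℤ →ₐ[ℤ] A).toRingHom
        (zser i) = PowerSeries.mk (ext1 zz) := by
      ext r
      rw [PowerSeries.coeff_map, zser, PowerSeries.coeff_mk, PowerSeries.coeff_mk]
      change (aeval (Sum.elim cc zz)) (ext1 (fun r : Fin i => X (Sum.inr r)) r) = _
      rw [map_ext1]
      simp
    rw [← this, ← map_pow, PowerSeries.coeff_map]
    rfl

end poly

section nat

attribute [local instance] lineLambdaOps

theorem lamSeries_natCast_mul {K : Type*} [CommRing K] [LambdaOps K] (m : ℕ) (z : K) :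
    lamSeries ((m : K) * z) = lamSeries z ^ m := by
  induction m with
  | zero => simp [lamSeries_zero]
  | succ m ih => rw [Nat.cast_succ, add_mul, one_mul, lamSeries_add, ih, pow_succ]

/-- the coefficients of `(1 + u)^m` -/
theorem coeff_one_add_pow {A : Type*} [CommRing A] {u : PowerSeries A}
    (hu : PowerSeries.constantCoeff u = 0) (m i : ℕ) :
    PowerSeries.coeff i ((1 + u) ^ m) =
      ∑ k ∈ range (i + 1), (m.choose k : A) * PowerSeries.coeff i (u ^ k) := by
  rw [add_comm, add_pow, map_sum]
  have h1 : ∀ k, PowerSeries.coeff i (u ^ k * 1 ^ (m - k) * (m.choose k : PowerSeries A)) =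
      (m.choose k : A) * PowerSeries.coeff i (u ^ k) := by
    intro k
    rw [one_pow, mul_one, mul_comm, ← map_natCast (PowerSeries.C (R := A)), PowerSeries.coeff_C_mul]
  simp only [h1]
  rw [Finset.sum_subset (Finset.range_subset_range.mpr (show m + 1 ≤ i + m + 1 by omega)),
    Finset.sum_subset (Finset.range_subset_range.mpr (show i + 1 ≤ i + m + 1 by omega))]
  · intro k _ hk
    rw [Finset.mem_range] at hk
    rw [coeff_pow_eq_zero_of_lt hu (by omega), mul_zero]
  · intro k _ hk
    rw [Finset.mem_range] at hk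
    rw [Nat.choose_eq_zero_of_lt (by omega), Nat.cast_zero, zero_mul]

theorem binom_natural (i : ℕ) (P : MvPolynomial (Fin i ⊕ Fin i) ℤ) (hP : IsMulPoly i P) (m : ℕ) :
    aeval (Sum.elim (fun k : Fin i => (C (Nat.choose m ((k : ℕ) + 1) : ℤ) : MvPolynomial (Fin i) ℤ)) X)
      (P - binomT i) = 0 := by
  apply esymmAlgHom_injective (σ := Fin i) ℤ (n := i) (by simp)
  apply Subtype.ext
  rw [map_zero, esymmAlgHom_apply, Subalgebra.coe_zero]
  have hcomp : ∀ F : MvPolynomial (Fin i ⊕ Fin i) ℤ,
      aeval (fun r : Fin i => esymm (Fin i) ℤ ((r : ℕ) + 1))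
        (aeval (Sum.elim (fun k : Fin i => (C (Nat.choose m ((k : ℕ) + 1) : ℤ) :
          MvPolynomial (Fin i) ℤ)) X) F) =
      aeval (Sum.elim (fun k : Fin i => ((Nat.choose m ((k : ℕ) + 1) : ℕ) : LineRing (Fin i)))
        (fun r : Fin i => esymm (Fin i) ℤ ((r : ℕ) + 1))) F := by
    intro F
    induction F using MvPolynomial.induction_on with
    | C a => simp
    | add p q hp hq => rw [map_add, map_add, map_add, hp, hq]
    | mul_X p j hp =>
      rw [map_mul, map_mul, map_mul, hp]
      congr 1
      rcases j with k | r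
      · simp
      · simp
  rw [hcomp, map_sub, sub_eq_zero]
  have hz : ∀ r : Fin i, esymm (Fin i) ℤ ((r : ℕ) + 1) =
      LambdaOps.lam ((r : ℕ) + 1) (lineN (Fin i)) := fun r => (lam_lineN _).symm
  have hm : ∀ k : Fin i, ((Nat.choose m ((k : ℕ) + 1) : ℕ) : LineRing (Fin i)) =
      LambdaOps.lam ((k : ℕ) + 1) ((m : ℕ) : LineRing (Fin i)) :=
    fun k => (lam_natCast isSpecial_line.lam_one_eq_zero m _).symm
  simp only [hz, hm]
  have hsp := isSpecial_line.lam_mul i P hP ((m : ℕ) : LineRing (Fin i)) (lineN (Fin i))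
  refine Eq.trans hsp.symm (Eq.trans ?_ (aeval_binomT i _ _).symm)
  rw [← coeff_lamSeries, lamSeries_natCast_mul]
  have hu : PowerSeries.constantCoeff (lamSeries (lineN (Fin i)) - 1) = 0 := by
    rw [map_sub, constantCoeff_lamSeries, map_one, sub_self]
  have h1 : lamSeries (lineN (Fin i)) = 1 + (lamSeries (lineN (Fin i)) - 1) := by ring
  rw [h1, coeff_one_add_pow hu]
  refine Finset.sum_congr rfl fun k hk => ?_
  rw [Finset.mem_range] at hk
  congr 1
  · split_ifs with h0
    · subst h0; simp
    · rw [ext1_of_mem _ k (by omega) (by omega), lam_natCast isSpecial_line.lam_one_eq_zero]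
      congr 2
      simp only
      omega
  · apply coeff_pow_congr i _ _ _ k i le_rfl
    intro r hr
    rw [PowerSeries.coeff_mk, map_sub, coeff_lamSeries, PowerSeries.coeff_one]
    by_cases hr0 : r = 0
    · subst hr0
      rw [ext1_zero, LambdaOps.lam_zero, if_pos rfl, sub_self]
    · rw [ext1_of_mem _ r (by omega) hr, if_neg hr0, sub_zero]
      congr 1
      simp only
      omega

end nat

section scalar

variable {K : Type u} [CommRing K] [LambdaOps K] [BinomialRing K]
  {A : Type v} [CommRing A] [LambdaOps A] [Algebra K A]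

/-- `λ^i(c z) = Σ_k C(c, k) [t^i] (λ_t(z) - 1)^k` for `c` in a binomial ring -/
theorem lam_smul_binom (hKb : IsBinomial K) (hA : IsSpecial A) (hAlg : IsLambdaAlg K A)
    (c : K) (z : A) (i : ℕ) :
    LambdaOps.lam i (algebraMap K A c * z) =
      ∑ k ∈ range (i + 1), algebraMap K A (Ring.choose c k) *
        PowerSeries.coeff i ((lamSeries z - 1) ^ k) := by
  obtain ⟨P, hP⟩ := exists_isMulPoly i
  have h0 := aeval_binom_eq_zero (K := K) (A := A) (P - binomT i) (binom_natural i P hP) c
    (fun r : Fin i => LambdaOps.lam ((r : ℕ) + 1) z)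
  rw [map_sub, sub_eq_zero] at h0
  rw [hA.lam_mul i P hP]
  have hc : ∀ k : Fin i, LambdaOps.lam ((k : ℕ) + 1) (algebraMap K A c) =
      algebraMap K A (Ring.choose c ((k : ℕ) + 1)) := by
    intro k
    rw [← hAlg, hKb]
  simp only [hc]
  refine Eq.trans h0 (Eq.trans (aeval_binomT i _ _) ?_)
  refine Finset.sum_congr rfl fun k hk => ?_
  rw [Finset.mem_range] at hk
  congr 1
  · split_ifs with h0
    · subst h0; simp
    · rw [ext1_of_mem _ k (by omega) (by omega)]
      congr 2
      simp only
      omega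
  · apply coeff_pow_congr i _ _ _ k i le_rfl
    intro r hr
    rw [PowerSeries.coeff_mk, map_sub, coeff_lamSeries, PowerSeries.coeff_one]
    by_cases hr0 : r = 0
    · subst hr0
      rw [ext1_zero, LambdaOps.lam_zero, if_pos rfl, sub_self]
    · rw [ext1_of_mem _ r (by omega) hr, if_neg hr0, sub_zero]
      congr 1
      simp only
      omega

omit [LambdaOps A] in
theorem coeff_mk_subst (a : ℕ → A) {w : PowerSeries A} (hw : PowerSeries.constantCoeff w = 0)
    (i : ℕ) :
    PowerSeries.coeff i ((PowerSeries.mk a).subst w) =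
      ∑ k ∈ range (i + 1), a k * PowerSeries.coeff i (w ^ k) := by
  rw [PowerSeries.coeff_subst' (PowerSeries.HasSubst.of_constantCoeff_zero' hw),
    finsum_eq_sum_of_support_subset (s := range (i + 1))]
  · simp [PowerSeries.coeff_mk, smul_eq_mul]
  · intro d hd
    rw [Function.mem_support] at hd
    rw [Finset.coe_range, Set.mem_Iio]
    by_contra hlt
    apply hd
    rw [coeff_pow_eq_zero_of_lt hw (by omega), smul_zero]

theorem lamSeries_smul_binom (hKb : IsBinomial K) (hA : IsSpecial A) (hAlg : IsLambdaAlg K A)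
    (c : K) (z : A) :
    lamSeries (algebraMap K A c * z) =
      (PowerSeries.mk fun k => algebraMap K A (Ring.choose c k)).subst (lamSeries z - 1) := by
  have hu : PowerSeries.constantCoeff (lamSeries z - 1) = 0 := by
    rw [map_sub, constantCoeff_lamSeries, map_one, sub_self]
  ext i
  rw [coeff_lamSeries, lam_smul_binom hKb hA hAlg, coeff_mk_subst _ hu]

theorem gammaSeries_smul_binom (hKb : IsBinomial K) (hA : IsSpecial A) (hAlg : IsLambdaAlg K A)
    (c : K) (z : A) :
    gammaSeries (algebraMap K A c * z) =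
      (PowerSeries.mk fun k => algebraMap K A (Ring.choose c k)).subst (gammaSeries z - 1) := by
  have hu : PowerSeries.constantCoeff (lamSeries z - 1) = 0 := by
    rw [map_sub, constantCoeff_lamSeries, map_one, sub_self]
  rw [gammaSeries_eq_subst, lamSeries_smul_binom hKb hA hAlg,
    PowerSeries.subst_comp_subst_apply (PowerSeries.HasSubst.of_constantCoeff_zero' hu)
      hasSubst_uSer,
    PowerSeries.subst_sub hasSubst_uSer, ← gammaSeries_eq_subst]
  congr 2
  rw [← PowerSeries.coe_substAlgHom hasSubst_uSer, map_one]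

theorem gamma_smul_binom (hKb : IsBinomial K) (hA : IsSpecial A) (hAlg : IsLambdaAlg K A)
    (c : K) (z : A) (i : ℕ) :
    gamma i (algebraMap K A c * z) =
      ∑ k ∈ range (i + 1), algebraMap K A (Ring.choose c k) *
        PowerSeries.coeff i ((gammaSeries z - 1) ^ k) := by
  have hu : PowerSeries.constantCoeff (gammaSeries z - 1) = 0 := by
    rw [map_sub, constantCoeff_gammaSeries, map_one, sub_self]
  rw [← coeff_gammaSeries, gammaSeries_smul_binom hKb hA hAlg, coeff_mk_subst _ hu]

/-- the good elements for a multiplicative filtration by ideals are stable under the scalars of a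
binomial ring -/
theorem gammaGood_smul_binom (hKb : IsBinomial K) (hA : IsSpecial A) (hAlg : IsLambdaAlg K A)
    {M : ℕ → Ideal A} (hM : MulFil (K := A) (A := A) M) (c : K) {z : A}
    (hz : z ∈ gammaGood (K := A) M) : algebraMap K A c * z ∈ gammaGood (K := A) M := by
  intro i
  rw [gamma_smul_binom hKb hA hAlg]
  have hpow : ∀ k j : ℕ, PowerSeries.coeff j ((gammaSeries z - 1) ^ k) ∈ M j := by
    intro k
    induction k with
    | zero =>
      intro j
      rw [pow_zero, PowerSeries.coeff_one]
      split_ifs with h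
      · subst h; exact hM.one_mem
      · exact zero_mem _
    | succ k ih =>
      intro j
      rw [pow_succ, PowerSeries.coeff_mul]
      refine Ideal.sum_mem _ fun p hp => ?_
      rw [mem_antidiagonal] at hp
      rw [← hp]
      refine hM.mul_mem _ _ _ _ (ih p.1) ?_
      rw [map_sub, coeff_gammaSeries, PowerSeries.coeff_one]
      split_ifs with h
      · rw [h, gamma_zero, sub_self]; exact zero_mem _
      · rw [sub_zero]; exact hz p.2
  exact Ideal.sum_mem _ fun k _ => Ideal.mul_mem_left _ _ (hpow k i)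

end scalar

end Groth.Agent.H43
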