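import Groth.Agent.H43.Special

set_option autoImplicit false
universe u

namespace Groth.Agent.H43

open LambdaRing PowerSeries Finset

variable {K : Type u} [CommRing K] [LambdaOps K]

omit [LambdaOps K] in
theorem mk_neg_one_pow_mul : (PowerSeries.mk fun k => (-1 : K) ^ k) * (1 + X) = 1 := by
  ext n
  rw [mul_add, mul_one, map_add, coeff_mk]
  match n with
  | 0 => simp
  | (n + 1) => simp [coeff_succ_mul_X, pow_succ]

theorem binomial_deriv [BinomialRing K] (hKb : IsBinomial K) (x : K) :
    derivative K (lamSeries x) * (1 + X) = C x * lamSeries x := by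
  ext n
  rw [mul_add, mul_one, map_add, coeff_C_mul, coeff_lamSeries, hKb, coeff_derivative,
    coeff_lamSeries, hKb]
  have key : ((n + 1 : ℕ) : K) * Ring.choose x (n + 1) = Ring.choose x n * (x - n) := by
    have := Ring.choose_smul_choose x (Nat.le_succ n)
    rw [Nat.choose_succ_self_right, Nat.succ_sub (le_refl n), Nat.sub_self,
      Ring.choose_one_right, nsmul_eq_mul] at this
    exact this
  match n with
  | 0 =>
    simp
  | (n + 1) =>
    rw [coeff_succ_mul_X, coeff_derivative, coeff_lamSeries, hKb]
    have key' := key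
    push_cast at key' ⊢
    rw [mul_comm, key']
    ring

theorem logDerivSeries_of_binomial [BinomialRing K] (hKb : IsBinomial K) (x : K) :
    logDerivSeries x = C x * PowerSeries.mk fun k => (-1 : K) ^ k := by
  apply logDerivSeries_eq_of_mul
  have h := binomial_deriv hKb x
  have : derivative K (lamSeries x) =
      derivative K (lamSeries x) * (1 + X) * (PowerSeries.mk fun k => (-1 : K) ^ k) := by
    rw [mul_assoc, mul_comm (1 + X), mk_neg_one_pow_mul, mul_one]
  rw [this, h]
  ring

theorem adamsOp_of_binomial [BinomialRing K] (hKb : IsBinomial K) (k : ℕ) (hk : 1 ≤ k) (x : K) :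
    adamsOp k x = x := by
  obtain ⟨k, rfl⟩ := Nat.exists_eq_add_of_le' hk
  rw [adamsOp_succ, logDerivSeries_of_binomial hKb, coeff_C_mul, coeff_mk, mul_left_comm,
    ← pow_add, ← two_mul, pow_mul]
  simp

theorem isSpecial_of_binomial [BinomialRing K] (hKb : IsBinomial K) : IsSpecial K := by
  have : IsAddTorsionFree K := BinomialRing.toIsAddTorsionFree
  apply isSpecial_of_adams
  · intro k hk; exact adamsOp_of_binomial hKb k hk 1
  · intro k hk x y
    rw [adamsOp_of_binomial hKb k hk, adamsOp_of_binomial hKb k hk, adamsOp_of_binomial hKb k hk]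
  · intro k k' hk hk' x
    rw [adamsOp_of_binomial hKb k' hk', adamsOp_of_binomial hKb k hk,
      adamsOp_of_binomial hKb (k * k') (Nat.mul_pos hk hk')]

end Groth.Agent.H43
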