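import Groth.Agent.H43.CechPts

/-!
# Čech cohomology of cofree presheaves vanishes

For a presheaf `Q` of abelian groups on a small category, the cofree presheaf
`cofree Q : V ↦ ∏_{W → V} Q(W)` receives a monomorphism from `Q`, and its Čech complex with respect
to any family `Y : ι → Over X` is exact in positive degrees.  (helper43)
-/

set_option autoImplicit false
universe u
open CategoryTheory Limits Opposite Simplicial

namespace Groth.Agent.H43.CechContract

open CechPts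

variable {C : Type u} [SmallCategory C]

/-! ### The cofree presheaf -/

/-- the cofree presheaf on the family of groups `Q(W)` -/
def cofree (Q : Cᵒᵖ ⥤ AddCommGrpCat.{u}) : Cᵒᵖ ⥤ AddCommGrpCat.{u} where
  obj V := AddCommGrpCat.of (∀ p : (Σ W : C, (W ⟶ V.unop)), Q.obj (op p.1))
  map {V V'} h := AddCommGrpCat.ofHom
    { toFun := fun c p => c ⟨p.1, p.2 ≫ h.unop⟩
      map_zero' := rfl
      map_add' := fun _ _ => rfl }
  map_id V := by
    ext c p
    change c ⟨p.1, p.2 ≫ 𝟙 _⟩ = c p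
    rw [Category.comp_id]
  map_comp {V V' V''} h h' := by
    ext c p
    change c ⟨p.1, p.2 ≫ h'.unop ≫ h.unop⟩ = c ⟨p.1, (p.2 ≫ h'.unop) ≫ h.unop⟩
    rw [Category.assoc]

lemma cofree_map_apply (Q : Cᵒᵖ ⥤ AddCommGrpCat.{u}) {V V' : Cᵒᵖ} (h : V ⟶ V')
    (c : (cofree Q).obj V) (p : Σ W : C, (W ⟶ V'.unop)) :
    ((cofree Q).map h).hom c p = c ⟨p.1, p.2 ≫ h.unop⟩ := rfl

/-- the canonical map to the cofree presheaf -/
def η (Q : Cᵒᵖ ⥤ AddCommGrpCat.{u}) : Q ⟶ cofree Q where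
  app V := AddCommGrpCat.ofHom
    { toFun := fun s p => (Q.map p.2.op).hom s
      map_zero' := by funext p; exact map_zero _
      map_add' := fun s s' => by funext p; exact map_add _ s s' }
  naturality V V' h := by
    ext s
    funext p
    change (Q.map p.2.op).hom ((Q.map h).hom s) = (Q.map (p.2 ≫ h.unop).op).hom s
    rw [op_comp, Quiver.Hom.op_unop, Q.map_comp]
    rfl

lemma η_app_injective (Q : Cᵒᵖ ⥤ AddCommGrpCat.{u}) (V : Cᵒᵖ) :
    Function.Injective ((η Q).app V).hom := by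
  intro s s' h
  have := congrFun h ⟨V.unop, 𝟙 _⟩
  change (Q.map (𝟙 V.unop).op).hom s = (Q.map (𝟙 V.unop).op).hom s' at this
  simpa using this

instance (Q : Cᵒᵖ ⥤ AddCommGrpCat.{u}) : Mono (η Q) := by
  rw [NatTrans.mono_iff_mono_app]
  intro V
  rw [AddCommGrpCat.mono_iff_injective]
  exact η_app_injective Q V

/-! ### The Čech cosimplicial group -/

variable {X : C} [HasFiniteProducts (Over X)] {ι : Type u} (Y : ι → Over X)

/-- the Čech cosimplicial abelian group of a presheaf -/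
noncomputable abbrev Ξ (P : Cᵒᵖ ⥤ AddCommGrpCat.{u}) : CosimplicialObject AddCommGrpCat.{u} :=
  (FormalCoproduct.cosimplicialObjectFunctor (FormalCoproduct.mk _ Y).cech).obj
    ((Over.forget X).op ⋙ P)

lemma Ξ_map_π (P : Cᵒᵖ ⥤ AddCommGrpCat.{u}) {n m : ℕ} (θ : (⦋m⦌ : SimplexCategory) ⟶ ⦋n⦌)
    (x : Fin (n + 1) → ι) :
    (Ξ Y P).map θ ≫ Pi.π _ x =
      Pi.π (fun x' : Fin (m + 1) → ι => P.obj (op (∏ᶜ (Y ∘ x')).left)) (x ∘ θ.toOrderHom) ≫
      P.map (Pi.lift (fun a => Pi.π (Y ∘ x) (θ.toOrderHom a)) :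
        ∏ᶜ (Y ∘ x) ⟶ ∏ᶜ (Y ∘ (x ∘ θ.toOrderHom))).left.op :=
  Pi.lift_π _ _

variable (Q : Cᵒᵖ ⥤ AddCommGrpCat.{u})

/-- global evaluation of a Čech cochain of the cofree presheaf -/
noncomputable def ev {n : ℕ} (c : (Ξ Y (cofree Q)).obj ⦋n⦌) (W : C) (p : A Y (Fin (n + 1)) W) :
    Q.obj (op W) :=
  ((Pi.π (fun x : Fin (n + 1) → ι => (cofree Q).obj (op (∏ᶜ (Y ∘ x)).left)) p.1).hom c) ⟨W, p.2⟩

lemma ev_injective {n : ℕ} (c c' : (Ξ Y (cofree Q)).obj ⦋n⦌)
    (h : ∀ W p, ev Y Q c W p = ev Y Q c' W p) : c = c' := by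
  apply (Concrete.productEquiv
    (fun x : Fin (n + 1) → ι => (cofree Q).obj (op (∏ᶜ (Y ∘ x)).left))).injective
  funext x
  rw [Concrete.productEquiv_apply_apply, Concrete.productEquiv_apply_apply]
  funext p
  exact h p.1 ⟨x, p.2⟩

lemma ev_map {n m : ℕ} (θ : (⦋m⦌ : SimplexCategory) ⟶ ⦋n⦌) (c : (Ξ Y (cofree Q)).obj ⦋m⦌)
    (W : C) (p : A Y (Fin (n + 1)) W) :
    ev Y Q (((Ξ Y (cofree Q)).map θ).hom c) W p = ev Y Q c W (p.reindex θ.toOrderHom) := by
  obtain ⟨x, g⟩ := p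
  have := ConcreteCategory.congr_hom (Ξ_map_π Y (cofree Q) θ x) c
  exact congrFun this ⟨W, g⟩


lemma ev_zero {n : ℕ} (W : C) (p : A Y (Fin (n + 1)) W) :
    ev Y Q (0 : (Ξ Y (cofree Q)).obj ⦋n⦌) W p = 0 := by
  obtain ⟨x, g⟩ := p
  exact congrFun (map_zero
    (Pi.π (fun x : Fin (n + 1) → ι => (cofree Q).obj (op (∏ᶜ (Y ∘ x)).left)) x).hom) ⟨W, g⟩

lemma ev_add {n : ℕ} (c c' : (Ξ Y (cofree Q)).obj ⦋n⦌) (W : C) (p : A Y (Fin (n + 1)) W) :
    ev Y Q (c + c') W p = ev Y Q c W p + ev Y Q c' W p := by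
  obtain ⟨x, g⟩ := p
  exact congrFun (map_add
    (Pi.π (fun x : Fin (n + 1) → ι => (cofree Q).obj (op (∏ᶜ (Y ∘ x)).left)) x).hom c c') ⟨W, g⟩

/-- the extra degeneracy on product points -/
noncomputable def A.extra {n : ℕ} {W : C} (p : A Y (Fin (n + 1)) W) : A Y (Fin (n + 2)) W :=
  toA (toB p).extra

lemma reindex_zero_extra {n : ℕ} {W : C} (p : A Y (Fin (n + 1)) W) :
    (A.extra Y p).reindex (Fin.succAbove 0) = p := by
  apply toB_injective
  rw [toB_reindex, A.extra, toB_toA, B.reindex_zero_extra]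

lemma reindex_succ_extra {n : ℕ} {W : C} (p : A Y (Fin (n + 2)) W) (i : Fin (n + 2)) :
    (A.extra Y p).reindex (Fin.succAbove i.succ) = A.extra Y (p.reindex (Fin.succAbove i)) := by
  apply toB_injective
  rw [toB_reindex, A.extra, toB_toA, B.reindex_succ_extra, A.extra, toB_toA, toB_reindex]

/-- the extra codegeneracy of the Čech cosimplicial group of a cofree presheaf -/
noncomputable def S (n : ℕ) : (Ξ Y (cofree Q)).obj ⦋n + 1⦌ ⟶ (Ξ Y (cofree Q)).obj ⦋n⦌ :=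
  Pi.lift (fun x => AddCommGrpCat.ofHom
    { toFun := fun c p => ev Y Q c p.1 (A.extra Y ⟨x, p.2⟩)
      map_zero' := by
        funext p
        exact ev_zero Y Q _ _
      map_add' := fun c c' => by
        funext p
        exact ev_add Y Q c c' _ _ })

lemma ev_S {n : ℕ} (c : (Ξ Y (cofree Q)).obj ⦋n + 1⦌) (W : C) (p : A Y (Fin (n + 1)) W) :
    ev Y Q ((S Y Q n).hom c) W p = ev Y Q c W (A.extra Y p) := by
  obtain ⟨x, g⟩ := p
  have := ConcreteCategory.congr_hom (Pi.lift_π (fun x => AddCommGrpCat.ofHom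
    { toFun := fun (c : (Ξ Y (cofree Q)).obj ⦋n + 1⦌) (p : Σ W : C, (W ⟶ (∏ᶜ (Y ∘ x)).left)) =>
        ev Y Q c p.1 (A.extra Y ⟨x, p.2⟩)
      map_zero' := by
        funext p
        exact ev_zero Y Q _ _
      map_add' := fun c c' => by
        funext p
        exact ev_add Y Q c c' _ _ }) x) c
  exact congrFun this ⟨W, g⟩

lemma δ_zero_S (n : ℕ) : (Ξ Y (cofree Q)).δ 0 ≫ S Y Q n = 𝟙 _ := by
  ext c
  apply ev_injective
  intro W p
  change ev Y Q ((S Y Q n).hom (((Ξ Y (cofree Q)).map (SimplexCategory.δ 0)).hom c)) W p = ev Y Q c W p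
  rw [ev_S, ev_map]
  exact congrArg _ (reindex_zero_extra Y p)

lemma δ_succ_S (n : ℕ) (i : Fin (n + 2)) :
    (Ξ Y (cofree Q)).δ i.succ ≫ S Y Q (n + 1) = S Y Q n ≫ (Ξ Y (cofree Q)).δ i := by
  ext c
  apply ev_injective
  intro W p
  change ev Y Q ((S Y Q (n + 1)).hom (((Ξ Y (cofree Q)).map (SimplexCategory.δ i.succ)).hom c)) W p =
    ev Y Q (((Ξ Y (cofree Q)).map (SimplexCategory.δ i)).hom ((S Y Q n).hom c)) W p
  rw [ev_S, ev_map, ev_map, ev_S]
  exact congrArg _ (reindex_succ_extra Y p i)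


section Contraction

open AlgebraicTopology

variable {𝒜 : Type*} [Category 𝒜] [Preadditive 𝒜] (Z : CosimplicialObject 𝒜)
  (s : ∀ n : ℕ, Z.obj ⦋n + 1⦌ ⟶ Z.obj ⦋n⦌)

include s in
lemma objD_comp_s (h0 : ∀ n, Z.δ (0 : Fin (n + 2)) ≫ s n = 𝟙 _)
    (hs : ∀ n (i : Fin (n + 2)), Z.δ i.succ ≫ s (n + 1) = s n ≫ Z.δ i) (n : ℕ) :
    AlternatingCofaceMapComplex.objD Z (n + 1) ≫ s (n + 1) +
      s n ≫ AlternatingCofaceMapComplex.objD Z n = 𝟙 _ := by
  dsimp only [AlternatingCofaceMapComplex.objD]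
  rw [Fin.sum_univ_succ, Preadditive.add_comp, Preadditive.sum_comp, Preadditive.comp_sum,
    Fin.val_zero, pow_zero, one_smul, h0]
  have : ∀ i : Fin (n + 2), ((-1 : ℤ) ^ (i.succ : ℕ) • Z.δ i.succ) ≫ s (n + 1) =
      - (s n ≫ ((-1 : ℤ) ^ (i : ℕ) • Z.δ i)) := fun i => by
    rw [Preadditive.zsmul_comp, Preadditive.comp_zsmul, hs, Fin.val_succ, pow_succ, mul_neg,
      mul_one, neg_smul]
  rw [Finset.sum_congr rfl (fun i _ => this i), Finset.sum_neg_distrib]
  abel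

end Contraction

/-- A cosimplicial abelian group with an extra codegeneracy has vanishing cohomology in
positive degrees. -/
theorem isZero_homology_of_contraction (Z : CosimplicialObject AddCommGrpCat.{u})
    (s : ∀ n : ℕ, Z.obj ⦋n + 1⦌ ⟶ Z.obj ⦋n⦌)
    (h0 : ∀ n, Z.δ (0 : Fin (n + 2)) ≫ s n = 𝟙 _)
    (hs : ∀ n (i : Fin (n + 2)), Z.δ i.succ ≫ s (n + 1) = s n ≫ Z.δ i) (n : ℕ) :
    IsZero (((AlgebraicTopology.alternatingCofaceMapComplex AddCommGrpCat.{u}).obj Z).homology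
      (n + 1)) := by
  rw [← HomologicalComplex.exactAt_iff_isZero_homology,
    HomologicalComplex.exactAt_iff' _ n (n + 1) (n + 2) (by simp) (by simp),
    ShortComplex.ab_exact_iff]
  intro x hx
  have key := objD_comp_s Z s h0 hs n
  have hd1 : ((AlgebraicTopology.alternatingCofaceMapComplex AddCommGrpCat.{u}).obj Z).d
      (n + 1) (n + 2) = AlgebraicTopology.AlternatingCofaceMapComplex.objD Z (n + 1) :=
    CochainComplex.of_d (fun n => Z.obj ⦋n⦌)
      (AlgebraicTopology.AlternatingCofaceMapComplex.objD Z) (n + 1)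
  have hd0 : ((AlgebraicTopology.alternatingCofaceMapComplex AddCommGrpCat.{u}).obj Z).d
      n (n + 1) = AlgebraicTopology.AlternatingCofaceMapComplex.objD Z n :=
    CochainComplex.of_d (fun n => Z.obj ⦋n⦌)
      (AlgebraicTopology.AlternatingCofaceMapComplex.objD Z) n
  have hx' : (AlgebraicTopology.AlternatingCofaceMapComplex.objD Z (n + 1)).hom x = 0 := by
    rw [← hd1]; exact hx
  refine ⟨(s n).hom x, ?_⟩
  change (((AlgebraicTopology.alternatingCofaceMapComplex AddCommGrpCat.{u}).obj Z).d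
      n (n + 1)).hom ((s n).hom x) = x
  rw [hd0]
  have h1 := ConcreteCategory.congr_hom key x
  simp only [AddCommGrpCat.hom_add, AddCommGrpCat.hom_comp, AddMonoidHom.add_apply,
    AddMonoidHom.coe_comp, Function.comp_apply, AddCommGrpCat.hom_id, AddMonoidHom.id_apply] at h1
  rw [hx', map_zero, zero_add] at h1
  exact h1

/-- The Čech complex of a cofree presheaf is exact in positive degrees. -/
theorem isZero_homology_cofree (n : ℕ) :
    IsZero (((cechComplexFunctor Y).obj ((Over.forget X).op ⋙ cofree Q)).homology (n + 1)) :=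
  isZero_homology_of_contraction (Ξ Y (cofree Q)) (S Y Q) (δ_zero_S Y Q) (δ_succ_S Y Q) n

end Groth.Agent.H43.CechContract
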