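import Mathlib.CategoryTheory.Limits.FormalCoproducts.Cech
import Mathlib.AlgebraicTopology.SimplicialObject.Homotopy
import Mathlib.Tactic

/-!
# Any two morphisms of formal coproducts induce homotopic maps of Čech objects

(helper43)
-/

set_option autoImplicit false
universe w v u
open CategoryTheory Limits Simplicial Opposite

namespace Groth.Agent.H43.CechHomotopy

open FormalCoproduct

variable {C : Type u} [Category.{v} C] {U V : FormalCoproduct.{w} C} (f g : U ⟶ V)

section Mix

variable {α β γ : Type} [HasProductsOfShape α C] [HasProductsOfShape β C]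
  [HasProductsOfShape γ C]

/-- the morphism `U.power α ⟶ V.power β` whose `b`-th component is the `θ b`-th projection
followed by `f` or `g` according to `c b` -/
noncomputable def mix (θ : β → α) (c : β → Bool) : U.power α ⟶ V.power β :=
  Fan.IsLimit.lift (V.isLimitPowerFan β) (fun b => U.powerπ (θ b) ≫ (if c b then f else g))

@[reassoc (attr := simp)]
lemma mix_π (θ : β → α) (c : β → Bool) (b : β) :
    mix f g θ c ≫ V.powerπ b = U.powerπ (θ b) ≫ (if c b then f else g) :=
  Fan.IsLimit.fac (V.isLimitPowerFan β) _ b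

lemma hom_ext_power {W : FormalCoproduct.{w} C} {a b : W ⟶ V.power β}
    (h : ∀ k, a ≫ V.powerπ k = b ≫ V.powerπ k) : a = b :=
  Fan.IsLimit.hom_ext (V.isLimitPowerFan β) _ _ h

lemma mix_mapPower (θ : β → α) (c : β → Bool) (ψ : γ → β) :
    mix f g θ c ≫ V.mapPower ψ = mix f g (θ ∘ ψ) (c ∘ ψ) := by
  apply hom_ext_power
  intro k
  rw [Category.assoc, mapPower_π, mix_π, mix_π]
  rfl

lemma mapPower_mix (ψ : β → α) (θ : γ → β) (c : γ → Bool) :
    U.mapPower ψ ≫ mix f g θ c = mix f g (ψ ∘ θ) c := by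
  apply hom_ext_power
  intro k
  rw [Category.assoc, mix_π, mix_π, mapPower_π_assoc]
  rfl

lemma powerMap_π (k : α) : powerMap f α ≫ V.powerπ k = U.powerπ k ≫ f := by
  refine FormalCoproduct.hom_ext rfl (fun i => ?_)
  simp only [category_comp_φ, powerMap_φ, powerπ_φ]
  exact (Category.comp_id _).trans (Pi.map_π (fun a => f.φ (i a)) k)

lemma powerMap_eq_mix_true : powerMap f α = mix f g id (fun _ => true) := by
  apply hom_ext_power
  intro k
  rw [mix_π, powerMap_π]
  rfl

lemma powerMap_eq_mix_false : powerMap g α = mix f g id (fun _ => false) := by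
  apply hom_ext_power
  intro k
  rw [mix_π, powerMap_π]
  rfl

lemma mix_congr {θ θ' : β → α} {c c' : β → Bool} (hθ : ∀ b, θ b = θ' b) (hc : ∀ b, c b = c' b) :
    mix f g θ c = mix f g θ' c' := by
  rw [funext hθ, funext hc]

end Mix

section Homotopy

variable [HasFiniteProducts C]

/-- the homotopy operators -/
noncomputable def hh {n : ℕ} (i : Fin (n + 1)) :
    (cechFunctor.obj U) _⦋n⦌ ⟶ (cechFunctor.obj V) _⦋n + 1⦌ :=
  mix f g (α := Fin (n + 1)) (β := Fin (n + 2)) (Fin.predAbove i)
    (fun k => decide (k ≤ i.castSucc))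

lemma cech_δ {n : ℕ} (i : Fin (n + 2)) :
    (cechFunctor.obj U).δ i = U.mapPower (α := Fin (n + 1)) (β := Fin (n + 2)) (Fin.succAbove i) :=
  rfl

lemma cech_σ {n : ℕ} (i : Fin (n + 1)) :
    (cechFunctor.obj U).σ i = U.mapPower (α := Fin (n + 2)) (β := Fin (n + 1)) (Fin.predAbove i) :=
  rfl

lemma cech_app_f (n : ℕ) :
    (cechFunctor.map f).app (op ⦋n⦌) = powerMap f (Fin (n + 1)) := rfl

lemma succAbove_val' {n : ℕ} (p : Fin (n + 1)) (i : Fin n) :
    (p.succAbove i).val = if i.val < p.val then i.val else i.val + 1 := by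
  unfold Fin.succAbove
  split_ifs with h1 h2 h2
  · rfl
  · exact absurd (Fin.lt_def.1 h1) h2
  · exact absurd (Fin.lt_def.2 h2) h1
  · rfl

lemma predAbove_val' {n : ℕ} (p : Fin n) (i : Fin (n + 1)) :
    (p.predAbove i).val = if p.val < i.val then i.val - 1 else i.val := by
  unfold Fin.predAbove
  split_ifs with h1 h2 h2
  · rfl
  · exact absurd (Fin.lt_def.1 h1) h2
  · exact absurd (Fin.lt_def.2 h2) h1
  · rfl

/-- the colouring of the `i`-th homotopy operator -/
def col {n : ℕ} (i : Fin (n + 1)) (k : Fin (n + 2)) : Bool := decide (k ≤ i.castSucc)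

lemma hh_eq {n : ℕ} (i : Fin (n + 1)) :
    hh f g i = mix f g (α := Fin (n + 1)) (β := Fin (n + 2)) (Fin.predAbove i) (col i) := rfl

lemma hh_δ {n : ℕ} (i : Fin (n + 1)) (a : Fin (n + 2)) :
    hh f g i ≫ (cechFunctor.obj V).δ a =
      mix f g (α := Fin (n + 1)) (β := Fin (n + 1)) (Fin.predAbove i ∘ Fin.succAbove a)
        (col i ∘ Fin.succAbove a) :=
  mix_mapPower f g (α := Fin (n + 1)) (β := Fin (n + 2)) (γ := Fin (n + 1)) _ _ _

lemma hh_σ {n : ℕ} (i : Fin (n + 1)) (a : Fin (n + 2)) :
    hh f g i ≫ (cechFunctor.obj V).σ a =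
      mix f g (α := Fin (n + 1)) (β := Fin (n + 3)) (Fin.predAbove i ∘ Fin.predAbove a)
        (col i ∘ Fin.predAbove a) :=
  mix_mapPower f g (α := Fin (n + 1)) (β := Fin (n + 2)) (γ := Fin (n + 3)) _ _ _

lemma δ_hh {n : ℕ} (a : Fin (n + 2)) (i : Fin (n + 1)) :
    (cechFunctor.obj U).δ a ≫ hh f g i =
      mix f g (α := Fin (n + 2)) (β := Fin (n + 2)) (Fin.succAbove a ∘ Fin.predAbove i) (col i) :=
  mapPower_mix f g (α := Fin (n + 2)) (β := Fin (n + 1)) (γ := Fin (n + 2)) _ _ _

lemma σ_hh {n : ℕ} (a : Fin (n + 1)) (i : Fin (n + 2)) :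
    (cechFunctor.obj U).σ a ≫ hh f g i =
      mix f g (α := Fin (n + 1)) (β := Fin (n + 3)) (Fin.predAbove a ∘ Fin.predAbove i) (col i) :=
  mapPower_mix f g (α := Fin (n + 1)) (β := Fin (n + 2)) (γ := Fin (n + 3)) _ _ _

/-- arithmetic in `Fin` by reduction to `ℕ` -/
macro "fin_tac" : tactic => `(tactic| (
  simp only [Function.comp, id, col, succAbove_val', predAbove_val', Fin.val_castSucc, Fin.val_succ,
    Fin.val_zero, Fin.val_last, Fin.le_def, Fin.lt_def, Fin.ext_iff, decide_eq_decide,
    decide_eq_false_iff_not, decide_eq_true_eq] at *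
  split_ifs <;> omega))

/-- any two morphisms of formal coproducts induce homotopic morphisms of Čech objects -/
noncomputable def homotopy :
    SimplicialObject.Homotopy (cechFunctor.map f) (cechFunctor.map g) where
  h i := hh f g i
  h_zero_comp_δ_zero n := by
    refine (hh_δ f g _ _).trans (Eq.trans (mix_congr f g ?_ ?_) (powerMap_eq_mix_false f g).symm)
    · intro k
      fin_tac
    · intro k
      fin_tac
  h_last_comp_δ_last n := by
    refine (hh_δ f g _ _).trans (Eq.trans (mix_congr f g ?_ ?_) (powerMap_eq_mix_true f g).symm)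
    · intro k
      fin_tac
    · intro k
      fin_tac
  h_succ_comp_δ_castSucc_of_lt i j hij := by
    refine (hh_δ f g _ _).trans (Eq.trans (mix_congr f g ?_ ?_) (δ_hh f g _ _).symm)
    · intro k
      fin_tac
    · intro k
      fin_tac
  h_succ_comp_δ_castSucc_succ j := by
    refine (hh_δ f g _ _).trans (Eq.trans (mix_congr f g ?_ ?_) (hh_δ f g _ _).symm)
    · intro k
      fin_tac
    · intro k
      fin_tac
  h_castSucc_comp_δ_succ_of_lt i j hji := by
    refine (hh_δ f g _ _).trans (Eq.trans (mix_congr f g ?_ ?_) (δ_hh f g _ _).symm)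
    · intro k
      fin_tac
    · intro k
      fin_tac
  h_comp_σ_castSucc_of_le i j hij := by
    refine (hh_σ f g _ _).trans (Eq.trans (mix_congr f g ?_ ?_) (σ_hh f g _ _).symm)
    · intro k
      fin_tac
    · intro k
      fin_tac
  h_comp_σ_succ_of_lt i j hji := by
    refine (hh_σ f g _ _).trans (Eq.trans (mix_congr f g ?_ ?_) (σ_hh f g _ _).symm)
    · intro k
      fin_tac
    · intro k
      fin_tac

end Homotopy

end Groth.Agent.H43.CechHomotopy
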