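import Mathlib

/-!
# Points of the Čech nerve of a family in an over category

For a family `Y : ι → Over X` in a category with finite products in `Over X`, a `W`-valued
point of `∏ᶜ (Y ∘ x)` (`x : T → ι`) is a morphism `f : W ⟶ X` together with a `T`-tuple of
`W`-points of the `Y i` lying over `f`.  (helper43)
-/

set_option autoImplicit false
universe u v w
open CategoryTheory Limits Opposite

namespace Groth.Agent.H43.CechPts

variable {C : Type u} [Category.{v} C] {X : C} [HasFiniteProducts (Over X)] {ι : Type w}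
  (Y : ι → Over X)

/-- `W`-points of the `T`-fold products of the family -/
abbrev A (T : Type) [Finite T] (W : C) : Type (max v w) :=
  Σ x : T → ι, (W ⟶ (∏ᶜ (Y ∘ x)).left)

/-- `W`-points of the family lying over a map to `X` -/
def Pt (W : C) : Type (max v w) := Σ i : ι, (W ⟶ (Y i).left)

variable {Y} in
/-- the structure map of a point -/
def Pt.str {W : C} (p : Pt Y W) : W ⟶ X := p.2 ≫ (Y p.1).hom

/-- tuples of points over a common map -/
def B (T : Type) (W : C) : Type (max v w) :=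
  { p : (W ⟶ X) × (T → Pt Y W) // ∀ a, (p.2 a).str = p.1 }

variable {Y}

omit [HasFiniteProducts (Over X)] in
@[ext]
lemma B.ext {T : Type} {W : C} {p q : B Y T W} (h₁ : p.1.1 = q.1.1) (h₂ : p.1.2 = q.1.2) :
    p = q := Subtype.ext (Prod.ext h₁ h₂)

/-- from product points to tuples -/
noncomputable def toB {T : Type} [Finite T] {W : C} (p : A Y T W) : B Y T W :=
  ⟨(p.2 ≫ (∏ᶜ (Y ∘ p.1)).hom, fun a => ⟨p.1 a, p.2 ≫ (Pi.π (Y ∘ p.1) a).left⟩), fun a => by
    dsimp [Pt.str]
    rw [Category.assoc]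
    congr 1
    exact Over.w (Pi.π (Y ∘ p.1) a)⟩

/-- from tuples to product points -/
noncomputable def toA {T : Type} [Finite T] {W : C} (p : B Y T W) : A Y T W :=
  ⟨fun a => (p.1.2 a).1,
    (Pi.lift (fun a => (Over.homMk (p.1.2 a).2 (p.2 a) : Over.mk p.1.1 ⟶ Y (p.1.2 a).1)) :
      Over.mk p.1.1 ⟶ ∏ᶜ (Y ∘ fun a => (p.1.2 a).1)).left⟩

lemma toB_toA {T : Type} [Finite T] {W : C} (p : B Y T W) : toB (toA p) = p := by
  obtain ⟨⟨f, t⟩, ht⟩ := p
  ext
  · exact Over.w (Pi.lift (fun a => (Over.homMk (t a).2 (ht a) : Over.mk f ⟶ Y (t a).1)) :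
      Over.mk f ⟶ ∏ᶜ (Y ∘ fun a => (t a).1))
  · rename_i a
    dsimp [toB, toA]
    refine Sigma.ext rfl (heq_of_eq ?_)
    dsimp
    rw [← Over.comp_left, Pi.lift_π]
    rfl

lemma toA_toB {T : Type} [Finite T] {W : C} (p : A Y T W) : toA (toB p) = p := by
  obtain ⟨x, g⟩ := p
  dsimp [toB, toA]
  refine Sigma.ext rfl (heq_of_eq ?_)
  dsimp
  have : (Pi.lift (fun a => (Over.homMk (g ≫ (Pi.π (Y ∘ x) a).left)
      (by rw [Category.assoc]; congr 1; exact Over.w (Pi.π (Y ∘ x) a)) :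
      Over.mk (g ≫ (∏ᶜ (Y ∘ x)).hom) ⟶ Y (x a))) :
      Over.mk (g ≫ (∏ᶜ (Y ∘ x)).hom) ⟶ ∏ᶜ (Y ∘ x)) =
      (Over.homMk g rfl : Over.mk (g ≫ (∏ᶜ (Y ∘ x)).hom) ⟶ ∏ᶜ (Y ∘ x)) := by
    apply Pi.hom_ext
    intro a
    rw [Pi.lift_π]
    ext
    rfl
  exact congrArg (fun m => m.left) this

lemma toB_injective {T : Type} [Finite T] {W : C} : Function.Injective (toB (Y := Y) (T := T) (W := W)) :=
  fun p q h => by rw [← toA_toB p, ← toA_toB q, h]

/-- reindexing of product points -/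
noncomputable def A.reindex {T T' : Type} [Finite T] [Finite T'] (θ : T' → T) {W : C}
    (p : A Y T W) : A Y T' W :=
  ⟨p.1 ∘ θ, p.2 ≫ (Pi.lift (fun a => Pi.π (Y ∘ p.1) (θ a)) :
    ∏ᶜ (Y ∘ p.1) ⟶ ∏ᶜ (Y ∘ (p.1 ∘ θ))).left⟩

/-- reindexing of tuples -/
def B.reindex {T T' : Type} (θ : T' → T) {W : C} (p : B Y T W) : B Y T' W :=
  ⟨(p.1.1, p.1.2 ∘ θ), fun a => p.2 (θ a)⟩

lemma toB_reindex {T T' : Type} [Finite T] [Finite T'] (θ : T' → T) {W : C} (p : A Y T W) :
    toB (p.reindex θ) = (toB p).reindex θ := by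
  obtain ⟨x, g⟩ := p
  ext
  · dsimp [toB, A.reindex, B.reindex]
    rw [Category.assoc]
    congr 1
    exact Over.w _
  · rename_i a
    dsimp [toB, A.reindex, B.reindex]
    refine Sigma.ext rfl (heq_of_eq ?_)
    dsimp
    rw [Category.assoc, ← Over.comp_left]
    congr 2
    exact Pi.lift_π _ _


lemma toA_reindex {T T' : Type} [Finite T] [Finite T'] (θ : T' → T) {W : C} (b : B Y T W) :
    (toA b).reindex θ = toA (b.reindex θ) := by
  apply toB_injective
  rw [toB_reindex, toB_toA, toB_toA]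

/-- precomposition of product points -/
noncomputable def A.precomp {T : Type} [Finite T] {W W' : C} (k : W' ⟶ W) (p : A Y T W) : A Y T W' :=
  ⟨p.1, k ≫ p.2⟩

omit [HasFiniteProducts (Over X)] in
/-- precomposition of tuples -/
def B.precomp {T : Type} {W W' : C} (k : W' ⟶ W) (b : B Y T W) : B Y T W' :=
  ⟨(k ≫ b.1.1, fun a => ⟨(b.1.2 a).1, k ≫ (b.1.2 a).2⟩), fun a => by
    have := b.2 a
    dsimp [Pt.str] at this ⊢
    rw [Category.assoc, this]⟩

lemma toB_precomp {T : Type} [Finite T] {W W' : C} (k : W' ⟶ W) (p : A Y T W) :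
    toB (p.precomp k) = (toB p).precomp k := by
  obtain ⟨x, g⟩ := p
  ext
  · dsimp [toB, A.precomp, B.precomp]
    rw [Category.assoc]
  · rename_i a
    dsimp [toB, A.precomp, B.precomp]
    rw [Category.assoc]

lemma toA_precomp {T : Type} [Finite T] {W W' : C} (k : W' ⟶ W) (b : B Y T W) :
    (toA b).precomp k = toA (b.precomp k) := by
  apply toB_injective
  rw [toB_precomp, toB_toA, toB_toA]

/-! ### The extra degeneracy -/

omit [HasFiniteProducts (Over X)] in
/-- a chosen point over `f`, given that one exists -/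
noncomputable def σ {W : C} (f : W ⟶ X) (h : ∃ p : Pt Y W, p.str = f) : Pt Y W := h.choose

omit [HasFiniteProducts (Over X)] in
lemma σ_str {W : C} (f : W ⟶ X) (h : ∃ p : Pt Y W, p.str = f) : (σ f h).str = f :=
  h.choose_spec

omit [HasFiniteProducts (Over X)] in
/-- adding the chosen point in front of a tuple -/
noncomputable def B.extra {n : ℕ} {W : C} (p : B Y (Fin (n + 1)) W) : B Y (Fin (n + 2)) W :=
  ⟨(p.1.1, Fin.cons (σ p.1.1 ⟨p.1.2 0, p.2 0⟩) p.1.2), fun a => by
    refine Fin.cases ?_ (fun b => ?_) a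
    · exact σ_str _ _
    · exact p.2 b⟩

omit [HasFiniteProducts (Over X)] in
lemma B.reindex_zero_extra {n : ℕ} {W : C} (p : B Y (Fin (n + 1)) W) :
    p.extra.reindex (Fin.succAbove 0) = p := by
  ext
  · rfl
  · rfl

omit [HasFiniteProducts (Over X)] in
lemma B.reindex_succ_extra {n : ℕ} {W : C} (p : B Y (Fin (n + 2)) W) (i : Fin (n + 2)) :
    p.extra.reindex (Fin.succAbove i.succ) = (p.reindex (Fin.succAbove i)).extra := by
  ext a
  · rfl
  · dsimp [B.extra, B.reindex]
    refine Fin.cases ?_ (fun b => ?_) a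
    · simp only [Fin.succ_succAbove_zero, Fin.cons_zero]
    · simp only [Fin.succ_succAbove_succ, Fin.cons_succ, Function.comp_apply]

end Groth.Agent.H43.CechPts
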