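import Mathlib.AlgebraicGeometry.Morphisms.Immersion
import Mathlib.AlgebraicGeometry.Morphisms.Proper

/-!
# Small lemmas on open immersions / compactifications (helper43)
-/

set_option autoImplicit false
universe u
open CategoryTheory CategoryTheory.Limits AlgebraicGeometry Opposite

namespace Groth.Agent.H43.Compactif

/-- If `a ≫ g` is an open immersion and `g` is a monomorphism then `a` is an open immersion. -/
theorem isOpenImmersion_of_comp_mono {X E Z : Scheme.{u}} (a : X ⟶ E) (g : E ⟶ Z) [Mono g]
    [IsOpenImmersion (a ≫ g)] : IsOpenImmersion a := by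
  have h : IsPullback a (𝟙 X) g (a ≫ g) := by
    refine ⟨⟨by simp⟩, ⟨PullbackCone.IsLimit.mk _ (fun s => s.snd) ?_ ?_ ?_⟩⟩
    · intro s
      rw [← cancel_mono g, Category.assoc, s.condition]
    · intro s; simp
    · intro s m _ h2; simpa using h2
  exact MorphismProperty.of_isPullback (P := @IsOpenImmersion) h.flip inferInstance

end Groth.Agent.H43.Compactif
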