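import Groth.Prelude.Def_SpSeq
import Mathlib.Data.Set.Finite.Basic
import Mathlib.Data.Int.Interval
import Mathlib.Order.Interval.Set.Basic

/-!
# The spectral sequence of a first page whose homology is concentrated in the column `p = 0`

Given a complex `P` of shape `up' (1, 0)` on `ℤ × ℤ`, we build the spectral sequence with first
page `P`, all of whose further pages are the homology of `P` with zero differentials, and, when
the homology of `P` vanishes outside the column `p = 0`, its abutment.
-/

set_option autoImplicit false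

namespace Groth.Agent.H43.DegSS

open CategoryTheory Limits

universe v u

variable {C : Type u} [Category.{v} C] [Abelian C]

section Zcx

variable {κ : Type*} (c : ComplexShape κ)

/-- The complex with given objects and zero differentials. -/
def zcx (X : κ → C) : HomologicalComplex C c where
  X := X
  d _ _ := 0
  shape _ _ _ := rfl
  d_comp_d' _ _ _ _ _ := zero_comp

/-- The homology of a complex with zero differentials. -/
noncomputable def zcxHomologyIso (X : κ → C) (j : κ) : (zcx c X).homology j ≅ X j :=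
  (ShortComplex.HomologyData.ofZeros ((zcx c X).sc j) rfl rfl).left.homologyIso

end Zcx

/-- The complex shape of the `r`-th page. -/
abbrev cs (r : ℤ) : ComplexShape (ℤ × ℤ) := ComplexShape.up' (⟨r, 1 - r⟩ : ℤ × ℤ)

variable (P : HomologicalComplex C (cs 1))

/-- The pages. -/
noncomputable def pg (r : ℤ) : HomologicalComplex C (cs r) :=
  if h : r = 1 then h ▸ P else zcx (cs r) (fun pq => P.homology pq)

lemma pg_one : pg P 1 = P := by
  rw [pg, dif_pos rfl]

lemma pg_of_ne (r : ℤ) (h : r ≠ 1) : pg P r = zcx (cs r) (fun pq => P.homology pq) := by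
  rw [pg, dif_neg h]

lemma pg_d (r : ℤ) (h : r ≠ 1) (a b : ℤ × ℤ) : (pg P r).d a b = 0 := by
  rw [pg_of_ne P r h]
  rfl

/-- The objects of the pages `r ≠ 1`. -/
noncomputable def pgXIso (r : ℤ) (h : r ≠ 1) (pq : ℤ × ℤ) : (pg P r).X pq ≅ P.homology pq :=
  (HomologicalComplex.eval C (cs r) pq).mapIso (eqToIso (pg_of_ne P r h))

/-- The homology of the pages. -/
noncomputable def pgHomologyIso (r : ℤ) (pq : ℤ × ℤ) : (pg P r).homology pq ≅ P.homology pq :=
  if h : r = 1 then by
    subst h
    exact (HomologicalComplex.homologyFunctor C (cs 1) pq).mapIso (eqToIso (pg_one P))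
  else
    (HomologicalComplex.homologyFunctor C (cs r) pq).mapIso (eqToIso (pg_of_ne P r h)) ≪≫
      zcxHomologyIso (cs r) _ pq

/-- The spectral sequence with first page `P` and zero differentials from the second page on. -/
noncomputable def degSS : CohomologicalSpectralSequence C 1 where
  page r _ := pg P r
  iso r r' pq hrr' hr := pgHomologyIso P r pq ≪≫ (pgXIso P r' (by lia) pq).symm

lemma degSS_page (r : ℤ) (hr : 1 ≤ r) : (degSS P).page r hr = pg P r := rfl

section Subquot

variable {X : C}

/-- Subquotients of equal subobjects. -/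
noncomputable def subquotCongr {Z Z' B B' : Subobject X} (hZ : Z = Z') (hB : B = B') (h : B ≤ Z)
    (h' : B' ≤ Z') : SpSeq.subquot Z B h ≅ SpSeq.subquot Z' B' h' := by
  subst hZ hB
  exact Iso.refl _

lemma isZero_subquot_self (Z : Subobject X) (h : Z ≤ Z) : IsZero (SpSeq.subquot Z Z h) := by
  unfold SpSeq.subquot
  have : IsIso (Z.ofLE Z h) := by
    rw [Subobject.ofLE_refl]
    infer_instance
  exact isZero_cokernel_of_epi _

/-- `⊤ / ⊥` is the whole object. -/
noncomputable def subquotTopBot (h : (⊥ : Subobject X) ≤ ⊤) :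
    SpSeq.subquot (⊤ : Subobject X) ⊥ h ≅ X :=
  cokernelIsoOfEq (show (⊥ : Subobject X).ofLE ⊤ h = 0 from
    (Subobject.botCoeIsoZero.isZero_iff.2 (isZero_zero C)).eq_of_src _ _) ≪≫
    cokernelZeroIsoTarget ≪≫ asIso (⊤ : Subobject X).arrow

end Subquot

section Abut

variable {H : ℤ → C} (eH : ∀ n, P.homology (0, n) ≅ H n)
  (hP : ∀ p q : ℤ, p ≠ 0 → IsZero (P.homology (p, q)))

/-- The two-step filtration. -/
noncomputable def fil (n : ℤ) (p : ℤ) : Subobject (H n) := if p ≤ 0 then ⊤ else ⊥

lemma fil_anti (n : ℤ) : Antitone (fil (H := H) n) := by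
  intro p p' h
  unfold fil
  by_cases h1 : p' ≤ 0
  · rw [if_pos h1, if_pos (le_trans h h1)]
  · rw [if_neg h1]
    exact bot_le

/-- The abutment of `degSS P` when the homology of `P` is concentrated in the column `p = 0`. -/
noncomputable def abut : SpSeq.Abutment (degSS P) H where
  fil n := fil n
  anti n := fil_anti n
  rk _ := 2
  stat pq := ⟨by norm_num, fun r' _ h => ⟨pg_d P r' (by lia) _ _, pg_d P r' (by lia) _ _⟩⟩
  β pq := by
    obtain ⟨p, q⟩ := pq
    refine pgXIso P 2 (by norm_num) (p, q) ≪≫ ?_
    by_cases hp : p = 0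
    · subst hp
      refine ?_ ≪≫ (subquotTopBot bot_le).symm ≪≫
        subquotCongr (if_pos le_rfl).symm (if_neg (by norm_num)).symm _ _
      exact eqToIso (by simp) ≪≫ eH (0 + q)
    · refine (hP p q hp).iso ?_
      by_cases h1 : p + 1 ≤ 0
      · exact (isZero_subquot_self ⊤ le_rfl).of_iso
          (subquotCongr (if_pos (by lia)) (if_pos h1) _ _)
      · exact (isZero_subquot_self ⊥ le_rfl).of_iso
          (subquotCongr (if_neg (by lia)) (if_neg h1) _ _)

lemma abut_isFinite (n : ℤ) : (abut P eH hP).IsFinite n :=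
  ⟨⟨0, show fil n 0 = ⊤ from if_pos le_rfl⟩, ⟨1, show fil n 1 = ⊥ from if_neg (by norm_num)⟩⟩

end Abut

lemma isBounded (hX : ∀ p q : ℤ, ¬ (0 ≤ p ∧ 0 ≤ q) → IsZero (P.X (p, q))) :
    SpSeq.IsBounded (degSS P) := by
  intro n
  refine Set.Finite.subset (Set.finite_Icc (0 : ℤ) n) ?_
  intro p hp
  by_contra hcon
  apply hp
  change IsZero ((pg P 1).X (p, n - p))
  rw [pg_one]
  apply hX
  intro h
  apply hcon
  exact ⟨h.1, by lia⟩

end Groth.Agent.H43.DegSS
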