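import Groth.Agent.H43.DegSS
import Mathlib.Algebra.Homology.Embedding.ExtendHomology

/-!
# Building a first page from a family of exact augmented complexes

Given objects `A p q` (`p q : ℕ`) with differentials `d p q : A p q ⟶ A (p+1) q` and augmentations
`j q : B q ⟶ A 0 q` such that `0 → B q → A 0 q → A 1 q → ⋯` is exact, we build the complex of shape
`up' (1, 0)` on `ℤ × ℤ` with these objects (and zero outside the first quadrant), and compute its
homology.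
-/

set_option autoImplicit false

namespace Groth.Agent.H43.DegSS

open CategoryTheory Limits

universe v u

variable {C : Type u} [Category.{v} C] [Abelian C]

section OfUp

variable {α : Type*} [AddRightCancelSemigroup α] (a : α)
  (X : α → C) (D : ∀ i, X i ⟶ X (i + a)) (sq : ∀ i, D i ≫ D (i + a) = 0)

open Classical in
/-- Constructor for complexes of shape `up' a`. -/
noncomputable def ofUp' : HomologicalComplex C (ComplexShape.up' a) where
  X := X
  d i j := if h : i + a = j then D i ≫ eqToHom (by rw [h]) else 0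
  shape i j hij := dif_neg hij
  d_comp_d' i j k hij hjk := by
    change i + a = j at hij
    change j + a = k at hjk
    subst hij
    subst hjk
    simp [sq]

lemma ofUp'_d (i : α) : (ofUp' a X D sq).d i (i + a) = D i := by
  simp [ofUp']

end OfUp

section Build

variable (B : ℕ → C) (A : ℕ → ℕ → C) (j : ∀ q, B q ⟶ A 0 q) (d : ∀ p q, A p q ⟶ A (p + 1) q)
  (hdd : ∀ p q, d p q ≫ d (p + 1) q = 0) (hjd : ∀ q, j q ≫ d 0 q = 0)

/-- The complex on `ℕ × ℕ`. -/
noncomputable def K₀ : HomologicalComplex C (ComplexShape.up' ((1, 0) : ℕ × ℕ)) :=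
  ofUp' ((1, 0) : ℕ × ℕ) (fun i => A i.1 i.2) (fun i => d i.1 i.2) (fun i => hdd i.1 i.2)

lemma K₀_d (p q : ℕ) : (K₀ A d hdd).d (p, q) (p + 1, q) = d p q :=
  ofUp'_d ((1, 0) : ℕ × ℕ) (fun i => A i.1 i.2) (fun i => d i.1 i.2) (fun i => hdd i.1 i.2) (p, q)

/-- The embedding of `ℕ × ℕ` into `ℤ × ℤ`. -/
def emb : (ComplexShape.up' ((1, 0) : ℕ × ℕ)).Embedding (cs 1) :=
  ComplexShape.Embedding.mk' _ _ (fun i => ((i.1 : ℤ), (i.2 : ℤ)))
    (fun i i' h => by
      simp only [Prod.mk.injEq, Nat.cast_inj] at h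
      exact Prod.ext h.1 h.2)
    (fun i₁ i₂ => by
      obtain ⟨p₁, q₁⟩ := i₁
      obtain ⟨p₂, q₂⟩ := i₂
      simp only [ComplexShape.up'_Rel, Prod.mk_add_mk, Prod.mk.injEq]
      constructor
      · rintro ⟨h1, h2⟩
        constructor <;> lia
      · rintro ⟨h1, h2⟩
        constructor <;> lia)

lemma emb_f (p q : ℕ) : emb.f (p, q) = ((p : ℤ), (q : ℤ)) := rfl

lemma emb_f_ne (p q : ℤ) (h : ¬ (0 ≤ p ∧ 0 ≤ q)) (i : ℕ × ℕ) : emb.f i ≠ (p, q) := by
  intro h'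
  apply h
  obtain ⟨a, b⟩ := i
  rw [emb_f, Prod.mk.injEq] at h'
  exact ⟨by lia, by lia⟩

/-- The first page. -/
noncomputable def P₁ : HomologicalComplex C (cs 1) := (K₀ A d hdd).extend emb

/-- The objects in the first quadrant. -/
noncomputable def P₁XIso (p q : ℕ) : (P₁ A d hdd).X ((p : ℤ), (q : ℤ)) ≅ A p q :=
  (K₀ A d hdd).extendXIso emb (emb_f p q)

lemma isZero_P₁_X (p q : ℤ) (h : ¬ (0 ≤ p ∧ 0 ≤ q)) : IsZero ((P₁ A d hdd).X (p, q)) :=
  (K₀ A d hdd).isZero_extend_X emb (p, q) (emb_f_ne p q h)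

lemma isZero_P₁_homology_of_not (p q : ℤ) (h : ¬ (0 ≤ p ∧ 0 ≤ q)) :
    IsZero ((P₁ A d hdd).homology (p, q)) :=
  ((K₀ A d hdd).extend_exactAt emb (p, q) (emb_f_ne p q h)).isZero_homology

lemma exact_congr {X₁ X₂ X₃ : C} {f : X₁ ⟶ X₂} {g g' : X₂ ⟶ X₃} (hg : g = g') (w : f ≫ g = 0)
    (w' : f ≫ g' = 0) (h : (ShortComplex.mk f g w).Exact) : (ShortComplex.mk f g' w').Exact := by
  subst hg
  exact h

lemma exact_congr' {X₁ X₂ X₃ : C} {f f' : X₁ ⟶ X₂} {g g' : X₂ ⟶ X₃} (hf : f = f') (hg : g = g')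
    (w : f ≫ g = 0) (w' : f' ≫ g' = 0) (h : (ShortComplex.mk f g w).Exact) :
    (ShortComplex.mk f' g' w').Exact := by
  subst hf hg
  exact h

variable (hex : ∀ p q, (ShortComplex.mk (d p q) (d (p + 1) q) (hdd p q)).Exact)

include hex in
lemma K₀_exactAt (p q : ℕ) : (K₀ A d hdd).ExactAt (p + 1, q) := by
  rw [(K₀ A d hdd).exactAt_iff' (p, q) (p + 1, q) (p + 1 + 1, q)
    ((ComplexShape.up' ((1, 0) : ℕ × ℕ)).prev_eq' rfl)
    ((ComplexShape.up' ((1, 0) : ℕ × ℕ)).next_eq' rfl)]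
  exact exact_congr' (K₀_d A d hdd p q).symm (K₀_d A d hdd (p + 1) q).symm _ _ (hex p q)

include hex in
lemma isZero_P₁_homology_succ (p q : ℕ) :
    IsZero ((P₁ A d hdd).homology (((p + 1 : ℕ) : ℤ), (q : ℤ))) :=
  (((K₀ A d hdd).extend_exactAt_iff emb (emb_f (p + 1) q)).2
    (K₀_exactAt A d hdd hex p q)).isZero_homology

include hex in
lemma isZero_P₁_homology (p q : ℤ) (hp : p ≠ 0) : IsZero ((P₁ A d hdd).homology (p, q)) := by
  by_cases h : 0 ≤ p ∧ 0 ≤ q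
  · obtain ⟨p', rfl⟩ := Int.eq_ofNat_of_zero_le h.1
    obtain ⟨q', rfl⟩ := Int.eq_ofNat_of_zero_le h.2
    obtain ⟨p'', rfl⟩ : ∃ p'', p' = p'' + 1 := ⟨p' - 1, by lia⟩
    exact isZero_P₁_homology_succ A d hdd hex p'' q'
  · exact isZero_P₁_homology_of_not A d hdd p q h

variable (hex₀ : ∀ q, (ShortComplex.mk (j q) (d 0 q) (hjd q)).Exact) [∀ q, Mono (j q)]

include hex₀ hjd in
/-- The homology of the column `p = 0` on `ℕ × ℕ`. -/
noncomputable def K₀HomologyIso (q : ℕ) : (K₀ A d hdd).homology (0, q) ≅ B q := by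
  have hprev : ¬ (ComplexShape.up' ((1, 0) : ℕ × ℕ)).Rel
      ((ComplexShape.up' ((1, 0) : ℕ × ℕ)).prev (0, q)) (0, q) := by
    intro h
    have h1 := congrArg Prod.fst h
    simp at h1
  have hnext : (ComplexShape.up' ((1, 0) : ℕ × ℕ)).next (0, q) = (0 + 1, q) :=
    (ComplexShape.up' ((1, 0) : ℕ × ℕ)).next_eq' rfl
  have hd := K₀_d A d hdd 0 q
  have w : j q ≫ (K₀ A d hdd).d (0, q) (0 + 1, q) = 0 := by rw [hd]; exact hjd q
  have hS : (ShortComplex.mk (j q) ((K₀ A d hdd).d (0, q) (0 + 1, q)) w).Exact :=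
    exact_congr hd.symm _ _ (hex₀ q)
  have : Mono (ShortComplex.mk (j q) ((K₀ A d hdd).d (0, q) (0 + 1, q)) w).f :=
    inferInstanceAs (Mono (j q))
  exact ((K₀ A d hdd).isoHomologyπ _ (0, q) rfl ((K₀ A d hdd).shape _ _ hprev)).symm ≪≫
    IsLimit.conePointUniqueUpToIso ((K₀ A d hdd).cyclesIsKernel (0, q) (0 + 1, q) hnext)
      hS.fIsKernel

include hex₀ hjd in
/-- The homology of the column `p = 0`. -/
noncomputable def P₁HomologyIso (q : ℕ) : (P₁ A d hdd).homology (0, (q : ℤ)) ≅ B q :=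
  (K₀ A d hdd).extendHomologyIso emb (emb_f 0 q) ≪≫ K₀HomologyIso B A j d hdd hjd hex₀ q

end Build

end Groth.Agent.H43.DegSS
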