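import Groth.Prelude.Def_DeltaF
import Mathlib.CategoryTheory.Abelian.Refinements
import Mathlib.CategoryTheory.Abelian.Exact
import Mathlib.CategoryTheory.Abelian.FunctorCategory
import Mathlib.CategoryTheory.Limits.FunctorCategory.EpiMono

set_option autoImplicit false
universe v v' u u'

namespace Groth.Agent.H43

open CategoryTheory CategoryTheory.Limits DeltaF

variable {A : Type u} [Category.{v} A] [Abelian A]
  {B : Type u'} [Category.{v'} B] [Abelian B] {T T' : DeltaF.CohDeltaFunctor A B ℕ}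

/-- the short exact sequence attached to a monomorphism -/
noncomputable def cokerSC {X Y : A} (u : X ⟶ Y) : ShortComplex A :=
  ShortComplex.mk u (cokernel.π u) (cokernel.condition u)

theorem cokerSC_shortExact {X Y : A} (u : X ⟶ Y) [Mono u] : (cokerSC u).ShortExact where
  exact := ShortComplex.exact_cokernel u
  mono_f := by dsimp [cokerSC]; infer_instance
  epi_g := by dsimp [cokerSC]; infer_instance

/-- dimension shifting along a short exact sequence: injectivity -/
theorem mono_succ_of_shortExact (φ : T ⟶ T') (i : ℕ) (S : ShortComplex A) (hS : S.ShortExact)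
    (hu0 : (T.F (i + 1)).map S.f = 0)
    (hepi : Epi ((φ.app i).app S.X₂)) (hmono : Mono ((φ.app i).app S.X₃)) :
    Mono ((φ.app (i + 1)).app S.X₁) := by
  apply Preadditive.mono_of_cancel_zero
  intro W g hg
  have h1 : g ≫ (T.F (i + 1)).map S.f = 0 := by
    rw [hu0, comp_zero]
  obtain ⟨W₁, π₁, _, z, hz⟩ := (T.exact₁ S hS i (i + 1) rfl).exact_up_to_refinements g h1
  dsimp at z hz
  have h2 : (z ≫ (φ.app i).app S.X₃) ≫ T'.δ S hS i (i + 1) rfl = 0 := by
    rw [Category.assoc, ← φ.comm S hS i (i + 1) rfl, ← Category.assoc, ← hz, Category.assoc, hg,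
      comp_zero]
  obtain ⟨W₂, π₂, _, y', hy'⟩ := (T'.exact₃ S hS i (i + 1) rfl).exact_up_to_refinements _ h2
  dsimp at y' hy'
  obtain ⟨W₃, π₃, _, y, hy⟩ := surjective_up_to_refinements_of_epi ((φ.app i).app S.X₂) y'
  have h4 : y ≫ (T.F i).map S.g = π₃ ≫ π₂ ≫ z := by
    rw [← cancel_mono ((φ.app i).app S.X₃), Category.assoc, (φ.app i).naturality,
      ← Category.assoc, ← hy, Category.assoc, ← hy']
    simp only [Category.assoc]
  rw [← cancel_epi π₁, comp_zero, hz, ← cancel_epi π₂, ← cancel_epi π₃, comp_zero, comp_zero,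
    ← Category.assoc, ← Category.assoc, Category.assoc π₃, ← h4, Category.assoc,
    T.comp_δ S hS i (i + 1) rfl, comp_zero]

/-- dimension shifting along a short exact sequence: surjectivity -/
theorem epi_succ_of_shortExact (φ : T ⟶ T') (i : ℕ) (S : ShortComplex A) (hS : S.ShortExact)
    (hu0 : (T'.F (i + 1)).map S.f = 0)
    (hepi : Epi ((φ.app i).app S.X₃)) :
    Epi ((φ.app (i + 1)).app S.X₁) := by
  rw [epi_iff_surjective_up_to_refinements]
  intro W a
  have h1 : a ≫ (T'.F (i + 1)).map S.f = 0 := by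
    rw [hu0, comp_zero]
  obtain ⟨W₁, π₁, _, z', hz'⟩ := (T'.exact₁ S hS i (i + 1) rfl).exact_up_to_refinements a h1
  dsimp at z' hz'
  obtain ⟨W₂, π₂, _, z, hz⟩ := surjective_up_to_refinements_of_epi ((φ.app i).app S.X₃) z'
  refine ⟨W₂, π₂ ≫ π₁, inferInstance, z ≫ T.δ S hS i (i + 1) rfl, ?_⟩
  rw [Category.assoc, hz', ← Category.assoc, hz, Category.assoc, Category.assoc,
    φ.comm S hS i (i + 1) rfl]

theorem mono_succ_of_effaceable (φ : T ⟶ T') (i : ℕ) (X : A)
    (hEff : ∃ (Y : A) (u : X ⟶ Y), Mono u ∧ (T.F (i + 1)).map u = 0)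
    (hepi : ∀ Y : A, Epi ((φ.app i).app Y)) (hmono : ∀ Z : A, Mono ((φ.app i).app Z)) :
    Mono ((φ.app (i + 1)).app X) := by
  obtain ⟨Y, u, hu, hu0⟩ := hEff
  exact mono_succ_of_shortExact φ i (cokerSC u) (cokerSC_shortExact u) hu0 (hepi _) (hmono _)

theorem epi_succ_of_effaceable (φ : T ⟶ T') (i : ℕ) (X : A)
    (hEff : ∃ (Y : A) (u : X ⟶ Y), Mono u ∧ (T'.F (i + 1)).map u = 0)
    (hepi : ∀ Z : A, Epi ((φ.app i).app Z)) :
    Epi ((φ.app (i + 1)).app X) := by
  obtain ⟨Y, u, hu, hu0⟩ := hEff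
  exact epi_succ_of_shortExact φ i (cokerSC u) (cokerSC_shortExact u) hu0 (hepi _)

end Groth.Agent.H43

namespace Groth.Agent.H43

open CategoryTheory CategoryTheory.Limits DeltaF

variable {A : Type u} [Category.{v} A] [Abelian A]
  {B : Type u'} [Category.{v'} B] [Abelian B] {T T' : DeltaF.CohDeltaFunctor A B ℕ}

omit [Abelian A] in
theorem isIso_app_of_mono_epi_app {F G : A ⥤ B} (η : F ⟶ G)
    (h1 : ∀ X, Mono (η.app X)) (h2 : ∀ X, Epi (η.app X)) : IsIso η := by
  have : ∀ X, IsIso (η.app X) := fun X => by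
    have := h1 X
    have := h2 X
    exact isIso_of_mono_of_epi _
  exact NatIso.isIso_of_isIso_app η

/-- (b) ⇒ (a) and (c) ⇒ (a): the common induction -/
theorem iso_le_of_effaceable (hT : T.IsEffaceable) (φ : T ⟶ T') (n : ℕ)
    (h0 : IsIso (φ.app 0))
    (hepi : ∀ i : ℕ, i + 1 ≤ n → ∀ X : A, Epi ((φ.app (i + 1)).app X)) :
    (∀ i : ℕ, i ≤ n → IsIso (φ.app i)) ∧ Mono (φ.app (n + 1)) := by
  have key : ∀ i : ℕ, i ≤ n → IsIso (φ.app i) := by
    intro i
    induction i with
    | zero => intro _; exact h0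
    | succ i ih =>
      intro hi
      have := ih (by omega)
      apply isIso_app_of_mono_epi_app
      · intro X
        exact mono_succ_of_effaceable φ i X (hT i X) (fun Y => inferInstance)
          (fun Z => inferInstance)
      · intro X
        exact hepi i hi X
  refine ⟨key, ?_⟩
  have := key n le_rfl
  have : ∀ X, Mono ((φ.app (n + 1)).app X) := fun X =>
    mono_succ_of_effaceable φ n X (hT n X) (fun Y => inferInstance) (fun Z => inferInstance)
  exact NatTrans.mono_of_mono_app _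

theorem S8535_main (hT : T.IsEffaceable) (φ : T ⟶ T') (n : ℕ) :
    ((∀ i : ℕ, i ≤ n → IsIso (φ.app i)) ∧ Mono (φ.app (n + 1)) ↔
      (Mono (φ.app 0) ∧ ∀ i : ℕ, i ≤ n → Epi (φ.app i))) ∧
    ((∀ i : ℕ, i ≤ n → IsIso (φ.app i)) ∧ Mono (φ.app (n + 1)) ↔
      (IsIso (φ.app 0) ∧ ∀ i : ℕ, 0 < i → i ≤ n → ∀ X : A,
        ∃ (Y : A) (u : X ⟶ Y), Mono u ∧ (T'.F i).map u = 0)) := by
  refine ⟨⟨fun h => ?_, fun h => ?_⟩, ⟨fun h => ?_, fun h => ?_⟩⟩
  · refine ⟨?_, fun i hi => ?_⟩
    · have := h.1 0 (Nat.zero_le n); infer_instance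
    · have := h.1 i hi; infer_instance
  · obtain ⟨hm, he⟩ := h
    have h0 : IsIso (φ.app 0) := by
      have := hm
      have := he 0 (Nat.zero_le n)
      exact isIso_of_mono_of_epi _
    refine iso_le_of_effaceable hT φ n h0 fun i hi X => ?_
    have := he (i + 1) hi
    infer_instance
  · refine ⟨h.1 0 (Nat.zero_le n), fun i hi0 hin X => ?_⟩
    obtain ⟨j, rfl⟩ := Nat.exists_eq_succ_of_ne_zero (Nat.pos_iff_ne_zero.mp hi0)
    obtain ⟨Y, u, hu, hu0⟩ := hT j X
    refine ⟨Y, u, hu, ?_⟩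
    have := h.1 (j + 1) hin
    have hnat := (φ.app (j + 1)).naturality u
    rw [hu0, zero_comp] at hnat
    have : IsIso ((φ.app (j + 1)).app X) := inferInstance
    rw [← cancel_epi ((φ.app (j + 1)).app X), ← hnat, comp_zero]
  · obtain ⟨h0, he⟩ := h
    have := h0
    have hall : ∀ i : ℕ, i ≤ n → ∀ X : A, Epi ((φ.app i).app X) := by
      intro i
      induction i with
      | zero => intro _ X; infer_instance
      | succ i ih =>
        intro hi X
        exact epi_succ_of_effaceable φ i X (he (i + 1) (Nat.succ_pos i) hi X)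
          (ih (by omega))
    exact iso_le_of_effaceable hT φ n h0 fun i hi X => hall (i + 1) hi X

end Groth.Agent.H43
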