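import Mathlib.Algebra.Category.Grp.FilteredColimits
import Mathlib.Algebra.Category.Grp.Ulift
import Mathlib.Algebra.Category.Grp.Abelian
import Mathlib.CategoryTheory.Limits.Preserves.Filtered
import Mathlib.CategoryTheory.Limits.ConcreteCategory.Basic

/-!
# Filtered colimit cocones of abelian groups, in arbitrary universes

(helper43)
-/

set_option autoImplicit false
universe w v
open CategoryTheory Limits

namespace Groth.Agent.H43.FilteredAb

variable {J : Type v} [SmallCategory J] [IsFiltered J] (F : J ⥤ AddCommGrpCat.{w})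
  {c : Cocone F} (hc : IsColimit c)

instance : PreservesFilteredColimitsOfSize.{v, v} (forget AddCommGrpCat.{max w v}) :=
  preservesFilteredColimitsOfSize_shrink.{v, max w v, v, max w v} _

include hc in
/-- every element of a filtered colimit of abelian groups comes from some stage -/
lemma exists_rep (x : c.pt) : ∃ (j : J) (y : F.obj j), c.ι.app j y = x := by
  let U := AddCommGrpCat.uliftFunctor.{v, w}
  have hc' : IsColimit (U.mapCocone c) := isColimitOfPreserves U hc
  obtain ⟨j, y, hy⟩ := Concrete.isColimit_exists_rep (F ⋙ U) hc' (ULift.up x)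
  exact ⟨j, y.down, congrArg ULift.down hy⟩

include hc in
/-- an element of some stage dying in a filtered colimit of abelian groups dies at a later stage -/
lemma exists_map_eq_zero {j : J} (y : F.obj j) (hy : c.ι.app j y = 0) :
    ∃ (k : J) (u : j ⟶ k), F.map u y = 0 := by
  let U := AddCommGrpCat.uliftFunctor.{v, w}
  have hc' : IsColimit (U.mapCocone c) := isColimitOfPreserves U hc
  have h : (U.mapCocone c).ι.app j (ULift.up y) = (U.mapCocone c).ι.app j (ULift.up 0) := by
    apply ULift.ext
    change c.ι.app j y = c.ι.app j 0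
    rw [hy, map_zero]
  obtain ⟨k, f, g, hfg⟩ := Concrete.isColimit_exists_of_rep_eq (F ⋙ U) hc' _ _ h
  have h1 : F.map f y = F.map g 0 := congrArg ULift.down hfg
  exact ⟨k, f, h1.trans (map_zero _)⟩

section Induced

variable {F} {G : J ⥤ AddCommGrpCat.{w}} (α : F ⟶ G) {c₂ : Cocone G} (h₂ : IsColimit c₂)
  (f : c.pt ⟶ c₂.pt) (hf : ∀ j, c.ι.app j ≫ f = α.app j ≫ c₂.ι.app j)

include hc h₂ hf in
lemma injective_of_injective (hα : ∀ j, Function.Injective (α.app j).hom) :
    Function.Injective f.hom := by
  rw [injective_iff_map_eq_zero]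
  intro x hx
  obtain ⟨j, y, rfl⟩ := exists_rep F hc x
  have h1 : c₂.ι.app j (α.app j y) = 0 := by
    have := ConcreteCategory.congr_hom (hf j) y
    exact this.symm.trans hx
  obtain ⟨k, u, hu⟩ := exists_map_eq_zero G h₂ _ h1
  have h2 : α.app k (F.map u y) = 0 := by
    have := ConcreteCategory.congr_hom (α.naturality u) y
    exact this.trans hu
  have h3 : F.map u y = 0 := hα k (h2.trans (map_zero _).symm)
  have h4 := ConcreteCategory.congr_hom (c.w u) y
  change c.ι.app k (F.map u y) = c.ι.app j y at h4
  rw [← h4, h3, map_zero]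

include h₂ hf in
lemma surjective_of_surjective (hα : ∀ j, Function.Surjective (α.app j).hom) :
    Function.Surjective f.hom := by
  intro x'
  obtain ⟨j, y', rfl⟩ := exists_rep G h₂ x'
  obtain ⟨y, rfl⟩ := hα j y'
  exact ⟨c.ι.app j y, ConcreteCategory.congr_hom (hf j) y⟩

end Induced

end Groth.Agent.H43.FilteredAb
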