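import Groth.Prelude.Def_DeltaF
import Groth.Agent.H43.FilteredAb
import Groth.Agent.H43.DeltaShift
import Mathlib.Algebra.Homology.ShortComplex.Ab

/-!
# A morphism of δ-functors commuting with filtered colimits is an isomorphism as soon as it is
one on a class of "enough" objects

(helper43)
-/

set_option autoImplicit false
universe w v u
open CategoryTheory Limits

namespace Groth.Agent.H43.DeltaColim

variable {C : Type u} [Category.{v} C] [Abelian C]
  {T T' : DeltaF.CohDeltaFunctor C AddCommGrpCat.{w} ℕ} (φ : T ⟶ T')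

section Exact

variable (T) (S : ShortComplex C) (hS : S.ShortExact)

lemma ex1 (n₀ n₁ : ℕ) (h : n₀ + 1 = n₁) (x : (T.F n₁).obj S.X₁)
    (hx : ((T.F n₁).map S.f).hom x = 0) :
    ∃ y : (T.F n₀).obj S.X₃, (T.δ S hS n₀ n₁ h).hom y = x := by
  have := T.exact₁ S hS n₀ n₁ h
  rw [ShortComplex.ab_exact_iff] at this
  exact this x hx

include hS in
lemma ex2 (n : ℕ) (x : (T.F n).obj S.X₂) (hx : ((T.F n).map S.g).hom x = 0) :
    ∃ y : (T.F n).obj S.X₁, ((T.F n).map S.f).hom y = x := by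
  have := T.exact₂ S hS n
  rw [ShortComplex.ab_exact_iff] at this
  exact this x hx

lemma ex3 (n₀ n₁ : ℕ) (h : n₀ + 1 = n₁) (x : (T.F n₀).obj S.X₃)
    (hx : (T.δ S hS n₀ n₁ h).hom x = 0) :
    ∃ y : (T.F n₀).obj S.X₂, ((T.F n₀).map S.g).hom y = x := by
  have := T.exact₃ S hS n₀ n₁ h
  rw [ShortComplex.ab_exact_iff] at this
  exact this x hx

lemma δ_g (n₀ n₁ : ℕ) (h : n₀ + 1 = n₁) (z : (T.F n₀).obj S.X₂) :
    (T.δ S hS n₀ n₁ h).hom (((T.F n₀).map S.g).hom z) = 0 :=
  ConcreteCategory.congr_hom (T.comp_δ S hS n₀ n₁ h) z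

lemma f_δ (n₀ n₁ : ℕ) (h : n₀ + 1 = n₁) (y : (T.F n₀).obj S.X₃) :
    ((T.F n₁).map S.f).hom ((T.δ S hS n₀ n₁ h).hom y) = 0 :=
  ConcreteCategory.congr_hom (T.δ_comp S hS n₀ n₁ h) y

omit hS in
lemma g_f (n : ℕ) (y : (T.F n).obj S.X₁) :
    ((T.F n).map S.g).hom (((T.F n).map S.f).hom y) = 0 := by
  have : (T.F n).map S.f ≫ (T.F n).map S.g = 0 := by
    rw [← Functor.map_comp, S.zero, Functor.map_zero]
  exact ConcreteCategory.congr_hom this y

end Exact

section Nat

lemma nat (n : ℕ) {X Y : C} (f : X ⟶ Y) (x : (T.F n).obj X) :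
    ((φ.app n).app Y).hom (((T.F n).map f).hom x) =
      ((T'.F n).map f).hom (((φ.app n).app X).hom x) :=
  ConcreteCategory.congr_hom ((φ.app n).naturality f) x

lemma comm (S : ShortComplex C) (hS : S.ShortExact) (n₀ n₁ : ℕ) (h : n₀ + 1 = n₁)
    (y : (T.F n₀).obj S.X₃) :
    ((φ.app n₁).app S.X₁).hom ((T.δ S hS n₀ n₁ h).hom y) =
      (T'.δ S hS n₀ n₁ h).hom (((φ.app n₀).app S.X₃).hom y) :=
  ConcreteCategory.congr_hom (φ.comm S hS n₀ n₁ h) y

end Nat

section Main

variable [∀ n, PreservesFilteredColimitsOfSize.{v, v} (T.F n)]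
  [∀ n, PreservesFilteredColimitsOfSize.{v, v} (T'.F n)]
  (D E : ObjectProperty C)
  (hD : ∀ A : C, ∃ (J : Type v) (_ : SmallCategory J) (_ : IsFiltered J) (K : J ⥤ C)
    (c : Cocone K) (_ : IsColimit c), (∀ j, D (K.obj j)) ∧ Nonempty (c.pt ≅ A))

include hD in
lemma inj_all (q : ℕ) (h : ∀ A, D A → Function.Injective ((φ.app q).app A).hom) (A : C) :
    Function.Injective ((φ.app q).app A).hom := by
  obtain ⟨J, _, _, K, c, hc, hK, ⟨e⟩⟩ := hD A
  have h1 : Function.Injective ((φ.app q).app c.pt).hom :=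
    FilteredAb.injective_of_injective (F := K ⋙ T.F q) (isColimitOfPreserves (T.F q) hc)
      (Functor.whiskerLeft K (φ.app q)) (isColimitOfPreserves (T'.F q) hc)
      ((φ.app q).app c.pt) (fun j => (φ.app q).naturality (c.ι.app j))
      (fun j => h _ (hK j))
  intro x y hxy
  have hx := nat φ q e.inv x
  have hy := nat φ q e.inv y
  have h2 : ((T.F q).map e.inv).hom x = ((T.F q).map e.inv).hom y :=
    h1 (by rw [hx, hy, hxy])
  exact (ConcreteCategory.bijective_of_isIso ((T.F q).map e.inv)).1 h2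

include hD in
omit [∀ n, PreservesFilteredColimitsOfSize.{v, v} (T.F n)] in
lemma surj_all (q : ℕ) (h : ∀ A, D A → Function.Surjective ((φ.app q).app A).hom) (A : C) :
    Function.Surjective ((φ.app q).app A).hom := by
  obtain ⟨J, _, _, K, c, hc, hK, ⟨e⟩⟩ := hD A
  have h1 : Function.Surjective ((φ.app q).app c.pt).hom :=
    FilteredAb.surjective_of_surjective (F := K ⋙ T.F q) (c := (T.F q).mapCocone c)
      (Functor.whiskerLeft K (φ.app q)) (isColimitOfPreserves (T'.F q) hc)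
      ((φ.app q).app c.pt) (fun j => (φ.app q).naturality (c.ι.app j))
      (fun j => h _ (hK j))
  intro y
  obtain ⟨y₁, hy₁⟩ := (ConcreteCategory.bijective_of_isIso ((T'.F q).map e.hom)).2 y
  obtain ⟨x₁, hx₁⟩ := h1 y₁
  refine ⟨((T.F q).map e.hom).hom x₁, ?_⟩
  rw [nat φ q e.hom x₁, hx₁, hy₁]

/-! ### The diagram chases along a short exact sequence -/

section Chase

variable (S : ShortComplex C) (hS : S.ShortExact)

include hS in
omit [∀ n, PreservesFilteredColimitsOfSize.{v, v} (T.F n)]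
  [∀ n, PreservesFilteredColimitsOfSize.{v, v} (T'.F n)] in
/-- injectivity in degree `0` -/
lemma inj_zero (hT0 : T.ZeroMono) (hM : Function.Injective ((φ.app 0).app S.X₂).hom) :
    Function.Injective ((φ.app 0).app S.X₁).hom := by
  have hmono : Function.Injective ((T.F 0).map S.f).hom :=
    (AddCommGrpCat.mono_iff_injective _).1 (hT0 S hS)
  intro x y hxy
  apply hmono
  apply hM
  rw [nat φ 0 S.f x, nat φ 0 S.f y, hxy]

include hS in
omit [∀ n, PreservesFilteredColimitsOfSize.{v, v} (T.F n)]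
  [∀ n, PreservesFilteredColimitsOfSize.{v, v} (T'.F n)] in
/-- injectivity in degree `n + 1` -/
lemma inj_succ (n : ℕ) (hM : Function.Injective ((φ.app (n + 1)).app S.X₂).hom)
    (hM' : Function.Surjective ((φ.app n).app S.X₂).hom)
    (hQ : Function.Injective ((φ.app n).app S.X₃).hom) :
    Function.Injective ((φ.app (n + 1)).app S.X₁).hom := by
  rw [injective_iff_map_eq_zero]
  intro x hx
  have h1 : ((T.F (n + 1)).map S.f).hom x = 0 := by
    apply hM
    rw [nat φ (n + 1) S.f x, hx, map_zero, map_zero]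
  obtain ⟨y, rfl⟩ := ex1 T S hS n (n + 1) rfl x h1
  rw [comm φ S hS n (n + 1) rfl y] at hx
  obtain ⟨z', hz'⟩ := ex3 T' S hS n (n + 1) rfl _ hx
  obtain ⟨z, rfl⟩ := hM' z'
  rw [← nat φ n S.g z] at hz'
  rw [← hQ hz', δ_g]

include hS in
omit [∀ n, PreservesFilteredColimitsOfSize.{v, v} (T.F n)]
  [∀ n, PreservesFilteredColimitsOfSize.{v, v} (T'.F n)] in
/-- surjectivity in degree `0` -/
lemma surj_zero (hT'0 : T'.ZeroMono) (hM : Function.Surjective ((φ.app 0).app S.X₂).hom)
    (hQ : Function.Injective ((φ.app 0).app S.X₃).hom) :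
    Function.Surjective ((φ.app 0).app S.X₁).hom := by
  have hmono : Function.Injective ((T'.F 0).map S.f).hom :=
    (AddCommGrpCat.mono_iff_injective _).1 (hT'0 S hS)
  intro x'
  obtain ⟨m, hm⟩ := hM (((T'.F 0).map S.f).hom x')
  have h1 : ((T.F 0).map S.g).hom m = 0 := by
    apply hQ
    rw [nat φ 0 S.g m, hm, g_f, map_zero]
  obtain ⟨x, rfl⟩ := ex2 T S hS 0 m h1
  refine ⟨x, hmono ?_⟩
  rw [← nat φ 0 S.f x, hm]

include hS in
omit [∀ n, PreservesFilteredColimitsOfSize.{v, v} (T.F n)]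
  [∀ n, PreservesFilteredColimitsOfSize.{v, v} (T'.F n)] in
/-- surjectivity in degree `n + 1` -/
lemma surj_succ (n : ℕ) (hM : Function.Surjective ((φ.app (n + 1)).app S.X₂).hom)
    (hQ : Function.Injective ((φ.app (n + 1)).app S.X₃).hom)
    (hQ' : Function.Surjective ((φ.app n).app S.X₃).hom) :
    Function.Surjective ((φ.app (n + 1)).app S.X₁).hom := by
  intro x'
  obtain ⟨m, hm⟩ := hM (((T'.F (n + 1)).map S.f).hom x')
  have h1 : ((T.F (n + 1)).map S.g).hom m = 0 := by
    apply hQ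
    rw [nat φ (n + 1) S.g m, hm, g_f, map_zero]
  obtain ⟨x₁, rfl⟩ := ex2 T S hS (n + 1) m h1
  have h2 : ((T'.F (n + 1)).map S.f).hom (x' - ((φ.app (n + 1)).app S.X₁).hom x₁) = 0 := by
    rw [map_sub, ← nat φ (n + 1) S.f x₁, hm, sub_self]
  obtain ⟨y', hy'⟩ := ex1 T' S hS n (n + 1) rfl _ h2
  obtain ⟨y, rfl⟩ := hQ' y'
  refine ⟨x₁ + (T.δ S hS n (n + 1) rfl).hom y, ?_⟩
  rw [map_add, comm φ S hS n (n + 1) rfl y, hy', add_sub_cancel]

end Chase

include hD in
theorem bijective_all (hT0 : T.ZeroMono) (hT'0 : T'.ZeroMono)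
    (hE : ∀ A : C, D A → ∃ (M : C) (i : A ⟶ M), Mono i ∧ E M)
    (hφ : ∀ (q : ℕ) (M : C), E M → Function.Bijective ((φ.app q).app M).hom) :
    ∀ (q : ℕ) (A : C), Function.Bijective ((φ.app q).app A).hom := by
  intro q
  induction q using Nat.strong_induction_on with
  | _ q ih =>
    have hinj : ∀ A, Function.Injective ((φ.app q).app A).hom := by
      apply inj_all φ D hD q
      intro A hA
      obtain ⟨M, i, hi, hM⟩ := hE A hA
      have hS := cokerSC_shortExact i
      cases q with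
      | zero => exact inj_zero φ (cokerSC i) hS hT0 (hφ 0 M hM).1
      | succ n =>
        exact inj_succ φ (cokerSC i) hS n (hφ (n + 1) M hM).1 (hφ n M hM).2
          (ih n (Nat.lt_succ_self n) _).1
    have hsurj : ∀ A, Function.Surjective ((φ.app q).app A).hom := by
      apply surj_all φ D hD q
      intro A hA
      obtain ⟨M, i, hi, hM⟩ := hE A hA
      have hS := cokerSC_shortExact i
      cases q with
      | zero => exact surj_zero φ (cokerSC i) hS hT'0 (hφ 0 M hM).2 (hinj _)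
      | succ n =>
        exact surj_succ φ (cokerSC i) hS n (hφ (n + 1) M hM).2 (hinj _)
          (ih n (Nat.lt_succ_self n) _).2
    exact fun A => ⟨hinj A, hsurj A⟩

end Main

end Groth.Agent.H43.DeltaColim
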