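import Groth.Agent.H30.ExtDerived

/-!
# Objectwise uniqueness of effaceable δ-functors

If `G n : A ⥤ B` is a family of functors with connecting maps for short exact sequences,
the two relevant exactness properties, vanishing on injectives in positive degrees and
`G 0 ≅ F` with `F` left exact, then `(G n).obj Y ≅ (F.rightDerived n).obj Y`.
(helper43; built on helper30's hypercohomology library.)
-/

set_option autoImplicit false
universe v v' u u'
open CategoryTheory Limits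

namespace Groth.Agent.H43.DeltaCompare

open Groth.Agent.H30 Groth.Agent.H30.Hyper Groth.Agent.H30.Leray Groth.Agent.H30.ExtShift
open DerivedCategory

variable {A : Type u} [Category.{v} A] [Abelian A] [EnoughInjectives A]
  {B : Type u'} [Category.{v'} B] [Abelian B]
  (F : A ⥤ B) [F.Additive]

/-- The data of an effaceable cohomological δ-functor extending `F` (only what is needed). -/
structure DeltaData where
  /-- the functors -/
  G : ℕ → A ⥤ B
  /-- connecting morphisms -/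
  δ : ∀ (S : ShortComplex A) (_ : S.ShortExact) (n : ℕ),
    (G n).obj S.X₃ ⟶ (G (n + 1)).obj S.X₁
  w₃ : ∀ (S : ShortComplex A) (hS : S.ShortExact) (n : ℕ), (G n).map S.g ≫ δ S hS n = 0
  w₁ : ∀ (S : ShortComplex A) (hS : S.ShortExact) (n : ℕ), δ S hS n ≫ (G (n + 1)).map S.f = 0
  exact₃ : ∀ (S : ShortComplex A) (hS : S.ShortExact) (n : ℕ),
    (ShortComplex.mk _ _ (w₃ S hS n)).Exact
  exact₁ : ∀ (S : ShortComplex A) (hS : S.ShortExact) (n : ℕ),
    (ShortComplex.mk _ _ (w₁ S hS n)).Exact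
  isZero : ∀ (I : A) [Injective I] (n : ℕ), IsZero ((G (n + 1)).obj I)
  /-- degree zero -/
  ε : G 0 ≅ F

variable {F}
variable [PreservesFiniteLimits F]

section

variable [HasDerivedCategory.{max u v} A] [HasDerivedCategory.{max u' v'} B]

/-- The degree `0` comparison. -/
noncomputable def ε₀ (D : DeltaData F) (Y : A) :
    (D.G 0).obj Y ≅ ((Φ F).shift (0 : ℤ)).obj (Plus.Q.obj (sgl Y)) :=
  D.ε.app Y ≪≫ (ν F Y).symm ≪≫ (have := isIso_Θ_sgl F Y; asIso (Θ F (sgl Y) 0))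

lemma ε₀_naturality (D : DeltaData F) {Y Z : A} (g : Y ⟶ Z) :
    (D.G 0).map g ≫ (ε₀ D Z).hom =
      (ε₀ D Y).hom ≫ ((Φ F).shift (0 : ℤ)).map (Plus.Q.map (sglMap g)) := by
  have h1 : (D.G 0).map g ≫ (D.ε.app Z).hom = (D.ε.app Y).hom ≫ F.map g :=
    D.ε.hom.naturality g
  have h2 := ν_hom_naturality F g
  have h3 := Θ_naturality F (sglMap g) 0
  have h2' : F.map g ≫ (ν F Z).inv = (ν F Y).inv ≫
      HomologicalComplex.homologyMap (F.mapCochainComplexPlus.map (sglMap g)).hom 0 := by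
    rw [← cancel_mono (ν F Z).hom, Category.assoc, Category.assoc, Iso.inv_hom_id,
      Category.comp_id, h2, Iso.inv_hom_id_assoc]
  dsimp only [ε₀, Iso.trans_hom, Iso.symm_hom, asIso_hom]
  rw [reassoc_of% h1, reassoc_of% h2', h3, Category.assoc, Category.assoc]

lemma step (D : DeltaData F) (Y : A) (n₀ : ℕ)
    (α : (D.G n₀).obj (underSC Y).X₂ ≅ ((Φ F).shift (n₀ : ℤ)).obj (Plus.Q.obj (sgl (underSC Y).X₂)))
    (β : (D.G n₀).obj (underSC Y).X₃ ≅ ((Φ F).shift (n₀ : ℤ)).obj (Plus.Q.obj (sgl (underSC Y).X₃)))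
    (comm : (D.G n₀).map (underSC Y).g ≫ β.hom =
      α.hom ≫ ((Φ F).shift (n₀ : ℤ)).map (Plus.Q.map (sglMap (underSC Y).g))) :
    Nonempty ((D.G (n₀ + 1)).obj Y ≅
      ((Φ F).shift ((n₀ + 1 : ℕ) : ℤ)).obj (Plus.Q.obj (sgl Y))) := by
  have hS := underSC_shortExact Y
  have hn : (n₀ : ℤ) + 1 = ((n₀ + 1 : ℕ) : ℤ) := by push_cast; rfl
  have ex3 := D.exact₃ _ hS n₀
  have ex1 := D.exact₁ _ hS n₀
  have ex3' := Φ_exact₃ F hS n₀ ((n₀ + 1 : ℕ) : ℤ) hn
  have ex1' := Φ_exact₁ F hS n₀ ((n₀ + 1 : ℕ) : ℤ) hn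
  have e1 := ex1.epi_f ((D.isZero (underSC Y).X₂ n₀).eq_of_tgt _ _)
  have e1' := ex1'.epi_f
    (((acyclic_of_injective F (underSC Y).X₂).isZero_Φ F (n₀ + 1) (by lia)).eq_of_tgt _ _)
  exact ExtDerived.nonempty_iso_of_exact _ _ _ _ _ _ ex3 ex3' e1 e1' α β comm

theorem nonempty_iso_Φ (D : DeltaData F) (n : ℕ) (Y : A) :
    Nonempty ((D.G n).obj Y ≅ ((Φ F).shift (n : ℤ)).obj (Plus.Q.obj (sgl Y))) := by
  induction n generalizing Y with
  | zero => exact ⟨ε₀ D Y⟩
  | succ n ih =>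
    rcases n with _ | m
    · exact step D Y 0 (ε₀ D _) (ε₀ D _) (ε₀_naturality D _)
    · obtain ⟨β⟩ := ih (underSC Y).X₃
      have hz := D.isZero (underSC Y).X₂ m
      have hz' := (acyclic_of_injective F (underSC Y).X₂).isZero_Φ F (m + 1) (by lia)
      exact step D Y (m + 1) (hz.iso hz') β (hz.eq_of_src _ _)

end

/-- Objectwise uniqueness of effaceable δ-functors. -/
theorem DeltaData.nonempty_iso (D : DeltaData F) (n : ℕ) (Y : A) :
    Nonempty ((D.G n).obj Y ≅ (F.rightDerived n).obj Y) := by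
  letI : HasDerivedCategory.{max u v} A := HasDerivedCategory.standard A
  letI : HasDerivedCategory.{max u' v'} B := HasDerivedCategory.standard B
  obtain ⟨e⟩ := nonempty_iso_Φ D n Y
  exact ⟨e ≪≫ ΦsglIsoRightDerived F Y n n rfl⟩

end Groth.Agent.H43.DeltaCompare
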