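import Groth.Agent.H43.PullRetract
import Mathlib.CategoryTheory.Limits.Shapes.WidePullbacks
import Mathlib.Topology.Category.TopCat.Limits.Basic

/-!
# The tower of fibre powers of a map with a section

For `f : X ⟶ S` with a section `s`, the projection `X_{p+1} → X_p` forgetting the last factor has a
section, and `S → X_0` is a section of `X_0 → S`. Hence the cohomology groups of the inverse images
of a sheaf `F` on `S` form a tower of split monomorphisms.
-/

set_option autoImplicit false

namespace Groth.Agent.H43.DescentTower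

open CategoryTheory Limits TopologicalSpace Opposite

universe u

variable {X S : TopCat.{u}} (f : X ⟶ S) (s : S ⟶ X)

/-- The `(p+1)`-fold fibre power. -/
noncomputable abbrev Xp (p : ℕ) : TopCat.{u} :=
  widePullback S (fun _ : Fin (p + 1) => X) (fun _ => f)

/-- The projection to the base. -/
noncomputable abbrev b (p : ℕ) : Xp f p ⟶ S :=
  WidePullback.base (fun _ : Fin (p + 1) => f)

/-- Forget the last factor. -/
noncomputable def g (p : ℕ) : Xp f (p + 1) ⟶ Xp f p :=
  WidePullback.lift (WidePullback.base _) (fun i : Fin (p + 1) => WidePullback.π _ (Fin.castSucc i))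
    (fun i => WidePullback.π_arrow _ _)

lemma g_b (p : ℕ) : g f p ≫ b f p = b f (p + 1) :=
  WidePullback.lift_base _ _ _ _

variable (hs : s ≫ f = 𝟙 S)

/-- Insert the section in the last factor. -/
noncomputable def h (p : ℕ) : Xp f p ⟶ Xp f (p + 1) :=
  WidePullback.lift (WidePullback.base _)
    (fun i : Fin (p + 1 + 1) => Fin.lastCases (motive := fun _ => Xp f p ⟶ X)
      (WidePullback.base _ ≫ s) (fun i => WidePullback.π _ i) i)
    (fun i => by
      induction i using Fin.lastCases with
      | last => rw [Fin.lastCases_last, Category.assoc, hs, Category.comp_id]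
      | cast i => rw [Fin.lastCases_castSucc]; exact WidePullback.π_arrow _ _)

lemma h_g (p : ℕ) : h f s hs p ≫ g f p = 𝟙 _ := by
  apply WidePullback.hom_ext
  · intro i
    rw [Category.assoc, Category.id_comp, g, WidePullback.lift_π, h, WidePullback.lift_π,
      Fin.lastCases_castSucc]
  · rw [Category.assoc, Category.id_comp, g, WidePullback.lift_base, h, WidePullback.lift_base]

/-- The section of `X_0 → S`. -/
noncomputable def h₀ : S ⟶ Xp f 0 :=
  WidePullback.lift (𝟙 S) (fun _ => s) (fun _ => hs)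

lemma h₀_b : h₀ f s hs ≫ b f 0 = 𝟙 S :=
  WidePullback.lift_base _ _ _ _

/-- The inverse image of `F` on the fibre powers. -/
noncomputable abbrev Gp (F : CohTop.Ab S) (p : ℕ) : CohTop.Ab (Xp f p) :=
  (CohTop.pull (b f p)).obj F

/-- The inverse image of `G_p` along the projection is `G_{p+1}`. -/
noncomputable def GpIso (F : CohTop.Ab S) (p : ℕ) :
    (CohTop.pull (g f p)).obj (Gp f F p) ≅ Gp f F (p + 1) :=
  (PullRetract.pullComp (g f p) (b f p)).app F ≪≫
    eqToIso (by rw [g_b])

include hs in
theorem exists_retract_succ (F : CohTop.Ab S) (p q : ℕ) :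
    ∃ (u : AddCommGrpCat.of (CohTop.H (Gp f F p) q) ⟶ AddCommGrpCat.of (CohTop.H (Gp f F (p + 1)) q))
      (r : AddCommGrpCat.of (CohTop.H (Gp f F (p + 1)) q) ⟶ AddCommGrpCat.of (CohTop.H (Gp f F p) q)),
      u ≫ r = 𝟙 _ := by
  obtain ⟨u, r, hur⟩ := PullRetract.exists_retract (g f p) (h f s hs p) (h_g f s hs p)
    (Gp f F p) (Gp f F (p + 1)) (GpIso f F p) q
  refine ⟨AddCommGrpCat.ofHom u, AddCommGrpCat.ofHom r, ?_⟩
  ext x
  exact hur x

include hs in
theorem exists_retract_zero (F : CohTop.Ab S) (q : ℕ) :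
    ∃ (u : AddCommGrpCat.of (CohTop.H F q) ⟶ AddCommGrpCat.of (CohTop.H (Gp f F 0) q))
      (r : AddCommGrpCat.of (CohTop.H (Gp f F 0) q) ⟶ AddCommGrpCat.of (CohTop.H F q)),
      u ≫ r = 𝟙 _ := by
  obtain ⟨u, r, hur⟩ := PullRetract.exists_retract (b f 0) (h₀ f s hs) (h₀_b f s hs)
    F (Gp f F 0) (Iso.refl _) q
  refine ⟨AddCommGrpCat.ofHom u, AddCommGrpCat.ofHom r, ?_⟩
  ext x
  exact hur x

end Groth.Agent.H43.DescentTower
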