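import Groth.Agent.H43.EdgeInj
import Groth.Agent.H43.Cartan

/-!
# Bijectivity of the edge maps for acyclic coverings

(helper43)
-/

set_option autoImplicit false
universe u
open CategoryTheory Limits Opposite Abelian

namespace Groth.Agent.H43.EdgeBij

open CechDelta CohPresheafRD PresheafSS CechH0 CechEdge EdgeCech EdgeDer EdgeZero EdgeMain EdgeInj
  Cartan

variable {C : Type u} [SmallCategory C] [HasPullbacks C] {J : GrothendieckTopology C} {U : C}
  {ι : Type u} {Y : ι → Over U}

section Surj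

omit [HasPullbacks C] in
/-- `G(V) → H(V)` is surjective if `H¹(V, F) = 0` -/
lemma surjective_of_subsingleton_ext_one {S : ShortComplex (Sheaf J AddCommGrpCat.{u})}
    (hS : S.ShortExact) (V : C) (h : Subsingleton (Ext (Z J V) S.X₁ 1)) :
    Function.Surjective (S.g.hom.app (op V)).hom := by
  intro q
  obtain ⟨x₂, hx₂⟩ := Ext.covariant_sequence_exact₃ (Z J V) hS
    (Ext.mk₀ ((θ J V S.X₃).symm q)) rfl (Subsingleton.elim _ _)
  obtain ⟨i, rfl⟩ := (Ext.mk₀_bijective (Z J V) S.X₂).2 x₂
  rw [Ext.mk₀_comp_mk₀] at hx₂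
  have h1 : i ≫ S.g = (θ J V S.X₃).symm q := (Ext.mk₀_bijective (Z J V) S.X₃).1 hx₂
  refine ⟨θ J V S.X₂ i, ?_⟩
  rw [← θ_comp, h1, Equiv.apply_symm_apply]

end Surj

section Quot

variable {S : ShortComplex (Cᵒᵖ ⥤ AddCommGrpCat.{u})} (hS : S.ShortExact)
  (h₁ : Presheaf.IsSheaf J S.X₁) (h₂ : Presheaf.IsSheaf J S.X₂)
include hS h₁ h₂

/-- `Q'(V) → Q'^#(V)` is bijective if `H¹(V, P^#) = 0` -/
lemma toSheafify_app_bijective (V : C) (h : Subsingleton (Ext (Z J V) (shf J S.X₁) 1)) :
    Function.Bijective ((toSheafify J S.X₃).app (op V)).hom := by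
  have hsep := mono_toSheafify_of_shortExact hS h₁ h₂
  have i₂ : IsIso (toSheafify J S.X₂) := isIso_toSheafify J h₂
  refine ⟨(AddCommGrpCat.mono_iff_injective _).1
    ((NatTrans.mono_iff_mono_app _).1 hsep (op V)), ?_⟩
  intro q
  obtain ⟨i', hi'⟩ := surjective_of_subsingleton_ext_one (shortExact_shf J hS) V h q
  obtain ⟨i, rfl⟩ := (ConcreteCategory.bijective_of_isIso ((toSheafify J S.X₂).app (op V))).2 i'
  refine ⟨(S.g.app (op V)).hom i, ?_⟩
  have hnat := congrArg (fun m => (m.app (op V)).hom i) (toSheafify_naturality J S.g)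
  exact hnat.trans hi'

end Quot

section Cech

variable (Y)

/-- a morphism of presheaves bijective on the Čech nerve induces bijections on Čech cohomology -/
lemma cechHMap_bijective_of_app_bijective {P P' : Cᵒᵖ ⥤ AddCommGrpCat.{u}} (κ : P ⟶ P')
    (hκ : ∀ (n : ℕ) (x : Fin (n + 1) → ι),
      Function.Bijective (κ.app (op (∏ᶜ (Y ∘ x)).left)).hom) (p : ℕ) :
    Function.Bijective (cechHMap Y κ p) := by
  have : ∀ n : ℕ, IsIso (((cxFunctor Y).map κ).f n) := by
    intro n
    have : ∀ x : Fin (n + 1) → ι, IsIso (κ.app (op (∏ᶜ (Y ∘ x)).left)) := fun x =>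
      (ConcreteCategory.isIso_iff_bijective _).2 (hκ n x)
    rw [cxFunctor_map_f]
    exact Limits.Pi.map_isIso (fun x : Fin (n + 1) → ι => κ.app (op (∏ᶜ (Y ∘ x)).left))
  have : IsIso ((cxFunctor Y).map κ) := HomologicalComplex.Hom.isIso_of_components _
  have : IsIso (HomologicalComplex.homologyMap ((cxFunctor Y).map κ) p) := inferInstance
  exact ConcreteCategory.bijective_of_isIso
    (HomologicalComplex.homologyMap ((cxFunctor Y).map κ) p)

end Cech

section Step

variable {e : ∀ (P : Cᵒᵖ ⥤ AddCommGrpCat.{u}) (p : ℕ),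
  CohCx.cechH P Y p →+ CohSite.HU (shf J P) p U} (he : IsEdge J Y e)
  {S : ShortComplex (Cᵒᵖ ⥤ AddCommGrpCat.{u})} (hS : S.ShortExact) (n : ℕ)
include he hS

lemma step_injective (ha : IsZero ((Hc Y (n + 1)).obj S.X₂))
    (hb : Function.Surjective (e S.X₂ n)) (hc : Function.Injective (e S.X₃ n)) :
    Function.Injective (e S.X₁ (n + 1)) := by
  rw [injective_iff_map_eq_zero]
  intro x hx
  have hδ : Function.Surjective ((TC Y).δ S hS n (n + 1) rfl).hom := by
    have hex := (TC Y).exact₁ S hS n (n + 1) rfl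
    rw [ShortComplex.ab_exact_iff] at hex
    intro x
    have hsub : Subsingleton ((Hc Y (n + 1)).obj S.X₂) := AddCommGrpCat.subsingleton_of_isZero ha
    obtain ⟨y, hy⟩ := hex x (@Subsingleton.elim _ hsub _ _)
    exact ⟨y, hy⟩
  obtain ⟨y, rfl⟩ := hδ x
  have h1 := he.delta S hS (shortExact_map_cxFunctor Y hS) n y
  have h2 : ((TD J U).δ S hS n (n + 1) rfl).hom (e S.X₃ n y) = 0 := h1.symm.trans hx
  have hex3 := (TD J U).exact₃ S hS n (n + 1) rfl
  rw [ShortComplex.ab_exact_iff] at hex3
  obtain ⟨z, hz⟩ := hex3 (e S.X₃ n y) h2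
  obtain ⟨w, rfl⟩ := hb z
  have h3 := he.natural S.X₂ S.X₃ S.g n w
  have h4 : cechHMap Y S.g n w = y := hc (h3.trans hz)
  rw [← h4]
  exact ConcreteCategory.congr_hom ((TC Y).comp_δ S hS n (n + 1) rfl) w

lemma step_surjective (ha : Subsingleton ((Hd J U (n + 1)).obj S.X₂))
    (hc : Function.Surjective (e S.X₃ n)) :
    Function.Surjective (e S.X₁ (n + 1)) := by
  intro z
  have hex := (TD J U).exact₁ S hS n (n + 1) rfl
  rw [ShortComplex.ab_exact_iff] at hex
  obtain ⟨y', hy'⟩ := hex z (@Subsingleton.elim _ ha _ _)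
  obtain ⟨y, rfl⟩ := hc y'
  refine ⟨((TC Y).δ S hS n (n + 1) rfl).hom y, ?_⟩
  exact (he.delta S hS (shortExact_map_cxFunctor Y hS) n y).trans hy'

end Step

section Main

variable (J Y) in
/-- acyclicity of the covering for the sheaf associated to a presheaf -/
def Acyc (P : Cᵒᵖ ⥤ AddCommGrpCat.{u}) : Prop :=
  ∀ (n : ℕ) (x : Fin (n + 1) → ι) (q : ℕ),
    Subsingleton (Ext (Z J (∏ᶜ (Y ∘ x)).left) (shf J P) (q + 1))

omit [HasPullbacks C] in
lemma subsingleton_ext_of_iso {A B M : Sheaf J AddCommGrpCat.{u}} (i : A ≅ B) (n : ℕ)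
    (h : Subsingleton (Ext M A n)) : Subsingleton (Ext M B n) := by
  have e := ((extFunctorObj M n).mapIso i).addCommGroupIsoToAddEquiv
  have : Subsingleton ((extFunctorObj M n).obj A) := h
  exact e.symm.toEquiv.subsingleton

omit [HasPullbacks C] in
/-- the sheafification of (the underlying presheaf of) an injective sheaf is injective -/
lemma injective_shf (I : Sheaf J AddCommGrpCat.{u}) [Injective I] : Injective (shf J I.obj) :=
  Injective.of_iso (asIso ((sheafificationAdjunction J AddCommGrpCat.{u}).counit.app I)).symm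
    inferInstance

/-- dimension shifting for the acyclicity hypothesis -/
lemma acyc_quot {S : ShortComplex (Cᵒᵖ ⥤ AddCommGrpCat.{u})} (hS : S.ShortExact)
    (hI : Injective (shf J S.X₂)) (hA : Acyc J Y S.X₁) : Acyc J Y (shf J S.X₃).obj := by
  intro n x q
  refine subsingleton_ext_of_iso
    (asIso ((sheafificationAdjunction J AddCommGrpCat.{u}).counit.app (shf J S.X₃))).symm _ ?_
  refine subsingleton_of_forall_eq 0 (fun x₃ => ?_)
  have hLS := shortExact_shf J hS
  have := hA n x (q + 1)
  obtain ⟨x₂, rfl⟩ := Ext.covariant_sequence_exact₃ (Z J (∏ᶜ (Y ∘ x)).left) hLS x₃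
    (rfl : (q + 1) + 1 = q + 2) (@Subsingleton.elim _ this _ _)
  have hx₂ : x₂ = 0 := @Ext.eq_zero_of_injective _ _ _ _ _ _ _ hI x₂
  rw [hx₂, Ext.zero_comp]
  rfl

variable {e : ∀ (P : Cᵒᵖ ⥤ AddCommGrpCat.{u}) (p : ℕ),
  CohCx.cechH P Y p →+ CohSite.HU (shf J P) p U} (he : IsEdge J Y e)
include he

/-- **Bijectivity of the edge maps for acyclic coverings** (presheaf form) -/
theorem edge_bijective : ∀ (p : ℕ) (P : Cᵒᵖ ⥤ AddCommGrpCat.{u}), Presheaf.IsSheaf J P →
    Acyc J Y P → Function.Bijective (e P p)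
  | 0, P, hP, _ => by
    have := isIso_toSheafify J hP
    exact ⟨edge_zero_injective he P, edge_zero_surjective he P hP⟩
  | n + 1, P, hP, hA => by
    let F : Sheaf J AddCommGrpCat.{u} := ⟨P, hP⟩
    let I := Injective.under F
    let f : P ⟶ I.obj := (Injective.ι F).hom
    have hf : Mono f := (sheafToPresheaf J AddCommGrpCat.{u}).map_mono (Injective.ι F)
    let S : ShortComplex (Cᵒᵖ ⥤ AddCommGrpCat.{u}) :=
      ShortComplex.mk f (cokernel.π f) (cokernel.condition _)
    have hS : S.ShortExact := { exact := ShortComplex.exact_cokernel f }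
    have hIinj : Injective (shf J S.X₂) := injective_shf I
    -- the quotient
    have IHQ : Function.Bijective (e (shf J S.X₃).obj n) :=
      edge_bijective n _ (shf J S.X₃).property (acyc_quot hS hIinj hA)
    have hη : Function.Bijective (cechHMap Y (toSheafify J S.X₃) n) :=
      cechHMap_bijective_of_app_bijective Y _
        (fun m x => toSheafify_app_bijective hS hP I.property _ (hA m x 0)) n
    have := isIso_shfMap_toSheafify (J := J) S.X₃
    have hHU : Function.Injective (HUmap (shfMap J (toSheafify J S.X₃)) n U) :=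
      HUmap_injective_of_isIso _ n
    have hnat := he.natural S.X₃ (shf J S.X₃).obj (toSheafify J S.X₃) n
    have hQ' : Function.Bijective (e S.X₃ n) := by
      constructor
      · intro y y' hyy'
        apply hη.1
        apply IHQ.1
        rw [hnat, hnat, hyy']
      · intro z
        obtain ⟨y', hy'⟩ := IHQ.2 (HUmap (shfMap J (toSheafify J S.X₃)) n U z)
        obtain ⟨y, rfl⟩ := hη.2 y'
        exact ⟨y, hHU ((hnat y).symm.trans hy')⟩
    -- the injective sheaf
    have haC : IsZero ((Hc Y (n + 1)).obj S.X₂) :=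
      isZero_G_succ_of_injective Y ((T J).obj I) n
    have haD : Subsingleton ((Hd J U (n + 1)).obj S.X₂) :=
      subsingleton_of_forall_eq 0 (fun z => @Ext.eq_zero_of_injective _ _ _ _ _ _ _ hIinj z)
    have hbI : Function.Surjective (e S.X₂ n) := by
      cases n with
      | zero => exact edge_zero_surjective he I.obj I.property
      | succ m =>
        intro z
        refine ⟨0, ?_⟩
        rw [map_zero]
        exact (@Ext.eq_zero_of_injective _ _ _ _ _ _ _ hIinj z).symm
    exact ⟨step_injective he hS n haC hbI hQ'.1, step_surjective he hS n haD hQ'.2⟩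

/-- the sheaf version -/
theorem edgeSh_bijective (F : Sheaf J AddCommGrpCat.{u})
    (h : ∀ (p : ℕ) (a : Fin (p + 1) → ι) (q : ℕ),
      Subsingleton (CohSite.HU F (q + 1) (∏ᶜ fun k => Y (a k)).left))
    (p : ℕ) : Function.Bijective (edgeSh e F p) := by
  have hiso : IsIso ((sheafificationAdjunction J AddCommGrpCat.{u}).counit.app F) := inferInstance
  have hA : Acyc J Y F.obj := fun n x q =>
    subsingleton_ext_of_iso
      (asIso ((sheafificationAdjunction J AddCommGrpCat.{u}).counit.app F)).symm _ (h n x q)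
  have h1 := edge_bijective he p F.obj F.property hA
  have h2 : Function.Bijective (HUmap ((sheafificationAdjunction J AddCommGrpCat.{u}).counit.app F)
      p U) := by
    have : IsIso ((extFunctorObj (CohCx.freeSheaf J U) p).map
      ((sheafificationAdjunction J AddCommGrpCat.{u}).counit.app F)) := inferInstance
    exact ConcreteCategory.bijective_of_isIso ((extFunctorObj (CohCx.freeSheaf J U) p).map
      ((sheafificationAdjunction J AddCommGrpCat.{u}).counit.app F))
  exact h2.comp h1

end Main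

end Groth.Agent.H43.EdgeBij
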