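import Groth.Prelude.Def_CechEdge
import Groth.Prelude.Def_DeltaF
import Groth.Agent.H43.CechDelta

/-!
# Čech cohomology as a δ-functor on abelian presheaves

(helper43)
-/

set_option autoImplicit false
universe u
open CategoryTheory Limits Opposite

namespace Groth.Agent.H43.EdgeCech

open CechDelta CechEdge

variable {C : Type u} [SmallCategory C] [HasPullbacks C] {U : C} {ι : Type u} (Y : ι → Over U)

lemma cxFunctor_map_f {P P' : Cᵒᵖ ⥤ AddCommGrpCat.{u}} (φ : P ⟶ P') (n : ℕ) :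
    ((cxFunctor Y).map φ).f n =
      Limits.Pi.map (fun x : Fin (n + 1) → ι => φ.app (op (∏ᶜ (Y ∘ x)).left)) := rfl

instance : (cxFunctor (C := C) Y).Additive where
  map_add {P P'} {φ ψ} := by
    ext n : 1
    change Limits.Pi.map (fun x : Fin (n + 1) → ι => (φ + ψ).app (op (∏ᶜ (Y ∘ x)).left)) =
      Limits.Pi.map (fun x : Fin (n + 1) → ι => φ.app (op (∏ᶜ (Y ∘ x)).left)) +
        Limits.Pi.map (fun x : Fin (n + 1) → ι => ψ.app (op (∏ᶜ (Y ∘ x)).left))
    apply Pi.hom_ext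
    intro x
    rw [Limits.Pi.map_π, Preadditive.add_comp, Limits.Pi.map_π, Limits.Pi.map_π,
      ← Preadditive.comp_add]
    rfl

/-- the Čech complexes of a short exact sequence of presheaves -/
lemma shortExact_map_cxFunctor {S : ShortComplex (Cᵒᵖ ⥤ AddCommGrpCat.{u})} (hS : S.ShortExact) :
    (S.map (cxFunctor Y)).ShortExact := by
  apply HomologicalComplex.shortExact_of_degreewise_shortExact
  intro n
  exact pi_shortExact (fun x : Fin (n + 1) → ι => S.f.app (op (∏ᶜ (Y ∘ x)).left))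
    (fun x => S.g.app (op (∏ᶜ (Y ∘ x)).left)) _
    (fun x => hS.map_of_exact ((evaluation _ _).obj (op (∏ᶜ (Y ∘ x)).left)))

/-- Čech cohomology functors on presheaves -/
noncomputable def Hc (n : ℕ) : (Cᵒᵖ ⥤ AddCommGrpCat.{u}) ⥤ AddCommGrpCat.{u} :=
  cxFunctor Y ⋙ HomologicalComplex.homologyFunctor _ _ n

instance (n : ℕ) : (Hc Y n).Additive := by
  dsimp only [Hc]
  infer_instance

/-- **Čech cohomology as a δ-functor** -/
noncomputable def TC : DeltaF.CohDeltaFunctor (Cᵒᵖ ⥤ AddCommGrpCat.{u}) AddCommGrpCat.{u} ℕ where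
  F := Hc Y
  additive n := inferInstance
  δ S hS n₀ n₁ h := (shortExact_map_cxFunctor Y hS).δ n₀ n₁ h
  δ_natural {S S'} hS hS' φ n₀ n₁ h :=
    (HomologicalComplex.HomologySequence.δ_naturality ((cxFunctor Y).mapShortComplex.map φ)
      (shortExact_map_cxFunctor Y hS) (shortExact_map_cxFunctor Y hS') n₀ n₁ h).symm
  exact₂ S hS n := (shortExact_map_cxFunctor Y hS).homology_exact₂ n
  comp_δ S hS n₀ n₁ h := (shortExact_map_cxFunctor Y hS).comp_δ n₀ n₁ h
  exact₃ S hS n₀ n₁ h := (shortExact_map_cxFunctor Y hS).homology_exact₃ n₀ n₁ h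
  δ_comp S hS n₀ n₁ h := (shortExact_map_cxFunctor Y hS).δ_comp n₀ n₁ h
  exact₁ S hS n₀ n₁ h := (shortExact_map_cxFunctor Y hS).homology_exact₁ n₀ n₁ h

lemma TC_F (n : ℕ) : (TC Y).F n = Hc Y n := rfl

/-- Čech cohomology is effaceable on presheaves -/
lemma isEffaceable : (TC Y).IsEffaceable := by
  intro n P
  let P' : PSh C := ⟨P, Presheaf.isSheaf_bot _⟩
  refine ⟨(Injective.under P').obj, (Injective.ι P').hom, ?_, ?_⟩
  · exact (sheafToPresheaf _ _).map_mono (Injective.ι P')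
  · exact (isZero_G_succ_of_injective Y (Injective.under P') n).eq_of_tgt _ _

end Groth.Agent.H43.EdgeCech
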