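import Groth.Prelude.Def_CechEdge
import Groth.Prelude.Def_DeltaF

/-!
# `P ↦ H^•(U, P^#)` as a δ-functor on abelian presheaves

(helper43)
-/

set_option autoImplicit false
universe u
open CategoryTheory Limits Opposite Abelian

namespace Groth.Agent.H43.EdgeDer

open CechEdge

variable {C : Type u} [SmallCategory C] (J : GrothendieckTopology C) (U : C)

/-- `H^n(U, (-)^#)` -/
noncomputable def Hd (n : ℕ) : (Cᵒᵖ ⥤ AddCommGrpCat.{u}) ⥤ AddCommGrpCat.{u} :=
  presheafToSheaf J AddCommGrpCat.{u} ⋙ extFunctorObj (CohCx.freeSheaf J U) n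

instance (n : ℕ) : (Hd J U n).Additive := by
  dsimp only [Hd]
  infer_instance

/-- the sheafified short exact sequence -/
lemma shortExact_shf {S : ShortComplex (Cᵒᵖ ⥤ AddCommGrpCat.{u})} (hS : S.ShortExact) :
    (S.map (presheafToSheaf J AddCommGrpCat.{u})).ShortExact :=
  hS.map_of_exact (presheafToSheaf J AddCommGrpCat.{u})

/-- **`H^•(U, (-)^#)` as a δ-functor** -/
noncomputable def TD : DeltaF.CohDeltaFunctor (Cᵒᵖ ⥤ AddCommGrpCat.{u}) AddCommGrpCat.{u} ℕ where
  F := Hd J U
  additive n := inferInstance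
  δ S hS n₀ n₁ h :=
    AddCommGrpCat.ofHom ((shortExact_shf J hS).extClass.postcomp (CohCx.freeSheaf J U) h)
  δ_natural {S S'} hS hS' φ n₀ n₁ h := by
    ext x
    have hnat := ShortComplex.ShortExact.extClass_naturality (shortExact_shf J hS)
      (shortExact_shf J hS') ((presheafToSheaf J AddCommGrpCat.{u}).mapShortComplex.map φ)
    change (x.comp (Ext.mk₀ ((presheafToSheaf J AddCommGrpCat.{u}).map φ.τ₃)) (add_zero n₀)).comp
        (shortExact_shf J hS').extClass h =
      (x.comp (shortExact_shf J hS).extClass h).comp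
        (Ext.mk₀ ((presheafToSheaf J AddCommGrpCat.{u}).map φ.τ₁)) (add_zero n₁)
    rw [Ext.comp_assoc_of_second_deg_zero, Ext.comp_assoc_of_third_deg_zero]
    exact congrArg (fun z => x.comp z h) hnat.symm
  exact₂ S hS n := Ext.covariant_sequence_exact₂' (CohCx.freeSheaf J U) (shortExact_shf J hS) n
  comp_δ S hS n₀ n₁ h := by
    ext x
    revert x
    intro (x : Ext (CohCx.freeSheaf J U) ((presheafToSheaf J AddCommGrpCat.{u}).obj S.X₂) n₀)
    change (x.comp (Ext.mk₀ ((presheafToSheaf J AddCommGrpCat.{u}).map S.g)) (add_zero n₀)).comp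
        (shortExact_shf J hS).extClass h = 0
    rw [Ext.comp_assoc_of_second_deg_zero]
    have := (shortExact_shf J hS).comp_extClass
    refine (congrArg (fun z => x.comp z h) this).trans ?_
    exact Ext.comp_zero x _ _ _ h
  exact₃ S hS n₀ n₁ h :=
    Ext.covariant_sequence_exact₃' (CohCx.freeSheaf J U) (shortExact_shf J hS) n₀ n₁ h
  δ_comp S hS n₀ n₁ h := by
    ext x
    revert x
    intro (x : Ext (CohCx.freeSheaf J U) ((presheafToSheaf J AddCommGrpCat.{u}).obj S.X₃) n₀)
    change (x.comp (shortExact_shf J hS).extClass h).comp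
        (Ext.mk₀ ((presheafToSheaf J AddCommGrpCat.{u}).map S.f)) (add_zero n₁) = 0
    rw [Ext.comp_assoc_of_third_deg_zero]
    have := (shortExact_shf J hS).extClass_comp
    refine (congrArg (fun z => x.comp z h) this).trans ?_
    exact Ext.comp_zero x _ _ _ h
  exact₁ S hS n₀ n₁ h :=
    Ext.covariant_sequence_exact₁' (CohCx.freeSheaf J U) (shortExact_shf J hS) n₀ n₁ h

end Groth.Agent.H43.EdgeDer
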