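import Groth.Agent.H43.EdgeMain

/-!
# Injectivity of the edge map in degree one

(helper43)
-/

set_option autoImplicit false
universe u
open CategoryTheory Limits Opposite Abelian

namespace Groth.Agent.H43.EdgeInj

open CechDelta CohPresheafRD CechH0 CechEdge EdgeCech EdgeDer EdgeZero EdgeMain

variable {C : Type u} [SmallCategory C] [HasPullbacks C] {J : GrothendieckTopology C} {U : C}
  {ι : Type u} {Y : ι → Over U}

section Sep

/-- For a short exact sequence of presheaves `0 → P → I → Q' → 0` with `P` and `I` sheaves, the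
quotient presheaf `Q'` is separated: `Q' → Q'^#` is a monomorphism. -/
lemma mono_toSheafify_of_shortExact {S : ShortComplex (Cᵒᵖ ⥤ AddCommGrpCat.{u})}
    (hS : S.ShortExact) (h₁ : Presheaf.IsSheaf J S.X₁) (h₂ : Presheaf.IsSheaf J S.X₂) :
    Mono (toSheafify J S.X₃) := by
  have i₁ : IsIso (toSheafify J S.X₁) := isIso_toSheafify J h₁
  have i₂ : IsIso (toSheafify J S.X₂) := isIso_toSheafify J h₂
  rw [NatTrans.mono_iff_mono_app]
  intro V
  rw [AddCommGrpCat.mono_iff_injective, injective_iff_map_eq_zero]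
  intro x hx
  -- lift `x`
  have hSV := hS.map_of_exact ((evaluation Cᵒᵖ AddCommGrpCat.{u}).obj V)
  obtain ⟨i, rfl⟩ := (AddCommGrpCat.epi_iff_surjective _).1 hSV.epi_g x
  change ((toSheafify J S.X₃).app V).hom ((S.g.app V).hom i) = 0 at hx
  -- the sheafified sequence, evaluated at `V`
  have hLS := shortExact_shf J hS
  have := hLS.mono_f
  let FV : Sheaf J AddCommGrpCat.{u} ⥤ AddCommGrpCat.{u} :=
    sheafToPresheaf J AddCommGrpCat.{u} ⋙ (evaluation Cᵒᵖ AddCommGrpCat.{u}).obj V
  have hex : ((S.map (presheafToSheaf J AddCommGrpCat.{u})).map FV).Exact :=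
    hLS.exact.map_of_mono_of_preservesKernel FV inferInstance inferInstance
  rw [ShortComplex.ab_exact_iff] at hex
  have hnat_g := congrArg (fun m => (m.app V).hom i) (toSheafify_naturality J S.g)
  have hz : ((sheafifyMap J S.g).app V).hom (((toSheafify J S.X₂).app V).hom i) = 0 :=
    hnat_g.symm.trans hx
  obtain ⟨p', hp'⟩ := hex (((toSheafify J S.X₂).app V).hom i) hz
  -- `p'` comes from `P`
  have hs₁ : Function.Surjective ((toSheafify J S.X₁).app V).hom :=
    (ConcreteCategory.bijective_of_isIso ((toSheafify J S.X₁).app V)).2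
  obtain ⟨p, rfl⟩ := hs₁ p'
  have hnat_f := congrArg (fun m => (m.app V).hom p) (toSheafify_naturality J S.f)
  have hi₂ : Function.Injective ((toSheafify J S.X₂).app V).hom :=
    (ConcreteCategory.bijective_of_isIso ((toSheafify J S.X₂).app V)).1
  have hip : (S.f.app V).hom p = i := hi₂ (hnat_f.trans hp')
  rw [← hip]
  exact congrArg (fun m => (m.app V).hom p) S.zero

end Sep

section Zero

variable (Y)

/-- `Ȟ⁰` preserves monomorphisms -/
lemma cechHMap_zero_injective {P P' : Cᵒᵖ ⥤ AddCommGrpCat.{u}} (κ : P ⟶ P') [Mono κ] :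
    Function.Injective (cechHMap Y κ 0) := by
  let κ' : (⟨P, Presheaf.isSheaf_bot _⟩ : PSh C) ⟶ ⟨P', Presheaf.isSheaf_bot _⟩ := ⟨κ⟩
  have hκ' : Mono κ' :=
    (sheafToPresheaf (⊥ : GrothendieckTopology C) AddCommGrpCat.{u}).mono_of_mono_map
      (inferInstanceAs (Mono κ))
  have : Mono ((G Y 0).map κ') := inferInstance
  exact (AddCommGrpCat.mono_iff_injective _).1 this

lemma cechHMap_bijective_of_isIso {P P' : Cᵒᵖ ⥤ AddCommGrpCat.{u}} (κ : P ⟶ P') [IsIso κ]
    (p : ℕ) : Function.Bijective (cechHMap Y κ p) := by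
  have : IsIso ((Hc Y p).map κ) := inferInstance
  exact ConcreteCategory.bijective_of_isIso ((Hc Y p).map κ)

variable {Y}
variable {e : ∀ (P : Cᵒᵖ ⥤ AddCommGrpCat.{u}) (p : ℕ),
  CohCx.cechH P Y p →+ CohSite.HU (shf J P) p U} (he : IsEdge J Y e)
include he

/-- the edge map in degree zero is injective on separated presheaves -/
lemma edge_zero_injective (P : Cᵒᵖ ⥤ AddCommGrpCat.{u}) [Mono (toSheafify J P)] :
    Function.Injective (e P 0) := by
  intro x x' h
  rw [edge_zero_eq he, edge_zero_eq he, t₀_apply, t₀_apply] at h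
  exact cechHMap_zero_injective Y (toSheafify J P)
    ((toCechEquiv J Y he.cover (shf J P)).symm.injective ((sectH0 J U (shf J P)).injective h))

/-- the edge map in degree zero is surjective on sheaves -/
lemma edge_zero_surjective (P : Cᵒᵖ ⥤ AddCommGrpCat.{u}) (hP : Presheaf.IsSheaf J P) :
    Function.Surjective (e P 0) := by
  have := isIso_toSheafify J hP
  intro z
  obtain ⟨x, hx⟩ := (cechHMap_bijective_of_isIso Y (toSheafify J P) 0).2
    (toCechEquiv J Y he.cover (shf J P) ((sectH0 J U (shf J P)).symm z))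
  refine ⟨x, ?_⟩
  rw [edge_zero_eq he, t₀_apply, hx, AddEquiv.symm_apply_apply, AddEquiv.apply_symm_apply]

end Zero

section One

variable {e : ∀ (P : Cᵒᵖ ⥤ AddCommGrpCat.{u}) (p : ℕ),
  CohCx.cechH P Y p →+ CohSite.HU (shf J P) p U} (he : IsEdge J Y e)
include he

/-- **The edge map in degree one is injective** on (the underlying presheaf of) a sheaf. -/
theorem edge_one_injective (F : Sheaf J AddCommGrpCat.{u}) : Function.Injective (e F.obj 1) := by
  rw [injective_iff_map_eq_zero]
  intro x hx
  -- the presheaf short exact sequence `0 → F → I → Q' → 0`, `I` an injective sheaf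
  let I := Injective.under F
  let f : F.obj ⟶ I.obj := (Injective.ι F).hom
  have hf : Mono f := (sheafToPresheaf J AddCommGrpCat.{u}).map_mono (Injective.ι F)
  let S : ShortComplex (Cᵒᵖ ⥤ AddCommGrpCat.{u}) :=
    ShortComplex.mk f (cokernel.π f) (cokernel.condition _)
  have hS : S.ShortExact := { exact := ShortComplex.exact_cokernel f }
  have hsep : Mono (toSheafify J S.X₃) := mono_toSheafify_of_shortExact hS F.property I.property
  -- `x = δ y`
  have hI : IsZero ((Hc Y 1).obj I.obj) := isZero_G_succ_of_injective Y ((T J).obj I) 0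
  have hδ : Function.Surjective ((TC Y).δ S hS 0 1 rfl).hom := by
    have hex := (TC Y).exact₁ S hS 0 1 rfl
    rw [ShortComplex.ab_exact_iff] at hex
    intro x
    have hsub : Subsingleton ((Hc Y 1).obj I.obj) := AddCommGrpCat.subsingleton_of_isZero hI
    obtain ⟨y, hy⟩ := hex x (@Subsingleton.elim _ hsub _ _)
    exact ⟨y, hy⟩
  obtain ⟨y, rfl⟩ := hδ x
  -- `δ' (e y) = 0`
  have h1 := he.delta S hS (shortExact_map_cxFunctor Y hS) 0 y
  have h2 : ((TD J U).δ S hS 0 1 rfl).hom (e S.X₃ 0 y) = 0 := h1.symm.trans hx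
  -- `e y` comes from `H⁰(U, I^#)`
  have hex3 := (TD J U).exact₃ S hS 0 1 rfl
  rw [ShortComplex.ab_exact_iff] at hex3
  obtain ⟨z, hz⟩ := hex3 (e S.X₃ 0 y) h2
  obtain ⟨w, rfl⟩ := edge_zero_surjective he I.obj I.property z
  -- `y = g w`
  have h3 := he.natural S.X₂ S.X₃ S.g 0 w
  have h4 : cechHMap Y S.g 0 w = y := by
    apply edge_zero_injective he S.X₃
    exact h3.trans hz
  rw [← h4]
  exact ConcreteCategory.congr_hom ((TC Y).comp_δ S hS 0 1 rfl) w

/-- the sheaf version -/
theorem edgeSh_one_injective (F : Sheaf J AddCommGrpCat.{u}) :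
    Function.Injective (edgeSh e F 1) := by
  have : IsIso ((sheafificationAdjunction J AddCommGrpCat.{u}).counit.app F) := inferInstance
  exact (HUmap_injective_of_isIso
    ((sheafificationAdjunction J AddCommGrpCat.{u}).counit.app F) 1).comp
      (edge_one_injective he F)

end One

end Groth.Agent.H43.EdgeInj
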