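import Groth.Agent.H43.EdgeZero
import Groth.Agent.S6773

/-!
# The edge family from Čech cohomology to sheaf cohomology: existence and uniqueness

(helper43)
-/

set_option autoImplicit false
universe u
open CategoryTheory Limits Opposite Abelian

namespace Groth.Agent.H43.EdgeMain

open CechH0 CechEdge EdgeCech EdgeDer EdgeZero

variable {C : Type u} [SmallCategory C] [HasPullbacks C] (J : GrothendieckTopology C) {U : C}
  {ι : Type u} (Y : ι → Over U)

section SectH0

lemma sectH0_eq (F : Sheaf J AddCommGrpCat.{u}) (s : F.obj.obj (op U)) :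
    sectH0 J U F s = Ext.mk₀ (CohFree.ofSect J U F s) := rfl

lemma ofSect_comp {F G : Sheaf J AddCommGrpCat.{u}} (ψ : F ⟶ G) (s : F.obj.obj (op U)) :
    CohFree.ofSect J U F s ≫ ψ = CohFree.ofSect J U G ((ψ.hom.app (op U)).hom s) := by
  apply (CohFree.homEquivSect J U G).injective
  rw [CohFree.homEquivSect_apply, CohFree.homEquivSect_apply, CohFree.evalGen_ofSect]
  change (ψ.hom.app (op U)).hom (CohFree.evalGen J U F (CohFree.ofSect J U F s)) = _
  rw [CohFree.evalGen_ofSect]

/-- naturality of `sectH0` -/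
lemma sectH0_naturality {F G : Sheaf J AddCommGrpCat.{u}} (ψ : F ⟶ G) (s : F.obj.obj (op U)) :
    HUmap ψ 0 U (sectH0 J U F s) = sectH0 J U G ((ψ.hom.app (op U)).hom s) := by
  rw [sectH0_eq, sectH0_eq, ← ofSect_comp, ← Ext.mk₀_comp_mk₀]
  rfl

end SectH0

variable (hY : R Y ∈ J U)

/-- `F(U) ≃+ Ȟ⁰(Y, F)` for a sheaf and a covering -/
noncomputable def toCechEquiv (F : Sheaf J AddCommGrpCat.{u}) :
    F.obj.obj (op U) ≃+ CohCx.cechH F.obj Y 0 :=
  AddEquiv.ofBijective (toCech Y F.obj) (toCech_bijective J Y F hY)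

lemma toCechEquiv_apply (F : Sheaf J AddCommGrpCat.{u}) (s : F.obj.obj (op U)) :
    toCechEquiv J Y hY F s = toCech Y F.obj s := rfl

/-- the degree-zero edge map, as an additive map -/
noncomputable def t₀ (P : Cᵒᵖ ⥤ AddCommGrpCat.{u}) :
    CohCx.cechH P Y 0 →+ CohSite.HU (shf J P) 0 U :=
  ((sectH0 J U (shf J P)).toAddMonoidHom.comp
    (toCechEquiv J Y hY (shf J P)).symm.toAddMonoidHom).comp (cechHMap Y (toSheafify J P) 0)

lemma t₀_apply (P : Cᵒᵖ ⥤ AddCommGrpCat.{u}) (x : CohCx.cechH P Y 0) :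
    t₀ J Y hY P x = sectH0 J U (shf J P)
      ((toCechEquiv J Y hY (shf J P)).symm (cechHMap Y (toSheafify J P) 0 x)) := rfl

lemma t₀_toCech (P : Cᵒᵖ ⥤ AddCommGrpCat.{u}) (s : P.obj (op U)) :
    t₀ J Y hY P (toCech Y P s) =
      sectH0 J U (shf J P) (((toSheafify J P).app (op U)).hom s) := by
  rw [t₀_apply, toCech_naturality, ← toCechEquiv_apply J Y hY, AddEquiv.symm_apply_apply]

lemma cechHMap_comp {P Q R' : Cᵒᵖ ⥤ AddCommGrpCat.{u}} (φ : P ⟶ Q) (ψ : Q ⟶ R')
    (x : CohCx.cechH P Y 0) :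
    cechHMap Y (φ ≫ ψ) 0 x = cechHMap Y ψ 0 (cechHMap Y φ 0 x) :=
  ConcreteCategory.congr_hom ((Hc Y 0).map_comp φ ψ) x

lemma t₀_naturality {P Q : Cᵒᵖ ⥤ AddCommGrpCat.{u}} (φ : P ⟶ Q) (x : CohCx.cechH P Y 0) :
    t₀ J Y hY Q (cechHMap Y φ 0 x) = HUmap (shfMap J φ) 0 U (t₀ J Y hY P x) := by
  rw [t₀_apply, t₀_apply, sectH0_naturality, ← cechHMap_comp, toSheafify_naturality, cechHMap_comp]
  congr 1
  obtain ⟨s, hs⟩ := (toCechEquiv J Y hY (shf J P)).surjective (cechHMap Y (toSheafify J P) 0 x)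
  rw [← hs, AddEquiv.symm_apply_apply, toCechEquiv_apply, toCech_naturality,
    ← toCechEquiv_apply J Y hY, AddEquiv.symm_apply_apply]

/-- the degree-zero natural transformation -/
noncomputable def t : (TC Y).F 0 ⟶ (TD J U).F 0 where
  app P := AddCommGrpCat.ofHom (t₀ J Y hY P)
  naturality P Q φ := by
    ext x
    exact t₀_naturality J Y hY φ x

/-- Čech cohomology is a universal δ-functor on presheaves -/
lemma isUniversal_TC : (TC Y).IsUniversal :=
  Groth.Agent.S6773.result (TC Y) (isEffaceable Y)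

include hY in
/-- **Existence of the edge family** -/
theorem exists_isEdge :
    ∃ e : ∀ (P : Cᵒᵖ ⥤ AddCommGrpCat.{u}) (p : ℕ),
      CohCx.cechH P Y p →+ CohSite.HU (shf J P) p U, IsEdge J Y e := by
  obtain ⟨τ, hτ, -⟩ := isUniversal_TC Y (TD J U) (t J Y hY)
  refine ⟨fun P p => ((τ.app p).app P).hom, ?_⟩
  refine { cover := hY, zero := ?_, natural := ?_, delta := ?_ }
  · intro P s
    have h1 : ((τ.app 0).app P).hom = t₀ J Y hY P := by
      rw [hτ]
      rfl
    change ((τ.app 0).app P).hom (toCech Y P s) = _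
    rw [h1]
    exact t₀_toCech J Y hY P s
  · intro P Q φ p x
    exact ConcreteCategory.congr_hom ((τ.app p).naturality φ) x
  · intro S hS hC p x
    exact ConcreteCategory.congr_hom (τ.comm S hS p (p + 1) rfl) x

section Unique

variable {J Y}
variable {e : ∀ (P : Cᵒᵖ ⥤ AddCommGrpCat.{u}) (p : ℕ),
  CohCx.cechH P Y p →+ CohSite.HU (shf J P) p U} (he : IsEdge J Y e)

/-- the morphism of δ-functors attached to an edge family -/
noncomputable def τOf : TC Y ⟶ TD J U where
  app n :=
    { app := fun P => AddCommGrpCat.ofHom (e P n)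
      naturality := fun P Q φ => by
        ext x
        exact he.natural P Q φ n x }
  comm S hS n₀ n₁ h := by
    subst h
    ext x
    exact he.delta S hS (shortExact_map_cxFunctor Y hS) n₀ x

omit [HasPullbacks C] in
lemma isIso_shfMap_toSheafify (P : Cᵒᵖ ⥤ AddCommGrpCat.{u}) :
    IsIso (shfMap J (toSheafify J P)) := by
  have h := (sheafificationAdjunction J AddCommGrpCat.{u}).left_triangle_components P
  have : IsIso (shfMap J (toSheafify J P) ≫
      (sheafificationAdjunction J AddCommGrpCat.{u}).counit.app (shf J P)) := by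
    change IsIso ((presheafToSheaf J AddCommGrpCat.{u}).map
      ((sheafificationAdjunction J AddCommGrpCat.{u}).unit.app P) ≫ _)
    rw [h]
    exact IsIso.id _
  exact IsIso.of_isIso_comp_right _
    ((sheafificationAdjunction J AddCommGrpCat.{u}).counit.app (shf J P))

omit [HasPullbacks C] in
lemma HUmap_injective_of_isIso {F G : Sheaf J AddCommGrpCat.{u}} (ψ : F ⟶ G) [IsIso ψ] (p : ℕ) :
    Function.Injective (HUmap ψ p U) := by
  have : IsIso ((extFunctorObj (CohCx.freeSheaf J U) p).map ψ) := inferInstance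
  exact (ConcreteCategory.bijective_of_isIso
    ((extFunctorObj (CohCx.freeSheaf J U) p).map ψ)).1

include he in
/-- an edge family is the canonical map in degree zero -/
lemma edge_zero_eq (P : Cᵒᵖ ⥤ AddCommGrpCat.{u}) (x : CohCx.cechH P Y 0) :
    e P 0 x = t₀ J Y he.cover P x := by
  have := isIso_shfMap_toSheafify (J := J) P
  apply HUmap_injective_of_isIso (shfMap J (toSheafify J P)) 0
  rw [← he.natural, ← t₀_naturality]
  obtain ⟨s, hs⟩ := (toCechEquiv J Y he.cover (shf J P)).surjective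
    (cechHMap Y (toSheafify J P) 0 x)
  rw [← hs, toCechEquiv_apply, he.zero, t₀_toCech]

include he in
lemma τOf_app_zero : (τOf he).app 0 = t J Y he.cover := by
  ext P x
  exact edge_zero_eq he P x

include he in
/-- **Uniqueness of the edge family** -/
theorem isEdge_unique {e' : ∀ (P : Cᵒᵖ ⥤ AddCommGrpCat.{u}) (p : ℕ),
    CohCx.cechH P Y p →+ CohSite.HU (shf J P) p U} (he' : IsEdge J Y e') : e = e' := by
  obtain ⟨τ, -, huniq⟩ := isUniversal_TC Y (TD J U) (t J Y he.cover)
  have h1 : τOf he = τ := huniq _ (τOf_app_zero he)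
  have h2 : τOf he' = τ := huniq _ (τOf_app_zero he')
  have h := h1.trans h2.symm
  funext P p
  have := congrArg (fun τ' : TC Y ⟶ TD J U => ((τ'.app p).app P).hom) h
  exact this

end Unique

end Groth.Agent.H43.EdgeMain
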