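import Groth.Agent.H43.EdgeMain

/-!
# Edge maps and refinements

(helper43)
-/

set_option autoImplicit false
universe u
open CategoryTheory Limits Opposite Abelian

namespace Groth.Agent.H43.EdgeRefine

open CechEdge EdgeCech EdgeDer EdgeZero EdgeMain

variable {C : Type u} [SmallCategory C] [HasPullbacks C] {J : GrothendieckTopology C} {U : C}
  {ι κ : Type u} {Y : ι → Over U} {Y' : κ → Over U}
  (f : FormalCoproduct.mk ι Y ⟶ FormalCoproduct.mk κ Y')

/-- the refinement map as a natural transformation of Čech complex functors -/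
noncomputable def ρ : cxFunctor (C := C) Y' ⟶ cxFunctor Y :=
  Functor.whiskerLeft ((Functor.whiskeringLeft (Over U)ᵒᵖ Cᵒᵖ AddCommGrpCat.{u}).obj (Over.forget U).op)
    (Functor.whiskerLeft (FormalCoproduct.evalOp.{u} (Over U) AddCommGrpCat.{u})
      (Functor.whiskerRight ((Functor.whiskeringLeft _ _ _).map
        (NatTrans.rightOp (FormalCoproduct.cechFunctor.map f)))
        (AlgebraicTopology.alternatingCofaceMapComplex AddCommGrpCat.{u})))

lemma ρ_app (P : Cᵒᵖ ⥤ AddCommGrpCat.{u}) : (ρ f).app P = CohCx.cechRefine P f := rfl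

lemma ρ_app_f_π (P : Cᵒᵖ ⥤ AddCommGrpCat.{u}) (n : ℕ) (x : Fin (n + 1) → ι) :
    ((ρ f).app P).f n ≫ Pi.π (fun x : Fin (n + 1) → ι => P.obj (op (∏ᶜ (Y ∘ x)).left)) x =
      Pi.π (fun x' : Fin (n + 1) → κ => P.obj (op (∏ᶜ (Y' ∘ x')).left)) (f.f ∘ x) ≫
        P.map (Limits.Pi.map (fun a => f.φ (x a)) : ∏ᶜ (Y ∘ x) ⟶ ∏ᶜ (Y' ∘ (f.f ∘ x))).left.op :=
  Pi.lift_π _ _

section Zero

variable (P : Cᵒᵖ ⥤ AddCommGrpCat.{u})

lemma toCech₀_ρ : toCech₀ P Y' ≫ ((ρ f).app P).f 0 = toCech₀ P Y := by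
  apply Pi.hom_ext (f := fun x : Fin 1 → ι => P.obj (op (∏ᶜ (Y ∘ x)).left))
  intro x
  have h2 : toCech₀ P Y ≫ Pi.π (fun x : Fin 1 → ι => P.obj (op (∏ᶜ (Y ∘ x)).left)) x =
      P.map (∏ᶜ (Y ∘ x)).hom.op := Pi.lift_π _ _
  have h3 : toCech₀ P Y' ≫
      Pi.π (fun x' : Fin 1 → κ => P.obj (op (∏ᶜ (Y' ∘ x')).left)) (f.f ∘ x) =
      P.map (∏ᶜ (Y' ∘ (f.f ∘ x))).hom.op := Pi.lift_π _ _
  have hw : (Limits.Pi.map (fun a => f.φ (x a)) : ∏ᶜ (Y ∘ x) ⟶ ∏ᶜ (Y' ∘ (f.f ∘ x))).left ≫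
      (∏ᶜ (Y' ∘ (f.f ∘ x))).hom = (∏ᶜ (Y ∘ x)).hom := Over.w _
  have e1 : (toCech₀ P Y' ≫ ((ρ f).app P).f 0) ≫
      Pi.π (fun x : Fin 1 → ι => P.obj (op (∏ᶜ (Y ∘ x)).left)) x =
      P.map (∏ᶜ (Y' ∘ (f.f ∘ x))).hom.op ≫
        P.map (Limits.Pi.map (fun a => f.φ (x a)) :
          ∏ᶜ (Y ∘ x) ⟶ ∏ᶜ (Y' ∘ (f.f ∘ x))).left.op :=
    (Category.assoc _ _ _).trans ((congrArg (toCech₀ P Y' ≫ ·) (ρ_app_f_π f P 0 x)).trans
      ((Category.assoc _ _ _).symm.trans (congrArg (· ≫ P.map _) h3)))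
  refine e1.trans (Eq.trans ?_ h2.symm)
  rw [← P.map_comp, ← op_comp, hw]

lemma toCycles_ρ :
    toCycles P Y' ≫ HomologicalComplex.cyclesMap ((ρ f).app P) 0 = toCycles P Y := by
  rw [← cancel_mono ((cx P Y).iCycles 0)]
  have a : HomologicalComplex.cyclesMap ((ρ f).app P) 0 ≫ (cx P Y).iCycles 0 =
      (cx P Y').iCycles 0 ≫ ((ρ f).app P).f 0 := HomologicalComplex.cyclesMap_i _ _
  have e1 : (toCycles P Y' ≫ HomologicalComplex.cyclesMap ((ρ f).app P) 0) ≫
      (cx P Y).iCycles 0 = toCech₀ P Y' ≫ ((ρ f).app P).f 0 :=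
    (Category.assoc _ _ _).trans ((congrArg (toCycles P Y' ≫ ·) a).trans
      ((Category.assoc _ _ _).symm.trans
        (congrArg (· ≫ ((ρ f).app P).f 0) (toCycles_i P Y'))))
  exact e1.trans ((toCech₀_ρ f P).trans (toCycles_i P Y).symm)

/-- refinement maps are compatible with `toCech` -/
lemma toCech_ρ (s : P.obj (op U)) :
    (HomologicalComplex.homologyMap ((ρ f).app P) 0).hom (toCech Y' P s) = toCech Y P s := by
  have a : (cx P Y').homologyπ 0 ≫ HomologicalComplex.homologyMap ((ρ f).app P) 0 =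
      HomologicalComplex.cyclesMap ((ρ f).app P) 0 ≫ (cx P Y).homologyπ 0 :=
    HomologicalComplex.homologyπ_naturality _ _
  have h : (toCycles P Y' ≫ (cx P Y').homologyπ 0) ≫
      HomologicalComplex.homologyMap ((ρ f).app P) 0 = toCycles P Y ≫ (cx P Y).homologyπ 0 :=
    (Category.assoc _ _ _).trans ((congrArg (toCycles P Y' ≫ ·) a).trans
      ((Category.assoc _ _ _).symm.trans
        (congrArg (· ≫ (cx P Y).homologyπ 0) (toCycles_ρ f P))))
  exact ConcreteCategory.congr_hom h s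

end Zero

section Main

variable {e : ∀ (P : Cᵒᵖ ⥤ AddCommGrpCat.{u}) (p : ℕ),
    CohCx.cechH P Y p →+ CohSite.HU (shf J P) p U}
  {e' : ∀ (P : Cᵒᵖ ⥤ AddCommGrpCat.{u}) (p : ℕ),
    CohCx.cechH P Y' p →+ CohSite.HU (shf J P) p U}
  (he : IsEdge J Y e) (he' : IsEdge J Y' e')

/-- the refinement map on Čech cohomology -/
noncomputable def refineH (P : Cᵒᵖ ⥤ AddCommGrpCat.{u}) (p : ℕ) :
    CohCx.cechH P Y' p →+ CohCx.cechH P Y p :=
  (HomologicalComplex.homologyMap ((ρ f).app P) p).hom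

lemma refineH_naturality {P Q : Cᵒᵖ ⥤ AddCommGrpCat.{u}} (φ : P ⟶ Q) (p : ℕ)
    (x : CohCx.cechH P Y' p) :
    refineH f Q p (cechHMap Y' φ p x) = cechHMap Y φ p (refineH f P p x) := by
  have h : HomologicalComplex.homologyMap ((cxFunctor Y').map φ) p ≫
      HomologicalComplex.homologyMap ((ρ f).app Q) p =
      HomologicalComplex.homologyMap ((ρ f).app P) p ≫
        HomologicalComplex.homologyMap ((cxFunctor Y).map φ) p := by
    rw [← HomologicalComplex.homologyMap_comp, ← HomologicalComplex.homologyMap_comp,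
      (ρ f).naturality φ]
  exact ConcreteCategory.congr_hom h x

include he he' in
/-- the refined family is an edge family -/
lemma isEdge_refine :
    IsEdge J Y' (fun P p => (e P p).comp (refineH f P p)) where
  cover := he'.cover
  zero P s := by
    change e P 0 (refineH f P 0 (toCech Y' P s)) = _
    rw [refineH, toCech_ρ, he.zero]
  natural P Q φ p x := by
    change e Q p (refineH f Q p (cechHMap Y' φ p x)) = _
    rw [refineH_naturality, he.natural]
    rfl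
  delta S hS hC p x := by
    change e S.X₁ (p + 1) (refineH f S.X₁ (p + 1) ((hC.δ p (p + 1) rfl).hom x)) = _
    have hnat := HomologicalComplex.HomologySequence.δ_naturality
      (S.mapNatTrans (ρ f)) hC (shortExact_map_cxFunctor Y hS) p (p + 1) rfl
    have h1 := ConcreteCategory.congr_hom hnat x
    have h2 : refineH f S.X₁ (p + 1) ((hC.δ p (p + 1) rfl).hom x) =
        ((shortExact_map_cxFunctor Y hS).δ p (p + 1) rfl).hom (refineH f S.X₃ p x) := h1
    rw [h2, he.delta S hS (shortExact_map_cxFunctor Y hS) p]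
    rfl

include he he' in
/-- **Edge maps are compatible with refinements** (presheaf form) -/
theorem edge_refine (P : Cᵒᵖ ⥤ AddCommGrpCat.{u}) (p : ℕ) (x : CohCx.cechH P Y' p) :
    e P p (refineH f P p x) = e' P p x := by
  have h := isEdge_unique (isEdge_refine f he he') he'
  exact congrArg (fun e'' : ∀ (P : Cᵒᵖ ⥤ AddCommGrpCat.{u}) (p : ℕ),
    CohCx.cechH P Y' p →+ CohSite.HU (shf J P) p U => e'' P p x) h

include he he' in
/-- the sheaf version -/
theorem edgeSh_refine (F : Sheaf J AddCommGrpCat.{u}) (p : ℕ) (x : CohCx.cechH F.obj Y' p) :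
    edgeSh e F p ((HomologicalComplex.homologyMap (CohCx.cechRefine F.obj f) p).hom x) =
      edgeSh e' F p x := by
  change HUmap _ p U (e F.obj p (refineH f F.obj p x)) = HUmap _ p U (e' F.obj p x)
  rw [edge_refine f he he']

end Main

end Groth.Agent.H43.EdgeRefine
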