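import Groth.Agent.H43.EdgeZero

/-!
# A presheaf is a sheaf iff `P(U) → Ȟ⁰(Y, P)` is bijective for all covering families

(helper43)
-/

set_option autoImplicit false
universe u
open CategoryTheory Limits Opposite

namespace Groth.Agent.H43.EdgeSheaf

open CechPts CechContract CechDelta CohPresheafRD PresheafSS CechH0 CechSurj CechEdge EdgeCech
  EdgeZero

variable {C : Type u} [SmallCategory C] [HasPullbacks C] (J : GrothendieckTopology C)
  (P : Cᵒᵖ ⥤ AddCommGrpCat.{u})

section Family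

variable {U : C} {ι : Type u} (Y : ι → Over U)

/-- the presheaf as a sheaf for the trivial topology -/
abbrev P' : PSh C := ⟨P, Presheaf.isSheaf_bot _⟩

lemma ev'_toCech₀ (s : P.obj (op U)) (W : C) (p : A Y (Fin 1) W) :
    ev' Y P ((toCech₀ P Y).hom s) W p = (P.map (toB p).1.1.op).hom s := by
  obtain ⟨x, g⟩ := p
  dsimp only [ev']
  rw [π_toCech₀]
  change (P.map g.op).hom ((P.map (∏ᶜ (Y ∘ x)).hom.op).hom s) =
    (P.map (g ≫ (∏ᶜ (Y ∘ x)).hom).op).hom s
  rw [op_comp, P.map_comp]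
  rfl

/-- if `toCech₀ s = Ψ ψ` then `ψ` is given by the restrictions of `s` -/
lemma restrict_eq_of_toCech₀_eq (s : P.obj (op U)) (ψ : ZR Y ⟶ P' P)
    (h : (toCech₀ P Y).hom s = (Ψ Y (P' P)).hom ψ) (V : Cᵒᵖ) (r : (Rf Y).obj V) :
    (P.map r.1.op).hom s = (ψ.hom.app V).hom (univ Y V r) := by
  obtain ⟨g, hg⟩ := r
  obtain ⟨pt, hpt⟩ := (mem_R_iff Y g).1 hg
  have e1 := ev'_toCech₀ P Y s V.unop (toA (b1 g pt hpt))
  rw [toB_toA] at e1
  have e2 := ev'_Ψ_toA Y (P' P) ψ V.unop (b1 g pt hpt) hg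
  rw [← h] at e2
  exact e1.symm.trans e2

lemma toCech₀_eq_of_toCech_eq (s : P.obj (op U)) (ψ : ZR Y ⟶ P' P)
    (h : toCech Y P s =
      ((cx P Y).homologyπ 0).hom ((cyclesIso Y (P' P)).hom.hom ψ)) :
    (toCech₀ P Y).hom s = (Ψ Y (P' P)).hom ψ := by
  have hπ : Function.Injective ((cx P Y).homologyπ 0).hom :=
    (ConcreteCategory.bijective_of_isIso ((cx P Y).isoHomologyπ₀).hom).1
  have h1 : (toCycles P Y).hom s = (cyclesIso Y (P' P)).hom.hom ψ := hπ h
  have h2 := ConcreteCategory.congr_hom (toCycles_i P Y) s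
  have h3 := ConcreteCategory.congr_hom (cyclesIso_hom_i Y (P' P)) ψ
  refine h2.symm.trans (Eq.trans ?_ h3)
  exact congrArg ((cx P Y).iCycles 0).hom h1

/-- the sheaf condition for the sieve generated by `Y`, from bijectivity of `toCech` -/
lemma isSheafFor_of_bijective (hb : Function.Bijective (toCech Y P)) :
    Presieve.IsSheafFor (P ⋙ forget AddCommGrpCat.{u}) (R Y).arrows := by
  rw [Presieve.isSheafFor_iff_yonedaSheafCondition]
  intro φ
  let ψ : ZR Y ⟶ P' P := ((adjFr (⊥ : GrothendieckTopology C)).homEquiv (Rf Y) (P' P)).symm φ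
  have hψ : ∀ (V : Cᵒᵖ) (r : (Rf Y).obj V), (ψ.hom.app V).hom (univ Y V r) = φ.app V r := by
    intro V r
    rw [← homEquiv_app]
    unfold ψ
    rw [Equiv.apply_symm_apply]
    rfl
  obtain ⟨s, hs⟩ := hb.2 (((cx P Y).homologyπ 0).hom ((cyclesIso Y (P' P)).hom.hom ψ))
  have hs' := restrict_eq_of_toCech₀_eq P Y s ψ (toCech₀_eq_of_toCech_eq P Y s ψ hs)
  refine ⟨yonedaEquiv.symm s, ?_, ?_⟩
  · ext V r
    exact (hs' V r).trans (hψ V r)
  · intro g hg
    apply yonedaEquiv.injective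
    rw [Equiv.apply_symm_apply]
    apply hb.1
    -- both have the same restrictions to the sieve
    have hres : ∀ (V : Cᵒᵖ) (r : (Rf Y).obj V),
        (P.map r.1.op).hom (yonedaEquiv g) = (P.map r.1.op).hom s := by
      intro V r
      rw [hs', hψ, ← hg]
      exact map_yonedaEquiv g r.1
    have h0 : (toCech₀ P Y).hom (yonedaEquiv g) = (toCech₀ P Y).hom s := by
      apply pi_ext (A₁ := fun x : Fin 1 → ι => P.obj (op (∏ᶜ (Y ∘ x)).left))
      intro x
      rw [π_toCech₀, π_toCech₀]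
      exact hres (op (∏ᶜ (Y ∘ x)).left) ⟨(∏ᶜ (Y ∘ x)).hom, mem_hom Y x⟩
    have hm : Function.Injective ((cx P Y).iCycles 0).hom :=
      (AddCommGrpCat.mono_iff_injective _).1 inferInstance
    have h1 : (toCycles P Y).hom (yonedaEquiv g) = (toCycles P Y).hom s := by
      apply hm
      have a := ConcreteCategory.congr_hom (toCycles_i P Y) (yonedaEquiv g)
      have b := ConcreteCategory.congr_hom (toCycles_i P Y) s
      exact a.trans (h0.trans b.symm)
    exact congrArg ((cx P Y).homologyπ 0).hom h1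

end Family

omit [HasPullbacks C] in
/-- every sieve is generated by the (small) family of its own arrows -/
lemma R_sieveFamily {U : C} (S : Sieve U) :
    R (fun i : (Σ V : C, {g : V ⟶ U // S.arrows g}) => Over.mk i.2.1) = S := by
  ext V g
  rw [Sieve.mem_ofArrows_iff]
  constructor
  · rintro ⟨i, a, rfl⟩
    exact S.downward_closed i.2.2 a
  · intro hg
    exact ⟨⟨V, g, hg⟩, 𝟙 _, (Category.id_comp _).symm⟩

theorem isSheaf_iff_toCech_bijective :
    Presheaf.IsSheaf J P ↔ ∀ (U : C) (ι : Type u) (Y : ι → Over U),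
      Sieve.ofArrows (fun i => (Y i).left) (fun i => (Y i).hom) ∈ J U →
        Function.Bijective (CechEdge.toCech Y P) := by
  constructor
  · intro hP U ι Y hY
    exact toCech_bijective J Y ⟨P, hP⟩ hY
  · intro h
    rw [Presheaf.isSheaf_iff_isSheaf_forget J P (forget AddCommGrpCat.{u}),
      isSheaf_iff_isSheaf_of_type]
    intro U S hS
    have hR := R_sieveFamily S
    have := isSheafFor_of_bijective P
      (fun i : (Σ V : C, {g : V ⟶ U // S.arrows g}) => Over.mk i.2.1)
      (h U _ _ (show R (fun i : (Σ V : C, {g : V ⟶ U // S.arrows g}) => Over.mk i.2.1) ∈ J U from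
        hR.symm ▸ hS))
    rw [hR] at this
    exact this

end Groth.Agent.H43.EdgeSheaf
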