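import Groth.Agent.H43.EdgeCech
import Groth.Agent.H43.EdgeDer
import Groth.Agent.H43.CechSurj

/-!
# Degree zero: `Ȟ⁰(Y, F) = F(U)` for a sheaf and a covering, and the degree-zero edge map

(helper43)
-/

set_option autoImplicit false
universe u
open CategoryTheory Limits Opposite Abelian

namespace Groth.Agent.H43.EdgeZero

open CechPts CechContract CechDelta CohPresheafRD PresheafSS CechH0 CechSurj CechEdge EdgeCech EdgeDer

variable {C : Type u} [SmallCategory C] [HasPullbacks C] (J : GrothendieckTopology C) {U : C}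
  {ι : Type u} (Y : ι → Over U)

section Nat

variable {P Q : Cᵒᵖ ⥤ AddCommGrpCat.{u}} (φ : P ⟶ Q)

lemma toCech₀_naturality :
    toCech₀ P Y ≫ ((cxFunctor Y).map φ).f 0 = φ.app (op U) ≫ toCech₀ Q Y := by
  apply Pi.hom_ext (f := fun x : Fin 1 → ι => Q.obj (op (∏ᶜ (Y ∘ x)).left))
  intro x
  have h1 : ((cxFunctor Y).map φ).f 0 ≫
      Pi.π (fun x : Fin 1 → ι => Q.obj (op (∏ᶜ (Y ∘ x)).left)) x =
      Pi.π (fun x : Fin 1 → ι => P.obj (op (∏ᶜ (Y ∘ x)).left)) x ≫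
        φ.app (op (∏ᶜ (Y ∘ x)).left) := by
    rw [cxFunctor_map_f]
    exact Limits.Pi.map_π (fun x : Fin 1 → ι => φ.app (op (∏ᶜ (Y ∘ x)).left)) x
  have h2 : toCech₀ P Y ≫ Pi.π (fun x : Fin 1 → ι => P.obj (op (∏ᶜ (Y ∘ x)).left)) x =
      P.map (∏ᶜ (Y ∘ x)).hom.op := Pi.lift_π _ _
  have h3 : toCech₀ Q Y ≫ Pi.π (fun x : Fin 1 → ι => Q.obj (op (∏ᶜ (Y ∘ x)).left)) x =
      Q.map (∏ᶜ (Y ∘ x)).hom.op := Pi.lift_π _ _
  have e1 : (toCech₀ P Y ≫ ((cxFunctor Y).map φ).f 0) ≫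
      Pi.π (fun x : Fin 1 → ι => Q.obj (op (∏ᶜ (Y ∘ x)).left)) x =
      P.map (∏ᶜ (Y ∘ x)).hom.op ≫ φ.app (op (∏ᶜ (Y ∘ x)).left) :=
    (Category.assoc _ _ _).trans ((congrArg (toCech₀ P Y ≫ ·) h1).trans
      ((Category.assoc _ _ _).symm.trans (congrArg (· ≫ φ.app (op (∏ᶜ (Y ∘ x)).left)) h2)))
  have e2 : (φ.app (op U) ≫ toCech₀ Q Y) ≫
      Pi.π (fun x : Fin 1 → ι => Q.obj (op (∏ᶜ (Y ∘ x)).left)) x =
      φ.app (op U) ≫ Q.map (∏ᶜ (Y ∘ x)).hom.op :=
    (Category.assoc _ _ _).trans (congrArg (φ.app (op U) ≫ ·) h3)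
  exact e1.trans ((φ.naturality _).trans e2.symm)

lemma toCycles_naturality :
    toCycles P Y ≫ HomologicalComplex.cyclesMap ((cxFunctor Y).map φ) 0 =
      φ.app (op U) ≫ toCycles Q Y := by
  rw [← cancel_mono ((cx Q Y).iCycles 0)]
  have a : HomologicalComplex.cyclesMap ((cxFunctor Y).map φ) 0 ≫ (cx Q Y).iCycles 0 =
      (cx P Y).iCycles 0 ≫ ((cxFunctor Y).map φ).f 0 := HomologicalComplex.cyclesMap_i _ _
  have e1 : (toCycles P Y ≫ HomologicalComplex.cyclesMap ((cxFunctor Y).map φ) 0) ≫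
      (cx Q Y).iCycles 0 = toCech₀ P Y ≫ ((cxFunctor Y).map φ).f 0 :=
    (Category.assoc _ _ _).trans ((congrArg (toCycles P Y ≫ ·) a).trans
      ((Category.assoc _ _ _).symm.trans
        (congrArg (· ≫ ((cxFunctor Y).map φ).f 0) (toCycles_i P Y))))
  have e2 : (φ.app (op U) ≫ toCycles Q Y) ≫ (cx Q Y).iCycles 0 = φ.app (op U) ≫ toCech₀ Q Y :=
    (Category.assoc _ _ _).trans (congrArg (φ.app (op U) ≫ ·) (toCycles_i Q Y))
  exact e1.trans ((toCech₀_naturality Y φ).trans e2.symm)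

/-- naturality of `toCech` -/
lemma toCech_naturality (s : P.obj (op U)) :
    cechHMap Y φ 0 (toCech Y P s) = toCech Y Q ((φ.app (op U)).hom s) := by
  have a : (cx P Y).homologyπ 0 ≫ HomologicalComplex.homologyMap ((cxFunctor Y).map φ) 0 =
      HomologicalComplex.cyclesMap ((cxFunctor Y).map φ) 0 ≫ (cx Q Y).homologyπ 0 :=
    HomologicalComplex.homologyπ_naturality _ _
  have h : (toCycles P Y ≫ (cx P Y).homologyπ 0) ≫
      HomologicalComplex.homologyMap ((cxFunctor Y).map φ) 0 =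
      φ.app (op U) ≫ toCycles Q Y ≫ (cx Q Y).homologyπ 0 :=
    (Category.assoc _ _ _).trans ((congrArg (toCycles P Y ≫ ·) a).trans
      ((Category.assoc _ _ _).symm.trans
        ((congrArg (· ≫ (cx Q Y).homologyπ 0) (toCycles_naturality Y φ)).trans
          (Category.assoc _ _ _))))
  exact ConcreteCategory.congr_hom h s

end Nat

section Sheaf

variable (F : Sheaf J AddCommGrpCat.{u})

lemma π_toCech₀ (P : Cᵒᵖ ⥤ AddCommGrpCat.{u}) (s : P.obj (op U)) (x : Fin 1 → ι) :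
    (Pi.π (fun x : Fin 1 → ι => P.obj (op (∏ᶜ (Y ∘ x)).left)) x).hom ((toCech₀ P Y).hom s) =
      (P.map (∏ᶜ (Y ∘ x)).hom.op).hom s :=
  ConcreteCategory.congr_hom
    (Pi.lift_π (fun (i : Fin 1 → ι) => P.map (∏ᶜ (Y ∘ i)).hom.op) x) s

lemma Ψ_σ (s : F.obj.obj (op U)) :
    (Ψ Y ((T J).obj F)).hom (σ Y F s) = (toCech₀ F.obj Y).hom s := by
  apply pi_ext (A₁ := fun x : Fin 1 → ι => F.obj.obj (op (∏ᶜ (Y ∘ x)).left))
  intro x
  refine (π_Ψ Y ((T J).obj F) (σ Y F s) x).trans ?_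
  refine (σ_univ Y F s _ _).trans ?_
  exact (π_toCech₀ Y F.obj s x).symm

variable (hY : R Y ∈ J U)
include hY

lemma σ_injective : Function.Injective (σ Y F) := by
  intro s s' h
  apply section_ext Y F hY
  intro V r
  rw [← σ_univ Y F s V r, ← σ_univ Y F s' V r, h]

lemma σ_surjective : Function.Surjective (σ Y F) := by
  intro ψ
  obtain ⟨t, ht⟩ := exists_section Y F hY ψ
  refine ⟨t, hom_ext_univ Y _ _ (fun V r => ?_)⟩
  rw [σ_univ, ht]

omit hY in
lemma toCycles_eq (s : F.obj.obj (op U)) :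
    (toCycles F.obj Y).hom s = (cyclesIso Y ((T J).obj F)).hom.hom (σ Y F s) := by
  have hm : Function.Injective ((cx F.obj Y).iCycles 0).hom :=
    (AddCommGrpCat.mono_iff_injective _).1 inferInstance
  apply hm
  have h1 := ConcreteCategory.congr_hom (toCycles_i F.obj Y) s
  have h2 := ConcreteCategory.congr_hom (cyclesIso_hom_i Y ((T J).obj F)) (σ Y F s)
  exact h1.trans ((Ψ_σ J Y F s).symm.trans h2.symm)

/-- **`F(U) → Ȟ⁰(Y, F)` is bijective** for a sheaf `F` and a covering family `Y`. -/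
theorem toCech_bijective : Function.Bijective (toCech Y F.obj) := by
  have hπ : Function.Bijective ((cx F.obj Y).homologyπ 0).hom :=
    ConcreteCategory.bijective_of_isIso ((cx F.obj Y).isoHomologyπ₀).hom
  have hc : Function.Bijective (cyclesIso Y ((T J).obj F)).hom.hom :=
    ConcreteCategory.bijective_of_isIso (cyclesIso Y ((T J).obj F)).hom
  have hσ : Function.Bijective (σ Y F) := ⟨σ_injective J Y F hY, σ_surjective J Y F hY⟩
  have heq : (toCech Y F.obj : F.obj.obj (op U) → _) =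
      ((cx F.obj Y).homologyπ 0).hom ∘ (cyclesIso Y ((T J).obj F)).hom.hom ∘ σ Y F := by
    funext s
    change ((cx F.obj Y).homologyπ 0).hom ((toCycles F.obj Y).hom s) = _
    rw [toCycles_eq]
    rfl
  rw [heq]
  exact hπ.comp (hc.comp hσ)

end Sheaf

end Groth.Agent.H43.EdgeZero
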