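import Groth.Agent.H43.EpsSh
import Groth.Agent.H31.PostDerived
import Groth.Agent.H30.ExactDerived

/-!
# `ε_*` is fully faithful; `ε^{-1} R^p ε_* = 0`; the two basic vanishing lemmas (helper43)
-/

set_option autoImplicit false
universe u
open CategoryTheory Limits Opposite

namespace Groth.Agent.H43.EpsFF

open Groth.Agent.H43 Groth.Agent.H43.EpsSh

variable {C : Type u} [SmallCategory C] {J J' : GrothendieckTopology C} (h : J' ≤ J)

/-- `ε_*` followed by the forgetful functor is the forgetful functor. -/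
noncomputable def epsShCompForget :
    SiteCmp.epsSh h AddCommGrpCat.{u} ⋙ sheafToPresheaf J' AddCommGrpCat.{u} ≅
      sheafToPresheaf J AddCommGrpCat.{u} :=
  NatIso.ofComponents (fun F => Iso.refl _)

/-- `ε_*` is fully faithful. -/
noncomputable def fullyFaithfulEpsSh : (SiteCmp.epsSh h AddCommGrpCat.{u}).FullyFaithful :=
  Functor.FullyFaithful.ofCompFaithful (G := sheafToPresheaf J' AddCommGrpCat.{u})
    ((fullyFaithfulSheafToPresheaf J AddCommGrpCat.{u}).ofIso (epsShCompForget h).symm)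

instance : (SiteCmp.epsSh h AddCommGrpCat.{u}).Full := (fullyFaithfulEpsSh h).full
instance : (SiteCmp.epsSh h AddCommGrpCat.{u}).Faithful := (fullyFaithfulEpsSh h).faithful

instance : IsIso (SiteCmp.epsShAdj h AddCommGrpCat.{u}).counit :=
  Adjunction.counit_isIso_of_R_fully_faithful _

/-- `ε_* ⋙ ε^{-1} ≅ 𝟭`. -/
noncomputable def epsCompInvIso :
    SiteCmp.epsSh h AddCommGrpCat.{u} ⋙ SiteCmp.epsShInv h AddCommGrpCat.{u} ≅ 𝟭 _ :=
  asIso (SiteCmp.epsShAdj h AddCommGrpCat.{u}).counit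

instance additive_epsShInv : (SiteCmp.epsShInv h AddCommGrpCat.{u}).Additive :=
  (SiteCmp.epsShAdj h AddCommGrpCat.{u}).left_adjoint_additive

instance preservesFiniteColimits_epsShInv :
    PreservesFiniteColimits (SiteCmp.epsShInv h AddCommGrpCat.{u}) :=
  haveI := (SiteCmp.epsShAdj h AddCommGrpCat.{u}).leftAdjoint_preservesColimits
  inferInstance

/-- `ε^{-1} R^p ε_* = 0` for `p > 0`. -/
lemma isZero_inv_rightDerived (G : Sheaf J AddCommGrpCat.{u}) (p : ℕ) (hp : 0 < p) :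
    IsZero ((SiteCmp.epsShInv h AddCommGrpCat.{u}).obj
      (((SiteCmp.epsSh h AddCommGrpCat.{u}).rightDerived p).obj G)) := by
  obtain ⟨p, rfl⟩ : ∃ k, p = k + 1 := ⟨p - 1, by lia⟩
  have e1 := (Groth.Agent.H31.PostDerived.rightDerivedPostIso (SiteCmp.epsSh h AddCommGrpCat.{u})
    (SiteCmp.epsShInv h AddCommGrpCat.{u}) (p + 1)).app G
  have e2 := (OverMapPush.rightDerivedIso (epsCompInvIso h) (p + 1)).app G
  exact (Groth.Agent.H30.ExactDerived.isZero_rightDerived_succ (𝟭 _) G p).of_iso (e1.symm ≪≫ e2)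

section general

variable {C₁ D₁ : Type*} [Category C₁] [Category D₁] {L₁ : C₁ ⥤ D₁} {R₁ : D₁ ⥤ C₁} (adj : L₁ ⊣ R₁)

lemma mono_unit_app_right (Y : D₁) : Mono (adj.unit.app (R₁.obj Y)) :=
  (SplitMono.mk _ (adj.right_triangle_components Y)).mono

lemma mono_unit_of_iso {X Y : C₁} (e : X ≅ Y) (hX : Mono (adj.unit.app X)) :
    Mono (adj.unit.app Y) := by
  have : adj.unit.app Y = e.inv ≫ adj.unit.app X ≫ (L₁ ⋙ R₁).map e.hom := by
    rw [← adj.unit.naturality e.hom]
    exact (Iso.inv_hom_id_assoc e _).symm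
  rw [this]
  infer_instance

lemma mono_unit_of_mono' {M X : C₁} (ι : M ⟶ X) [Mono ι] (hX : Mono (adj.unit.app X)) :
    Mono (adj.unit.app M) := by
  have h3 : Mono (adj.unit.app M ≫ (L₁ ⋙ R₁).map ι) := by
    rw [← adj.unit.naturality ι]
    exact mono_comp ι (adj.unit.app X)
  exact mono_of_mono _ ((L₁ ⋙ R₁).map ι)

end general

/-- the unit of `ε^{-1} ⊣ ε_*` is a monomorphism at a `J'`-sheaf which embeds into a `J`-sheaf. -/
lemma mono_unit_of_mono {M L : Sheaf J' AddCommGrpCat.{u}} (ι : M ⟶ L) [Mono ι]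
    (hL : Presheaf.IsSheaf J L.obj) :
    Mono ((SiteCmp.epsShAdj h AddCommGrpCat.{u}).unit.app M) :=
  mono_unit_of_mono' _ ι (mono_unit_of_iso _ (epsShObjIso h L hL)
    (mono_unit_app_right (SiteCmp.epsShAdj h AddCommGrpCat.{u}) ⟨L.obj, hL⟩))

/-- **Lemma Z.** A `J'`-sheaf which embeds both into a `J`-sheaf and into some `R^p ε_* G`, `p > 0`,
vanishes. -/
theorem isZero_of_mono_of_mono {M L : Sheaf J' AddCommGrpCat.{u}} (ι : M ⟶ L) [Mono ι]
    (hL : Presheaf.IsSheaf J L.obj) (G : Sheaf J AddCommGrpCat.{u}) (p : ℕ) (hp : 0 < p)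
    (κ : M ⟶ ((SiteCmp.epsSh h AddCommGrpCat.{u}).rightDerived p).obj G) [Mono κ] : IsZero M := by
  have hz : IsZero ((SiteCmp.epsShInv h AddCommGrpCat.{u}).obj M) :=
    IsZero.of_mono ((SiteCmp.epsShInv h AddCommGrpCat.{u}).map κ) (isZero_inv_rightDerived h G p hp)
  have := mono_unit_of_mono h ι hL
  exact IsZero.of_mono ((SiteCmp.epsShAdj h AddCommGrpCat.{u}).unit.app M)
    (Functor.map_isZero (SiteCmp.epsSh h AddCommGrpCat.{u}) hz)

section generalQ

variable {A₁ B₁ : Type*} [Category A₁] [Abelian A₁] [Category B₁] [Abelian B₁]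
  (R₁ : A₁ ⥤ B₁) [R₁.PreservesZeroMorphisms] (hR : R₁.FullyFaithful)

include hR in
/-- A fully faithful functor preserves a cokernel as soon as the cokernel downstairs lies in the
essential image. -/
lemma epi_map_cokernel_π_of_fullyFaithful {F G : A₁} (u : F ⟶ G) (CJ : A₁)
    (e : R₁.obj CJ ≅ cokernel (R₁.map u)) :
    Epi (R₁.map (cokernel.π u)) ∧ Nonempty (R₁.obj (cokernel u) ≅ cokernel (R₁.map u)) := by
  let cJ : G ⟶ CJ := hR.preimage (cokernel.π (R₁.map u) ≫ e.inv)
  have hcJ : R₁.map cJ = cokernel.π (R₁.map u) ≫ e.inv := hR.map_preimage _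
  have w : u ≫ cJ = 0 := by
    apply hR.map_injective
    rw [R₁.map_comp, hcJ, cokernel.condition_assoc, zero_comp, R₁.map_zero]
  have hcolim : IsColimit (CokernelCofork.ofπ cJ w) :=
    CokernelCofork.IsColimit.ofπ cJ w
      (fun {Z} g hg => hR.preimage (e.hom ≫ cokernel.desc (R₁.map u) (R₁.map g)
        (by rw [← R₁.map_comp, hg, R₁.map_zero])))
      (fun {Z} g hg => by
        apply hR.map_injective
        rw [R₁.map_comp, hcJ, hR.map_preimage]
        simp)
      (fun {Z} g hg m hm => by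
        apply hR.map_injective
        rw [hR.map_preimage]
        have : cokernel.π (R₁.map u) ≫ e.inv ≫ R₁.map m =
            cokernel.π (R₁.map u) ≫ cokernel.desc (R₁.map u) (R₁.map g)
              (by rw [← R₁.map_comp, hg, R₁.map_zero]) := by
          rw [cokernel.π_desc, ← hm, R₁.map_comp, hcJ, Category.assoc]
        have := (cancel_epi _).1 this
        rw [← this, Iso.hom_inv_id_assoc])
  let iso : cokernel u ≅ CJ := (cokernelIsCokernel u).coconePointUniqueUpToIso hcolim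
  have hiso : cokernel.π u ≫ iso.hom = cJ :=
    (cokernelIsCokernel u).comp_coconePointUniqueUpToIso_hom hcolim WalkingParallelPair.one
  refine ⟨?_, ⟨R₁.mapIso iso ≪≫ e⟩⟩
  have : R₁.map (cokernel.π u) = (cokernel.π (R₁.map u) ≫ e.inv) ≫ R₁.map iso.inv := by
    rw [← hcJ, ← R₁.map_comp, ← hiso, Category.assoc, Iso.hom_inv_id, Category.comp_id]
  rw [this]
  infer_instance

end generalQ

/-- **Lemma Q.** If the `J'`-cokernel of `ε_* u` happens to be a `J`-sheaf, then `ε_*` preserves the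
cokernel of `u`. -/
theorem epi_map_cokernel_π {F G : Sheaf J AddCommGrpCat.{u}} (u : F ⟶ G)
    (hC : Presheaf.IsSheaf J (cokernel ((SiteCmp.epsSh h AddCommGrpCat.{u}).map u)).obj) :
    Epi ((SiteCmp.epsSh h AddCommGrpCat.{u}).map (cokernel.π u)) ∧
      Nonempty ((SiteCmp.epsSh h AddCommGrpCat.{u}).obj (cokernel u) ≅
        cokernel ((SiteCmp.epsSh h AddCommGrpCat.{u}).map u)) :=
  epi_map_cokernel_π_of_fullyFaithful _ (fullyFaithfulEpsSh h) u ⟨_, hC⟩ (epsShObjIso h _ hC)

end Groth.Agent.H43.EpsFF
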