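import Groth.Agent.H43.EpsStep
import Groth.Prelude.Def_WeakSerre

/-!
# Comparing two topologies: `(V_n) ⇒ (V_{n+1})` (helper43)
-/

set_option autoImplicit false
universe u
open CategoryTheory Limits Opposite ZeroObject

namespace Groth.Agent.H43.EpsMain

open Groth.Agent.H43 Groth.Agent.H43.EpsSh Groth.Agent.H43.EpsFF Groth.Agent.H43.OverMapPush
  Groth.Agent.H43.OverMapShriek Groth.Agent.H43.EpsStep

section Local

variable {C : Type u} [SmallCategory C] {J J' : GrothendieckTopology C} (h : J' ≤ J)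

/-- If `ε^{-1} R = 0`, every section of `R` dies `J`-locally. -/
theorem exists_cover_map_eq_zero (R : Sheaf J' AddCommGrpCat.{u})
    (hR : IsZero ((SiteCmp.epsShInv h AddCommGrpCat.{u}).obj R)) {V : C} (s : R.obj.obj (op V)) :
    ∃ S : Sieve V, S ∈ J V ∧ ∀ ⦃W : C⦄ (g : W ⟶ V), S.arrows g → (R.obj.map g.op).hom s = 0 := by
  have hsub : ∀ (Z : Cᵒᵖ ⥤ AddCommGrpCat.{u}) (_ : Presheaf.IsSheaf J Z) (g : R.obj ⟶ Z), g = 0 := by
    intro Z hZ g
    let ZJ : Sheaf J AddCommGrpCat.{u} := ⟨Z, hZ⟩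
    let g' : R ⟶ (SiteCmp.epsSh h AddCommGrpCat.{u}).obj ZJ := ObjectProperty.homMk g
    have hg' : g' = 0 := by
      apply ((SiteCmp.epsShAdj h AddCommGrpCat.{u}).homEquiv R ZJ).symm.injective
      exact hR.eq_of_src _ _
    have := congrArg (fun k => k.hom) hg'
    exact this
  let T : Cᵒᵖ ⥤ AddCommGrpCat.{u} := 0
  have hT : IsZero T := isZero_zero _
  have hW : J.W (0 : R.obj ⟶ T) := by
    intro Z hZ
    constructor
    · intro a b _
      exact hT.eq_of_src a b
    · intro g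
      exact ⟨0, by rw [hsub Z hZ g]; simp⟩
  have hinj := ((J.W_iff_isLocallyBijective _).1 hW).1
  refine ⟨Presheaf.equalizerSieve (F := R.obj) (X := op V) s 0,
    Presheaf.equalizerSieve_mem J (0 : R.obj ⟶ T) s 0 ?_, ?_⟩
  · have : Subsingleton (T.obj (op V)) :=
      AddCommGrpCat.subsingleton_of_isZero (hT.obj (op V))
    exact Subsingleton.elim _ _
  · intro W g hg
    have : R.obj.map g.op s = R.obj.map g.op 0 := hg
    rw [map_zero] at this
    exact this

end Local

section Cn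

variable {C : Type u} [SmallCategory C] {J J' : GrothendieckTopology C} (h : J' ≤ J)
  {X Y : C} (f : X ⟶ Y) [HasPullbacksAlong f]

/-- `(V_m) ⇒ (C_m)`, library form. -/
theorem nonempty_Cn_iso (F : Sheaf (J.over X) AddCommGrpCat.{u}) (m : ℕ)
    (hz : ∀ q : ℕ, 0 < q → q ≤ m → IsZero (((eps h X).rightDerived q).obj F)) (i : ℕ) (hi : i ≤ m)
    (hL : Presheaf.IsSheaf (J.over Y)
      (((aPush J' f).rightDerived i).obj ((eps h X).obj F)).obj) :
    Nonempty (((aPush J' f).rightDerived i).obj ((eps h X).obj F) ≅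
      (eps h Y).obj (((aPush J f).rightDerived i).obj F)) := by
  have eL := mainIsoA J' f ((eps h X).obj F) i
  have eR := mainIsoA J f F i
  obtain ⟨eP⟩ := nonempty_cohomologyPresheaf_iso (SiteCmp.over_le h X) F m hz i hi
  obtain ⟨e1⟩ := nonempty_iso_sheafify_of_le (SiteCmp.over_le h Y) _ eL hL
  have e2 := (presheafToSheaf (J.over Y) AddCommGrpCat.{u}).mapIso
    (Functor.isoWhiskerLeft (Over.pullback f).op eP)
  exact ⟨(epsShObjIso (SiteCmp.over_le h Y) _ hL).symm ≪≫
    (eps h Y).mapIso (e1 ≪≫ e2 ≪≫ eR.symm)⟩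

end Cn

section Sections

variable {C : Type u} [SmallCategory C] (J' : GrothendieckTopology C) {V W : C} (w : W ⟶ V)
  [HasPullbacksAlong w]

/-- if the unit `R → w_* w^{-1} R` is a monomorphism, a section of `R` over `V` which restricts to
zero on `W` vanishes. -/
lemma eq_zero_of_map_eq_zero (R : Sheaf (J'.over V) AddCommGrpCat.{u})
    (hR : Mono ((adjτ J' w).unit.app R)) (s : R.obj.obj (op (Over.mk (𝟙 V))))
    (hs : (R.obj.map (Over.homMk w : Over.mk w ⟶ Over.mk (𝟙 V)).op).hom s = 0) : s = 0 := by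
  let adjb := (Over.mapPullbackAdj w).sheafPushforwardContinuous (E := AddCommGrpCat.{u})
    (J'.over W) (J'.over V)
  have hb : Mono (adjb.unit.app R) := by
    have := Adjunction.unit_rightAdjointUniq_hom_app (adjτ J' w) adjb R
    rw [← this]
    exact mono_comp' hR inferInstance
  have hb' : Mono ((sheafToPresheaf _ _).map (adjb.unit.app R)) := inferInstance
  have hb'' : Mono (((sheafToPresheaf _ _).map (adjb.unit.app R)).app (op (Over.mk (𝟙 V)))) :=
    (NatTrans.mono_iff_mono_app _).1 hb' _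
  have hinj := (AddCommGrpCat.mono_iff_injective _).1 hb''
  apply hinj
  rw [map_zero]
  let Z := (Over.pullback w).obj (Over.mk (𝟙 V))
  let k : (Over.map w).obj Z ⟶ Over.mk w := Over.homMk Z.hom (by simp)
  have hk : (Over.mapPullbackAdj w).counit.app (Over.mk (𝟙 V)) =
      k ≫ (Over.homMk w : Over.mk w ⟶ Over.mk (𝟙 V)) := Over.mkIdTerminal.hom_ext _ _
  show (R.obj.map ((Over.mapPullbackAdj w).counit.app (Over.mk (𝟙 V))).op).hom s = 0
  rw [hk, op_comp, Functor.map_comp]
  simp only [AddCommGrpCat.hom_comp, AddMonoidHom.coe_comp, Function.comp_apply]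
  rw [hs, map_zero]

end Sections

section BaseChange

variable {C : Type u} [SmallCategory C] {J J' : GrothendieckTopology C} (h : J' ≤ J)
  {V B : C} (g : V ⟶ B)

/-- restriction has both adjoints, hence is exact (no fibre products needed). -/
lemma preservesFiniteLimits_restr' (K : GrothendieckTopology C) :
    PreservesFiniteLimits (restr K g) :=
  haveI : (restr K g).IsRightAdjoint := (shriekAdj K g).isRightAdjoint
  inferInstance

lemma preservesFiniteColimits_restr' (K : GrothendieckTopology C) :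
    PreservesFiniteColimits (restr K g) :=
  haveI : (restr K g).IsLeftAdjoint := (adjτ K g).isLeftAdjoint
  inferInstance

/-- `f^{-1} ε_* = ε_* f^{-1}` -/
noncomputable def restrEpsIso' :
    restr J g ⋙ eps h V ≅ eps h B ⋙ restr J' g :=
  NatIso.ofComponents (fun F => Iso.refl _)

/-- `R^q ε_*` commutes with restriction to a slice. -/
noncomputable def restrRightDerivedIso (F : Sheaf (J.over B) AddCommGrpCat.{u}) (q : ℕ) :
    (restr J' g).obj (((eps h B).rightDerived q).obj F) ≅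
      ((eps h V).rightDerived q).obj ((restr J g).obj F) :=
  haveI := preservesFiniteLimits_restr' g J
  haveI := preservesFiniteColimits_restr' g J
  haveI := preservesFiniteLimits_restr' g J'
  haveI := preservesFiniteColimits_restr' g J'
  ((Groth.Agent.H31.PostDerived.rightDerivedPostIso (eps h B) (restr J' g) q).app F).symm ≪≫
    (rightDerivedIso (restrEpsIso' h g).symm q).app F ≪≫
    (Groth.Agent.H30.DerivedComp.rightDerivedCompIso (restr J g)
      (fun Q _ => injective_restr J g Q) (eps h V) q).app F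

end BaseChange

section Situation

variable {C : Type u} [SmallCategory C] {J J' : GrothendieckTopology C} (h : J' ≤ J)
  (P : MorphismProperty C)
  (A' : ∀ X : C, ObjectProperty (Sheaf (J'.over X) AddCommGrpCat.{u}))
  [∀ X : C, WSerre.IsWeakSerre (A' X)]
  (h1 : ∀ ⦃X Y : C⦄ (f : X ⟶ Y), P f → ∀ ⦃Y' : C⦄ (g : Y' ⟶ Y),
    ∃ (W : C) (p : W ⟶ Y') (q : W ⟶ X), IsPullback p q g f ∧ P p)
  (h2 : ∀ ⦃X Y : C⦄ (f : X ⟶ Y) (F' : Sheaf (J'.over Y) AddCommGrpCat.{u}), A' Y F' →
    A' X ((restr J' f).obj F'))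
  (h3 : ∀ (X : C) (F' : Sheaf (J'.over X) AddCommGrpCat.{u}), A' X F' →
    Presheaf.IsSheaf (J.over X) F'.obj)
  (h4 : ∀ ⦃X Y : C⦄ (f : X ⟶ Y), P f → ∀ (F' : Sheaf (J'.over X) AddCommGrpCat.{u}), A' X F' →
    ∀ i : ℕ, A' Y (((aPush J' f).rightDerived i).obj F'))

include h1 h2 h3 h4 in
/-- **Claim Y**: under `(V_n)`, the unit `R → w_* w^{-1} R` is a monomorphism for
`R = R^{n+1} ε_{V,*} G`, `G ∈ A_V`, `w ∈ P` a `τ`-covering. -/
theorem mono_unit_rightDerived_succ (n : ℕ)
    (hV : ∀ (Z : C) (G : Sheaf (J.over Z) AddCommGrpCat.{u}), A' Z ((eps h Z).obj G) →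
      ∀ i : ℕ, 1 ≤ i → i ≤ n → IsZero (((eps h Z).rightDerived i).obj G))
    {V W : C} (w : W ⟶ V) (hw : P w)
    (hcov : Sieve.ofArrows (fun _ : PUnit.{u + 1} => W) (fun _ => w) ∈ J V)
    (G : Sheaf (J.over V) AddCommGrpCat.{u}) (hG : A' V ((eps h V).obj G)) :
    Mono ((adjτ J' w).unit.app (((eps h V).rightDerived (n + 1)).obj G)) := by
  haveI : HasPullbacksAlong w := fun g => by
    obtain ⟨T, p, q, hpb, _⟩ := h1 w hw g
    exact hpb.hasPullback
  let _ : HasDerivedCategory.{u + 1} (Sheaf (J'.over W) AddCommGrpCat.{u}) :=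
    HasDerivedCategory.standard _
  let _ : HasDerivedCategory.{u + 1} (Sheaf (J'.over V) AddCommGrpCat.{u}) :=
    HasDerivedCategory.standard _
  have hH : A' W ((eps h W).obj ((restr J w).obj G)) := h2 w _ hG
  have hzW : ∀ q : ℕ, 0 < q → q ≤ n →
      IsZero (((eps h W).rightDerived q).obj ((restr J w).obj G)) :=
    fun q hq hqn => hV W _ hH q hq hqn
  have a1 : ∀ i : ℕ, A' V (((aPush J' w).rightDerived i).obj
      ((eps h W).obj ((restr J w).obj G))) := fun i => h4 w hw _ hH i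
  have a2 : A' V ((eps h V).obj ((aPush J w).obj ((restr J w).obj G))) :=
    (A' V).prop_of_iso (((aPush J' w).rightDerivedZeroIsoSelf.app _) ≪≫
      ((aPushEpsIso h w).app ((restr J w).obj G)).symm) (a1 0)
  have a3 : ∀ q : ℕ, q ≤ n →
      A' V ((eps h V).obj (((aPush J w).rightDerived q).obj ((restr J w).obj G))) := by
    intro q hq
    obtain ⟨e⟩ := nonempty_Cn_iso h w ((restr J w).obj G) n hzW q hq (h3 V _ (a1 q))
    exact (A' V).prop_of_iso e (a1 q)
  have hu := mono_unit J w hcov G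
  have hcokA : A' V (cokernel ((eps h V).map ((adjτ J w).unit.app G))) :=
    (A' V).prop_cokernel _ hG a2
  obtain ⟨hQ1, ⟨eQ⟩⟩ := epi_map_cokernel_π (SiteCmp.over_le h V) ((adjτ J w).unit.app G)
    (h3 V _ hcokA)
  have hQA : A' V ((eps h V).obj (cokernel ((adjτ J w).unit.app G))) :=
    (A' V).prop_of_iso eQ.symm hcokA
  have hA : A' V (((aPush J w ⋙ eps h V).rightDerived n).obj ((restr J w).obj G)) := by
    obtain ⟨e2⟩ := LowDegIso.iso_of_isZero_mid (eps h W) (aPush J' w)
      (isZero_rightDerived_aPush_eps h w) ((restr J w).obj G) n hzW n le_rfl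
    exact (A' V).prop_of_iso
      (((aPush J' w).rightDerived n).mapIso ((eps h W).rightDerivedZeroIsoSelf.app _).symm ≪≫
        e2.symm ≪≫ ((rightDerivedIso (aPushEpsIso h w) n).app ((restr J w).obj G)).symm) (a1 n)
  have hB : A' V (((eps h V).rightDerived 0).obj
      (((aPush J w).rightDerived n).obj ((restr J w).obj G))) :=
    (A' V).prop_of_iso ((eps h V).rightDerivedZeroIsoSelf.app _).symm (a3 n le_rfl)
  obtain ⟨N, ψ, hψ⟩ := exists_mono_to_aPush h w G n hu hQ1
    (fun hn => hV V _ hQA n hn le_rfl)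
    (fun q hq1 hq2 p hp1 hp2 => hV V _ (a3 q (by lia)) p hp1 hp2)
    (fun hn u => h3 V _ ((A' V).prop_cokernel u hA hB))
    hzW
    (h3 V _ (h4 w hw _ ((A' W).prop_of_iso ((eps h W).rightDerivedZeroIsoSelf.app _).symm hH)
      (n + 1)))
  have hψ' : ψ = (adjτ J' w).unit.app _ ≫ (aPush J' w).map (((adjτ J' w).homEquiv _ _).symm ψ) :=
    ((Equiv.apply_symm_apply ((adjτ J' w).homEquiv _ _) ψ).symm).trans
      ((adjτ J' w).homEquiv_unit _ _ _)
  rw [hψ'] at hψ
  exact mono_of_mono _ ((aPush J' w).map (((adjτ J' w).homEquiv _ _).symm ψ))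

omit [∀ X : C, WSerre.IsWeakSerre (A' X)] in
lemma sieve_arrows_iff {B : C} {U : Over B} (S : Sieve U) {Z : Over B} (g : Z ⟶ U) :
    S.arrows g ↔ (Sieve.overEquiv U S).arrows g.left := by
  obtain ⟨S₀, rfl⟩ := (Sieve.overEquiv U).symm.surjective S
  simp

include h1 h2 h3 h4 in
/-- **`(V_n) ⇒ (V_{n+1})`.** -/
theorem isZero_rightDerived_succ
    (h5 : ∀ (U : C) (S : Sieve U), S ∈ J U → ∃ (ι : Type u) (V : ι → C) (v : ∀ j, V j ⟶ U),
      Sieve.ofArrows V v ∈ J' U ∧ ∀ j, ∃ (W : C) (w : W ⟶ V j), P w ∧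
        Sieve.ofArrows (fun _ : PUnit.{u + 1} => W) (fun _ => w) ∈ J (V j) ∧
        ∃ (κ : Type u) (Wk : κ → C) (wk : ∀ k, Wk k ⟶ W), Sieve.ofArrows Wk wk ∈ J' W ∧
          ∀ k, S.arrows (wk k ≫ w ≫ v j))
    (n : ℕ)
    (hV : ∀ (Z : C) (G : Sheaf (J.over Z) AddCommGrpCat.{u}), A' Z ((eps h Z).obj G) →
      ∀ i : ℕ, 1 ≤ i → i ≤ n → IsZero (((eps h Z).rightDerived i).obj G))
    (B : C) (F : Sheaf (J.over B) AddCommGrpCat.{u}) (hF : A' B ((eps h B).obj F)) :
    IsZero (((eps h B).rightDerived (n + 1)).obj F) := by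
  obtain ⟨R, hRdef⟩ : ∃ R, R = ((eps h B).rightDerived (n + 1)).obj F := ⟨_, rfl⟩
  rw [← hRdef]
  have key : ∀ (U : Over B) (s : R.obj.obj (op U)), s = 0 := by
    intro U s
    obtain ⟨S, hS, hS0⟩ := exists_cover_map_eq_zero (SiteCmp.over_le h B) R
      (by rw [hRdef]; exact isZero_inv_rightDerived (SiteCmp.over_le h B) F (n + 1) (by lia)) s
    rw [GrothendieckTopology.mem_over_iff] at hS
    obtain ⟨ι, Vj, vj, hcovV, hj⟩ := h5 U.left _ hS
    apply (R.2.isSeparated) U ((Sieve.overEquiv U).symm (Sieve.ofArrows Vj vj))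
      (GrothendieckTopology.overEquiv_symm_mem_over _ U _ hcovV)
    intro Z g hg
    rw [map_zero]
    have hg' : (Sieve.ofArrows Vj vj).arrows g.left := hg
    rw [Sieve.mem_ofArrows_iff] at hg'
    obtain ⟨j, a, ha⟩ := hg'
    obtain ⟨Wj, wj, hPw, hcovW, κ, Wk, wk, hcovk, hSk⟩ := hj j
    let gj : Vj j ⟶ B := vj j ≫ U.hom
    let tj : (Over.map gj).obj (Over.mk (𝟙 (Vj j))) ⟶ U := Over.homMk (vj j) (by simp [gj])
    have claim : (R.obj.map tj.op).hom s = 0 := by
      haveI : HasPullbacksAlong wj := fun g => by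
        obtain ⟨T, p, q, hpb, _⟩ := h1 wj hPw g
        exact hpb.hasPullback
      let Rj := (restr J' gj).obj R
      have hGj : A' (Vj j) ((eps h (Vj j)).obj ((restr J gj).obj F)) := h2 gj _ hF
      have hY := mono_unit_rightDerived_succ h P A' h1 h2 h3 h4 n hV wj hPw hcovW _ hGj
      have hmono : Mono ((adjτ J' wj).unit.app Rj) := by
        have e := restrRightDerivedIso h gj F (n + 1)
        rw [← hRdef] at e
        exact mono_unit_of_iso (adjτ J' wj) e.symm hY
      refine eq_zero_of_map_eq_zero J' wj Rj hmono ((R.obj.map tj.op).hom s) ?_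
      let Ŵ : Over B := (Over.map gj).obj (Over.mk wj)
      let cj : Ŵ ⟶ U := (Over.map gj).map (Over.homMk wj : Over.mk wj ⟶ Over.mk (𝟙 _)) ≫ tj
      have hcj : (R.obj.map cj.op).hom s = 0 := by
        apply (R.2.isSeparated) Ŵ ((Sieve.overEquiv Ŵ).symm (Sieve.ofArrows Wk wk))
          (GrothendieckTopology.overEquiv_symm_mem_over _ Ŵ _ hcovk)
        intro Z' b hb
        rw [map_zero]
        have hb' : (Sieve.ofArrows Wk wk).arrows b.left := hb
        rw [Sieve.mem_ofArrows_iff] at hb'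
        obtain ⟨k, a₂, ha₂⟩ := hb'
        have hmem : S.arrows (b ≫ cj) := by
          rw [sieve_arrows_iff]
          have : (b ≫ cj).left = a₂ ≫ wk k ≫ wj ≫ vj j := by
            simp [cj, tj, ha₂]
          rw [this]
          exact Sieve.downward_closed _ (hSk k) a₂
        have h0 := hS0 _ hmem
        rw [op_comp, Functor.map_comp] at h0
        simpa using h0
      have : (R.obj.map cj.op).hom s =
          (Rj.obj.map (Over.homMk wj : Over.mk wj ⟶ Over.mk (𝟙 (Vj j))).op).hom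
            ((R.obj.map tj.op).hom s) := by
        show (R.obj.map cj.op).hom s = (R.obj.map ((Over.map gj).map
          (Over.homMk wj : Over.mk wj ⟶ Over.mk (𝟙 (Vj j)))).op).hom ((R.obj.map tj.op).hom s)
        simp only [cj, op_comp, Functor.map_comp, AddCommGrpCat.hom_comp, AddMonoidHom.coe_comp,
          Function.comp_apply]
      rw [← this]
      exact hcj
    let a' : Z ⟶ (Over.map gj).obj (Over.mk (𝟙 (Vj j))) := Over.homMk a (by
      have := Over.w g
      simp [gj, ← this, ha])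
    have hga : g = a' ≫ tj := by
      ext
      simp [a', tj, ha]
    rw [hga, op_comp, Functor.map_comp]
    simp only [AddCommGrpCat.hom_comp, AddMonoidHom.coe_comp, Function.comp_apply]
    rw [claim, map_zero]
  rw [IsZero.iff_id_eq_zero]
  apply ObjectProperty.hom_ext
  ext U s
  exact key U.unop _

include h1 h2 h3 h4 in
/-- **`(V_n)` for all `n`.** -/
theorem isZero_rightDerived_all
    (h5 : ∀ (U : C) (S : Sieve U), S ∈ J U → ∃ (ι : Type u) (V : ι → C) (v : ∀ j, V j ⟶ U),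
      Sieve.ofArrows V v ∈ J' U ∧ ∀ j, ∃ (W : C) (w : W ⟶ V j), P w ∧
        Sieve.ofArrows (fun _ : PUnit.{u + 1} => W) (fun _ => w) ∈ J (V j) ∧
        ∃ (κ : Type u) (Wk : κ → C) (wk : ∀ k, Wk k ⟶ W), Sieve.ofArrows Wk wk ∈ J' W ∧
          ∀ k, S.arrows (wk k ≫ w ≫ v j))
    (n : ℕ) :
    ∀ (Z : C) (G : Sheaf (J.over Z) AddCommGrpCat.{u}), A' Z ((eps h Z).obj G) →
      ∀ i : ℕ, 1 ≤ i → i ≤ n → IsZero (((eps h Z).rightDerived i).obj G) := by
  induction n with
  | zero => intro Z G _ i h1 h0; lia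
  | succ n ih =>
    intro Z G hG i hi1 hi2
    rcases Nat.lt_or_ge i (n + 1) with hlt | hge
    · exact ih Z G hG i hi1 (by lia)
    · obtain rfl : i = n + 1 := by lia
      exact isZero_rightDerived_succ h P A' h1 h2 h3 h4 h5 n ih Z G hG

end Situation

end Groth.Agent.H43.EpsMain
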