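import Groth.Agent.H43.EpsFF
import Groth.Agent.H33.RDLes
import Groth.Prelude.Def_WeakSerre

/-!
# `A = ε_*^{-1}(A')` is a weak Serre subcategory (helper43)
-/

set_option autoImplicit false
universe u
open CategoryTheory Limits Opposite

namespace Groth.Agent.H43.EpsSerre

open Groth.Agent.H43 Groth.Agent.H43.EpsSh Groth.Agent.H43.EpsFF

variable {C : Type u} [SmallCategory C] {J J' : GrothendieckTopology C} (h : J' ≤ J)

/-- If the members of a weak Serre subcategory `A'` of `J'`-sheaves are `J`-sheaves and `R¹ε_*`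
vanishes on `A = ε_*^{-1}(A')`, then `A` is a weak Serre subcategory of the `J`-sheaves. -/
theorem isWeakSerre_inverseImage (A' : ObjectProperty (Sheaf J' AddCommGrpCat.{u}))
    [WSerre.IsWeakSerre A']
    (h3 : ∀ F' : Sheaf J' AddCommGrpCat.{u}, A' F' → Presheaf.IsSheaf J F'.obj)
    (hR1 : ∀ F : Sheaf J AddCommGrpCat.{u}, A' ((SiteCmp.epsSh h AddCommGrpCat.{u}).obj F) →
      IsZero (((SiteCmp.epsSh h AddCommGrpCat.{u}).rightDerived 1).obj F)) :
    WSerre.IsWeakSerre (A'.inverseImage (SiteCmp.epsSh h AddCommGrpCat.{u})) where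
  exists_zero := ObjectProperty.ContainsZero.exists_zero
  kernels_le := by
    rintro K ⟨f, k, hk, ⟨hX, hY⟩⟩
    have e : k.pt ≅ kernel f := hk.conePointUniqueUpToIso (limit.isLimit (parallelPair f 0))
    have e' := PreservesKernel.iso (SiteCmp.epsSh h AddCommGrpCat.{u}) f
    exact A'.prop_of_iso ((SiteCmp.epsSh h AddCommGrpCat.{u}).mapIso e ≪≫ e').symm
      (A'.prop_kernel _ hX hY)
  cokernels_le := by
    rintro K ⟨f, k, hk, ⟨hX, hY⟩⟩
    have e : k.pt ≅ cokernel f := hk.coconePointUniqueUpToIso (colimit.isColimit (parallelPair f 0))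
    have hcok : A' (cokernel ((SiteCmp.epsSh h AddCommGrpCat.{u}).map f)) :=
      A'.prop_cokernel _ hX hY
    obtain ⟨-, ⟨e'⟩⟩ := epi_map_cokernel_π h f (h3 _ hcok)
    exact A'.prop_of_iso ((SiteCmp.epsSh h AddCommGrpCat.{u}).mapIso e ≪≫ e').symm hcok
  prop_X₂_of_shortExact := by
    intro S hS h₁ h₃
    have hm := hS.mono_f
    have he := hS.epi_g
    obtain ⟨-, -, δ, hδ⟩ := Groth.Agent.H33.RDLes.exists_les
      (F := SiteCmp.epsSh h AddCommGrpCat.{u}) S hS
    obtain ⟨w₁, w₂, ex₁, ex₂⟩ := hδ 0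
    have hδ0 : δ 0 = 0 := (hR1 S.X₁ h₁).eq_of_tgt _ _
    have hepi0 : Epi (((SiteCmp.epsSh h AddCommGrpCat.{u}).rightDerived 0).map S.g) :=
      ex₁.epi_f hδ0
    have hepi : Epi ((SiteCmp.epsSh h AddCommGrpCat.{u}).map S.g) := by
      have nat := (SiteCmp.epsSh h AddCommGrpCat.{u}).rightDerivedZeroIsoSelf.hom.naturality S.g
      have : (SiteCmp.epsSh h AddCommGrpCat.{u}).map S.g =
          (SiteCmp.epsSh h AddCommGrpCat.{u}).rightDerivedZeroIsoSelf.inv.app _ ≫
            ((SiteCmp.epsSh h AddCommGrpCat.{u}).rightDerived 0).map S.g ≫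
            (SiteCmp.epsSh h AddCommGrpCat.{u}).rightDerivedZeroIsoSelf.hom.app _ := by
        rw [nat]
        simp
      rw [this]
      infer_instance
    have hS' : (S.map (SiteCmp.epsSh h AddCommGrpCat.{u})).ShortExact :=
      { exact := (S.map (SiteCmp.epsSh h AddCommGrpCat.{u})).exact_of_f_is_kernel
          (KernelFork.mapIsLimit _ hS.fIsKernel (SiteCmp.epsSh h AddCommGrpCat.{u}))
        mono_f := by
          show Mono ((SiteCmp.epsSh h AddCommGrpCat.{u}).map S.f)
          infer_instance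
        epi_g := hepi }
    exact A'.prop_X₂_of_shortExact hS' h₁ h₃

end Groth.Agent.H43.EpsSerre
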