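import Groth.Agent.H43.OverMapShriek
import Groth.Agent.H16.CohPush
import Groth.Agent.H30.DerivedComp
import Groth.Agent.H60.CocontH

set_option autoImplicit false
universe u
open CategoryTheory Limits Opposite

namespace Groth.Agent.H43.OverMapPush

open Groth.Agent.H43.OverMapShriek

variable {C : Type u} [SmallCategory C] (J : GrothendieckTopology C) {X Y : C} (f : X ⟶ Y)

section general

variable {A : Type*} [Category A] [Abelian A] [HasInjectiveResolutions A]
  {B : Type*} [Category B] [Abelian B]

/-- isomorphic additive functors have isomorphic right derived functors -/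
noncomputable def rightDerivedIso {F G : A ⥤ B} [F.Additive] [G.Additive] (e : F ≅ G) (n : ℕ) :
    F.rightDerived n ≅ G.rightDerived n where
  hom := NatTrans.rightDerived e.hom n
  inv := NatTrans.rightDerived e.inv n
  hom_inv_id := by
    rw [← NatTrans.rightDerived_comp, e.hom_inv_id, NatTrans.rightDerived_id]
  inv_hom_id := by
    rw [← NatTrans.rightDerived_comp, e.inv_hom_id, NatTrans.rightDerived_id]

end general

/-- the relocalisation push-forward (right adjoint of restriction) -/
noncomputable abbrev aPush :
    Sheaf (J.over X) AddCommGrpCat.{u} ⥤ Sheaf (J.over Y) AddCommGrpCat.{u} :=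
  (Over.map f).sheafPushforwardCocontinuous AddCommGrpCat.{u} (J.over X) (J.over Y)

variable [HasPullbacksAlong f]

instance isContinuous_pullback : (Over.pullback f).IsContinuous (J.over Y) (J.over X) :=
  (Over.mapPullbackAdj f).isContinuous_of_isCocontinuous _ _

/-- push-forward along the fibre product functor `V ↦ V ×_Y X` -/
noncomputable abbrev bPush :
    Sheaf (J.over X) AddCommGrpCat.{u} ⥤ Sheaf (J.over Y) AddCommGrpCat.{u} :=
  (Over.pullback f).sheafPushforwardContinuous AddCommGrpCat.{u} (J.over Y) (J.over X)

/-- the two descriptions of the right adjoint of restriction agree -/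
noncomputable def abIso : aPush J f ≅ bPush J f :=
  Adjunction.rightAdjointUniq
    ((Over.map f).sheafAdjunctionCocontinuous AddCommGrpCat.{u} (J.over X) (J.over Y))
    ((Over.mapPullbackAdj f).sheafPushforwardContinuous (E := AddCommGrpCat.{u}) (J.over X) (J.over Y))

instance : (bPush J f).Additive where

end Groth.Agent.H43.OverMapPush

namespace Groth.Agent.H43.OverMapPush

open Groth.Agent.H43.OverMapShriek

variable {C : Type u} [SmallCategory C] (J : GrothendieckTopology C) {X Y : C} (f : X ⟶ Y)
  [HasPullbacksAlong f]

instance preservesFiniteLimits_restr : PreservesFiniteLimits (restr J f) :=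
  Groth.Agent.H60.CocontH.preservesFiniteLimits_push (J.over X) (J.over Y) (Over.map f)

instance preservesFiniteColimits_restr : PreservesFiniteColimits (restr J f) :=
  Groth.Agent.H60.CocontH.preservesFiniteColimits_push (J.over X) (J.over Y) (Over.map f)

/-- `R^q f_*` of a sheaf on `C/X` is the sheafification of `V ↦ H^q(V ×_Y X, M)`. -/
noncomputable def mainIsoA [(aPush J f).Additive] (M : Sheaf (J.over X) AddCommGrpCat.{u}) (q : ℕ) :
    ((aPush J f).rightDerived q).obj M ≅
      (presheafToSheaf (J.over Y) AddCommGrpCat.{u}).obj
        ((Over.pullback f).op ⋙ Sheaf.cohomologyPresheaf.{u} M q) :=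
  (rightDerivedIso (abIso J f) q).app M ≪≫
    Groth.Agent.H16.CohPush.mainIso (J.over X) (J.over Y) (Over.pullback f)
      (injectiveResolution M) q

/-- the functor `V ↦ V ×_Y X`, regarded in `C/Y`. -/
noncomputable abbrev piF : Over Y ⥤ Over Y := Over.pullback f ⋙ Over.map f

instance : (piF f).IsContinuous (J.over Y) (J.over Y) :=
  Functor.isContinuous_comp _ _ _ (J.over X) _

instance : ((piF f).sheafPushforwardContinuous AddCommGrpCat.{u} (J.over Y) (J.over Y)).Additive where

/-- `R^q f_*` of a restricted sheaf is the sheafification of `V ↦ H^q(V ×_Y X, F')`, the cohomology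
being taken on `C/Y`. -/
noncomputable def mainIsoPi [(aPush J f).Additive] (F' : Sheaf (J.over Y) AddCommGrpCat.{u}) (q : ℕ) :
    ((aPush J f).rightDerived q).obj ((restr J f).obj F') ≅
      (presheafToSheaf (J.over Y) AddCommGrpCat.{u}).obj
        ((piF f).op ⋙ Sheaf.cohomologyPresheaf.{u} F' q) :=
  (rightDerivedIso (abIso J f) q).app _ ≪≫
    ((Groth.Agent.H30.DerivedComp.rightDerivedCompIso (restr J f)
      (fun Q hQ => injective_restr J f Q) (bPush J f) q).app F').symm ≪≫
    Groth.Agent.H16.CohPush.mainIso (J.over Y) (J.over Y) (piF f)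
      (injectiveResolution F') q

end Groth.Agent.H43.OverMapPush
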