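import Groth.Agent.H43.LowDegIso
import Groth.Agent.H43.CohPresheafRD
import Groth.Agent.H43.OverMapPush
import Groth.Prelude.Def_SiteCmp

/-!
# The comparison `ε : (C, J) → (C, J')` for `J' ≤ J` and cohomology presheaves (helper43)

If `R^q ε_* F = 0` for `0 < q ≤ m` then `H^n_{J'}(−, ε_* F) ≅ H^n_J(−, F)` as presheaves for
`n ≤ m`.
-/

set_option autoImplicit false
universe u
open CategoryTheory Limits Opposite

namespace Groth.Agent.H43.EpsSh

open Groth.Agent.H43

variable {C : Type u} [SmallCategory C] {J J' : GrothendieckTopology C} (h : J' ≤ J)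

instance isRightAdjoint_epsSh : (SiteCmp.epsSh h AddCommGrpCat.{u}).IsRightAdjoint :=
  haveI := SiteCmp.idContinuous h
  inferInstance

instance additive_epsSh : (SiteCmp.epsSh h AddCommGrpCat.{u}).Additive where

instance preservesFiniteLimits_epsSh : PreservesFiniteLimits (SiteCmp.epsSh h AddCommGrpCat.{u}) :=
  inferInstance

instance preservesFiniteLimits_epsShInv :
    PreservesFiniteLimits (SiteCmp.epsShInv h AddCommGrpCat.{u}) :=
  haveI := SiteCmp.idContinuous h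
  haveI : RepresentablyFlat (𝟭 C) := RepresentablyFlat.id
  Functor.SmallCategories.instPreservesFiniteLimitsSheafSheafPullbackOfRepresentablyFlat
    (𝟭 C) AddCommGrpCat.{u} J' J

lemma injective_epsSh (I : Sheaf J AddCommGrpCat.{u}) [Injective I] :
    Injective ((SiteCmp.epsSh h AddCommGrpCat.{u}).obj I) :=
  Injective.injective_of_adjoint (SiteCmp.epsShAdj h AddCommGrpCat.{u}) I

/-- forgetting the `J`-sheaf condition factors through `ε_*`. -/
noncomputable def compIso :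
    CohPresheafRD.T J ≅ SiteCmp.epsSh h AddCommGrpCat.{u} ⋙ CohPresheafRD.T J' :=
  NatIso.ofComponents (fun F => Iso.refl _)

/-- **Leray in low degrees for `ε`.** If `R^q ε_* F = 0` for `0 < q ≤ m`, the cohomology presheaves of
`F` and of `ε_* F` agree in degrees `≤ m`. -/
theorem nonempty_cohomologyPresheaf_iso (F : Sheaf J AddCommGrpCat.{u}) (m : ℕ)
    (hz : ∀ q : ℕ, 0 < q → q ≤ m →
      IsZero (((SiteCmp.epsSh h AddCommGrpCat.{u}).rightDerived q).obj F)) (n : ℕ) (hn : n ≤ m) :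
    Nonempty (Sheaf.cohomologyPresheaf.{u} ((SiteCmp.epsSh h AddCommGrpCat.{u}).obj F) n ≅
      Sheaf.cohomologyPresheaf.{u} F n) := by
  let _ : HasDerivedCategory.{u + 1} (Sheaf J' AddCommGrpCat.{u}) := HasDerivedCategory.standard _
  let _ : HasDerivedCategory.{u + 1} (Sheaf (⊥ : GrothendieckTopology C) AddCommGrpCat.{u}) :=
    HasDerivedCategory.standard _
  obtain ⟨e1⟩ := CohPresheafRD.nonempty_rightDerived_iso J F n
  obtain ⟨e5⟩ := CohPresheafRD.nonempty_rightDerived_iso J'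
    ((SiteCmp.epsSh h AddCommGrpCat.{u}).obj F) n
  have e2 := (OverMapPush.rightDerivedIso (compIso h) n).app F
  obtain ⟨e3⟩ := LowDegIso.iso_of_isZero_mid (SiteCmp.epsSh h AddCommGrpCat.{u})
    (CohPresheafRD.T J') (fun Q hQ q hq => by
      haveI := injective_epsSh h Q
      obtain ⟨q, rfl⟩ : ∃ k, q = k + 1 := ⟨q - 1, by lia⟩
      exact Functor.isZero_rightDerived_obj_injective_succ _ _ _) F m hz n hn
  have e4 := (SiteCmp.epsSh h AddCommGrpCat.{u}).rightDerivedZeroIsoSelf.app F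
  have e : (⟨Sheaf.cohomologyPresheaf.{u} ((SiteCmp.epsSh h AddCommGrpCat.{u}).obj F) n,
      Presheaf.isSheaf_bot _⟩ : Sheaf (⊥ : GrothendieckTopology C) AddCommGrpCat.{u}) ≅
      ⟨Sheaf.cohomologyPresheaf.{u} F n, Presheaf.isSheaf_bot _⟩ :=
    e5.symm ≪≫ ((CohPresheafRD.T J').rightDerived n).mapIso e4.symm ≪≫ e3.symm ≪≫ e2.symm ≪≫ e1
  exact ⟨(sheafToPresheaf _ _).mapIso e⟩

include h in
/-- a `J'`-local isomorphism of abelian presheaves is a `J`-local isomorphism. -/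
lemma W_of_le {P Q : Cᵒᵖ ⥤ AddCommGrpCat.{u}} (φ : P ⟶ Q) (hφ : J'.W φ) : J.W φ := by
  rw [GrothendieckTopology.W_iff_isLocallyBijective] at hφ ⊢
  obtain ⟨h1, h2⟩ := hφ
  exact ⟨⟨fun x y hxy => h _ (h1.equalizerSieve_mem x y hxy)⟩,
    ⟨fun s => h _ (h2.imageSieve_mem s)⟩⟩

include h in
/-- If the `J'`-sheafification of `P` happens to be a `J`-sheaf, it is the `J`-sheafification. -/
theorem nonempty_iso_sheafify_of_le {P : Cᵒᵖ ⥤ AddCommGrpCat.{u}} (L : Sheaf J' AddCommGrpCat.{u})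
    (e : L ≅ (presheafToSheaf J' AddCommGrpCat.{u}).obj P) (hL : Presheaf.IsSheaf J L.obj) :
    Nonempty ((⟨L.obj, hL⟩ : Sheaf J AddCommGrpCat.{u}) ≅
      (presheafToSheaf J AddCommGrpCat.{u}).obj P) := by
  let θ : P ⟶ L.obj := toSheafify J' P ≫ e.inv.hom
  have hθ' : J'.W θ := by
    have h1 : J'.W (toSheafify J' P) := J'.W_toSheafify P
    have h2 : J'.W ((sheafToPresheaf J' AddCommGrpCat.{u}).map e.inv) :=
      (J'.W_sheafToPresheaf_map_iff_isIso e.inv).2 inferInstance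
    exact (J'.W).comp_mem _ _ h1 h2
  have hθ : J.W θ := W_of_le h θ hθ'
  rw [GrothendieckTopology.W_iff] at hθ
  exact ⟨(asIso ((sheafificationAdjunction J AddCommGrpCat.{u}).counit.app ⟨L.obj, hL⟩)).symm ≪≫
    (@asIso _ _ _ _ _ hθ).symm⟩

/-- a `J`-sheaf with the same underlying presheaf as a `J'`-sheaf `L` maps to `L` under `ε_*`. -/
noncomputable def epsShObjIso (L : Sheaf J' AddCommGrpCat.{u}) (hL : Presheaf.IsSheaf J L.obj) :
    (SiteCmp.epsSh h AddCommGrpCat.{u}).obj ⟨L.obj, hL⟩ ≅ L :=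
  (fullyFaithfulSheafToPresheaf J' AddCommGrpCat.{u}).preimageIso (Iso.refl _)

end Groth.Agent.H43.EpsSh
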