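import Groth.Agent.H43.LowDegIso

/-!
# Low degree exact sequences of the Grothendieck spectral sequence under partial vanishing (helper43)

* `exists_seq_of_isZero_mid`: if `R^qT(X) = 0` for `0 < q ≤ n` there is an exact sequence
  `0 → R^{n+1}S(R⁰T X) → R^{n+1}(T ⋙ S)(X) → R⁰S(R^{n+1}T X)`.
* `exists_seq_of_isZero_E₂`: if `RᵖS(R^qT X) = 0` for `1 ≤ q ≤ n - 1`, `1 ≤ p ≤ n` (`n ≥ 1`), there is
  an exact sequence `Rⁿ(T ⋙ S)(X) → R⁰S(RⁿT X) → R^{n+1}S(R⁰T X) → R^{n+1}(T ⋙ S)(X)`.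
-/

set_option autoImplicit false
set_option linter.unusedSectionVars false
universe w w' v v' u u'
open CategoryTheory Limits Pretriangulated ZeroObject

namespace Groth.Agent.H43.LowDegSeq

open DerivedCategory Groth.Agent.H30 Groth.Agent.H30.Hyper Groth.Agent.H30.Leray
  Groth.Agent.H30.GrothSS Groth.Agent.H30.Degenerate Groth.Agent.H43.LowDegIso

section Transport

variable {𝒞 : Type*} [Category 𝒞] [Abelian 𝒞]

lemma transport_exact {A B C A' B' C' : 𝒞} (α : A ⟶ B) (β : B ⟶ C) (w : α ≫ β = 0)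
    (hex : (ShortComplex.mk α β w).Exact) (a : A ≅ A') (b : B ≅ B') (c : C ≅ C') :
    ∃ w' : (a.inv ≫ α ≫ b.hom) ≫ (b.inv ≫ β ≫ c.hom) = 0,
      (ShortComplex.mk (a.inv ≫ α ≫ b.hom) (b.inv ≫ β ≫ c.hom) w').Exact := by
  have w' : (a.inv ≫ α ≫ b.hom) ≫ (b.inv ≫ β ≫ c.hom) = 0 := by
    simp only [Category.assoc, Iso.hom_inv_id_assoc, reassoc_of% w, zero_comp, comp_zero]
  refine ⟨w', ?_⟩
  refine (ShortComplex.exact_iff_of_iso (ShortComplex.isoMk a b c ?_ ?_)).1 hex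
  · dsimp
    simp
  · dsimp
    simp

end Transport

section Core

variable {A : Type u} [Category.{v} A] [Abelian A] [HasDerivedCategory.{w} A] [EnoughInjectives A]
  {B : Type u'} [Category.{v'} B] [Abelian B] [HasDerivedCategory.{w'} B]
  (F : A ⥤ B) [F.Additive] (KK : DerivedCategory.Plus A)

/-- If `KK ∈ D^{≥ 0}` and `H^i(KK) = 0` for `0 < i ≤ m` then `Φ_k(τ_{≤ m} KK) ≅ R^kF(H^0 KK)`. -/
lemma nonempty_Φ_tLT_iso [KK.IsGE 0] (m : ℕ)
    (h : ∀ i : ℤ, 0 < i → i ≤ m → IsZero ((Plus.homologyFunctor A i).obj KK)) (k : ℕ) :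
    Nonempty (((Φ F).shift (k : ℤ)).obj (tLT KK ((m : ℤ) + 1)) ≅
      (F.rightDerived k).obj ((Plus.homologyFunctor A 0).obj KK)) := by
  have hGE : (tLT KK ((m : ℤ) + 1)).IsGE 0 := by
    dsimp only [tLT]
    infer_instance
  have hLE : Plus.TStructure.t.IsLE (tLT KK ((m : ℤ) + 1)) m :=
    Plus.TStructure.t.isLE_eTruncLT_obj_obj m _ le_rfl KK
  have hz : ∀ i : ℤ, 0 < i → IsZero ((Plus.homologyFunctor A i).obj (tLT KK ((m : ℤ) + 1))) := by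
    intro i hi
    by_cases him : i ≤ m
    · have := isIso_homology_map_triA_mor₁ KK ((m : ℤ) + 1) i (by lia)
      exact (h i hi him).of_iso (@asIso _ _ _ _ _ this)
    · exact Plus.isZero_homology_of_isLE _ m _ (by lia)
  obtain ⟨e⟩ := nonempty_Φ_iso_of_isLE F (tLT KK ((m : ℤ) + 1)) hz k
  have i₂ := isIso_homology_map_triA_mor₁ KK ((m : ℤ) + 1) 0 (by lia)
  exact ⟨e ≪≫ (F.rightDerived k).mapIso (@asIso _ _ _ _ _ i₂)⟩

/-- `Φ_q(τ_{≥ q} KK) ≅ R⁰F(H^q KK)`. -/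
lemma nonempty_Φ_tGE_iso (q : ℤ) :
    Nonempty (((Φ F).shift q).obj (triA KK q).obj₃ ≅
      (F.rightDerived 0).obj ((Plus.homologyFunctor A q).obj KK)) := by
  have hGE : Plus.TStructure.t.IsGE (triA KK q).obj₃ q :=
    Plus.TStructure.t.isGE_eTruncGE_obj_obj q _ le_rfl _
  obtain ⟨e⟩ := nonempty_Φ_iso_of_isZero_homology F (triA KK q).obj₃ q
    (fun i hi => Plus.isZero_homology_of_isGE _ q i hi)
  have hLE : Plus.TStructure.t.IsLE (triA KK q).obj₁ (q - 1) := by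
    have : Plus.TStructure.t.IsLE (tLT KK q) (q - 1) :=
      Plus.TStructure.t.isLE_eTruncLT_obj_obj (q - 1) _ (by simp) KK
    exact this
  have i₂ : IsIso ((Plus.homologyFunctor A q).map (triA KK q).mor₂) :=
    isIso_shift_map_mor₂ (Plus.homologyFunctor A 0) _ (triA_dist KK q) q (q + 1) rfl
      (Plus.isZero_homology_of_isLE _ (q - 1) _ (by lia))
      (Plus.isZero_homology_of_isLE _ (q - 1) _ (by lia))
  exact ⟨e ≪≫ (F.rightDerived 0).mapIso (@asIso _ _ _ _ _ i₂).symm⟩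

/-- `Φ_q(τ_{< q+1} KK) → Φ_q(KK)` is always a monomorphism... in degree `q + 1`:
`Φ_{q}(τ_{<q} KK) → Φ_q(KK)` is a monomorphism. -/
lemma mono_Φ_map_triA_mor₁ (q : ℤ) : Mono (((Φ F).shift q).map (triA KK q).mor₁) := by
  have hGE : Plus.TStructure.t.IsGE (triA KK q).obj₃ q :=
    Plus.TStructure.t.isGE_eTruncGE_obj_obj q _ le_rfl _
  exact ((Φ F).homologySequence_mono_shift_map_mor₁_iff _ (triA_dist KK q) (q - 1) q (by lia)).2
    ((isZero_Φ_of_isGE F _ q (q - 1) (by lia)).eq_of_src _ _)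

/-- core of the first sequence -/
lemma exists_seq_core₁ [KK.IsGE 0] (n : ℕ)
    (h : ∀ i : ℤ, 0 < i → i ≤ n → IsZero ((Plus.homologyFunctor A i).obj KK)) :
    ∃ (α : (F.rightDerived (n + 1)).obj ((Plus.homologyFunctor A 0).obj KK) ⟶
        ((Φ F).shift ((n : ℤ) + 1)).obj KK)
      (β : ((Φ F).shift ((n : ℤ) + 1)).obj KK ⟶
        (F.rightDerived 0).obj ((Plus.homologyFunctor A ((n : ℤ) + 1)).obj KK)),
      Mono α ∧ ∃ w : α ≫ β = 0, (ShortComplex.mk α β w).Exact := by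
  obtain ⟨e₁⟩ := nonempty_Φ_tLT_iso F KK n h (n + 1)
  have hcast : ((n + 1 : ℕ) : ℤ) = (n : ℤ) + 1 := by push_cast; rfl
  rw [hcast] at e₁
  obtain ⟨e₃⟩ := nonempty_Φ_tGE_iso F KK ((n : ℤ) + 1)
  have hex := (Φ F).homologySequence_exact₂ _ (triA_dist KK ((n : ℤ) + 1)) ((n : ℤ) + 1)
  have hm := mono_Φ_map_triA_mor₁ F KK ((n : ℤ) + 1)
  obtain ⟨w', hex'⟩ := transport_exact _ _ _ hex e₁ (Iso.refl _) e₃
  have hm' : Mono (e₁.inv ≫ ((Φ F).shift ((n : ℤ) + 1)).map (triA KK ((n : ℤ) + 1)).mor₁ ≫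
      (Iso.refl (((Φ F).shift ((n : ℤ) + 1)).obj (triA KK ((n : ℤ) + 1)).obj₂)).hom) := by
    exact mono_comp' inferInstance (mono_comp' hm inferInstance)
  exact ⟨_, _, hm', w', hex'⟩

/-- post-composing the second map of an exact pair with a monomorphism keeps exactness. -/
lemma exact_comp_mono {𝒞 : Type*} [Category 𝒞] [Abelian 𝒞] {X₁ X₂ X₃ X₄ : 𝒞} (f : X₁ ⟶ X₂)
    (g : X₂ ⟶ X₃) (w : f ≫ g = 0) (hex : (ShortComplex.mk f g w).Exact) (m : X₃ ⟶ X₄) (hm : Mono m) :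
    ∃ w' : f ≫ g ≫ m = 0, (ShortComplex.mk f (g ≫ m) w').Exact := by
  have w' : f ≫ g ≫ m = 0 := by rw [reassoc_of% w, zero_comp]
  refine ⟨w', ?_⟩
  let φ : ShortComplex.mk f g w ⟶ ShortComplex.mk f (g ≫ m) w' :=
    { τ₁ := 𝟙 _, τ₂ := 𝟙 _, τ₃ := m }
  have : Epi φ.τ₁ := by dsimp [φ]; infer_instance
  have : IsIso φ.τ₂ := by dsimp [φ]; infer_instance
  have : Mono φ.τ₃ := by dsimp [φ]; infer_instance
  exact (ShortComplex.exact_iff_of_epi_of_isIso_of_mono φ).1 hex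

/-- `Φ_m(τ_{<q} KK) ≅ R^mF(H⁰ KK)` for `q < m` as long as the relevant `E₂`-terms vanish. -/
lemma nonempty_Φ_tLT_iso_of_isZero_E₂ [KK.IsGE 0] (m : ℕ) (q : ℕ) (hq : 1 ≤ q) (hqm : q + 1 ≤ m)
    (hvan : ∀ q' : ℕ, 1 ≤ q' → q' < q → ∀ p : ℕ, (q' : ℤ) + p = m ∨ (q' : ℤ) + p + 1 = m →
      IsZero ((F.rightDerived p).obj ((Plus.homologyFunctor A (q' : ℤ)).obj KK))) :
    Nonempty (((Φ F).shift (m : ℤ)).obj (tLT KK (q : ℤ)) ≅
      (F.rightDerived m).obj ((Plus.homologyFunctor A 0).obj KK)) := by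
  induction q, hq using Nat.le_induction with
  | base =>
    obtain ⟨e⟩ := nonempty_Φ_tLT_iso F KK 0 (fun i hi hi' => by exfalso; simp at hi'; lia) m
    have hcast : ((0 : ℕ) : ℤ) + 1 = ((1 : ℕ) : ℤ) := by norm_num
    rw [hcast] at e
    exact ⟨e⟩
  | succ q hq ih =>
    obtain ⟨e⟩ := ih (by lia) (fun q' h1 h2 p hp => hvan q' h1 (by lia) p hp)
    have hz : ∀ (k : ℤ) (p : ℕ), (q : ℤ) + p = k → ((q : ℤ) + p = m ∨ (q : ℤ) + p + 1 = m) →
        IsZero (((Φ F).shift k).obj (triB KK (q : ℤ)).obj₃) := by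
      intro k p hk hp
      obtain ⟨e'⟩ := nonempty_Φ_iso_of_isGE_of_isLE F (N KK (q : ℤ)) q p k hk
      exact (hvan q hq (by lia) p hp).of_iso
        (e' ≪≫ (F.rightDerived p).mapIso (homologyNIso KK q))
    have hiso : IsIso (((Φ F).shift (m : ℤ)).map (triB KK (q : ℤ)).mor₁) := by
      obtain ⟨p, hp⟩ : ∃ p : ℕ, (q : ℤ) + p + 1 = m := ⟨m - q - 1, by lia⟩
      exact isIso_shift_map_mor₁ (Φ F) _ (triB_dist KK (q : ℤ)) ((m : ℤ) - 1) m (by lia)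
        (hz _ p (by lia) (Or.inr hp)) (hz _ (p + 1) (by push_cast; lia) (Or.inl (by push_cast; lia)))
    have hcast : ((q + 1 : ℕ) : ℤ) = (q : ℤ) + 1 := by push_cast; rfl
    rw [hcast]
    exact ⟨(@asIso _ _ _ _ _ hiso).symm ≪≫ e⟩

/-- core of the second sequence -/
lemma exists_seq_core₂ [KK.IsGE 0] (n : ℕ) (hn : 1 ≤ n)
    (hvan : ∀ q : ℕ, 1 ≤ q → q < n → ∀ p : ℕ, 1 ≤ p → p ≤ n →
      IsZero ((F.rightDerived p).obj ((Plus.homologyFunctor A (q : ℤ)).obj KK))) :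
    ∃ (u : ((Φ F).shift (n : ℤ)).obj KK ⟶
        (F.rightDerived 0).obj ((Plus.homologyFunctor A (n : ℤ)).obj KK))
      (d : (F.rightDerived 0).obj ((Plus.homologyFunctor A (n : ℤ)).obj KK) ⟶
        (F.rightDerived (n + 1)).obj ((Plus.homologyFunctor A 0).obj KK))
      (v : (F.rightDerived (n + 1)).obj ((Plus.homologyFunctor A 0).obj KK) ⟶
        ((Φ F).shift ((n : ℤ) + 1)).obj KK)
      (w₁ : u ≫ d = 0) (w₂ : d ≫ v = 0),
      (ShortComplex.mk u d w₁).Exact ∧ (ShortComplex.mk d v w₂).Exact := by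
  have hcast : ((n + 1 : ℕ) : ℤ) = (n : ℤ) + 1 := by push_cast; rfl
  obtain ⟨c⟩ := nonempty_Φ_tLT_iso_of_isZero_E₂ F KK (n + 1) n hn le_rfl
    (fun q' h1 h2 p hp => hvan q' h1 h2 p (by push_cast at hp; lia) (by push_cast at hp; lia))
  rw [hcast] at c
  have ha := isIso_Φ_map_triA_mor₁ F KK ((n : ℤ) + 1) n (by lia)
  let a := @asIso _ _ _ _ _ ha
  obtain ⟨b'⟩ := nonempty_Φ_iso_of_isGE_of_isLE F (N KK (n : ℤ)) n 0 n (by simp)
  let b := b' ≪≫ (F.rightDerived 0).mapIso (homologyNIso KK n)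
  have ex₃ := (Φ F).homologySequence_exact₃ _ (triB_dist KK (n : ℤ)) (n : ℤ) ((n : ℤ) + 1) rfl
  have ex₁ := (Φ F).homologySequence_exact₁ _ (triB_dist KK (n : ℤ)) (n : ℤ) ((n : ℤ) + 1) rfl
  have hm := mono_Φ_map_triA_mor₁ F KK ((n : ℤ) + 1)
  obtain ⟨w₁', ex₁'⟩ := exact_comp_mono _ _ _ ex₁
    (((Φ F).shift ((n : ℤ) + 1)).map (triA KK ((n : ℤ) + 1)).mor₁) hm
  obtain ⟨w₁, h₁⟩ := transport_exact _ _ _ ex₃ a b c
  obtain ⟨w₂, h₂⟩ := transport_exact _ _ _ ex₁' b c (Iso.refl _)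
  exact ⟨_, _, _, w₁, w₂, h₁, h₂⟩

end Core

section Main

variable {C : Type*} [Category C] [Abelian C] [HasInjectiveResolutions C]
  {C' : Type u} [Category.{v} C'] [Abelian C'] [HasDerivedCategory.{w} C'] [EnoughInjectives C']
  {C'' : Type u'} [Category.{v'} C''] [Abelian C''] [HasDerivedCategory.{w'} C'']
  (T : C ⥤ C') [T.Additive] (S : C' ⥤ C'') [S.Additive] [PreservesFiniteLimits S]
  (hT : ∀ Q : C, Injective Q → ∀ q : ℕ, 0 < q → IsZero ((S.rightDerived q).obj (T.obj Q)))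
  (X : C)

include hT in
/-- If `R^qT(X) = 0` for `0 < q ≤ n`, there is an exact sequence
`0 → R^{n+1}S(R⁰T X) → R^{n+1}(T ⋙ S)(X) → R⁰S(R^{n+1}T X)`. -/
theorem exists_seq_of_isZero_mid (n : ℕ)
    (h : ∀ q : ℕ, 0 < q → q ≤ n → IsZero ((T.rightDerived q).obj X)) :
    ∃ (α : (S.rightDerived (n + 1)).obj ((T.rightDerived 0).obj X) ⟶
        ((T ⋙ S).rightDerived (n + 1)).obj X)
      (β : ((T ⋙ S).rightDerived (n + 1)).obj X ⟶
        (S.rightDerived 0).obj ((T.rightDerived (n + 1)).obj X)),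
      Mono α ∧ ∃ w : α ≫ β = 0, (ShortComplex.mk α β w).Exact := by
  let I := injectiveResolution X
  have hz : ∀ i : ℤ, 0 < i → i ≤ n →
      IsZero ((Plus.homologyFunctor C' i).obj (Plus.Q.obj (TI T X I))) := fun i hi him => by
    obtain ⟨q, rfl⟩ : ∃ q : ℕ, i = (q : ℤ) := ⟨i.toNat, by lia⟩
    exact (h q (by exact_mod_cast hi) (by exact_mod_cast him)).of_iso (homologyTIIso T X I q)
  obtain ⟨α, β, hα, w, hex⟩ := exists_seq_core₁ S (Plus.Q.obj (TI T X I)) n hz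
  obtain ⟨e⟩ := nonempty_abutIso T S hT X I (n + 1) ((n : ℤ) + 1) (by push_cast; rfl)
  have hcast : ((n + 1 : ℕ) : ℤ) = (n : ℤ) + 1 := by push_cast; rfl
  have e₃ := homologyTIIso T X I (n + 1)
  rw [hcast] at e₃
  obtain ⟨w', hex'⟩ := transport_exact α β w hex
    ((S.rightDerived (n + 1)).mapIso (homologyTIIso T X I 0)) e ((S.rightDerived 0).mapIso e₃)
  exact ⟨_, _, mono_comp' inferInstance (mono_comp' hα inferInstance), w', hex'⟩

include hT in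
/-- If `RᵖS(R^qT X) = 0` for `1 ≤ q < n`, `1 ≤ p ≤ n`, there is an exact sequence
`Rⁿ(T ⋙ S)(X) → R⁰S(RⁿT X) → R^{n+1}S(R⁰T X) → R^{n+1}(T ⋙ S)(X)`. -/
theorem exists_seq_of_isZero_E₂ (n : ℕ) (hn : 1 ≤ n)
    (hvan : ∀ q : ℕ, 1 ≤ q → q < n → ∀ p : ℕ, 1 ≤ p → p ≤ n →
      IsZero ((S.rightDerived p).obj ((T.rightDerived q).obj X))) :
    ∃ (u : ((T ⋙ S).rightDerived n).obj X ⟶ (S.rightDerived 0).obj ((T.rightDerived n).obj X))
      (d : (S.rightDerived 0).obj ((T.rightDerived n).obj X) ⟶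
        (S.rightDerived (n + 1)).obj ((T.rightDerived 0).obj X))
      (v : (S.rightDerived (n + 1)).obj ((T.rightDerived 0).obj X) ⟶
        ((T ⋙ S).rightDerived (n + 1)).obj X)
      (w₁ : u ≫ d = 0) (w₂ : d ≫ v = 0),
      (ShortComplex.mk u d w₁).Exact ∧ (ShortComplex.mk d v w₂).Exact := by
  let I := injectiveResolution X
  obtain ⟨u, d, v, w₁, w₂, h₁, h₂⟩ := exists_seq_core₂ S (Plus.Q.obj (TI T X I)) n hn
    (fun q h1 h2 p hp1 hp2 =>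
      (hvan q h1 h2 p hp1 hp2).of_iso ((S.rightDerived p).mapIso (homologyTIIso T X I q)))
  obtain ⟨e₀⟩ := nonempty_abutIso T S hT X I n (n : ℤ) rfl
  obtain ⟨e₁⟩ := nonempty_abutIso T S hT X I (n + 1) ((n : ℤ) + 1) (by push_cast; rfl)
  obtain ⟨w₁', h₁'⟩ := transport_exact u d w₁ h₁ e₀
    ((S.rightDerived 0).mapIso (homologyTIIso T X I n))
    ((S.rightDerived (n + 1)).mapIso (homologyTIIso T X I 0))
  obtain ⟨w₂', h₂'⟩ := transport_exact d v w₂ h₂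
    ((S.rightDerived 0).mapIso (homologyTIIso T X I n))
    ((S.rightDerived (n + 1)).mapIso (homologyTIIso T X I 0)) e₁
  exact ⟨_, _, _, w₁', w₂', h₁', h₂'⟩

end Main

end Groth.Agent.H43.LowDegSeq
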