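import Groth.Agent.H43.EpsFF
import Groth.Agent.H43.LowDegSeq
import Groth.Agent.H33.RDLes

/-!
# The inductive step for comparing two topologies: an embedding of `R^{n+1} ε_* F` (helper43)
-/

set_option autoImplicit false
universe u
open CategoryTheory Limits Opposite

namespace Groth.Agent.H43.EpsStep

open Groth.Agent.H43 Groth.Agent.H43.EpsSh Groth.Agent.H43.EpsFF Groth.Agent.H43.OverMapPush
  Groth.Agent.H43.OverMapShriek

section Faithful

variable {C : Type u} [SmallCategory C] (J : GrothendieckTopology C) {X Y : C} (f : X ⟶ Y)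

/-- the sieve on `V ∈ C/Y` of the arrows whose source factors through `f`. -/
def liftSieve (V : Over Y) : Sieve V where
  arrows W _ := ∃ a : W.left ⟶ X, a ≫ f = W.hom
  downward_closed := by
    rintro W W' g ⟨a, ha⟩ k
    exact ⟨k.left ≫ a, by rw [Category.assoc, ha, Over.w]⟩

lemma liftSieve_mem (hcov : Sieve.ofArrows (fun _ : PUnit.{u + 1} => X) (fun _ => f) ∈ J Y)
    (V : Over Y) : liftSieve f V ∈ (J.over Y) V := by
  rw [GrothendieckTopology.mem_over_iff]
  refine J.superset_covering ?_ (J.pullback_stable V.hom hcov)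
  intro Z g hg
  rw [Sieve.pullback_apply, Sieve.mem_ofArrows_iff] at hg
  obtain ⟨_, a, ha⟩ := hg
  rw [Sieve.overEquiv_iff]
  exact ⟨a, ha.symm⟩

/-- restriction along a covering arrow is faithful. -/
lemma faithful_restr (hcov : Sieve.ofArrows (fun _ : PUnit.{u + 1} => X) (fun _ => f) ∈ J Y) :
    (restr J f).Faithful := by
  constructor
  intro M F φ ψ hφψ
  apply ObjectProperty.hom_ext
  ext V m
  obtain ⟨V⟩ := V
  apply (F.2.isSeparated) V (liftSieve f V) (liftSieve_mem J f hcov V)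
  rintro W g ⟨a, ha⟩
  obtain ⟨Wl, Wr, Wh⟩ := W
  change Wl ⟶ X at a
  have ha' : a ≫ f = Wh := ha
  clear ha
  subst ha'
  have key : φ.hom.app (op ((Over.map f).obj (Over.mk a))) =
      ψ.hom.app (op ((Over.map f).obj (Over.mk a))) :=
    congrArg (fun k => k.hom.app (op (Over.mk a))) hφψ
  have n1 := congrArg (fun k => k.hom m) (φ.hom.naturality g.op)
  have n2 := congrArg (fun k => k.hom m) (ψ.hom.naturality g.op)
  simp only [AddCommGrpCat.hom_comp, AddMonoidHom.coe_comp, Function.comp_apply] at n1 n2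
  refine n1.symm.trans (Eq.trans ?_ n2)
  exact congrArg (fun k => k.hom ((M.obj.map g.op).hom m)) key

/-- the unit `F → f_* f^{-1} F` is a monomorphism when `f` is a covering. -/
lemma mono_unit (hcov : Sieve.ofArrows (fun _ : PUnit.{u + 1} => X) (fun _ => f) ∈ J Y)
    (F : Sheaf (J.over Y) AddCommGrpCat.{u}) :
    Mono (((Over.map f).sheafAdjunctionCocontinuous AddCommGrpCat.{u}
      (J.over X) (J.over Y)).unit.app F) :=
  haveI := faithful_restr J f hcov
  inferInstance

end Faithful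

section Instances

variable {C : Type u} [SmallCategory C] (J : GrothendieckTopology C) {X Y : C} (f : X ⟶ Y)

instance additive_aPush : (aPush J f).Additive :=
  ((Over.map f).sheafAdjunctionCocontinuous AddCommGrpCat.{u}
    (J.over X) (J.over Y)).right_adjoint_additive

instance isRightAdjoint_aPush : (aPush J f).IsRightAdjoint :=
  ((Over.map f).sheafAdjunctionCocontinuous AddCommGrpCat.{u}
    (J.over X) (J.over Y)).isRightAdjoint

instance preservesFiniteLimits_aPush : PreservesFiniteLimits (aPush J f) := inferInstance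

lemma injective_aPush (I : Sheaf (J.over X) AddCommGrpCat.{u}) [Injective I] :
    Injective ((aPush J f).obj I) :=
  Injective.injective_of_adjoint ((Over.map f).sheafAdjunctionCocontinuous AddCommGrpCat.{u}
    (J.over X) (J.over Y)) I

end Instances

section Comm

variable {C : Type u} [SmallCategory C] {J J' : GrothendieckTopology C} (h : J' ≤ J)
  {X Y : C} (f : X ⟶ Y) [HasPullbacksAlong f]

/-- `ε_{Y,*} f_{τ,*} ≅ f_{τ',*} ε_{X,*}` -/
noncomputable def bPushEpsIso :
    bPush J f ⋙ SiteCmp.epsSh (SiteCmp.over_le h Y) AddCommGrpCat.{u} ≅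
      SiteCmp.epsSh (SiteCmp.over_le h X) AddCommGrpCat.{u} ⋙ bPush J' f :=
  NatIso.ofComponents (fun F => Iso.refl _)

/-- `ε_{Y,*} f_{τ,*} ≅ f_{τ',*} ε_{X,*}` -/
noncomputable def aPushEpsIso :
    aPush J f ⋙ SiteCmp.epsSh (SiteCmp.over_le h Y) AddCommGrpCat.{u} ≅
      SiteCmp.epsSh (SiteCmp.over_le h X) AddCommGrpCat.{u} ⋙ aPush J' f :=
  Functor.isoWhiskerRight (abIso J f) _ ≪≫ bPushEpsIso h f ≪≫
    Functor.isoWhiskerLeft _ (abIso J' f).symm

/-- `f^{-1} ε_* = ε_* f^{-1}` -/
noncomputable def restrEpsIso :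
    restr J f ⋙ SiteCmp.epsSh (SiteCmp.over_le h X) AddCommGrpCat.{u} ≅
      SiteCmp.epsSh (SiteCmp.over_le h Y) AddCommGrpCat.{u} ⋙ restr J' f :=
  NatIso.ofComponents (fun F => Iso.refl _)

end Comm

section Step

variable {C : Type u} [SmallCategory C] {J J' : GrothendieckTopology C} (h : J' ≤ J)
  {X Y : C} (f : X ⟶ Y) [HasPullbacksAlong f]

/-- `ε_{Z,*}` -/
abbrev eps (Z : C) : Sheaf (J.over Z) AddCommGrpCat.{u} ⥤ Sheaf (J'.over Z) AddCommGrpCat.{u} :=
  SiteCmp.epsSh (SiteCmp.over_le h Z) AddCommGrpCat.{u}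

variable (J) in
/-- the adjunction `f^{-1} ⊣ f_*` -/
noncomputable abbrev adjτ : restr J f ⊣ aPush J f :=
  (Over.map f).sheafAdjunctionCocontinuous AddCommGrpCat.{u} (J.over X) (J.over Y)

omit [HasPullbacksAlong f] in
/-- (Ψ1) -/
lemma mono_rightDerived_map_unit (F : Sheaf (J.over Y) AddCommGrpCat.{u}) (n : ℕ)
    (hu : Mono ((adjτ J f).unit.app F))
    (hQ1 : Epi ((eps h Y).map (cokernel.π ((adjτ J f).unit.app F))))
    (hQ2 : 1 ≤ n → IsZero (((eps h Y).rightDerived n).obj (cokernel ((adjτ J f).unit.app F)))) :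
    Mono (((eps h Y).rightDerived (n + 1)).map ((adjτ J f).unit.app F)) := by
  let S : ShortComplex (Sheaf (J.over Y) AddCommGrpCat.{u}) :=
    ShortComplex.mk ((adjτ J f).unit.app F) (cokernel.π ((adjτ J f).unit.app F)) (cokernel.condition _)
  have hS : S.ShortExact :=
    { exact := ShortComplex.exact_cokernel _
      mono_f := hu
      epi_g := by dsimp [S]; infer_instance }
  obtain ⟨-, -, δ, hδ⟩ := Groth.Agent.H33.RDLes.exists_les (F := (eps h Y)) S hS
  obtain ⟨w₁, w₂, ex₁, ex₂⟩ := hδ n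
  have hepi : Epi (((eps h Y).rightDerived n).map S.g) := by
    rcases Nat.eq_zero_or_pos n with rfl | hn
    · have nat := (eps h Y).rightDerivedZeroIsoSelf.hom.naturality S.g
      have : ((eps h Y).rightDerived 0).map S.g = (eps h Y).rightDerivedZeroIsoSelf.hom.app _ ≫ (eps h Y).map S.g ≫
          (eps h Y).rightDerivedZeroIsoSelf.inv.app _ := by
        rw [← reassoc_of% nat]
        simp
      rw [this]
      have : Epi ((eps h Y).map S.g) := hQ1
      infer_instance
    · exact ⟨fun a b _ => (hQ2 hn).eq_of_src a b⟩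
  have hδ0 : δ n = 0 := (ex₁.epi_f_iff).1 hepi
  exact ex₂.mono_g hδ0

omit [HasPullbacksAlong f] in
lemma isZero_rightDerived_eps_aPush (Q : Sheaf (J.over X) AddCommGrpCat.{u}) (hQ : Injective Q)
    (q : ℕ) (hq : 0 < q) :
    IsZero (((eps h Y).rightDerived q).obj ((aPush J f).obj Q)) := by
  haveI := injective_aPush J f Q
  obtain ⟨q, rfl⟩ : ∃ k, q = k + 1 := ⟨q - 1, by lia⟩
  exact Functor.isZero_rightDerived_obj_injective_succ _ _ _

omit [HasPullbacksAlong f] in
lemma isZero_rightDerived_aPush_eps (Q : Sheaf (J.over X) AddCommGrpCat.{u}) (hQ : Injective Q)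
    (q : ℕ) (hq : 0 < q) :
    IsZero (((aPush J' f).rightDerived q).obj ((eps h X).obj Q)) := by
  haveI := injective_epsSh (SiteCmp.over_le h X) Q
  obtain ⟨q, rfl⟩ : ∃ k, q = k + 1 := ⟨q - 1, by lia⟩
  exact Functor.isZero_rightDerived_obj_injective_succ _ _ _

omit [HasPullbacksAlong f] in
/-- (Ψ2) -/
lemma exists_mono_edge (H : Sheaf (J.over X) AddCommGrpCat.{u}) (n : ℕ)
    (hE2 : ∀ q : ℕ, 1 ≤ q → q < n → ∀ p : ℕ, 1 ≤ p → p ≤ n →
      IsZero (((eps h Y).rightDerived p).obj (((aPush J f).rightDerived q).obj H)))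
    (hcok : 1 ≤ n → ∀ u : ((aPush J f ⋙ eps h Y).rightDerived n).obj H ⟶
        ((eps h Y).rightDerived 0).obj (((aPush J f).rightDerived n).obj H),
      Presheaf.IsSheaf (J.over Y) (cokernel u).obj) :
    ∃ v : ((eps h Y).rightDerived (n + 1)).obj (((aPush J f).rightDerived 0).obj H) ⟶
        ((aPush J f ⋙ eps h Y).rightDerived (n + 1)).obj H, Mono v := by
  let _ : HasDerivedCategory.{u + 1} (Sheaf (J.over Y) AddCommGrpCat.{u}) :=
    HasDerivedCategory.standard _
  let _ : HasDerivedCategory.{u + 1} (Sheaf (J'.over Y) AddCommGrpCat.{u}) :=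
    HasDerivedCategory.standard _
  rcases Nat.eq_zero_or_pos n with rfl | hn
  · obtain ⟨α, β, hα, -, -⟩ := LowDegSeq.exists_seq_of_isZero_mid (aPush J f) (eps h Y)
      (isZero_rightDerived_eps_aPush h f) H 0 (fun q h1 h2 => by lia)
    exact ⟨α, hα⟩
  · obtain ⟨u, d, v, w₁, w₂, ex₁, ex₂⟩ := LowDegSeq.exists_seq_of_isZero_E₂ (aPush J f) (eps h Y)
      (isZero_rightDerived_eps_aPush h f) H n hn hE2
    have hm : Mono (cokernel.desc u d w₁) := ex₁.mono_cokernelDesc
    have hz : IsZero (cokernel u) :=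
      isZero_of_mono_of_mono (SiteCmp.over_le h Y) (𝟙 (cokernel u)) (hcok hn u)
        (((aPush J f).rightDerived 0).obj H) (n + 1) (by lia) (cokernel.desc u d w₁)
    have hd : d = 0 := by
      rw [← cokernel.π_desc u d w₁, hz.eq_of_tgt (cokernel.π u) 0, zero_comp]
    exact ⟨v, ex₂.mono_g hd⟩

/-- **(Ψ)**: under the inductive hypotheses, `R^{n+1} ε_{Y,*} F` embeds into a sheaf of the form
`f_{τ',*} N`. -/
theorem exists_mono_to_aPush (F : Sheaf (J.over Y) AddCommGrpCat.{u}) (n : ℕ)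
    (hu : Mono ((adjτ J f).unit.app F))
    (hQ1 : Epi ((eps h Y).map (cokernel.π ((adjτ J f).unit.app F))))
    (hQ2 : 1 ≤ n → IsZero (((eps h Y).rightDerived n).obj (cokernel ((adjτ J f).unit.app F))))
    (hE2 : ∀ q : ℕ, 1 ≤ q → q < n → ∀ p : ℕ, 1 ≤ p → p ≤ n →
      IsZero (((eps h Y).rightDerived p).obj
        (((aPush J f).rightDerived q).obj ((restr J f).obj F))))
    (hcok : 1 ≤ n → ∀ u : ((aPush J f ⋙ eps h Y).rightDerived n).obj ((restr J f).obj F) ⟶
        ((eps h Y).rightDerived 0).obj (((aPush J f).rightDerived n).obj ((restr J f).obj F)),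
      Presheaf.IsSheaf (J.over Y) (cokernel u).obj)
    (hVX : ∀ q : ℕ, 0 < q → q ≤ n →
      IsZero (((eps h X).rightDerived q).obj ((restr J f).obj F)))
    (hS : Presheaf.IsSheaf (J.over Y) (((aPush J' f).rightDerived (n + 1)).obj
      (((eps h X).rightDerived 0).obj ((restr J f).obj F))).obj) :
    ∃ (N : Sheaf (J'.over X) AddCommGrpCat.{u})
      (ψ : ((eps h Y).rightDerived (n + 1)).obj F ⟶ (aPush J' f).obj N), Mono ψ := by
  let _ : HasDerivedCategory.{u + 1} (Sheaf (J'.over X) AddCommGrpCat.{u}) :=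
    HasDerivedCategory.standard _
  let _ : HasDerivedCategory.{u + 1} (Sheaf (J'.over Y) AddCommGrpCat.{u}) :=
    HasDerivedCategory.standard _
  have m1 := mono_rightDerived_map_unit h f F n hu hQ1 hQ2
  let e0 := ((eps h Y).rightDerived (n + 1)).mapIso
    ((aPush J f).rightDerivedZeroIsoSelf.app ((restr J f).obj F)).symm
  obtain ⟨v, hv⟩ := exists_mono_edge h f ((restr J f).obj F) n hE2 hcok
  let e1 := (rightDerivedIso (aPushEpsIso h f) (n + 1)).app ((restr J f).obj F)
  obtain ⟨α, β, hα, w, ex⟩ := LowDegSeq.exists_seq_of_isZero_mid (eps h X) (aPush J' f)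
    (isZero_rightDerived_aPush_eps h f) ((restr J f).obj F) n hVX
  let e2 := (aPush J' f).rightDerivedZeroIsoSelf.app
    (((eps h X).rightDerived (n + 1)).obj ((restr J f).obj F))
  obtain ⟨j, hj⟩ : ∃ j : ((eps h Y).rightDerived (n + 1)).obj F ⟶
      ((eps h X ⋙ aPush J' f).rightDerived (n + 1)).obj ((restr J f).obj F), Mono j :=
    ⟨((eps h Y).rightDerived (n + 1)).map ((adjτ J f).unit.app F) ≫ e0.hom ≫ v ≫ e1.hom,
      mono_comp' m1 (mono_comp' inferInstance (mono_comp' hv inferInstance))⟩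
  have hjβ : Mono (j ≫ β) := by
    apply Preadditive.mono_of_kernel_zero
    let k := ex.lift (kernel.ι (j ≫ β) ≫ j) (by
      show (kernel.ι (j ≫ β) ≫ j) ≫ β = 0
      rw [Category.assoc, kernel.condition])
    have hk : k ≫ α = kernel.ι (j ≫ β) ≫ j := ex.lift_f _ _
    have hkm : Mono k := by
      have : Mono (k ≫ α) := by rw [hk]; exact mono_comp' inferInstance hj
      exact mono_of_mono k α
    have hz : IsZero (kernel (j ≫ β)) :=
      isZero_of_mono_of_mono (SiteCmp.over_le h Y) k hS F (n + 1) (by lia) (kernel.ι (j ≫ β))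
    exact hz.eq_of_src _ _
  exact ⟨_, (j ≫ β) ≫ e2.hom, mono_comp' hjβ inferInstance⟩

end Step

end Groth.Agent.H43.EpsStep
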