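import Groth.Agent.H43.EtPullRetract
import Mathlib.AlgebraicGeometry.Limits

/-!
# The tower of fibre powers of a morphism of schemes with a section, etale cohomology
-/

set_option autoImplicit false

namespace Groth.Agent.H43.EtDescentTower

open CategoryTheory Limits AlgebraicGeometry Opposite WideTower

universe u

variable {X Y : Scheme.{u}} (f : X ⟶ Y) (s : Y ⟶ X) (hs : s ≫ f = 𝟙 Y)

/-- The inverse image of `F` on the fibre powers. -/
noncomputable abbrev Gp (F : EtCoh.Ab Y) (p : ℕ) : EtCoh.Ab (Xp f p) :=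
  (EtCoh.pull (b f p)).obj F

/-- The inverse image of `G_p` along the projection is `G_{p+1}`. -/
noncomputable def GpIso (F : EtCoh.Ab Y) (p : ℕ) :
    (EtCoh.pull (g f p)).obj (Gp f F p) ≅ Gp f F (p + 1) :=
  ((EtCore.pullComp (g f p) (b f p)).symm ≪≫ EtCore.pullCongr (g_b f p)).app F

include hs in
theorem exists_retract_succ (F : EtCoh.Ab Y) (p q : ℕ) :
    ∃ (u : AddCommGrpCat.of (EtCoh.H _ (Gp f F p) q) ⟶ AddCommGrpCat.of (EtCoh.H _ (Gp f F (p + 1)) q))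
      (r : AddCommGrpCat.of (EtCoh.H _ (Gp f F (p + 1)) q) ⟶ AddCommGrpCat.of (EtCoh.H _ (Gp f F p) q)),
      u ≫ r = 𝟙 _ := by
  obtain ⟨u, r, hur⟩ := EtPullRetract.exists_retract (g f p) (h f s hs p) (h_g f s hs p)
    (Gp f F p) (Gp f F (p + 1)) (GpIso f F p) q
  refine ⟨AddCommGrpCat.ofHom u, AddCommGrpCat.ofHom r, ?_⟩
  ext x
  exact hur x

include hs in
theorem exists_retract_zero (F : EtCoh.Ab Y) (q : ℕ) :
    ∃ (u : AddCommGrpCat.of (EtCoh.H _ F q) ⟶ AddCommGrpCat.of (EtCoh.H _ (Gp f F 0) q))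
      (r : AddCommGrpCat.of (EtCoh.H _ (Gp f F 0) q) ⟶ AddCommGrpCat.of (EtCoh.H _ F q)),
      u ≫ r = 𝟙 _ := by
  obtain ⟨u, r, hur⟩ := EtPullRetract.exists_retract (b f 0) (h₀ f s hs) (h₀_b f s hs)
    F (Gp f F 0) (Iso.refl _) q
  refine ⟨AddCommGrpCat.ofHom u, AddCommGrpCat.ofHom r, ?_⟩
  ext x
  exact hur x

end Groth.Agent.H43.EtDescentTower
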