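import Mathlib.Algebra.Homology.DerivedCategory.Ext.Map
import Mathlib.Algebra.Homology.DerivedCategory.Ext.ExactSequences
import Mathlib.Algebra.Homology.DerivedCategory.Ext.EnoughInjectives

/-!
# Ext groups and a pair of exact functors composing to the identity

If `Φ : C ⥤ D` and `Ψ : D ⥤ C` are exact additive functors with `Φ ⋙ Ψ ≅ 𝟭 C`, then the map
induced by `Φ` on `Ext` groups is a split monomorphism of abelian groups.
-/

set_option autoImplicit false

namespace Groth.Agent.H43.ExtRetract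

open CategoryTheory Limits Abelian

universe w w' v v' u u'

variable {C : Type u} [Category.{v} C] [Abelian C] {D : Type u'} [Category.{v'} D] [Abelian D]
variable [HasExt.{w} C] [HasExt.{w'} D]
variable (Φ : C ⥤ D) [Φ.Additive] [PreservesFiniteLimits Φ] [PreservesFiniteColimits Φ]
variable (Ψ : D ⥤ C) [Ψ.Additive] [PreservesFiniteLimits Ψ] [PreservesFiniteColimits Ψ]
variable (τ : Φ ⋙ Ψ ≅ 𝟭 C)

/-- `Ψ ∘ Φ` on `Ext` is conjugation by `τ`. -/
lemma mapExt_mapExt_comp [EnoughInjectives C] (X Y : C) (n : ℕ) (e : Ext X Y n) :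
    ((e.mapExactFunctor Φ).mapExactFunctor Ψ).comp (Ext.mk₀ (τ.hom.app Y)) (add_zero n) =
      (Ext.mk₀ (τ.hom.app X)).comp e (zero_add n) := by
  induction n generalizing Y with
  | zero =>
    obtain ⟨f, rfl⟩ := (Ext.mk₀_bijective X Y).2 e
    rw [Ext.mapExactFunctor_mk₀, Ext.mapExactFunctor_mk₀, Ext.mk₀_comp_mk₀, Ext.mk₀_comp_mk₀]
    congr 1
    exact τ.hom.naturality f
  | succ n ih =>
    let I : InjectivePresentation Y := Classical.arbitrary _
    let S := ShortComplex.mk _ _ (cokernel.condition I.f)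
    have hS : S.ShortExact := { exact := ShortComplex.exact_cokernel I.f }
    have : Injective S.X₂ := I.injective
    obtain ⟨x₃, rfl⟩ := Ext.covariant_sequence_exact₁ X hS e (Ext.eq_zero_of_injective _) rfl
    have h2 : (hS.extClass.mapExactFunctor Φ).mapExactFunctor Ψ =
        ((hS.map_of_exact Φ).map_of_exact Ψ).extClass := by
      rw [Ext.mapExactFunctor_extClass]
      exact Ext.mapExactFunctor_extClass Ψ (hS.map_of_exact Φ)
    let φ : (S.map Φ).map Ψ ⟶ S :=
      { τ₁ := τ.hom.app S.X₁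
        τ₂ := τ.hom.app S.X₂
        τ₃ := τ.hom.app S.X₃
        comm₁₂ := (τ.hom.naturality S.f).symm
        comm₂₃ := (τ.hom.naturality S.g).symm }
    have h1 : ((hS.extClass.mapExactFunctor Φ).mapExactFunctor Ψ).comp
        (Ext.mk₀ (τ.hom.app Y)) (add_zero 1) =
        (Ext.mk₀ (τ.hom.app S.X₃)).comp hS.extClass (zero_add 1) := by
      rw [h2]
      exact ShortComplex.ShortExact.extClass_naturality
        ((hS.map_of_exact Φ).map_of_exact Ψ) hS φ
    rw [Ext.mapExactFunctor_comp, Ext.mapExactFunctor_comp,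
      Ext.comp_assoc_of_third_deg_zero, h1, ← Ext.comp_assoc_of_second_deg_zero, ih,
      Ext.comp_assoc (Ext.mk₀ (τ.hom.app X)) x₃ hS.extClass (zero_add n) rfl (by lia)]

include τ in
/-- The map induced by `Φ` on `Ext` groups has an additive retraction. -/
lemma exists_retraction [EnoughInjectives C] (X Y : C) (n : ℕ) :
    ∃ r : Ext (Φ.obj X) (Φ.obj Y) n →+ Ext X Y n, ∀ e : Ext X Y n, r (e.mapExactFunctor Φ) = e := by
  refine ⟨((Ext.mk₀ (τ.inv.app X)).precomp Y (zero_add n)).comp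
    (((Ext.mk₀ (τ.hom.app Y)).postcomp _ (add_zero n)).comp
      (Ψ.mapExtAddHom (Φ.obj X) (Φ.obj Y) n)), fun e => ?_⟩
  change (Ext.mk₀ (τ.inv.app X)).comp
    (((e.mapExactFunctor Φ).mapExactFunctor Ψ).comp (Ext.mk₀ (τ.hom.app Y)) (add_zero n))
    (zero_add n) = e
  rw [mapExt_mapExt_comp Φ Ψ τ, ← Ext.comp_assoc (Ext.mk₀ (τ.inv.app X)) (Ext.mk₀ (τ.hom.app X)) e
    (add_zero 0) (zero_add n) (by lia), Ext.mk₀_comp_mk₀]
  have : τ.inv.app X ≫ τ.hom.app X = 𝟙 _ := τ.inv_hom_id_app X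
  rw [this]
  exact Ext.mk₀_id_comp e

end Groth.Agent.H43.ExtRetract
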