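import Groth.Prelude.Def_CohTop
import Groth.Agent.H43.ExtRetract

/-!
# Cohomology of a pulled-back sheaf along a map with a section

For `g : Y' ⟶ Y` with a continuous section `h`, the map `H^q(Y, G) → H^q(Y', g⁻¹ G)` is a split
monomorphism of abelian groups.
-/

set_option autoImplicit false

namespace Groth.Agent.H43.PullRetract

open CategoryTheory Limits TopologicalSpace Opposite Abelian

universe u

section Exact

variable {X Y : TopCat.{u}} (f : X ⟶ Y)

/-- The adjunction `f⁻¹ ⊣ f_*`, retyped. -/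
noncomputable def adj : CohTop.pull f ⊣ CohTop.push f :=
  TopCat.Sheaf.pullbackPushforwardAdjunction AddCommGrpCat.{u} f

instance preservesFiniteLimits_pull : PreservesFiniteLimits (CohTop.pull f) := by
  change PreservesFiniteLimits ((Opens.map f).sheafPullback AddCommGrpCat.{u} _ _)
  exact Functor.SmallCategories.instPreservesFiniteLimitsSheafSheafPullbackOfRepresentablyFlat _ _ _ _

instance preservesFiniteColimits_pull : PreservesFiniteColimits (CohTop.pull f) := by
  have : (CohTop.pull f).IsLeftAdjoint := (adj f).isLeftAdjoint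
  infer_instance

instance additive_pull : (CohTop.pull f).Additive :=
  (adj f).left_adjoint_additive

end Exact

section Iso

variable {X Y Z : TopCat.{u}}

/-- `(f ≫ g)⁻¹ ≅ f⁻¹ ∘ g⁻¹` for sheaves. -/
noncomputable def pullComp (f : X ⟶ Y) (g : Y ⟶ Z) :
    CohTop.pull g ⋙ CohTop.pull f ≅ CohTop.pull (f ≫ g) :=
  ((adj g).comp (adj f)).leftAdjointUniq
    ((adj (f ≫ g)).ofNatIsoRight
      (Iso.refl _ : CohTop.push (f ≫ g) ≅ CohTop.push f ⋙ CohTop.push g))

/-- `id⁻¹ ≅ id` for sheaves. -/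
noncomputable def pullId (X : TopCat.{u}) : CohTop.pull (𝟙 X) ≅ 𝟭 (CohTop.Ab X) :=
  ((adj (𝟙 X)).ofNatIsoRight
    (Iso.refl _ : CohTop.push (𝟙 X) ≅ 𝟭 (CohTop.Ab X))).leftAdjointUniq Adjunction.id

/-- If `h ≫ g = 𝟙`, then `h⁻¹ ∘ g⁻¹ ≅ id`. -/
noncomputable def pullSection (g : X ⟶ Y) (h : Y ⟶ X) (hgh : h ≫ g = 𝟙 Y) :
    CohTop.pull g ⋙ CohTop.pull h ≅ 𝟭 (CohTop.Ab Y) :=
  pullComp h g ≪≫ eqToIso (by rw [hgh]) ≪≫ pullId Y

end Iso

section Const

variable {Y' Y : TopCat.{u}} (g : Y' ⟶ Y)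

/-- The inverse image of a constant sheaf is the constant sheaf. -/
noncomputable def constIso :
    constantSheaf (Opens.grothendieckTopology Y) AddCommGrpCat.{u} ⋙ CohTop.pull g ≅
      constantSheaf (Opens.grothendieckTopology Y') AddCommGrpCat.{u} :=
  ((constantSheafAdj (Opens.grothendieckTopology Y) AddCommGrpCat.{u} isTerminalTop).comp
    (adj g)).leftAdjointUniq
    ((constantSheafAdj (Opens.grothendieckTopology Y') AddCommGrpCat.{u} isTerminalTop).ofNatIsoRight
      (Iso.refl _ : (sheafSections (Opens.grothendieckTopology Y') AddCommGrpCat.{u}).obj (op ⊤) ≅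
        CohTop.push g ⋙ (sheafSections (Opens.grothendieckTopology Y) AddCommGrpCat.{u}).obj (op ⊤)))

end Const

section Retract

lemma postcomp_iso_cancel {C : Type*} [Category C] [Abelian C] [HasExt.{u} C] {X Y Y' : C}
    (e : Y ≅ Y') {n : ℕ} (y : Ext X Y n) :
    (y.comp (Ext.mk₀ e.hom) (add_zero n)).comp (Ext.mk₀ e.inv) (add_zero n) = y := by
  rw [Ext.comp_assoc_of_third_deg_zero, Ext.mk₀_comp_mk₀, e.hom_inv_id, Ext.comp_mk₀_id]

lemma precomp_iso_cancel {C : Type*} [Category C] [Abelian C] [HasExt.{u} C] {X X' Y : C}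
    (a : X' ≅ X) {n : ℕ} (y : Ext X Y n) :
    (Ext.mk₀ a.inv).comp ((Ext.mk₀ a.hom).comp y (zero_add n)) (zero_add n) = y := by
  rw [← Ext.comp_assoc (Ext.mk₀ a.inv) (Ext.mk₀ a.hom) y (add_zero 0) (zero_add n) (by lia),
    Ext.mk₀_comp_mk₀, a.inv_hom_id, Ext.mk₀_id_comp]

variable {Y' Y : TopCat.{u}}

/-- For `g : Y' ⟶ Y` with a section `h`, the cohomology `H^q(Y, G)` is a retract (as an abelian group)
of `H^q(Y', G')` for every sheaf `G'` isomorphic to the inverse image of `G`. -/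
theorem exists_retract (g : Y' ⟶ Y) (h : Y ⟶ Y') (hgh : h ≫ g = 𝟙 Y)
    (G : CohTop.Ab Y) (G' : CohTop.Ab Y') (e : (CohTop.pull g).obj G ≅ G') (q : ℕ) :
    ∃ (u : CohTop.H G q →+ CohTop.H G' q) (r : CohTop.H G' q →+ CohTop.H G q),
      ∀ x, r (u x) = x := by
  let ZY := (constantSheaf (Opens.grothendieckTopology Y) AddCommGrpCat.{u}).obj
    (AddCommGrpCat.of (ULift ℤ))
  let ZY' := (constantSheaf (Opens.grothendieckTopology Y') AddCommGrpCat.{u}).obj
    (AddCommGrpCat.of (ULift ℤ))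
  let a : (CohTop.pull g).obj ZY ≅ ZY' := (constIso g).app (AddCommGrpCat.of (ULift ℤ))
  obtain ⟨r₀, hr₀⟩ := ExtRetract.exists_retraction (CohTop.pull g) (CohTop.pull h)
    (pullSection g h hgh) ZY G q
  refine ⟨((Ext.mk₀ a.inv).precomp G' (zero_add q)).comp
    (((Ext.mk₀ e.hom).postcomp _ (add_zero q)).comp
      ((CohTop.pull g).mapExtAddHom ZY G q)),
    r₀.comp (((Ext.mk₀ e.inv).postcomp _ (add_zero q)).comp
      ((Ext.mk₀ a.hom).precomp G' (zero_add q))), fun x => ?_⟩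
  change r₀ (((Ext.mk₀ a.hom).comp ((Ext.mk₀ a.inv).comp
    ((x.mapExactFunctor (CohTop.pull g)).comp (Ext.mk₀ e.hom) (add_zero q)) (zero_add q))
    (zero_add q)).comp (Ext.mk₀ e.inv) (add_zero q)) = x
  have h1 := precomp_iso_cancel a.symm
    ((x.mapExactFunctor (CohTop.pull g)).comp (Ext.mk₀ e.hom) (add_zero q))
  simp only [Iso.symm_hom, Iso.symm_inv] at h1
  rw [h1, postcomp_iso_cancel e, hr₀]

end Retract

end Groth.Agent.H43.PullRetract
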