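import Mathlib.CategoryTheory.Limits.Shapes.WidePullbacks

/-!
# The tower of fibre powers of a morphism with a section (any category)
-/

set_option autoImplicit false

namespace Groth.Agent.H43.WideTower

open CategoryTheory Limits

universe v u

variable {C : Type u} [Category.{v} C] {X S : C} (f : X ⟶ S) (s : S ⟶ X)
  [∀ p : ℕ, HasWidePullback S (fun _ : Fin (p + 1) => X) (fun _ => f)]

/-- The `(p+1)`-fold fibre power. -/
noncomputable abbrev Xp (p : ℕ) : C :=
  widePullback S (fun _ : Fin (p + 1) => X) (fun _ => f)

/-- The projection to the base. -/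
noncomputable abbrev b (p : ℕ) : Xp f p ⟶ S :=
  WidePullback.base (fun _ : Fin (p + 1) => f)

/-- Forget the last factor. -/
noncomputable def g (p : ℕ) : Xp f (p + 1) ⟶ Xp f p :=
  WidePullback.lift (WidePullback.base _) (fun i : Fin (p + 1) => WidePullback.π _ (Fin.castSucc i))
    (fun _ => WidePullback.π_arrow _ _)

lemma g_b (p : ℕ) : g f p ≫ b f p = b f (p + 1) :=
  WidePullback.lift_base _ _ _ _

variable (hs : s ≫ f = 𝟙 S)

/-- Insert the section in the last factor. -/
noncomputable def h (p : ℕ) : Xp f p ⟶ Xp f (p + 1) :=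
  WidePullback.lift (WidePullback.base _)
    (fun i : Fin (p + 1 + 1) => Fin.lastCases (motive := fun _ => Xp f p ⟶ X)
      (WidePullback.base _ ≫ s) (fun i => WidePullback.π _ i) i)
    (fun i => by
      induction i using Fin.lastCases with
      | last => rw [Fin.lastCases_last, Category.assoc, hs, Category.comp_id]
      | cast i => rw [Fin.lastCases_castSucc]; exact WidePullback.π_arrow _ _)

lemma h_g (p : ℕ) : h f s hs p ≫ g f p = 𝟙 _ := by
  apply WidePullback.hom_ext
  · intro i
    rw [Category.assoc, Category.id_comp, g, WidePullback.lift_π, h, WidePullback.lift_π,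
      Fin.lastCases_castSucc]
  · rw [Category.assoc, Category.id_comp, g, WidePullback.lift_base, h, WidePullback.lift_base]

/-- The section of `X_0 → S`. -/
noncomputable def h₀ : S ⟶ Xp f 0 :=
  WidePullback.lift (𝟙 S) (fun _ => s) (fun _ => hs)

lemma h₀_b : h₀ f s hs ≫ b f 0 = 𝟙 S :=
  WidePullback.lift_base _ _ _ _

end Groth.Agent.H43.WideTower
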