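import Groth.Prelude.Def_EtCore
import Groth.Agent.S0101
import Groth.Agent.H43.PullRetract
import Groth.Agent.H43.WideTower
import Mathlib.CategoryTheory.Limits.Shapes.Pullback.Iso

/-!
# Etale cohomology of a pulled-back sheaf along a morphism with a section
-/

set_option autoImplicit false

namespace Groth.Agent.H43.EtPullRetract

open CategoryTheory Limits AlgebraicGeometry Opposite Abelian

universe u

instance preservesFiniteLimits_pull {X Y : Scheme.{u}} (f : X ⟶ Y) :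
    PreservesFiniteLimits (EtCoh.pull f) :=
  Groth.Agent.S0101.result f

lemma isIso_fst_id {Y : Scheme.{u}} (A : Y.Etale) : IsIso (pullback.fst A.hom (𝟙 Y)) :=
  pullback_fst_iso_of_right_iso A.hom (𝟙 Y)

set_option backward.isDefEq.respectTransparency.types false in
/-- Base change along the identity is the identity. -/
noncomputable def bcId (Y : Scheme.{u}) : EtCoh.bc (𝟙 Y) ≅ 𝟭 Y.Etale :=
  NatIso.ofComponents (fun A => MorphismProperty.Over.isoMk
    (@asIso _ _ _ _ (pullback.fst A.hom (𝟙 Y)) (isIso_fst_id A))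
    (by
      change pullback.fst A.hom (𝟙 Y) ≫ A.hom = pullback.snd A.hom (𝟙 Y)
      rw [pullback.condition, Category.comp_id]))
    (by
      intro A B g
      apply MorphismProperty.Over.Hom.ext
      change pullback.lift (pullback.fst A.hom (𝟙 Y) ≫ g.left) (pullback.snd A.hom (𝟙 Y)) _ ≫
        pullback.fst B.hom (𝟙 Y) = pullback.fst A.hom (𝟙 Y) ≫ g.left
      exact pullback.lift_fst _ _ _)

/-- Direct image along the identity. -/
noncomputable def pushId (Y : Scheme.{u}) : EtCoh.push (𝟙 Y) ≅ 𝟭 (EtCoh.Ab Y) :=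
  Functor.sheafPushforwardContinuousId' (bcId Y) AddCommGrpCat.{u + 1} Y.smallEtaleTopology

/-- Inverse image along the identity. -/
noncomputable def pullId (Y : Scheme.{u}) : EtCoh.pull (𝟙 Y) ≅ 𝟭 (EtCoh.Ab Y) :=
  ((EtCoh.pullPushAdj (𝟙 Y)).ofNatIsoRight (pushId Y)).leftAdjointUniq Adjunction.id

/-- If `h ≫ g = 𝟙`, then `h⁻¹ ∘ g⁻¹ ≅ id`. -/
noncomputable def pullSection {X Y : Scheme.{u}} (g : X ⟶ Y) (h : Y ⟶ X) (hgh : h ≫ g = 𝟙 Y) :
    EtCoh.pull g ⋙ EtCoh.pull h ≅ 𝟭 (EtCoh.Ab Y) :=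
  (EtCore.pullComp h g).symm ≪≫ EtCore.pullCongr hgh ≪≫ pullId Y

/-- For `g : Y' ⟶ Y` with a section `h`, the etale cohomology `H^q(Y, G)` is a retract (as an
abelian group) of `H^q(Y', G')` for every sheaf `G'` isomorphic to the inverse image of `G`. -/
theorem exists_retract {Y' Y : Scheme.{u}} (g : Y' ⟶ Y) (h : Y ⟶ Y') (hgh : h ≫ g = 𝟙 Y)
    (G : EtCoh.Ab Y) (G' : EtCoh.Ab Y') (e : (EtCoh.pull g).obj G ≅ G') (q : ℕ) :
    ∃ (u : EtCoh.H Y G q →+ EtCoh.H Y' G' q) (r : EtCoh.H Y' G' q →+ EtCoh.H Y G q),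
      ∀ x, r (u x) = x := by
  let ZY := (constantSheaf Y.smallEtaleTopology AddCommGrpCat.{u + 1}).obj
    (AddCommGrpCat.of (ULift.{u + 1} ℤ))
  let ZY' := (constantSheaf Y'.smallEtaleTopology AddCommGrpCat.{u + 1}).obj
    (AddCommGrpCat.of (ULift.{u + 1} ℤ))
  let a : (EtCoh.pull g).obj ZY ≅ ZY' :=
    (EtCore.pullConstIso g).app (AddCommGrpCat.of (ULift.{u + 1} ℤ))
  obtain ⟨r₀, hr₀⟩ := ExtRetract.exists_retraction (EtCoh.pull g) (EtCoh.pull h)
    (pullSection g h hgh) ZY G q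
  refine ⟨((Ext.mk₀ a.inv).precomp G' (zero_add q)).comp
    (((Ext.mk₀ e.hom).postcomp _ (add_zero q)).comp
      ((EtCoh.pull g).mapExtAddHom ZY G q)),
    r₀.comp (((Ext.mk₀ e.inv).postcomp _ (add_zero q)).comp
      ((Ext.mk₀ a.hom).precomp G' (zero_add q))), fun x => ?_⟩
  change r₀ (((Ext.mk₀ a.hom).comp ((Ext.mk₀ a.inv).comp
    ((x.mapExactFunctor (EtCoh.pull g)).comp (Ext.mk₀ e.hom) (add_zero q)) (zero_add q))
    (zero_add q)).comp (Ext.mk₀ e.inv) (add_zero q)) = x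
  have h1 := PullRetract.precomp_iso_cancel a.symm
    ((x.mapExactFunctor (EtCoh.pull g)).comp (Ext.mk₀ e.hom) (add_zero q))
  simp only [Iso.symm_hom, Iso.symm_inv] at h1
  rw [h1, PullRetract.postcomp_iso_cancel e, hr₀]

end Groth.Agent.H43.EtPullRetract
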