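import Mathlib

/-!
# Euler characteristic of the homology of a bigraded complex of finite-length modules

Helper library for S3544 (helper43).
-/

set_option autoImplicit false
universe u

open CategoryTheory CategoryTheory.Limits

namespace Groth.Agent.H43.EulerSS

variable {A : Type u} [Ring A]

section ShortComplex

variable (S : ShortComplex (ModuleCat.{u} A))

/-- `length H(S) + length (im f) = length (ker g)` for a short complex of modules. -/
theorem length_homology_add :
    Module.length A S.homology + Module.length A (LinearMap.range S.f.hom) =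
      Module.length A (LinearMap.ker S.g.hom) := by
  have e1 : Module.length A S.homology =
      Module.length A (LinearMap.ker S.g.hom ⧸ LinearMap.range S.moduleCatToCycles) :=
    LinearEquiv.length_eq S.moduleCatHomologyIso.toLinearEquiv
  have e2 : Module.length A (LinearMap.range S.moduleCatToCycles) =
      Module.length A (LinearMap.range S.f.hom) := by
    have h : (LinearMap.range S.moduleCatToCycles).map (LinearMap.ker S.g.hom).subtype =
        LinearMap.range S.f.hom := by
      rw [← LinearMap.range_comp]
      congr 1
    rw [← h]
    exact LinearEquiv.length_eq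
      (Submodule.equivMapOfInjective _ (Submodule.subtype_injective _) _)
  rw [e1, ← e2, add_comm]
  exact (Module.length_eq_add_of_exact (LinearMap.range S.moduleCatToCycles).subtype
    (LinearMap.range S.moduleCatToCycles).mkQ (Submodule.subtype_injective _)
    (Submodule.mkQ_surjective _) (LinearMap.exact_subtype_mkQ _)).symm

/-- rank–nullity for lengths. -/
theorem length_X₂_eq :
    Module.length A S.X₂ =
      Module.length A (LinearMap.ker S.g.hom) + Module.length A (LinearMap.range S.g.hom) :=
  Module.length_eq_add_of_exact (LinearMap.ker S.g.hom).subtype S.g.hom.rangeRestrict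
    (Submodule.subtype_injective _) (LinearMap.surjective_rangeRestrict _)
    (by
      rw [LinearMap.exact_iff]
      ext x
      simp)

end ShortComplex


section Complex

variable (v : ℤ × ℤ) (K : HomologicalComplex (ModuleCat.{u} A) (ComplexShape.up' v))

/-- length of the image of `d i j`. -/
noncomputable def B (i j : ℤ × ℤ) : ℕ∞ := Module.length A (LinearMap.range (K.d i j).hom)

/-- length of the kernel of `d i j`. -/
noncomputable def Z (i j : ℤ × ℤ) : ℕ∞ := Module.length A (LinearMap.ker (K.d i j).hom)

theorem length_X_eq (j : ℤ × ℤ) :
    Module.length A (K.X j) = Z v K j (j + v) + B v K j (j + v) :=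
  length_X₂_eq (K.sc' (j - v) j (j + v))

theorem length_homology_eq (j : ℤ × ℤ) :
    Module.length A (K.homology j) + B v K (j - v) j = Z v K j (j + v) := by
  have e : Module.length A (K.homology j) =
      Module.length A (K.sc' (j - v) j (j + v)).homology :=
    LinearEquiv.length_eq (K.homologyIsoSc' (j - v) j (j + v)
      ((ComplexShape.up' v).prev_eq' (sub_add_cancel j v))
      ((ComplexShape.up' v).next_eq' rfl)).toLinearEquiv
  rw [e]
  exact length_homology_add (K.sc' (j - v) j (j + v))

theorem B_le_left (i j : ℤ × ℤ) : B v K i j ≤ Module.length A (K.X i) :=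
  Module.length_le_of_surjective (K.d i j).hom.rangeRestrict
    (LinearMap.surjective_rangeRestrict _)

theorem B_le_right (i j : ℤ × ℤ) : B v K i j ≤ Module.length A (K.X j) :=
  Module.length_le_of_injective (LinearMap.range (K.d i j).hom).subtype
    (Submodule.subtype_injective _)

theorem length_eq_zero_of_isZero {M : ModuleCat.{u} A} (h : IsZero M) :
    Module.length A M = 0 := by
  haveI := ModuleCat.subsingleton_of_isZero h
  exact Module.length_eq_zero

/-- sign of a bidegree -/
def sgn (pq : ℤ × ℤ) : ℤ := (((pq.1 + pq.2).negOnePow : ℤˣ) : ℤ)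

theorem sgn_add (hv : v.1 + v.2 = 1) (pq : ℤ × ℤ) : sgn (pq + v) = - sgn pq := by
  unfold sgn
  have : (pq + v).1 + (pq + v).2 = (pq.1 + pq.2) + 1 := by
    simp only [Prod.fst_add, Prod.snd_add]; omega
  rw [this, Int.negOnePow_succ]
  simp

variable {v K}

theorem euler_homology (hv : v.1 + v.2 = 1) (s : Finset (ℤ × ℤ))
    (hs : ∀ pq : ℤ × ℤ, pq ∉ s → IsZero (K.X pq))
    (hfl : ∀ pq : ℤ × ℤ, IsFiniteLength A (K.X pq)) :
    (∀ pq : ℤ × ℤ, pq ∉ s → IsZero (K.homology pq)) ∧
    (∀ pq : ℤ × ℤ, IsFiniteLength A (K.homology pq)) ∧
    (s.sum fun pq => sgn pq * ((Module.length A (K.homology pq)).toNat : ℤ)) =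
      s.sum fun pq => sgn pq * ((Module.length A (K.X pq)).toNat : ℤ) := by
  have hX : ∀ pq, Module.length A (K.X pq) ≠ ⊤ := fun pq =>
    Module.length_ne_top_iff.2 (hfl pq)
  have hB : ∀ i j, B v K i j ≠ ⊤ := fun i j =>
    ne_top_of_le_ne_top (hX i) (B_le_left v K i j)
  have hZ : ∀ j, Z v K j (j + v) ≠ ⊤ := fun j => by
    have := length_X_eq v K j
    intro h
    rw [h, top_add] at this
    exact hX j this
  have hH : ∀ j, Module.length A (K.homology j) ≠ ⊤ := fun j => by
    have := length_homology_eq v K j
    intro h
    rw [h, top_add] at this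
    exact hZ j this.symm
  refine ⟨fun pq hpq => ?_, fun pq => Module.length_ne_top_iff.1 (hH pq), ?_⟩
  · exact (HomologicalComplex.ExactAt.of_isZero (hs pq hpq)).isZero_homology
  · -- natural number versions
    have hB0 : ∀ i j, B v K i j ≠ 0 → i ∈ s ∧ j ∈ s := by
      intro i j h
      constructor
      · by_contra hi
        apply h
        have := B_le_left v K i j
        rw [length_eq_zero_of_isZero (hs i hi)] at this
        exact le_antisymm this zero_le
      · by_contra hj
        apply h
        have := B_le_right v K i j
        rw [length_eq_zero_of_isZero (hs j hj)] at this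
        exact le_antisymm this zero_le
    have e1 : ∀ j, ((Module.length A (K.X j)).toNat : ℤ) =
        ((Z v K j (j + v)).toNat : ℤ) + ((B v K j (j + v)).toNat : ℤ) := fun j => by
      rw [length_X_eq v K j, ENat.toNat_add (hZ j) (hB _ _)]
      push_cast; rfl
    have e2 : ∀ j, ((Module.length A (K.homology j)).toNat : ℤ) =
        ((Z v K j (j + v)).toNat : ℤ) - ((B v K (j - v) j).toNat : ℤ) := fun j => by
      rw [← length_homology_eq v K j, ENat.toNat_add (hH j) (hB _ _)]
      push_cast; ring
    simp only [e1, e2, mul_add, mul_sub, Finset.sum_add_distrib, Finset.sum_sub_distrib]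
    rw [sub_eq_add_neg]
    congr 1
    rw [← Finset.sum_neg_distrib]
    -- reindex
    symm
    refine Finset.sum_bij_ne_zero (fun a _ _ => a + v) ?_ ?_ ?_ ?_
    · intro a ha h
      by_contra hc
      apply h
      have : B v K a (a + v) = 0 := by
        by_contra hne
        exact hc (hB0 _ _ hne).2
      rw [this]; simp
    · intro a₁ _ _ a₂ _ _ h
      exact add_right_cancel h
    · intro b hb h
      have hne : B v K (b - v) b ≠ 0 := by
        intro h0
        apply h
        rw [h0]; simp
      refine ⟨b - v, (hB0 _ _ hne).1, ?_, sub_add_cancel b v⟩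
      rw [sub_add_cancel]
      intro h0
      apply h
      have : sgn b = - sgn (b - v) := by
        have := sgn_add v hv (b - v)
        rwa [sub_add_cancel] at this
      rw [this]
      linarith
    · intro a _ _
      rw [sgn_add v hv, add_sub_cancel_right]
      ring

end Complex

end Groth.Agent.H43.EulerSS
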