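import Mathlib

set_option autoImplicit false

namespace Groth.Agent.H43

open Polynomial

section denominators

/-- a common denominator of the coefficients of a rational polynomial -/
theorem exists_den_poly (f : Polynomial ℚ) :
    ∃ M : ℕ, 1 ≤ M ∧ ∃ g : Polynomial ℤ, g.map (Int.castRingHom ℚ) = C (M : ℚ) * f := by
  induction f using Polynomial.induction_on' with
  | add p q hp hq =>
    obtain ⟨M, hM, g, hg⟩ := hp
    obtain ⟨N, hN, h, hh⟩ := hq
    refine ⟨M * N, Nat.mul_pos hM hN, C (N : ℤ) * g + C (M : ℤ) * h, ?_⟩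
    rw [Polynomial.map_add, Polynomial.map_mul, Polynomial.map_mul, hg, hh, Polynomial.map_C,
      Polynomial.map_C]
    simp only [eq_intCast, Int.cast_natCast, Nat.cast_mul, map_mul]
    ring
  | monomial n a =>
    refine ⟨a.den, a.pos, monomial n a.num, ?_⟩
    rw [Polynomial.map_monomial, C_mul_monomial]
    congr 1
    simp only [eq_intCast]
    rw [mul_comm]
    exact (Rat.mul_den_eq_num a).symm

end denominators

section gauss

/-- division of an integral power series by a prime dividing all its coefficients -/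
theorem exists_eq_C_mul_of_map_eq_zero (ℓ : ℕ) (W : PowerSeries ℤ)
    (h : PowerSeries.map (Int.castRingHom (ZMod ℓ)) W = 0) :
    ∃ W₁ : PowerSeries ℤ, W = PowerSeries.C (ℓ : ℤ) * W₁ := by
  have hdiv : ∀ i, (ℓ : ℤ) ∣ PowerSeries.coeff i W := by
    intro i
    have := congrArg (PowerSeries.coeff i) h
    rw [PowerSeries.coeff_map, map_zero, eq_intCast] at this
    exact (ZMod.intCast_zmod_eq_zero_iff_dvd _ _).mp this
  choose c hc using hdiv
  refine ⟨PowerSeries.mk c, ?_⟩
  ext i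
  rw [PowerSeries.coeff_C_mul, PowerSeries.coeff_mk, hc i]

/-- the key divisibility argument: if `Q₁ W = N` with `Q₁` not divisible by any prime, then the
constant coefficient of `Q₁` is a unit -/
theorem isUnit_constantCoeff_of_mul_eq_natCast (Q₁ : PowerSeries ℤ)
    (hprim : ∀ ℓ : ℕ, ℓ.Prime → PowerSeries.map (Int.castRingHom (ZMod ℓ)) Q₁ ≠ 0) :
    ∀ (N : ℕ), 1 ≤ N → ∀ W : PowerSeries ℤ, Q₁ * W = PowerSeries.C (N : ℤ) →
      IsUnit (PowerSeries.constantCoeff Q₁) := by
  intro N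
  induction N using Nat.strong_induction_on with
  | _ N ih =>
    intro hN W hW
    by_cases h1 : N = 1
    · subst h1
      have := congrArg PowerSeries.constantCoeff hW
      rw [map_mul, PowerSeries.constantCoeff_C, Nat.cast_one] at this
      exact IsUnit.of_mul_eq_one _ this
    · obtain ⟨ℓ, hℓ, hℓN⟩ := Nat.exists_prime_and_dvd h1
      haveI : Fact ℓ.Prime := ⟨hℓ⟩
      have hmod := congrArg (PowerSeries.map (Int.castRingHom (ZMod ℓ))) hW
      rw [map_mul, PowerSeries.map_C] at hmod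
      have hz : (Int.castRingHom (ZMod ℓ)) (N : ℤ) = 0 := by
        rw [eq_intCast, Int.cast_natCast]
        exact (ZMod.natCast_eq_zero_iff _ _).mpr hℓN
      rw [hz, map_zero] at hmod
      have hW0 : PowerSeries.map (Int.castRingHom (ZMod ℓ)) W = 0 := by
        rcases mul_eq_zero.mp hmod with h | h
        · exact absurd h (hprim ℓ hℓ)
        · exact h
      obtain ⟨W₁, rfl⟩ := exists_eq_C_mul_of_map_eq_zero ℓ W hW0
      obtain ⟨N', rfl⟩ := hℓN
      have hN' : 1 ≤ N' := by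
        rcases Nat.eq_zero_or_pos N' with h | h
        · subst h; omega
        · exact h
      have hℓpos : (ℓ : ℤ) ≠ 0 := by exact_mod_cast hℓ.ne_zero
      have hCne : (PowerSeries.C (ℓ : ℤ) : PowerSeries ℤ) ≠ 0 := by
        intro h
        have := congrArg PowerSeries.constantCoeff h
        rw [PowerSeries.constantCoeff_C, map_zero] at this
        exact hℓpos this
      have hW' : Q₁ * W₁ = PowerSeries.C (N' : ℤ) := by
        apply mul_left_cancel₀ hCne
        rw [← map_mul]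
        have e : ((ℓ : ℤ) * (N' : ℤ)) = ((ℓ * N' : ℕ) : ℤ) := by push_cast; ring
        rw [e, ← hW]
        ring
      exact ih N' (by
        have := hℓ.two_le
        nlinarith) hN' W₁ hW'

end gauss

section main

theorem map_injective_int : Function.Injective (PowerSeries.map (Int.castRingHom ℚ)) := by
  intro f g h
  ext i
  have := congrArg (PowerSeries.coeff i) h
  rw [PowerSeries.coeff_map, PowerSeries.coeff_map] at this
  exact Int.cast_injective this

theorem fatou (P Q : Polynomial ℚ) (hPQ : IsCoprime P Q) (hQ : Q.coeff 0 = 1)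
    (Z : PowerSeries ℤ)
    (hZ : (P : PowerSeries ℚ) = (Q : PowerSeries ℚ) * PowerSeries.map (Int.castRingHom ℚ) Z) :
    (∃ P₀ : Polynomial ℤ, P₀.map (Int.castRingHom ℚ) = P) ∧
      ∃ Q₀ : Polynomial ℤ, Q₀.map (Int.castRingHom ℚ) = Q := by
  classical
  obtain ⟨a, b, hab⟩ := hPQ
  obtain ⟨Ma, hMa, ga, hga⟩ := exists_den_poly a
  obtain ⟨Mb, hMb, gb, hgb⟩ := exists_den_poly b
  -- the integral series `W` with `Q W = M`
  set M : ℕ := Ma * Mb with hM
  set W : PowerSeries ℤ := ((C (Mb : ℤ) * ga : Polynomial ℤ) : PowerSeries ℤ) * Z +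
    ((C (Ma : ℤ) * gb : Polynomial ℤ) : PowerSeries ℤ) with hW
  have hWmap : PowerSeries.map (Int.castRingHom ℚ) W =
      ((C (M : ℚ) * a : Polynomial ℚ) : PowerSeries ℚ) * PowerSeries.map (Int.castRingHom ℚ) Z +
        ((C (M : ℚ) * b : Polynomial ℚ) : PowerSeries ℚ) := by
    have hCM : (C (M : ℚ) : Polynomial ℚ) = C (Ma : ℚ) * C (Mb : ℚ) := by
      rw [hM, Nat.cast_mul, map_mul]
    have e1 : C (Mb : ℚ) * (C (Ma : ℚ) * a) = C (M : ℚ) * a := by rw [hCM]; ring
    have e2 : C (Ma : ℚ) * (C (Mb : ℚ) * b) = C (M : ℚ) * b := by rw [hCM]; ring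
    rw [hW, map_add, map_mul, ← Polynomial.polynomial_map_coe, ← Polynomial.polynomial_map_coe,
      Polynomial.map_mul, Polynomial.map_mul, hga, hgb, Polynomial.map_C, Polynomial.map_C,
      eq_intCast, eq_intCast, Int.cast_natCast, Int.cast_natCast, e1, e2]
  have hQW : (Q : PowerSeries ℚ) * PowerSeries.map (Int.castRingHom ℚ) W =
      PowerSeries.C (M : ℚ) := by
    rw [hWmap, mul_add, ← mul_assoc, mul_comm (Q : PowerSeries ℚ), mul_assoc, ← hZ,
      ← Polynomial.coe_mul, ← Polynomial.coe_mul, ← Polynomial.coe_add]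
    have : C (M : ℚ) * a * P + Q * (C (M : ℚ) * b) = C (M : ℚ) := by
      linear_combination (C (M : ℚ)) * hab
    rw [this, Polynomial.coe_C]
  -- the minimal denominator of `Q`
  have hex : ∃ n : ℕ, 1 ≤ n ∧ ∃ g : Polynomial ℤ, g.map (Int.castRingHom ℚ) = C (n : ℚ) * Q :=
    exists_den_poly Q
  obtain ⟨n, ⟨hn1, Q₀, hQ₀⟩, hmin⟩ : ∃ n : ℕ, (1 ≤ n ∧ ∃ g : Polynomial ℤ,
      g.map (Int.castRingHom ℚ) = C (n : ℚ) * Q) ∧ ∀ n' : ℕ, n' < n → ¬ (1 ≤ n' ∧
      ∃ g : Polynomial ℤ, g.map (Int.castRingHom ℚ) = C (n' : ℚ) * Q) :=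
    ⟨Nat.find hex, Nat.find_spec hex, fun n' h => Nat.find_min hex h⟩
  have hQ₀0 : Q₀.coeff 0 = (n : ℤ) := by
    have := congrArg (fun p : Polynomial ℚ => p.coeff 0) hQ₀
    simp only [Polynomial.coeff_map, Polynomial.coeff_C_mul, hQ, mul_one, eq_intCast] at this
    exact_mod_cast this
  set Q₁ : PowerSeries ℤ := (Q₀ : PowerSeries ℤ) with hQ₁
  have hQ₁W : Q₁ * W = PowerSeries.C ((n * M : ℕ) : ℤ) := by
    apply map_injective_int
    rw [map_mul, hQ₁, ← Polynomial.polynomial_map_coe, hQ₀, Polynomial.coe_mul, mul_assoc, hQW,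
      Polynomial.coe_C, PowerSeries.map_C, ← map_mul]
    congr 1
    simp
  have hprim : ∀ ℓ : ℕ, ℓ.Prime → PowerSeries.map (Int.castRingHom (ZMod ℓ)) Q₁ ≠ 0 := by
    intro ℓ hℓ h0
    have hdiv : ∀ i, (ℓ : ℤ) ∣ Q₀.coeff i := by
      intro i
      have := congrArg (PowerSeries.coeff i) h0
      rw [PowerSeries.coeff_map, map_zero, eq_intCast, hQ₁, Polynomial.coeff_coe] at this
      exact (ZMod.intCast_zmod_eq_zero_iff_dvd _ _).mp this
    obtain ⟨Q₀', hQ₀'⟩ := (Polynomial.C_dvd_iff_dvd_coeff _ _).mpr hdiv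
    have hℓn : (ℓ : ℤ) ∣ (n : ℤ) := hQ₀0 ▸ hdiv 0
    obtain ⟨n', hn'⟩ : ∃ n' : ℕ, n = ℓ * n' := by
      obtain ⟨c, hc⟩ := Int.natCast_dvd_natCast.mp hℓn
      exact ⟨c, hc⟩
    have hℓ0 : (ℓ : ℚ) ≠ 0 := by exact_mod_cast hℓ.ne_zero
    have hn'pos : 1 ≤ n' := by
      rcases Nat.eq_zero_or_pos n' with h | h
      · rw [h, mul_zero] at hn'; omega
      · exact h
    apply hmin n' (by
      rw [hn']
      have := hℓ.two_le
      nlinarith) ⟨hn'pos, Q₀', ?_⟩
    have h1 : C (ℓ : ℚ) * Q₀'.map (Int.castRingHom ℚ) = C (ℓ : ℚ) * (C (n' : ℚ) * Q) := by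
      have := hQ₀
      rw [hQ₀', Polynomial.map_mul, Polynomial.map_C, hn'] at this
      simp only [eq_intCast, Int.cast_natCast, Nat.cast_mul, map_mul] at this
      rw [this]
      ring
    have hC : (C (ℓ : ℚ) : Polynomial ℚ) ≠ 0 := by
      rw [Ne, Polynomial.C_eq_zero]
      exact hℓ0
    exact mul_left_cancel₀ hC h1
  have hunit := isUnit_constantCoeff_of_mul_eq_natCast Q₁ hprim (n * M)
    (Nat.mul_pos hn1 (Nat.mul_pos hMa hMb)) W hQ₁W
  have hcc : PowerSeries.constantCoeff Q₁ = (n : ℤ) := by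
    rw [hQ₁, Polynomial.constantCoeff_coe, hQ₀0]
  rw [hcc, Int.isUnit_iff] at hunit
  have hn_one : n = 1 := by
    rcases hunit with h | h
    · exact_mod_cast h
    · omega
  have hQ₀Q : Q₀.map (Int.castRingHom ℚ) = Q := by
    rw [hQ₀, hn_one, Nat.cast_one, map_one, one_mul]
  refine ⟨?_, Q₀, hQ₀Q⟩
  -- the numerator
  set S : PowerSeries ℤ := Q₁ * Z with hS
  have hPS : (P : PowerSeries ℚ) = PowerSeries.map (Int.castRingHom ℚ) S := by
    rw [hS, map_mul, hQ₁, ← Polynomial.polynomial_map_coe, hQ₀Q, hZ]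
  refine ⟨∑ i ∈ Finset.range (P.natDegree + 1), monomial i (PowerSeries.coeff i S), ?_⟩
  ext i
  have hi := congrArg (PowerSeries.coeff i) hPS
  rw [Polynomial.coeff_coe, PowerSeries.coeff_map, eq_intCast] at hi
  rw [Polynomial.coeff_map, Polynomial.finsetSum_coeff]
  simp only [Polynomial.coeff_monomial]
  by_cases hi' : i < P.natDegree + 1
  · rw [Finset.sum_eq_single i]
    · rw [if_pos rfl, eq_intCast, hi]
    · intro j _ hj
      rw [if_neg hj]
    · intro h
      exact absurd (Finset.mem_range.mpr hi') h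
  · rw [Finset.sum_eq_zero, map_zero, Polynomial.coeff_eq_zero_of_natDegree_lt (by omega)]
    intro j hj
    rw [Finset.mem_range] at hj
    rw [if_neg (by omega)]

end main

end Groth.Agent.H43
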