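import Groth.Agent.H43.LamInf
import Groth.Agent.H43.BinomScalar

set_option autoImplicit false
universe u v

namespace Groth.Agent.H43

open LambdaRing MvPolynomial Finset

section combin

theorem single_of_sum_one {n : ℕ} (e : Fin n → ℕ) (h1 : ∑ k, e k = 1)
    (hw : ∑ k : Fin n, ((k : ℕ) + 1) * e k = n) :
    ∀ k : Fin n, e k = if (k : ℕ) + 1 = n then 1 else 0 := by
  classical
  obtain ⟨k₀, -, hk₀⟩ : ∃ k ∈ (Finset.univ : Finset (Fin n)), e k ≠ 0 :=
    Finset.exists_ne_zero_of_sum_ne_zero (by rw [h1]; exact one_ne_zero)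
  have hsplit := Finset.add_sum_erase Finset.univ e (Finset.mem_univ k₀)
  rw [h1] at hsplit
  have he0 : e k₀ = 1 := by omega
  have hrest : ∑ k ∈ Finset.univ.erase k₀, e k = 0 := by omega
  have hz : ∀ k, k ≠ k₀ → e k = 0 := by
    intro k hk
    exact (Finset.sum_eq_zero_iff.mp hrest) k (Finset.mem_erase.mpr ⟨hk, Finset.mem_univ k⟩)
  have hw2 := Finset.add_sum_erase Finset.univ (fun k : Fin n => ((k : ℕ) + 1) * e k)
    (Finset.mem_univ k₀)
  have hrest2 : ∑ k ∈ Finset.univ.erase k₀, ((k : ℕ) + 1) * e k = 0 := by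
    refine Finset.sum_eq_zero fun k hk => ?_
    rw [hz k (Finset.mem_erase.mp hk).1, mul_zero]
  rw [hrest2, hw, he0] at hw2
  intro k
  by_cases hk : k = k₀
  · subst hk
    rw [he0, if_pos (by omega)]
  · rw [hz k hk, if_neg]
    intro h
    apply hk
    apply Fin.ext
    omega

theorem weight_wXY_fst {n : ℕ} (dd : Fin n ⊕ Fin n →₀ ℕ) :
    (Finsupp.weight (wXY n) dd).1 = ∑ k : Fin n, ((k : ℕ) + 1) * dd (Sum.inl k) := by
  rw [Finsupp.weight_apply, Finsupp.sum_fintype _ _ (fun _ => by simp), Prod.fst_sum,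
    Fintype.sum_sum_type]
  simp [wXY, mul_comm]

theorem weight_wXY_snd {n : ℕ} (dd : Fin n ⊕ Fin n →₀ ℕ) :
    (Finsupp.weight (wXY n) dd).2 = ∑ k : Fin n, ((k : ℕ) + 1) * dd (Sum.inr k) := by
  rw [Finsupp.weight_apply, Finsupp.sum_fintype _ _ (fun _ => by simp), Prod.snd_sum,
    Fintype.sum_sum_type]
  simp [wXY, mul_comm]

end combin

section iso2

variable {A : Type v} [CommRing A]

/-- the exponent of `X_n Y_n` -/
noncomputable def m0 (n : ℕ) (hn : 1 ≤ n) : Fin n ⊕ Fin n →₀ ℕ :=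
  Finsupp.single (Sum.inl ⟨n - 1, by omega⟩) 1 + Finsupp.single (Sum.inr ⟨n - 1, by omega⟩) 1

theorem eq_m0_of_sum_one {n : ℕ} (hn : 1 ≤ n) (dd : Fin n ⊕ Fin n →₀ ℕ)
    (hw : Finsupp.weight (wXY n) dd = ((n, n) : ℕ × ℕ))
    (h1 : ∑ k : Fin n, dd (Sum.inl k) = 1) (h2 : ∑ k : Fin n, dd (Sum.inr k) = 1) :
    dd = m0 n hn := by
  have hw1 : ∑ k : Fin n, ((k : ℕ) + 1) * dd (Sum.inl k) = n := by
    rw [← weight_wXY_fst, hw]
  have hw2 : ∑ k : Fin n, ((k : ℕ) + 1) * dd (Sum.inr k) = n := by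
    rw [← weight_wXY_snd, hw]
  have e1 := single_of_sum_one (fun k => dd (Sum.inl k)) h1 hw1
  have e2 := single_of_sum_one (fun k => dd (Sum.inr k)) h2 hw2
  ext v
  rcases v with k | k
  · rw [e1 k, m0, Finsupp.add_apply, Finsupp.single_apply, Finsupp.single_apply]
    simp only [Sum.inl.injEq, reduceCtorEq, if_false, add_zero, Fin.ext_iff]
    split_ifs <;> omega
  · rw [e2 k, m0, Finsupp.add_apply, Finsupp.single_apply, Finsupp.single_apply]
    simp only [Sum.inr.injEq, reduceCtorEq, if_false, zero_add, Fin.ext_iff]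
    split_ifs <;> omega

theorem aeval_isobaric_two {M : ℕ → Ideal A} (hM : MulFil (K := A) (A := A) M) {n : ℕ}
    (hn : 1 ≤ n) (P : MvPolynomial (Fin n ⊕ Fin n) ℤ)
    (hP : IsWeightedHomogeneous (wXY n) P ((n, n) : ℕ × ℕ)) {a b : ℕ} (ha : 1 ≤ a) (hb : 1 ≤ b)
    (f g : Fin n → A) (hf : ∀ k, f k ∈ M a) (hg : ∀ k, g k ∈ M b) :
    aeval (Sum.elim f g) P - ((coeff (m0 n hn) P : ℤ) : A) *
      (f ⟨n - 1, by omega⟩ * g ⟨n - 1, by omega⟩) ∈ M (a + b + 1) := by
  classical
  set c := coeff (m0 n hn) P with hc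
  set P' := P - monomial (m0 n hn) c with hP'
  have e : aeval (Sum.elim f g) P - ((c : ℤ) : A) * (f ⟨n - 1, by omega⟩ * g ⟨n - 1, by omega⟩) =
      aeval (Sum.elim f g) P' := by
    rw [hP', map_sub, aeval_monomial]
    congr 1
    rw [m0, Finsupp.prod_add_index' (fun _ => pow_zero _) (fun _ _ _ => pow_add _ _ _),
      Finsupp.prod_single_index (by simp), Finsupp.prod_single_index (by simp)]
    simp
  rw [e, aeval_def, eval₂_eq']
  refine Ideal.sum_mem _ fun dd hdd => Ideal.mul_mem_left _ _ ?_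
  have hcoef : coeff dd P' = coeff dd P - if m0 n hn = dd then c else 0 := by
    rw [hP', coeff_sub, coeff_monomial]
  have hne : dd ≠ m0 n hn := by
    intro h
    rw [mem_support_iff, hcoef, h, if_pos rfl, hc, sub_self] at hdd
    exact hdd rfl
  have hddP : coeff dd P ≠ 0 := by
    rw [mem_support_iff, hcoef, if_neg (Ne.symm hne), sub_zero] at hdd
    exact hdd
  have hw : Finsupp.weight (wXY n) dd = ((n, n) : ℕ × ℕ) := hP hddP
  have hw1 : ∑ k : Fin n, ((k : ℕ) + 1) * dd (Sum.inl k) = n := by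
    rw [← weight_wXY_fst, hw]
  have hw2 : ∑ k : Fin n, ((k : ℕ) + 1) * dd (Sum.inr k) = n := by
    rw [← weight_wXY_snd, hw]
  have hY : 1 ≤ ∑ k : Fin n, dd (Sum.inl k) := by
    by_contra hlt
    have h0 : ∑ k : Fin n, dd (Sum.inl k) = 0 := by omega
    have : ∀ k : Fin n, dd (Sum.inl k) = 0 := fun k =>
      (Finset.sum_eq_zero_iff.mp h0) k (Finset.mem_univ k)
    simp only [this, mul_zero, Finset.sum_const_zero] at hw1
    omega
  have hZ : 1 ≤ ∑ k : Fin n, dd (Sum.inr k) := by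
    by_contra hlt
    have h0 : ∑ k : Fin n, dd (Sum.inr k) = 0 := by omega
    have : ∀ k : Fin n, dd (Sum.inr k) = 0 := fun k =>
      (Finset.sum_eq_zero_iff.mp h0) k (Finset.mem_univ k)
    simp only [this, mul_zero, Finset.sum_const_zero] at hw2
    omega
  have hnot : ¬ (∑ k : Fin n, dd (Sum.inl k) = 1 ∧ ∑ k : Fin n, dd (Sum.inr k) = 1) := by
    rintro ⟨h1, h2⟩
    exact hne (eq_m0_of_sum_one hn dd hw h1 h2)
  rw [Fintype.prod_sum_type]
  simp only [Sum.elim_inl, Sum.elim_inr]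
  have h1 : ∏ k : Fin n, f k ^ dd (Sum.inl k) ∈ M (a * ∑ k : Fin n, dd (Sum.inl k)) := by
    rw [Finset.mul_sum]
    exact hM.prod_mem Finset.univ (fun k : Fin n => a * dd (Sum.inl k)) _
      (fun k _ => hM.pow_mem (hf k) _)
  have h2 : ∏ k : Fin n, g k ^ dd (Sum.inr k) ∈ M (b * ∑ k : Fin n, dd (Sum.inr k)) := by
    rw [Finset.mul_sum]
    exact hM.prod_mem Finset.univ (fun k : Fin n => b * dd (Sum.inr k)) _
      (fun k _ => hM.pow_mem (hg k) _)
  refine hM.anti _ _ ?_ (hM.mul_mem _ _ _ _ h1 h2)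
  set p := ∑ k : Fin n, dd (Sum.inl k)
  set q := ∑ k : Fin n, dd (Sum.inr k)
  have hpq : 2 ≤ p ∨ 2 ≤ q := by omega
  rcases hpq with h | h
  · have := Nat.mul_le_mul_left a h
    have := Nat.mul_le_mul_left b hZ
    omega
  · have := Nat.mul_le_mul_left a hY
    have := Nat.mul_le_mul_left b h
    omega

end iso2

section coeff

attribute [local instance] lineLambdaOps

theorem lamConst_one_sq (j : ℕ) : lamConst 1 j * lamConst 1 j = 1 := by
  simp only [lamConst, Nat.sub_self, pow_zero, mul_one]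
  rw [← pow_add, ← two_mul, pow_mul]
  simp

/-- the coefficient of `X_j Y_j` in the universal polynomial `P_j` -/
theorem coeff_m0_mulPoly (j : ℕ) (hj : 1 ≤ j) (P : MvPolynomial (Fin j ⊕ Fin j) ℤ)
    (hP : IsMulPoly j P) : coeff (m0 j hj) P = lamConst 2 j := by
  classical
  set u₀ : LineRing (Fin 2) := X 0 - 1 with hu₀
  set u₁ : LineRing (Fin 2) := X 1 - 1 with hu₁
  have hD := mulFil_lineFil (Fin 2)
  have hf : ∀ (a : Fin 2) (k : Fin j), LambdaOps.lam ((k : ℕ) + 1) (X a - 1 : LineRing (Fin 2)) ∈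
      lineFil (Fin 2) 1 := fun a k =>
    isLambdaIdeal_lineFil (Fin 2) 1 _ (by omega) _ (X_sub_one_mem (Fin 2) a)
  have h1 := aeval_isobaric_two hD hj P hP.2 le_rfl le_rfl
    (fun k : Fin j => LambdaOps.lam ((k : ℕ) + 1) u₀)
    (fun k : Fin j => LambdaOps.lam ((k : ℕ) + 1) u₁) (hf 0) (hf 1)
  rw [← isSpecial_line.lam_mul j P hP u₀ u₁] at h1
  simp only [Nat.sub_add_cancel hj] at h1
  rw [lam_X_sub_one (Fin 2) 0 j hj, lam_X_sub_one (Fin 2) 1 j hj] at h1
  have h2 := (lamCong_lineFil (Fin 2) 2 (by omega) (u₀ * u₁)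
    (hD.mul_mem 1 1 _ _ (X_sub_one_mem (Fin 2) 0) (X_sub_one_mem (Fin 2) 1))).2 j hj
  set c := coeff (m0 j hj) P with hc
  have h3 : (((c - lamConst 2 j : ℤ) : LineRing (Fin 2))) * (u₀ * u₁) ∈ lineFil (Fin 2) 3 := by
    have e : (((c - lamConst 2 j : ℤ) : LineRing (Fin 2))) * (u₀ * u₁) =
        (LambdaOps.lam j (u₀ * u₁) - ((lamConst 2 j : ℤ) : LineRing (Fin 2)) * (u₀ * u₁)) -
        (LambdaOps.lam j (u₀ * u₁) - ((c : ℤ) : LineRing (Fin 2)) *
          (((lamConst 1 j : ℤ) : LineRing (Fin 2)) * (X 0 - 1) *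
            (((lamConst 1 j : ℤ) : LineRing (Fin 2)) * (X 1 - 1)))) := by
      have hsq : ((lamConst 1 j : ℤ) : LineRing (Fin 2)) * ((lamConst 1 j : ℤ) : LineRing (Fin 2)) =
          1 := by
        rw [← Int.cast_mul, lamConst_one_sq, Int.cast_one]
      push_cast
      linear_combination (-(c : LineRing (Fin 2)) * (u₀ * u₁)) * hsq
    rw [e]
    exact sub_mem h2 h1
  rw [lineFil, Ideal.mem_comap, mem_pow_idealOfVars_iff'] at h3
  have h4 := h3 (Finsupp.single 0 1 + Finsupp.single 1 1) (by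
    rw [map_add, Finsupp.degree_single, Finsupp.degree_single]
    norm_num)
  have h5 : ∀ d : ℤ, shiftUp (Fin 2) ((d : LineRing (Fin 2)) * (u₀ * u₁)) =
      monomial (Finsupp.single 0 1 + Finsupp.single 1 1) d := by
    intro d
    rw [map_mul, map_mul, map_intCast, hu₀, hu₁]
    simp only [shiftUp, map_sub, aeval_X, map_one, add_sub_cancel_right]
    rw [monomial_eq, Finsupp.prod_add_index' (fun _ => pow_zero _) (fun _ _ _ => pow_add _ _ _),
      Finsupp.prod_single_index (by simp), Finsupp.prod_single_index (by simp), pow_one, pow_one,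
      eq_intCast]
  rw [h5, coeff_monomial, if_pos rfl] at h4
  omega

end coeff

section single

attribute [local instance] lineLambdaOps

variable {K : Type u} [CommRing K] {A : Type v} [CommRing A] [LambdaOps A]

theorem gammaFil_zero (ε : A →+* K) : gammaFil ε 0 = ⊤ :=
  (Ideal.eq_top_iff_one _).mpr (mulFil_gammaFil ε).one_mem

/-- `λ^j(γ^i(x)) ∈ Fil^i` -/
theorem lam_gamma_mem (hA : IsSpecial A) (ε : A →+* K) {x : A} (hx : ε x = 0) (i j : ℕ)
    (hj : 1 ≤ j) : LambdaOps.lam j (gamma i x) ∈ gammaFil ε i := by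
  match i with
  | 0 => rw [gammaFil_zero]; trivial
  | (i' + 1) =>
    obtain ⟨m, -, p, hp⟩ := exists_lam_poly_inf.{v} (X i' : MvPolynomial ℕ ℤ) j 0
    let σ := ULift.{v} (Fin m)
    have hcard : Fintype.card σ = m := by simp [σ]
    have hX : ∀ {R : Type v} [CommRing R] [LambdaOps R] (y : R),
        gammaEvalInf y (X i' : MvPolynomial ℕ ℤ) = gamma (i' + 1) y := by
      intro R _ _ y
      simp [gammaEvalInf]
    have hline := hp (LineRing σ) isSpecial_line (lineN σ - (m : LineRing σ))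
    rw [hX] at hline
    have hw := weights_of_line σ m hcard p (i' + 1) (by
      rw [← hline]
      exact isLambdaIdeal_lineFil σ (i' + 1) j hj _ (gamma_line_mem σ m hcard (i' + 1)))
    have hval := hp A hA x
    rw [hX] at hval
    rw [hval]
    exact gammaEval_mem_gammaFil ε hx m p (i' + 1) hw

/-- `λ^j(γ^i(x)) ≡ (-1)^(j-1) j^(i-1) γ^i(x)` modulo `Fil^(i+1)` -/
theorem lam_gamma_cong (hA : IsSpecial A) (ε : A →+* K) {x : A} (hx : ε x = 0) (i j : ℕ)
    (hi : 1 ≤ i) (hj : 1 ≤ j) :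
    LambdaOps.lam j (gamma i x) - ((lamConst i j : ℤ) : A) * gamma i x ∈ gammaFil ε (i + 1) := by
  obtain ⟨i', rfl⟩ : ∃ i', i = i' + 1 := ⟨i - 1, by omega⟩
  obtain ⟨m, hm, p, hp⟩ := exists_lam_poly_inf.{v} (X i' : MvPolynomial ℕ ℤ) j (i' + 1)
  let σ := ULift.{v} (Fin m)
  have hcard : Fintype.card σ = m := by simp [σ]
  have hX : ∀ {R : Type v} [CommRing R] [LambdaOps R] (y : R),
      gammaEvalInf y (X i' : MvPolynomial ℕ ℤ) = gamma (i' + 1) y := by
    intro R _ _ y
    simp [gammaEvalInf]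
  set p' : MvPolynomial (Fin m) ℤ := p - C (lamConst (i' + 1) j) * X ⟨i', by omega⟩ with hp'
  have hp'val : ∀ {R : Type v} [CommRing R] [LambdaOps R] (y : R),
      gammaEval y m p' = gammaEval y m p - ((lamConst (i' + 1) j : ℤ) : R) * gamma (i' + 1) y := by
    intro R _ _ y
    rw [hp', map_sub, map_mul]
    simp [gammaEval]
  have hline := hp (LineRing σ) isSpecial_line (lineN σ - (m : LineRing σ))
  rw [hX] at hline
  have hw := weights_of_line σ m hcard p' (i' + 1 + 1) (by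
    rw [hp'val, ← hline]
    exact (lamCong_lineFil σ (i' + 1) (by omega) _ (gamma_line_mem σ m hcard (i' + 1))).2 j hj)
  have hval := hp A hA x
  rw [hX] at hval
  rw [hval, ← hp'val]
  exact gammaEval_mem_gammaFil ε hx m p' (i' + 1 + 1) hw

end single

section general

variable {K : Type u} [CommRing K] {A : Type v} [CommRing A] [LambdaOps A]

/-- `λ^j` of a product of stable elements -/
theorem lamStable_mul (hA : IsSpecial A) {M : ℕ → Ideal A} (hM : MulFil (K := A) (A := A) M)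
    {a b : ℕ} {y z : A} (hy : y ∈ lamStable (M a)) (hz : z ∈ lamStable (M b)) :
    y * z ∈ lamStable (M (a + b)) := by
  classical
  intro j hj
  obtain ⟨P, hP⟩ := exists_isMulPoly j
  rw [hA.lam_mul j P hP, aeval_def, eval₂_eq']
  refine Ideal.sum_mem _ fun dd hdd => Ideal.mul_mem_left _ _ ?_
  have hw : Finsupp.weight (wXY j) dd = ((j, j) : ℕ × ℕ) := hP.2 (mem_support_iff.mp hdd)
  have hw1 : ∑ k : Fin j, ((k : ℕ) + 1) * dd (Sum.inl k) = j := by
    rw [← weight_wXY_fst, hw]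
  have hw2 : ∑ k : Fin j, ((k : ℕ) + 1) * dd (Sum.inr k) = j := by
    rw [← weight_wXY_snd, hw]
  have hY : ∃ k : Fin j, dd (Sum.inl k) ≠ 0 := by
    by_contra hcon
    push Not at hcon
    simp only [hcon, mul_zero, Finset.sum_const_zero] at hw1
    omega
  have hZ : ∃ k : Fin j, dd (Sum.inr k) ≠ 0 := by
    by_contra hcon
    push Not at hcon
    simp only [hcon, mul_zero, Finset.sum_const_zero] at hw2
    omega
  obtain ⟨k1, hk1⟩ := hY
  obtain ⟨k2, hk2⟩ := hZ
  rw [Fintype.prod_sum_type]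
  simp only [Sum.elim_inl, Sum.elim_inr]
  refine hM.mul_mem _ _ _ _ ?_ ?_
  · rw [← Finset.mul_prod_erase _ _ (Finset.mem_univ k1)]
    apply Ideal.mul_mem_right
    exact Ideal.pow_mem_of_mem _ (hy _ (by omega)) _ (Nat.pos_of_ne_zero hk1)
  · rw [← Finset.mul_prod_erase _ _ (Finset.mem_univ k2)]
    apply Ideal.mul_mem_right
    exact Ideal.pow_mem_of_mem _ (hz _ (by omega)) _ (Nat.pos_of_ne_zero hk2)

theorem prod_gamma_lamStable (hA : IsSpecial A) (ε : A →+* K) (l : List (ℕ × A))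
    (hl : ∀ p ∈ l, ε p.2 = 0) :
    (l.map fun p => gamma p.1 p.2).prod ∈ lamStable (gammaFil ε (l.map Prod.fst).sum) := by
  induction l with
  | nil =>
    intro j _
    simp only [List.map_nil, List.sum_nil]
    rw [gammaFil_zero]
    trivial
  | cons p l ih =>
    simp only [List.map_cons, List.prod_cons, List.sum_cons]
    exact lamStable_mul hA (mulFil_gammaFil ε)
      (fun j hj => lam_gamma_mem hA ε (hl p List.mem_cons_self) p.1 j hj)
      (ih fun q hq => hl q (List.mem_cons_of_mem _ hq))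

theorem mul_mem_lamStable (hA : IsSpecial A) {J : Ideal A} {g : A} (hg : g ∈ lamStable J)
    (a : A) : a * g ∈ lamStable J := by
  intro k hk
  obtain ⟨P, hP⟩ := exists_isMulPoly k
  rw [hA.lam_mul k P hP]
  apply aeval_mem_of_isobaric hk P hP.2
  intro i
  exact hg _ (by omega)

/-- the steps of the `γ`-filtration are λ-ideals -/
theorem isLambdaIdeal_gammaFil (hA : IsSpecial A) (ε : A →+* K) (m : ℕ) :
    IsLambdaIdeal (gammaFil ε m) := by
  intro j hj f hf
  suffices h : ∀ a : A, a * f ∈ lamStable (gammaFil ε m) by simpa using h 1 j hj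
  unfold gammaFil at hf
  induction hf using Submodule.span_induction with
  | mem g hg =>
    obtain ⟨l, hl, hm, rfl⟩ := hg
    intro a
    apply mul_mem_lamStable hA
    intro k hk
    exact (mulFil_gammaFil ε).anti _ _ hm (prod_gamma_lamStable hA ε l hl k hk)
  | zero =>
    intro a
    rw [mul_zero]
    exact lamStable_zero _
  | add x y _ _ hx hy =>
    intro a
    rw [mul_add]
    exact lamStable_add _ (hx a) (hy a)
  | smul b x _ hx =>
    intro a
    rw [smul_eq_mul, ← mul_assoc]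
    exact hx (a * b)

end general

section cong

variable {K : Type u} [CommRing K] {A : Type v} [CommRing A] [LambdaOps A]

theorem lamConst_mul (a b j : ℕ) (ha : 1 ≤ a) (hb : 1 ≤ b) :
    lamConst 2 j * lamConst a j * lamConst b j = lamConst (a + b) j := by
  obtain ⟨a', rfl⟩ : ∃ a', a = a' + 1 := ⟨a - 1, by omega⟩
  obtain ⟨b', rfl⟩ : ∃ b', b = b' + 1 := ⟨b - 1, by omega⟩
  have hs : ((-1 : ℤ) ^ (j - 1)) * ((-1 : ℤ) ^ (j - 1)) = 1 := by
    rw [← pow_add, ← two_mul, pow_mul]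
    simp
  simp only [lamConst, Nat.add_sub_cancel, show a' + 1 + (b' + 1) - 1 = a' + b' + 1 by omega,
    show 2 - 1 = 1 by rfl]
  linear_combination ((-1 : ℤ) ^ (j - 1) * (j : ℤ) ^ (a' + b' + 1)) * hs

/-- the congruence for a product -/
theorem lamCong_mul (hA : IsSpecial A) (ε : A →+* K) {a b : ℕ} (ha : 1 ≤ a) (hb : 1 ≤ b)
    {y z : A} (hy : y ∈ lamCong (gammaFil ε a) (gammaFil ε (a + 1)) (lamConst a))
    (hz : z ∈ lamCong (gammaFil ε b) (gammaFil ε (b + 1)) (lamConst b)) :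
    y * z ∈ lamCong (gammaFil ε (a + b)) (gammaFil ε (a + b + 1)) (lamConst (a + b)) := by
  have hF := mulFil_gammaFil ε
  refine ⟨hF.mul_mem _ _ _ _ hy.1 hz.1, fun j hj => ?_⟩
  obtain ⟨P, hP⟩ := exists_isMulPoly j
  have h1 := aeval_isobaric_two hF hj P hP.2 ha hb
    (fun k : Fin j => LambdaOps.lam ((k : ℕ) + 1) y)
    (fun k : Fin j => LambdaOps.lam ((k : ℕ) + 1) z)
    (fun k => isLambdaIdeal_gammaFil hA ε a _ (by omega) y hy.1)
    (fun k => isLambdaIdeal_gammaFil hA ε b _ (by omega) z hz.1)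
  rw [← hA.lam_mul j P hP y z, coeff_m0_mulPoly j hj P hP] at h1
  simp only [Nat.sub_add_cancel hj] at h1
  have h2 : (LambdaOps.lam j y - ((lamConst a j : ℤ) : A) * y) * LambdaOps.lam j z ∈
      gammaFil ε (a + b + 1) := by
    have := hF.mul_mem _ _ _ _ (hy.2 j hj) (isLambdaIdeal_gammaFil hA ε b j hj z hz.1)
    rwa [show a + 1 + b = a + b + 1 by ring] at this
  have h3 : y * (LambdaOps.lam j z - ((lamConst b j : ℤ) : A) * z) ∈ gammaFil ε (a + b + 1) := by
    have := hF.mul_mem _ _ _ _ hy.1 (hz.2 j hj)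
    rwa [← add_assoc] at this
  have e : LambdaOps.lam j (y * z) - ((lamConst (a + b) j : ℤ) : A) * (y * z) =
      (LambdaOps.lam j (y * z) - ((lamConst 2 j : ℤ) : A) *
        (LambdaOps.lam j y * LambdaOps.lam j z)) +
      ((lamConst 2 j : ℤ) : A) * ((LambdaOps.lam j y - ((lamConst a j : ℤ) : A) * y) *
        LambdaOps.lam j z) +
      ((lamConst 2 j : ℤ) : A) * ((lamConst a j : ℤ) : A) *
        (y * (LambdaOps.lam j z - ((lamConst b j : ℤ) : A) * z)) := by
    rw [← lamConst_mul a b j ha hb]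
    push_cast
    ring
  rw [e]
  exact add_mem (add_mem h1 (Ideal.mul_mem_left _ _ h2)) (Ideal.mul_mem_left _ _ h3)

theorem prod_gamma_eq_one (l : List (ℕ × A)) (h : (l.map Prod.fst).sum = 0) :
    (l.map fun p => gamma p.1 p.2).prod = 1 := by
  induction l with
  | nil => simp
  | cons p l ih =>
    simp only [List.map_cons, List.sum_cons] at h
    simp only [List.map_cons, List.prod_cons]
    rw [ih (by omega), show p.1 = 0 by omega, gamma_zero, mul_one]

theorem prod_gamma_lamCong (hA : IsSpecial A) (ε : A →+* K) (l : List (ℕ × A))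
    (hl : ∀ p ∈ l, ε p.2 = 0) (hs : 1 ≤ (l.map Prod.fst).sum) :
    (l.map fun p => gamma p.1 p.2).prod ∈
      lamCong (gammaFil ε (l.map Prod.fst).sum) (gammaFil ε ((l.map Prod.fst).sum + 1))
        (lamConst (l.map Prod.fst).sum) := by
  induction l with
  | nil => simp at hs
  | cons p l ih =>
    have hl' : ∀ q ∈ l, ε q.2 = 0 := fun q hq => hl q (List.mem_cons_of_mem _ hq)
    have hp : ε p.2 = 0 := hl p List.mem_cons_self
    simp only [List.map_cons, List.prod_cons, List.sum_cons] at hs ⊢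
    by_cases hi : p.1 = 0
    · rw [hi, gamma_zero, one_mul, zero_add]
      exact ih hl' (by omega)
    · have hy : gamma p.1 p.2 ∈ lamCong (gammaFil ε p.1) (gammaFil ε (p.1 + 1)) (lamConst p.1) :=
        ⟨gamma_mem_gammaFil ε hp p.1, fun j hj => lam_gamma_cong hA ε hp p.1 j (by omega) hj⟩
      by_cases hs' : (l.map Prod.fst).sum = 0
      · rw [prod_gamma_eq_one l hs', mul_one, hs', add_zero]
        exact hy
      · exact lamCong_mul hA ε (by omega) (by omega) hy (ih hl' (by omega))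

theorem mem_lamCong_of_mem_succ (hA : IsSpecial A) (ε : A →+* K) (m : ℕ) (c : ℕ → ℤ) {f : A}
    (hf : f ∈ gammaFil ε (m + 1)) : f ∈ lamCong (gammaFil ε m) (gammaFil ε (m + 1)) c :=
  ⟨(mulFil_gammaFil ε).anti _ _ (by omega) hf, fun j hj =>
    sub_mem (isLambdaIdeal_gammaFil hA ε (m + 1) j hj f hf) (Ideal.mul_mem_left _ _ hf)⟩

end cong

end Groth.Agent.H43
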