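import Mathlib

set_option autoImplicit false
universe u

namespace Groth.Agent.H43.FunTopos

open CategoryTheory Opposite Limits CategoryTheory.Prod

variable {C : Type u} [SmallCategory C] (J : GrothendieckTopology C) (D : Type u) [SmallCategory D]

/-- the slice of a sieve on `(d, U)` along the identity of `d` -/
def slice {X : Dᵒᵖ × C} (S : Sieve X) : Sieve X.2 where
  arrows V g := S.arrows ((𝟙 X.1 ×ₘ g : (X.1, V) ⟶ X))
  downward_closed := by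
    intro V W g hg h
    have : ((𝟙 X.1 ×ₘ (h ≫ g) : (X.1, W) ⟶ X)) = (𝟙 X.1 ×ₘ h : (X.1, W) ⟶ (X.1, V)) ≫
        (𝟙 X.1 ×ₘ g : (X.1, V) ⟶ X) := by
      apply Prod.hom_ext
      · simp
      · simp
    rw [this]
    exact S.downward_closed hg _

variable {D}

theorem slice_apply {X : Dᵒᵖ × C} (S : Sieve X) {V : C} (g : V ⟶ X.2) :
    (slice D S).arrows g ↔ S.arrows ((𝟙 X.1 ×ₘ g : (X.1, V) ⟶ X)) := Iff.rfl

variable (D)

/-- the topology on `Dᵒᵖ × C` induced from `J` -/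
def prodTop : GrothendieckTopology (Dᵒᵖ × C) where
  sieves X := {S | slice D S ∈ J X.2}
  top_mem' X := by
    change slice D ⊤ ∈ J X.2
    have : slice D (⊤ : Sieve X) = ⊤ := by
      ext V g
      simp [slice_apply]
    rw [this]
    exact J.top_mem _
  pullback_stable' := by
    intro X Y S f hS
    change slice D (S.pullback f) ∈ J Y.2
    refine J.superset_covering ?_ (J.pullback_stable f.2 hS)
    intro V g hg
    rw [slice_apply]
    change S.arrows _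
    rw [Sieve.pullback_apply, slice_apply] at hg
    have : (𝟙 Y.1 ×ₘ g : (Y.1, V) ⟶ Y) ≫ f = (f.1 ×ₘ 𝟙 V : (Y.1, V) ⟶ (X.1, V)) ≫
        (𝟙 X.1 ×ₘ (g ≫ f.2) : (X.1, V) ⟶ X) := by
      apply Prod.hom_ext
      · simp
      · simp
    rw [this]
    exact S.downward_closed hg _
  transitive' := by
    intro X S hS R hR
    change slice D R ∈ J X.2
    refine J.transitive hS _ ?_
    intro V g hg
    have h1 : slice D (R.pullback (𝟙 X.1 ×ₘ g : (X.1, V) ⟶ X)) ∈ J V := hR hg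
    refine J.superset_covering ?_ h1
    intro W k hk
    rw [slice_apply, Sieve.pullback_apply] at hk
    rw [Sieve.pullback_apply, slice_apply]
    have : (𝟙 X.1 ×ₘ (k ≫ g) : (X.1, W) ⟶ X) = (𝟙 X.1 ×ₘ k : (X.1, W) ⟶ (X.1, V)) ≫
        (𝟙 X.1 ×ₘ g : (X.1, V) ⟶ X) := by
      apply Prod.hom_ext
      · simp
      · simp
    rw [this]
    exact hk

theorem mem_prodTop {X : Dᵒᵖ × C} (S : Sieve X) : S ∈ prodTop J D X ↔ slice D S ∈ J X.2 := Iff.rfl

variable {J D}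

/-- restriction of a presheaf on `Dᵒᵖ × C` to `{d} × C` -/
abbrev res (P : (Dᵒᵖ × C)ᵒᵖ ⥤ Type u) (d : Dᵒᵖ) : Cᵒᵖ ⥤ Type u := (Prod.sectR d C).op ⋙ P

theorem res_map (P : (Dᵒᵖ × C)ᵒᵖ ⥤ Type u) (d : Dᵒᵖ) {U V : C} (g : V ⟶ U) (y : P.obj (op (d, U))) :
    (res P d).map g.op y = P.map (𝟙 d ×ₘ g : (d, V) ⟶ (d, U)).op y := rfl

theorem map_map_apply (P : (Dᵒᵖ × C)ᵒᵖ ⥤ Type u) {X Y Z : Dᵒᵖ × C} (f : X ⟶ Y) (g : Y ⟶ Z)
    (y : P.obj (op Z)) : P.map f.op (P.map g.op y) = P.map (f ≫ g).op y := by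
  rw [op_comp, Functor.map_comp_apply]

/-- the sieve on `(d, U)` of arrows whose second component lies in `T` -/
def liftSieve (d : Dᵒᵖ) {U : C} (T : Sieve U) : Sieve ((d, U) : Dᵒᵖ × C) where
  arrows Y f := T.arrows f.2
  downward_closed := fun {Y Z f} hf g => T.downward_closed hf g.2

theorem isSheaf_res (P : (Dᵒᵖ × C)ᵒᵖ ⥤ Type u) (hP : Presieve.IsSheaf (prodTop J D) P) (d : Dᵒᵖ) :
    Presieve.IsSheaf J (res P d) := by
  intro U T hT
  -- the sieve on `(d, U)` of arrows whose second component lies in `T`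
  let S : Sieve ((d, U) : Dᵒᵖ × C) := liftSieve d T
  have hS : S ∈ prodTop J D (d, U) := by
    rw [mem_prodTop]
    have : slice D S = T := by
      ext V g
      rfl
    rw [this]
    exact hT
  have hPS := hP S hS
  intro x hx
  rw [Presieve.compatible_iff_sieveCompatible] at hx
  -- the induced family on `S`
  let x' : Presieve.FamilyOfElements P S.arrows := fun Y f hf =>
    P.map (f.1 ×ₘ 𝟙 Y.2 : Y ⟶ (d, Y.2)).op (x f.2 hf)
  have hx' : x'.Compatible := by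
    rw [Presieve.compatible_iff_sieveCompatible]
    intro Y Z f g hf
    change P.map ((g ≫ f).1 ×ₘ 𝟙 Z.2 : Z ⟶ (d, Z.2)).op (x (g ≫ f).2 _) =
      P.map g.op (P.map (f.1 ×ₘ 𝟙 Y.2 : Y ⟶ (d, Y.2)).op (x f.2 hf))
    have h1 : x (g ≫ f).2 (S.downward_closed hf g) = (res P d).map g.2.op (x f.2 hf) :=
      hx f.2 g.2 hf
    rw [h1]
    have e1 := map_map_apply P ((g ≫ f).1 ×ₘ 𝟙 Z.2 : Z ⟶ (d, Z.2))
      (𝟙 d ×ₘ g.2 : (d, Z.2) ⟶ (d, Y.2)) (x f.2 hf)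
    have e2 := map_map_apply P g (f.1 ×ₘ 𝟙 Y.2 : Y ⟶ (d, Y.2)) (x f.2 hf)
    have e3 : ((g ≫ f).1 ×ₘ 𝟙 Z.2 : Z ⟶ (d, Z.2)) ≫ (𝟙 d ×ₘ g.2 : (d, Z.2) ⟶ (d, Y.2)) =
        g ≫ (f.1 ×ₘ 𝟙 Y.2 : Y ⟶ (d, Y.2)) := by
      apply Prod.hom_ext
      · simp
      · simp
    rw [e3] at e1
    exact e1.trans e2.symm
  obtain ⟨y, hy, hyu⟩ := hPS x' hx'
  refine ⟨y, ?_, ?_⟩
  · intro V g hg
    have := hy (𝟙 d ×ₘ g : (d, V) ⟶ (d, U)) hg
    change P.map (𝟙 d ×ₘ g : (d, V) ⟶ (d, U)).op y = x g hg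
    rw [this]
    change P.map (𝟙 d ×ₘ 𝟙 V : (d, V) ⟶ (d, V)).op (x g hg) = x g hg
    have : (𝟙 d ×ₘ 𝟙 V : (d, V) ⟶ (d, V)) = 𝟙 _ := rfl
    rw [this, op_id, P.map_id]
    rfl
  · intro y' hy'
    apply hyu
    intro Y f hf
    have h1 : f = (f.1 ×ₘ 𝟙 Y.2 : Y ⟶ (d, Y.2)) ≫ (𝟙 d ×ₘ f.2 : (d, Y.2) ⟶ (d, U)) := by
      apply Prod.hom_ext
      · simp
      · simp
    have h2 : P.map (𝟙 d ×ₘ f.2 : (d, Y.2) ⟶ (d, U)).op y' = x f.2 hf := hy' f.2 hf
    change P.map f.op y' = P.map (f.1 ×ₘ 𝟙 Y.2 : Y ⟶ (d, Y.2)).op (x f.2 hf)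
    have e1 := map_map_apply P (f.1 ×ₘ 𝟙 Y.2 : Y ⟶ (d, Y.2)) (𝟙 d ×ₘ f.2 : (d, Y.2) ⟶ (d, U)) y'
    rw [← h1] at e1
    rw [← h2]
    exact e1.symm

theorem fam_congr {X : Dᵒᵖ × C} {P : (Dᵒᵖ × C)ᵒᵖ ⥤ Type u} {R : Presieve X}
    (x : Presieve.FamilyOfElements P R) {Y : Dᵒᵖ × C} {f f' : Y ⟶ X} (h : f = f') (hf : R f)
    (hf' : R f') : x f hf = x f' hf' := by
  subst h
  rfl

theorem isSheaf_of_res (P : (Dᵒᵖ × C)ᵒᵖ ⥤ Type u) (h : ∀ d, Presieve.IsSheaf J (res P d)) :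
    Presieve.IsSheaf (prodTop J D) P := by
  intro X S hS
  rw [mem_prodTop] at hS
  intro x hx
  rw [Presieve.compatible_iff_sieveCompatible] at hx
  let x'' : Presieve.FamilyOfElements (res P X.1) (slice D S).arrows := fun V g hg =>
    x (𝟙 X.1 ×ₘ g : (X.1, V) ⟶ X) hg
  have hx'' : x''.Compatible := by
    rw [Presieve.compatible_iff_sieveCompatible]
    intro V W g k hg
    have h1 := hx (𝟙 X.1 ×ₘ g : (X.1, V) ⟶ X) (𝟙 X.1 ×ₘ k : (X.1, W) ⟶ (X.1, V)) hg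
    have h2 : (𝟙 X.1 ×ₘ (k ≫ g) : (X.1, W) ⟶ X) =
        (𝟙 X.1 ×ₘ k : (X.1, W) ⟶ (X.1, V)) ≫ (𝟙 X.1 ×ₘ g : (X.1, V) ⟶ X) := by
      apply Prod.hom_ext
      · simp
      · simp
    exact (fam_congr x h2 _ _).trans h1
  obtain ⟨y, hy, hyu⟩ := h X.1 (slice D S) hS x'' hx''
  refine ⟨y, ?_, ?_⟩
  · intro Y f hf
    have hcov : (slice D S).pullback f.2 ∈ J Y.2 := J.pullback_stable f.2 hS
    have hsep := (h Y.1 _ hcov).isSeparatedFor
    refine hsep (fun W k _ => (res P Y.1).map k.op (x f hf)) _ _ ?_ ?_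
    · intro W k hk
      have hk' : S.arrows (𝟙 X.1 ×ₘ (k ≫ f.2) : (X.1, W) ⟶ X) := hk
      have e0 : (𝟙 Y.1 ×ₘ k : (Y.1, W) ⟶ Y) ≫ f =
          (f.1 ×ₘ 𝟙 W : (Y.1, W) ⟶ (X.1, W)) ≫ (𝟙 X.1 ×ₘ (k ≫ f.2) : (X.1, W) ⟶ X) := by
        apply Prod.hom_ext
        · simp
        · simp
      have e1 := map_map_apply P (𝟙 Y.1 ×ₘ k : (Y.1, W) ⟶ Y) f y
      have e2 := map_map_apply P (f.1 ×ₘ 𝟙 W : (Y.1, W) ⟶ (X.1, W))
        (𝟙 X.1 ×ₘ (k ≫ f.2) : (X.1, W) ⟶ X) y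
      have e3 : P.map (𝟙 X.1 ×ₘ (k ≫ f.2) : (X.1, W) ⟶ X).op y =
          x (𝟙 X.1 ×ₘ (k ≫ f.2) : (X.1, W) ⟶ X) hk' := hy (k ≫ f.2) hk
      have e4 := hx (𝟙 X.1 ×ₘ (k ≫ f.2) : (X.1, W) ⟶ X)
        (f.1 ×ₘ 𝟙 W : (Y.1, W) ⟶ (X.1, W)) hk'
      have e5 := hx f (𝟙 Y.1 ×ₘ k : (Y.1, W) ⟶ Y) hf
      have e6 := fam_congr x e0 (S.downward_closed hf _) (S.downward_closed hk' _)
      change P.map (𝟙 Y.1 ×ₘ k : (Y.1, W) ⟶ Y).op (P.map f.op y) =
        P.map (𝟙 Y.1 ×ₘ k : (Y.1, W) ⟶ Y).op (x f hf)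
      rw [e1, e0, ← e2, e3, ← e4, ← e6, e5]
    · intro W k hk
      rfl
  · intro y' hy'
    apply hyu
    intro V g hg
    exact hy' (𝟙 X.1 ×ₘ g : (X.1, V) ⟶ X) hg

theorem isSheaf_iff_res (P : (Dᵒᵖ × C)ᵒᵖ ⥤ Type u) :
    Presieve.IsSheaf (prodTop J D) P ↔ ∀ d, Presieve.IsSheaf J (res P d) :=
  ⟨fun h d => isSheaf_res P h d, isSheaf_of_res P⟩

section general

universe v₁ u₁ v₂ u₂

variable {B : Type u₁} [Category.{v₁} B] (Q : ObjectProperty B) (K : Type u₂) [Category.{v₂} K]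

/-- functors all of whose values satisfy `Q` -/
def valuedIn : ObjectProperty (K ⥤ B) := fun F => ∀ d, Q (F.obj d)

instance [Q.IsClosedUnderIsomorphisms] : (valuedIn Q K).IsClosedUnderIsomorphisms where
  of_iso e h d := Q.prop_of_iso ((evaluation K B).obj d |>.mapIso e) (h d)

/-- functors into a full subcategory, as a full subcategory of the functor category -/
def toValued : (K ⥤ Q.FullSubcategory) ⥤ (valuedIn Q K).FullSubcategory :=
  (valuedIn Q K).lift ((Functor.whiskeringRight K _ _).obj Q.ι) (fun F d => (F.obj d).property)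

instance : (toValued Q K).Full := by
  unfold toValued
  have : ((Functor.whiskeringRight K _ _).obj Q.ι).Full := inferInstance
  exact ObjectProperty.instFullFullSubcategoryLift _ _ _

instance : (toValued Q K).Faithful := by
  unfold toValued
  have : ((Functor.whiskeringRight K _ _).obj Q.ι).Faithful := inferInstance
  exact ObjectProperty.instFaithfulFullSubcategoryLift _ _ _

instance : (toValued Q K).EssSurj where
  mem_essImage := fun ⟨F, hF⟩ =>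
    ⟨Q.lift F hF, ⟨ObjectProperty.isoMk _ (Q.liftCompιIso F hF)⟩⟩

instance : (toValued Q K).IsEquivalence where

/-- the equivalence `(K ⥤ Q.FullSubcategory) ≌ (valuedIn Q K).FullSubcategory` -/
noncomputable def valuedEquiv : (K ⥤ Q.FullSubcategory) ≌ (valuedIn Q K).FullSubcategory :=
  (toValued Q K).asEquivalence

end general

variable (J D)

variable (C) in
/-- the site-level equivalence -/
def eSite : (Dᵒᵖ × C)ᵒᵖ ≌ D × Cᵒᵖ :=
  (prodOpEquiv Dᵒᵖ).trans ((opOpEquivalence D).prod (CategoryTheory.Equivalence.refl (C := Cᵒᵖ)))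

variable (C) in
/-- presheaves on the product vs functors to presheaves -/
def ePsh : ((Dᵒᵖ × C)ᵒᵖ ⥤ Type u) ≌ (D ⥤ Cᵒᵖ ⥤ Type u) :=
  (eSite C D).congrLeft.trans Functor.currying.symm

def ePshObjIso (P : (Dᵒᵖ × C)ᵒᵖ ⥤ Type u) (d : D) :
    ((ePsh C D).functor.obj P).obj d ≅ res P (op d) :=
  NatIso.ofComponents (fun _ => Iso.refl _) (by
    intro X Y f
    refine (Category.comp_id _).trans (Eq.trans ?_ (Category.id_comp _).symm)
    change P.map _ = P.map _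
    congr 1)


theorem inverseImage_eq :
    (valuedIn (Presheaf.IsSheaf J (A := Type u)) D).inverseImage (ePsh C D).functor =
      Presheaf.IsSheaf (prodTop J D) := by
  ext P
  change (∀ d, Presheaf.IsSheaf J (((ePsh C D).functor.obj P).obj d)) ↔ _
  rw [isSheaf_iff_isSheaf_of_type, isSheaf_iff_res]
  constructor
  · intro h d
    have := h d.unop
    rw [Presheaf.isSheaf_of_iso_iff (ePshObjIso D P d.unop), isSheaf_iff_isSheaf_of_type] at this
    exact this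
  · intro h d
    rw [Presheaf.isSheaf_of_iso_iff (ePshObjIso D P d), isSheaf_iff_isSheaf_of_type]
    exact h (op d)

instance : ObjectProperty.IsClosedUnderIsomorphisms (Presheaf.IsSheaf J (A := Type u)) where
  of_iso e h := (Presheaf.isSheaf_of_iso_iff e).1 h

/-- sheaves on the product site -/
noncomputable def sheafEquiv :
    Sheaf (prodTop J D) (Type u) ≌ (valuedIn (Presheaf.IsSheaf J (A := Type u)) D).FullSubcategory :=
  (ePsh C D).congrFullSubcategory (inverseImage_eq J D)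

/-- functors into sheaves are sheaves on the product site -/
noncomputable def funSheafEquiv : (D ⥤ Sheaf J (Type u)) ≌ Sheaf (prodTop J D) (Type u) :=
  (valuedEquiv (Presheaf.IsSheaf J (A := Type u)) D).trans (sheafEquiv J D).symm


end Groth.Agent.H43.FunTopos
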