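import Groth.Agent.H43.Gamma

set_option autoImplicit false
universe u v

namespace Groth.Agent.H43

open LambdaRing Finset PowerSeries

section basic

variable {A : Type v} [CommRing A] [LambdaOps A]

theorem gamma_one (x : A) : gamma 1 x = x := by
  rw [gamma_succ]; simp [LambdaOps.lam_one]

theorem gamma_zero_arg (i : ℕ) : gamma i (0 : A) = if i = 0 then 1 else 0 := by
  rw [← coeff_gammaSeries, gammaSeries_zero, coeff_one]

/-- recursion for `γ^i(-u)` -/
theorem gamma_neg_rec (i : ℕ) (u : A) :
    gamma (i + 1) (-u) = - ∑ p ∈ antidiagonal (i + 1) with p.1 ≠ 0, gamma p.1 u * gamma p.2 (-u) := by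
  have h := gamma_add (i + 1) u (-u)
  rw [add_neg_cancel, gamma_zero_arg, if_neg (Nat.succ_ne_zero i),
    ← Finset.sum_filter_add_sum_filter_not _ (fun p : ℕ × ℕ => p.1 ≠ 0)] at h
  have h2 : ∑ p ∈ antidiagonal (i + 1) with ¬ p.1 ≠ 0, gamma p.1 u * gamma p.2 (-u) =
      gamma (i + 1) (-u) := by
    rw [Finset.sum_eq_single (0, i + 1)]
    · simp [gamma_zero]
    · intro p hp hne
      rw [Finset.mem_filter, Finset.mem_antidiagonal] at hp
      exfalso
      apply hne
      have : p.1 = 0 := by simpa using hp.2
      ext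
      · exact this
      · simp only; omega
    · intro hn
      exfalso
      apply hn
      rw [Finset.mem_filter, Finset.mem_antidiagonal]
      simp
  rw [h2] at h
  rw [eq_neg_iff_add_eq_zero, add_comm]
  exact h.symm

end basic

section gen

variable {K : Type u} [CommRing K] {A : Type v} [CommRing A] [LambdaOps A] [Algebra K A]

/-- a decreasing multiplicative family of submodules -/
structure MulFil (M : ℕ → Submodule K A) : Prop where
  one_mem : (1 : A) ∈ M 0
  mul_mem : ∀ a b y z, y ∈ M a → z ∈ M b → y * z ∈ M (a + b)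
  anti : ∀ a b, b ≤ a → M a ≤ M b

/-- the elements all of whose `γ^i` lie in the `i`-th step -/
def gammaGood (M : ℕ → Submodule K A) : Set A := {u | ∀ i, gamma i u ∈ M i}

theorem gammaGood_zero {M : ℕ → Submodule K A} (hM : MulFil M) : (0 : A) ∈ gammaGood M := by
  intro i
  rw [gamma_zero_arg]
  split_ifs with h
  · subst h; exact hM.one_mem
  · exact zero_mem _

theorem gammaGood_add {M : ℕ → Submodule K A} (hM : MulFil M) {u v : A}
    (hu : u ∈ gammaGood M) (hv : v ∈ gammaGood M) : u + v ∈ gammaGood M := by
  intro i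
  rw [gamma_add]
  refine Submodule.sum_mem _ fun p hp => ?_
  rw [Finset.mem_antidiagonal] at hp
  rw [← hp]
  exact hM.mul_mem _ _ _ _ (hu p.1) (hv p.2)

theorem gammaGood_neg {M : ℕ → Submodule K A} (hM : MulFil M) {u : A}
    (hu : u ∈ gammaGood M) : -u ∈ gammaGood M := by
  intro i
  induction i using Nat.strong_induction_on with
  | _ i ih =>
    match i with
    | 0 => rw [gamma_zero]; exact hM.one_mem
    | (i + 1) =>
      rw [gamma_neg_rec]
      refine Submodule.neg_mem _ (Submodule.sum_mem _ fun p hp => ?_)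
      rw [Finset.mem_filter, Finset.mem_antidiagonal] at hp
      rw [← hp.1]
      exact hM.mul_mem _ _ _ _ (hu p.1) (ih p.2 (by have := hp.2; omega))

/-- the additive subgroup of good elements -/
def gammaGoodSubgroup {M : ℕ → Submodule K A} (hM : MulFil M) : AddSubgroup A where
  carrier := gammaGood M
  zero_mem' := gammaGood_zero hM
  add_mem' := gammaGood_add hM
  neg_mem' := gammaGood_neg hM

theorem prod_gamma_mem {M : ℕ → Submodule K A} (hM : MulFil M) (l : List (ℕ × A))
    (hl : ∀ p ∈ l, p.2 ∈ gammaGood M) :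
    (l.map fun p => gamma p.1 p.2).prod ∈ M (l.map Prod.fst).sum := by
  induction l with
  | nil => simpa using hM.one_mem
  | cons p l ih =>
    simp only [List.map_cons, List.prod_cons, List.sum_cons]
    exact hM.mul_mem _ _ _ _ (hl p (List.mem_cons_self) p.1)
      (ih fun q hq => hl q (List.mem_cons_of_mem _ hq))

end gen

end Groth.Agent.H43
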