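import Groth.Agent.H43.LineDeg
import Groth.Agent.H43.BinomScalar

set_option autoImplicit false
universe u v

namespace Groth.Agent.H43

open LambdaRing MvPolynomial Finset

section basic

theorem map_gamma {A : Type*} {B : Type*} [CommRing A] [LambdaOps A] [CommRing B] [LambdaOps B]
    (f : A →+* B) (hf : ∀ (n : ℕ) (a : A), f (LambdaOps.lam n a) = LambdaOps.lam n (f a))
    (k : ℕ) (a : A) : f (gamma k a) = gamma k (f a) := by
  unfold gamma
  split_ifs with hk
  · exact map_one f
  · rw [map_sum]
    refine Finset.sum_congr rfl fun j _ => ?_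
    rw [map_mul, map_natCast]
    congr 1
    split_ifs
    · exact map_zero f
    · exact hf j a

variable {R : Type*} [CommRing R] [LambdaOps R]

/-- if `γ^k(x) = 0` for `k > n` then `λ^k(x + n) = 0` for `k > n` -/
theorem lam_add_natCast_eq_zero (h1 : ∀ k : ℕ, 2 ≤ k → LambdaOps.lam k (1 : R) = 0) (n : ℕ) (x : R)
    (hx : ∀ k : ℕ, n < k → gamma k x = 0) (k : ℕ) (hk : n < k) :
    LambdaOps.lam k (x + (n : R)) = 0 := by
  have key : ∀ d m k : ℕ, n ≤ m → m + 1 + d = k → LambdaOps.lam k (x + (m : R)) = 0 := by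
    intro d
    induction d with
    | zero =>
      intro m k hm hk
      have := gamma_eq_lam h1 (m + 1) x
      rw [hx (m + 1) (by omega)] at this
      have e : x + ((m + 1 : ℕ) : R) - 1 = x + (m : R) := by push_cast; ring
      rw [e] at this
      rw [← hk, add_zero]
      exact this.symm
    | succ d ih =>
      intro m k hm hk
      obtain ⟨k', rfl⟩ : ∃ k', k = k' + 1 := ⟨k - 1, by omega⟩
      have h := lam_succ_eq h1 k' (x + ((m + 1 : ℕ) : R))
      have e : x + ((m + 1 : ℕ) : R) - 1 = x + (m : R) := by push_cast; ring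
      rw [e, ih (m + 1) (k' + 1) (by omega) (by omega), ih m k' hm (by omega), add_zero] at h
      exact h.symm
  exact key (k - n - 1) n k le_rfl (by omega)

end basic

section rep

theorem gamma_rep (n : ℕ) (G : MvPolynomial (Fin n) ℤ) :
    ∃ G'' : ℕ → MvPolynomial (Fin n) ℤ, ∀ (R : Type v) [CommRing R] [LambdaOps R], IsSpecial R →
      ∀ N : R, (∀ i : ℕ, n < i → LambdaOps.lam i N = 0) →
        ∀ k : ℕ, gamma k (evalLam1 N n G) = evalLam1 N n (G'' k) := by
  choose G' hG' using rep_all.{v} G
  refine ⟨fun k => if k = 0 then 1 else ∑ j ∈ range (k + 1),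
    C ((Nat.choose (k - 1) (j - 1) : ℕ) : ℤ) * (if j = 0 then 0 else G' j), ?_⟩
  intro R _ _ hR N hN k
  unfold gamma
  beta_reduce
  by_cases hk : k = 0
  · rw [if_pos hk, if_pos hk, map_one]
  · rw [if_neg hk, if_neg hk, map_sum]
    refine Finset.sum_congr rfl fun j _ => ?_
    rw [map_mul]
    congr 1
    · simp [evalLam1]
    · split_ifs
      · exact (map_zero _).symm
      · exact hG' j R hR N hN

/-- the polynomial representing `N - n` -/
noncomputable def subPoly (n : ℕ) : MvPolynomial (Fin n) ℤ :=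
  (if h : 0 < n then X ⟨0, h⟩ else 0) - C (n : ℤ)

theorem evalLam1_subPoly {R : Type*} [CommRing R] [LambdaOps R] (n : ℕ) (N : R)
    (hN : ∀ i : ℕ, n < i → LambdaOps.lam i N = 0) : evalLam1 N n (subPoly n) = N - (n : R) := by
  rw [subPoly, map_sub]
  congr 1
  · split_ifs with h
    · simp [evalLam1, LambdaOps.lam_one]
    · have h0 : n = 0 := by omega
      have := hN 1 (by omega)
      rw [LambdaOps.lam_one] at this
      rw [map_zero, this]
  · simp [evalLam1]

end rep

section main

attribute [local instance] lineLambdaOps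

theorem eval_one_shiftDown_esymm (σ : Type u) [Fintype σ] (k : ℕ) :
    eval (fun _ => (1 : ℤ)) (shiftDown σ (esymm σ ℤ (k + 1))) = 0 := by
  classical
  rw [shiftDown_esymm, map_sum]
  refine Finset.sum_eq_zero fun t ht => ?_
  rw [Finset.mem_powersetCard] at ht
  rw [map_prod]
  obtain ⟨a, ha⟩ : t.Nonempty := by rw [← Finset.card_pos]; omega
  exact Finset.prod_eq_zero ha (by simp)

/-- the universal expression of `γ^i` of a polynomial without constant term in the `γ^j(x)`, for
`x` with `γ^k(x) = 0` for `k > n`: all its monomials have weight at least `i` -/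
theorem exists_gamma_poly (n : ℕ) (G : MvPolynomial (Fin n) ℤ) (hG : constantCoeff G = 0) (i : ℕ) :
    ∃ H : MvPolynomial (Fin n) ℤ, (∀ m ∈ H.support, i ≤ ∑ k : Fin n, ((k : ℕ) + 1) * m k) ∧
      ∀ (R : Type v) [CommRing R] [LambdaOps R], IsSpecial R → ∀ x : R,
        (∀ k : ℕ, n < k → gamma k x = 0) →
        gamma i (aeval (fun j : Fin n => gamma ((j : ℕ) + 1) x) G) =
          aeval (fun j : Fin n => gamma ((j : ℕ) + 1) x) H := by
  obtain ⟨Γ, hΓ⟩ := gamma_rep.{v} n (subPoly n)
  set Gt : MvPolynomial (Fin n) ℤ := aeval (fun j : Fin n => Γ ((j : ℕ) + 1)) G with hGt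
  obtain ⟨Gt', hGt'⟩ := gamma_rep.{v} n Gt
  have hgen : ∀ (R : Type v) [CommRing R] [LambdaOps R], IsSpecial R → ∀ N : R,
      (∀ i : ℕ, n < i → LambdaOps.lam i N = 0) →
      (∀ k, gamma k (N - (n : R)) = evalLam1 N n (Γ k)) ∧
      (∀ F : MvPolynomial (Fin n) ℤ,
        aeval (fun j : Fin n => gamma ((j : ℕ) + 1) (N - (n : R))) F =
          evalLam1 N n (aeval (fun j : Fin n => Γ ((j : ℕ) + 1)) F)) := by
    intro R _ _ hR N hN
    have h1 : ∀ k, gamma k (N - (n : R)) = evalLam1 N n (Γ k) := by
      intro k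
      rw [← hΓ R hR N hN k, evalLam1_subPoly n N hN]
    refine ⟨h1, fun F => ?_⟩
    rw [comp_aeval_apply]
    congr 2
    funext j
    exact h1 _
  let σ := ULift.{v} (Fin n)
  have hcard : Fintype.card σ = n := by simp [σ]
  have hNL : ∀ i : ℕ, n < i → LambdaOps.lam i (lineN σ) = 0 :=
    fun i hi => lam_lineN_eq_zero i (by rw [hcard]; exact hi)
  obtain ⟨hL1, hL2⟩ := hgen (LineRing σ) isSpecial_line (lineN σ) hNL
  set z₀ : LineRing σ := evalLam1 (lineN σ) n Gt with hz₀def
  have hz₀form : z₀ = aeval (fun j : Fin n => gamma ((j : ℕ) + 1) (lineN σ - (n : LineRing σ))) G :=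
    (hL2 G).symm
  have hz₀ : eval (fun _ => (1 : ℤ)) z₀ = 0 := by
    rw [hz₀form, map_aeval]
    have : (fun j : Fin n => eval (fun _ => (1 : ℤ))
        (gamma ((j : ℕ) + 1) (lineN σ - (n : LineRing σ)))) = fun _ => 0 := by
      funext j
      rw [gamma_lineN_sub σ n hcard, eval_one_shiftDown_esymm]
    rw [this, eval₂Hom_zero'_apply, hG, map_zero]
  have hmem : gamma i z₀ ∈ lineFil σ i := line_good σ z₀ hz₀ i
  have hrep : gamma i z₀ = evalLam1 (lineN σ) n (Gt' i) :=
    hGt' (LineRing σ) isSpecial_line (lineN σ) hNL i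
  have hsymm : (gamma i z₀).IsSymmetric := by
    rw [hrep, evalLam1_lineN]
    exact (esymmAlgHom σ ℤ n (Gt' i)).2
  obtain ⟨H, hHw, hHeq⟩ := filtered_FT σ n hcard (gamma i z₀) hsymm i hmem
  have hHeq' : gamma i z₀ =
      evalLam1 (lineN σ) n (aeval (fun j : Fin n => Γ ((j : ℕ) + 1)) H) := by
    rw [← hL2 H, hHeq]
    congr 2
    funext j
    rw [gamma_lineN_sub σ n hcard]
  have hpoly : Gt' i = aeval (fun j : Fin n => Γ ((j : ℕ) + 1)) H := by
    apply esymmAlgHom_injective (σ := σ) ℤ (le_of_eq hcard.symm)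
    apply Subtype.ext
    rw [← evalLam1_lineN, ← evalLam1_lineN, ← hrep, hHeq']
  refine ⟨H, hHw, ?_⟩
  intro R _ _ hR x hx
  have hN := lam_add_natCast_eq_zero hR.lam_one_eq_zero n x hx
  obtain ⟨hR1, hR2⟩ := hgen R hR (x + (n : R)) hN
  rw [add_sub_cancel_right] at hR1 hR2
  rw [hR2 G, hR2 H, ← hGt, hGt' R hR _ hN i, hpoly]

end main

section final

variable {K : Type u} [CommRing K] [LambdaOps K] [BinomialRing K]
  {B : Type v} [CommRing B] [LambdaOps B] [Algebra K B]

theorem S8697_main (hKb : IsBinomial K) (hB : IsSpecial B) (ε : B →ₐ[K] K)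
    (hε : IsAugLambdaAlg K B ε) (n : ℕ) (x : B) (hx : ε x = 0)
    (hγ : ∀ k : ℕ, n < k → gamma k x = 0)
    (hgen : Algebra.adjoin K (Set.range fun j : Fin n => gamma ((j : ℕ) + 1) x) = ⊤) (k : ℕ) :
    gammaFil (ε : B →+* K) k = wtIdeal (fun j : Fin n => gamma ((j : ℕ) + 1) x) k := by
  classical
  set g : Fin n → B := fun j => gamma ((j : ℕ) + 1) x with hg
  have hW := mulFil_wtIdeal g
  have hεg : ∀ j : Fin n, ε (g j) = 0 := by
    intro j
    have := map_gamma (ε : B →+* K) (fun m a => hε.map_lam m a) ((j : ℕ) + 1) x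
    rw [RingHom.coe_coe, hx, gamma_zero_arg, if_neg (Nat.succ_ne_zero _)] at this
    exact this
  apply le_antisymm
  · apply gammaFil_le_of_good (ε : B →+* K) hW
    intro z hz
    have hmono : ∀ e : Fin n →₀ ℕ, e ≠ 0 →
        (e.prod fun j k => g j ^ k) ∈ gammaGood (K := B) (fun k => wtIdeal g k) := by
      intro e he i
      obtain ⟨H, hHw, hH⟩ := exists_gamma_poly.{v} n (monomial e (1 : ℤ))
        (by rw [constantCoeff_monomial, if_neg he]) i
      have hH' := hH B hB x hγ
      rw [aeval_monomial, map_one, one_mul] at hH'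
      rw [hH']
      exact aeval_mem_wtIdeal g i H hHw
    have key : ∀ p : MvPolynomial (Fin n) K,
        aeval g p - algebraMap K B (ε (aeval g p)) ∈ gammaGoodSubgroup hW := by
      intro p
      induction p using MvPolynomial.induction_on' with
      | monomial e c =>
        rw [aeval_monomial]
        by_cases he : e = 0
        · subst he
          rw [Finsupp.prod_zero_index, mul_one, AlgHom.commutes, Algebra.algebraMap_self_apply,
            sub_self]
          exact zero_mem _
        · have h0 : ε (e.prod fun j k => g j ^ k) = 0 := by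
            rw [map_finsuppProd]
            obtain ⟨j, hj⟩ := Finsupp.support_nonempty_iff.mpr he
            apply Finset.prod_eq_zero hj
            beta_reduce
            rw [map_pow, hεg, zero_pow (Finsupp.mem_support_iff.mp hj)]
          rw [map_mul, h0, mul_zero, map_zero, sub_zero]
          exact gammaGood_smul_binom hKb hB hε.isLambdaAlg hW c (hmono e he)
      | add p q hp hq =>
        have : aeval g (p + q) - algebraMap K B (ε (aeval g (p + q))) =
            (aeval g p - algebraMap K B (ε (aeval g p))) +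
              (aeval g q - algebraMap K B (ε (aeval g q))) := by
          rw [map_add, map_add, map_add]; ring
        rw [this]
        exact add_mem hp hq
    have hzmem : z ∈ (aeval g : MvPolynomial (Fin n) K →ₐ[K] B).range := by
      rw [← Algebra.adjoin_range_eq_range_aeval, hgen]
      trivial
    obtain ⟨p, rfl⟩ := hzmem
    have := key p
    have hz' : ε (aeval g p) = 0 := hz
    rwa [hz', map_zero, sub_zero] at this
  · unfold wtIdeal
    rw [Ideal.span_le]
    rintro m ⟨e, he, rfl⟩
    have hF := mulFil_gammaFil (ε : B →+* K)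
    refine hF.anti _ _ he ?_
    exact hF.prod_mem Finset.univ (fun j : Fin n => ((j : ℕ) + 1) * e j) (fun j => g j ^ e j)
      (fun j _ => hF.pow_mem (gamma_mem_gammaFil (ε : B →+* K) hx ((j : ℕ) + 1)) (e j))

end final

end Groth.Agent.H43
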