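import Mathlib.RingTheory.MvPolynomial.Symmetric.FundamentalTheorem
import Mathlib.Algebra.MvPolynomial.Equiv

set_option autoImplicit false
universe u

namespace Groth.Agent.H43

open MvPolynomial

section defs

variable (R : Type u) [CommRing R] (n m : ℕ)

/-- `X_k ↦ e_{k+1}(T_1..T_m)` -/
noncomputable def esymm1 : MvPolynomial (Fin n) R →ₐ[R] MvPolynomial (Fin m) R :=
  aeval fun k : Fin n => esymm (Fin m) R ((k : ℕ) + 1)

/-- `X_k ↦ e_{k+1}(T)`, `Y_k ↦ e_{k+1}(U)` -/
noncomputable def esymm2 : MvPolynomial (Fin n ⊕ Fin n) R →ₐ[R] MvPolynomial (Fin m ⊕ Fin m) R :=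
  aeval (Sum.elim (fun k : Fin n => rename Sum.inl (esymm (Fin m) R ((k : ℕ) + 1)))
    (fun k : Fin n => rename Sum.inr (esymm (Fin m) R ((k : ℕ) + 1))))

theorem esymm1_eq_esymmAlgHom (p : MvPolynomial (Fin n) R) :
    esymm1 R n m p = (esymmAlgHom (Fin m) R n p).val :=
  (esymmAlgHom_apply (σ := Fin m) (R := R) (n := n) p).symm

theorem esymm1_map_comm {S S' : Type*} [CommRing S] [CommRing S'] (ρ : S →+* S') (n m : ℕ)
    (G : MvPolynomial (Fin n) S) :
    esymm1 S' n m (map ρ G) = map ρ (esymm1 S n m G) := by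
  induction G using MvPolynomial.induction_on with
  | C r => simp only [esymm1, map_C, algHom_C, algebraMap_eq]
  | add p q hp hq => simp only [map_add, hp, hq]
  | mul_X p i hp =>
    rw [map_mul, map_mul, map_mul, map_mul, hp]
    congr 1
    simp only [esymm1, map_X, aeval_X, map_esymm]

theorem esymm1_injective {n m : ℕ} (h : n ≤ m) : Function.Injective (esymm1 R n m) := by
  intro p q hpq
  apply esymmAlgHom_fin_injective R h
  apply Subtype.ext
  rw [← esymm1_eq_esymmAlgHom, ← esymm1_eq_esymmAlgHom, hpq]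

theorem esymm1_isSymmetric (p : MvPolynomial (Fin n) R) : (esymm1 R n m p).IsSymmetric := by
  rw [esymm1_eq_esymmAlgHom]
  exact (esymmAlgHom (Fin m) R n p).2

theorem exists_esymm1_eq_of_isSymmetric {p : MvPolynomial (Fin n) R} (hp : p.IsSymmetric) :
    ∃ q : MvPolynomial (Fin n) R, esymm1 R n n q = p := by
  obtain ⟨q, hq⟩ := (esymmAlgHom_fin_bijective R n).2 ⟨p, hp⟩
  exact ⟨q, by rw [esymm1_eq_esymmAlgHom, hq]⟩

end defs

section decomp

variable (R : Type u) [CommRing R] (n m : ℕ)

theorem sumAlgEquiv_rename_inl_esymm (j : ℕ) :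
    sumAlgEquiv R (Fin m) (Fin m) (rename Sum.inl (esymm (Fin m) R j)) =
      esymm (Fin m) (MvPolynomial (Fin m) R) j := by
  simp only [esymm, map_sum, map_prod, rename_X, sumAlgEquiv_X_inl]

theorem sumAlgEquiv_rename_inr_esymm (j : ℕ) :
    sumAlgEquiv R (Fin m) (Fin m) (rename Sum.inr (esymm (Fin m) R j)) =
      C (esymm (Fin m) R j) := by
  simp only [esymm, map_sum, map_prod, rename_X, sumAlgEquiv_X_inr]

/-- the decomposition of `esymm2` through iterated polynomial rings -/
theorem esymm2_eq_comp (p : MvPolynomial (Fin n ⊕ Fin n) R) :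
    sumAlgEquiv R (Fin m) (Fin m) (esymm2 R n m p) =
      esymm1 (MvPolynomial (Fin m) R) n m
        (map (esymm1 R n m : MvPolynomial (Fin n) R →+* MvPolynomial (Fin m) R)
          (sumAlgEquiv R (Fin n) (Fin n) p)) := by
  induction p using MvPolynomial.induction_on with
  | C r =>
    simp only [algHom_C, algebraMap_eq, sumAlgEquiv_C_inl, map_C, RingHom.coe_coe]
  | add p q hp hq => simp only [map_add, hp, hq]
  | mul_X p i hp =>
    rw [map_mul, map_mul, map_mul, map_mul, map_mul, hp]
    congr 1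
    cases i with
    | inl k =>
      simp only [esymm2, aeval_X, Sum.elim_inl, sumAlgEquiv_X_inl, map_X, esymm1,
        sumAlgEquiv_rename_inl_esymm]
    | inr k =>
      simp only [esymm2, aeval_X, Sum.elim_inr, sumAlgEquiv_X_inr, map_C, esymm1,
        sumAlgEquiv_rename_inr_esymm, RingHom.coe_coe, algHom_C, algebraMap_eq]

end decomp

end Groth.Agent.H43

namespace Groth.Agent.H43

open MvPolynomial

section inj

variable (R : Type u) [CommRing R]

theorem esymm2_injective {n m : ℕ} (h : n ≤ m) : Function.Injective (esymm2 R n m) := by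
  intro p q hpq
  have h1 := congrArg (sumAlgEquiv R (Fin m) (Fin m)) hpq
  rw [esymm2_eq_comp, esymm2_eq_comp] at h1
  have h2 := esymm1_injective (MvPolynomial (Fin m) R) h h1
  have h3 := map_injective _ (esymm1_injective R h) h2
  exact (sumAlgEquiv R (Fin n) (Fin n)).injective h3

end inj

section surj

variable (R : Type u) [CommRing R] (n : ℕ)

theorem sumAlgEquiv_rename_map_id (σ : Equiv.Perm (Fin n)) (F : MvPolynomial (Fin n ⊕ Fin n) R) :
    sumAlgEquiv R (Fin n) (Fin n) (rename (Sum.map σ id) F) =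
      rename σ (sumAlgEquiv R (Fin n) (Fin n) F) := by
  induction F using MvPolynomial.induction_on with
  | C r => simp only [rename_C, sumAlgEquiv_C_inl]
  | add p q hp hq => simp only [map_add, hp, hq]
  | mul_X p i hp =>
    rw [map_mul, map_mul, map_mul, map_mul, hp]
    congr 1
    cases i with
    | inl k => simp only [rename_X, Sum.map_inl, sumAlgEquiv_X_inl]
    | inr k => simp only [rename_X, Sum.map_inr, id_eq, sumAlgEquiv_X_inr, rename_C]

theorem sumAlgEquiv_rename_id_map (τ : Equiv.Perm (Fin n)) (F : MvPolynomial (Fin n ⊕ Fin n) R) :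
    sumAlgEquiv R (Fin n) (Fin n) (rename (Sum.map id τ) F) =
      map (rename τ : MvPolynomial (Fin n) R →ₐ[R] MvPolynomial (Fin n) R).toRingHom
        (sumAlgEquiv R (Fin n) (Fin n) F) := by
  induction F using MvPolynomial.induction_on with
  | C r => simp only [rename_C, sumAlgEquiv_C_inl, map_C, AlgHom.toRingHom_eq_coe, RingHom.coe_coe]
  | add p q hp hq => simp only [map_add, hp, hq]
  | mul_X p i hp =>
    rw [map_mul, map_mul, map_mul, map_mul, hp]
    congr 1
    cases i with
    | inl k => simp only [rename_X, Sum.map_inl, id_eq, sumAlgEquiv_X_inl, map_X]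
    | inr k =>
      simp only [rename_X, Sum.map_inr, sumAlgEquiv_X_inr, map_C, AlgHom.toRingHom_eq_coe,
        RingHom.coe_coe]

/-- the fundamental theorem of symmetric polynomials for two families of variables -/
theorem exists_esymm2_eq (F : MvPolynomial (Fin n ⊕ Fin n) R)
    (h1 : ∀ σ : Equiv.Perm (Fin n), rename (Sum.map σ id) F = F)
    (h2 : ∀ τ : Equiv.Perm (Fin n), rename (Sum.map id τ) F = F) :
    ∃ P : MvPolynomial (Fin n ⊕ Fin n) R, esymm2 R n n P = F := by
  set S := MvPolynomial (Fin n) R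
  set F' := sumAlgEquiv R (Fin n) (Fin n) F with hF'
  have hsymm : F'.IsSymmetric := by
    intro σ
    rw [hF', ← sumAlgEquiv_rename_map_id, h1]
  obtain ⟨G, hG⟩ := exists_esymm1_eq_of_isSymmetric S n hsymm
  -- coefficients of G are symmetric
  have hGinv : ∀ τ : Equiv.Perm (Fin n),
      map (rename τ : S →ₐ[R] S).toRingHom G = G := by
    intro τ
    apply esymm1_injective S (le_refl n)
    rw [esymm1_map_comm, hG, hF', ← sumAlgEquiv_rename_id_map, h2]
  have hcoef : ∀ d, (G.coeff d).IsSymmetric := by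
    intro d τ
    have := congrArg (coeff d) (hGinv τ)
    rwa [coeff_map] at this
  have hrange : G ∈ Set.range (map (esymm1 R n n : MvPolynomial (Fin n) R →+* S)) := by
    rw [mem_range_map_iff_coeffs_subset]
    intro c hc
    rw [Finset.mem_coe, mem_coeffs_iff] at hc
    obtain ⟨d, _, rfl⟩ := hc
    obtain ⟨q, hq⟩ := exists_esymm1_eq_of_isSymmetric R n (hcoef d)
    exact ⟨q, hq⟩
  obtain ⟨H, hH⟩ := hrange
  refine ⟨(sumAlgEquiv R (Fin n) (Fin n)).symm H, ?_⟩
  apply (sumAlgEquiv R (Fin n) (Fin n)).injective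
  rw [esymm2_eq_comp, AlgEquiv.apply_symm_apply, hH, hG]

end surj

end Groth.Agent.H43
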