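import Groth.Agent.H43.LineDeg
import Groth.Agent.H43.SymmTwo
import Mathlib.RingTheory.MvPolynomial.Homogeneous

set_option autoImplicit false
universe u

namespace Groth.Agent.H43

open LambdaRing MvPolynomial Finset

section general

/-- strictness: if the `f k` are homogeneous of degree `w k` and algebraically independent, a
polynomial in the `f k` whose value has order at least `i` has all its monomials of weight at least
`i` -/
theorem weight_ge_of_aeval_mem_pow {ι τ : Type*} (w : ι → ℕ) (f : ι → MvPolynomial τ ℤ)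
    (hf : ∀ k, IsWeightedHomogeneous (fun _ : τ => (1 : ℕ)) (f k) (w k))
    (hinj : Function.Injective (aeval f : MvPolynomial ι ℤ → MvPolynomial τ ℤ))
    (p : MvPolynomial ι ℤ) (i : ℕ) (hp : aeval f p ∈ idealOfVars τ ℤ ^ i) :
    ∀ m ∈ p.support, i ≤ Finsupp.weight w m := by
  classical
  intro m hm
  by_contra hlt
  rw [not_le] at hlt
  set d := Finsupp.weight w m with hd
  have hcomp := weightedHomogeneousComponent_aeval (R := ℤ) hf p d
  have hzero : weightedHomogeneousComponent (fun _ : τ => (1 : ℕ)) d (aeval f p) = 0 := by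
    ext x
    rw [coeff_weightedHomogeneousComponent, coeff_zero]
    split_ifs with hx
    · rw [mem_pow_idealOfVars_iff'] at hp
      apply hp
      have : Finsupp.degree x = Finsupp.weight (fun _ : τ => (1 : ℕ)) x := by
        rw [Finsupp.degree_eq_weight_one]
      rw [this, hx]
      exact hlt
    · rfl
  rw [hzero] at hcomp
  have hH0 : weightedHomogeneousComponent w d p = 0 := by
    apply hinj
    rw [map_zero]
    exact hcomp.symm
  have := congrArg (coeff m) hH0
  rw [coeff_weightedHomogeneousComponent, if_pos hd.symm, coeff_zero] at this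
  exact (mem_support_iff.mp hm) this

end general

section single

variable (σ : Type u) [Fintype σ]

theorem weight_ge_single (n : ℕ) (hn : n ≤ Fintype.card σ) (p : MvPolynomial (Fin n) ℤ) (i : ℕ)
    (hp : aeval (fun k : Fin n => shiftDown σ (esymm σ ℤ ((k : ℕ) + 1))) p ∈ lineFil σ i) :
    ∀ m ∈ p.support, i ≤ ∑ k : Fin n, ((k : ℕ) + 1) * m k := by
  intro m hm
  have hp' : aeval (fun k : Fin n => esymm σ ℤ ((k : ℕ) + 1)) p ∈ idealOfVars σ ℤ ^ i := by
    rw [lineFil, Ideal.mem_comap, comp_aeval_apply] at hp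
    simpa only [shiftUp_shiftDown] using hp
  have hinj : Function.Injective (aeval (fun k : Fin n => esymm σ ℤ ((k : ℕ) + 1)) :
      MvPolynomial (Fin n) ℤ → MvPolynomial σ ℤ) := by
    intro a b hab
    apply esymmAlgHom_injective (σ := σ) ℤ hn
    apply Subtype.ext
    rw [esymmAlgHom_apply, esymmAlgHom_apply]
    exact hab
  have := weight_ge_of_aeval_mem_pow (fun k : Fin n => (k : ℕ) + 1)
    (fun k : Fin n => esymm σ ℤ ((k : ℕ) + 1))
    (fun k => esymm_isWeightedHomogeneous_one' σ _) hinj p i hp' m hm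
  rw [Finsupp.weight_apply, Finsupp.sum_fintype _ _ (fun _ => by simp)] at this
  refine this.trans (le_of_eq (Finset.sum_congr rfl fun k _ => ?_))
  rw [smul_eq_mul, mul_comm]

end single

section double

theorem weight_ge_double (n N : ℕ) (h : n ≤ N) (P : MvPolynomial (Fin n ⊕ Fin n) ℤ) (i : ℕ)
    (hP : aeval (Sum.elim
      (fun k : Fin n => shiftDown (Fin N ⊕ Fin N) (rename Sum.inl (esymm (Fin N) ℤ ((k : ℕ) + 1))))
      (fun k : Fin n => shiftDown (Fin N ⊕ Fin N) (rename Sum.inr (esymm (Fin N) ℤ ((k : ℕ) + 1)))))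
        P ∈ lineFil (Fin N ⊕ Fin N) i) :
    ∀ m ∈ P.support, i ≤ ∑ k : Fin n, ((k : ℕ) + 1) * m (Sum.inl k) +
      ∑ k : Fin n, ((k : ℕ) + 1) * m (Sum.inr k) := by
  intro m hm
  have hP' : esymm2 ℤ n N P ∈ idealOfVars (Fin N ⊕ Fin N) ℤ ^ i := by
    rw [lineFil, Ideal.mem_comap, comp_aeval_apply] at hP
    have e : (fun j : Fin n ⊕ Fin n => shiftUp (Fin N ⊕ Fin N) (Sum.elim
        (fun k : Fin n => shiftDown (Fin N ⊕ Fin N)
          (rename Sum.inl (esymm (Fin N) ℤ ((k : ℕ) + 1))))
        (fun k : Fin n => shiftDown (Fin N ⊕ Fin N)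
          (rename Sum.inr (esymm (Fin N) ℤ ((k : ℕ) + 1)))) j)) =
        Sum.elim (fun k : Fin n => rename Sum.inl (esymm (Fin N) ℤ ((k : ℕ) + 1)))
          (fun k : Fin n => rename Sum.inr (esymm (Fin N) ℤ ((k : ℕ) + 1))) := by
      funext j
      rcases j with k | k <;> simp [shiftUp_shiftDown]
    rw [e] at hP
    exact hP
  have hw : ∀ j : Fin n ⊕ Fin n, IsWeightedHomogeneous (fun _ : Fin N ⊕ Fin N => (1 : ℕ))
      (Sum.elim (fun k : Fin n => rename Sum.inl (esymm (Fin N) ℤ ((k : ℕ) + 1)))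
        (fun k : Fin n => rename Sum.inr (esymm (Fin N) ℤ ((k : ℕ) + 1))) j)
      (Sum.elim (fun k : Fin n => (k : ℕ) + 1) (fun k : Fin n => (k : ℕ) + 1) j) := by
    intro j
    rcases j with k | k
    · exact IsHomogeneous.rename_isHomogeneous (esymm_isWeightedHomogeneous_one' (Fin N) _)
    · exact IsHomogeneous.rename_isHomogeneous (esymm_isWeightedHomogeneous_one' (Fin N) _)
  have := weight_ge_of_aeval_mem_pow _ _ hw (esymm2_injective ℤ h) P i hP' m hm
  rw [Finsupp.weight_apply, Finsupp.sum_fintype _ _ (fun _ => by simp),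
    Fintype.sum_sum_type] at this
  refine this.trans (le_of_eq ?_)
  congr 1 <;>
  · refine Finset.sum_congr rfl fun k _ => ?_
    simp [mul_comm]

end double

end Groth.Agent.H43
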