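import Groth.Agent.H43.RepInf
import Groth.Agent.H43.Strict
import Groth.Agent.H43.S8697aux

set_option autoImplicit false
universe u v

namespace Groth.Agent.H43

open LambdaRing MvPolynomial Finset

section gamPoly

/-- the polynomial expressing `γ^k` through the `λ^j` -/
noncomputable def gamPoly (k : ℕ) : MvPolynomial ℕ ℤ :=
  match k with
  | 0 => 1
  | (m + 1) => ∑ j ∈ range (m + 1), C ((m.choose j : ℕ) : ℤ) * X j

theorem evalLamInf_gamPoly {K : Type*} [CommRing K] [LambdaOps K] (x : K) (k : ℕ) :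
    evalLamInf x (gamPoly k) = gamma k x := by
  match k with
  | 0 => simp [gamPoly, gamma_zero]
  | (m + 1) =>
    rw [gamPoly, gamma_succ, map_sum]
    refine Finset.sum_congr rfl fun j _ => ?_
    rw [map_mul, evalLamInf_X]
    congr 1
    simp [evalLamInf]

theorem X_eq_gamPoly_sub (k : ℕ) :
    (X k : MvPolynomial ℕ ℤ) = gamPoly (k + 1) - ∑ j ∈ range k, C ((k.choose j : ℕ) : ℤ) * X j := by
  rw [gamPoly, Finset.sum_range_succ, Nat.choose_self]
  simp

/-- the `λ^j` are integral linear combinations of the `γ^l` -/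
theorem exists_inv_gamPoly (m : ℕ) : ∀ k : ℕ, k < m → ∃ L : MvPolynomial (Fin m) ℤ,
    (X k : MvPolynomial ℕ ℤ) = aeval (fun l : Fin m => gamPoly ((l : ℕ) + 1)) L := by
  intro k
  induction k using Nat.strong_induction_on with
  | _ k ih =>
    intro hk
    have ih' : ∀ j : ℕ, j < k → ∃ L : MvPolynomial (Fin m) ℤ,
        (X j : MvPolynomial ℕ ℤ) = aeval (fun l : Fin m => gamPoly ((l : ℕ) + 1)) L :=
      fun j hj => ih j hj (by omega)
    choose Lf hLf using ih'
    refine ⟨X ⟨k, hk⟩ - ∑ j ∈ (range k).attach,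
      C ((k.choose (j : ℕ) : ℕ) : ℤ) * Lf j (Finset.mem_range.mp j.2), ?_⟩
    rw [map_sub, aeval_X, map_sum]
    conv_lhs => rw [X_eq_gamPoly_sub k]
    congr 1
    rw [← Finset.sum_attach (range k)]
    refine Finset.sum_congr rfl fun j _ => ?_
    rw [map_mul, ← hLf j (Finset.mem_range.mp j.2)]
    congr 1
    simp

end gamPoly

section main

attribute [local instance] lineLambdaOps

theorem aeval_gamma_eq_evalLamInf {K : Type*} [CommRing K] [LambdaOps K] (x : K)
    (G : MvPolynomial ℕ ℤ) :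
    aeval (fun j : ℕ => gamma (j + 1) x) G =
      evalLamInf x (aeval (fun j : ℕ => gamPoly (j + 1)) G) := by
  rw [comp_aeval_apply]
  congr 2
  funext j
  rw [evalLamInf_gamPoly]

/-- the universal expression of `γ^i` of a polynomial without constant term in the `γ^j(x)`:
all its monomials have weight at least `i` -/
theorem exists_gamma_poly_inf (G : MvPolynomial ℕ ℤ) (hG : constantCoeff G = 0) (i : ℕ) :
    ∃ H : MvPolynomial ℕ ℤ, (∀ mono ∈ H.support, i ≤ mono.sum fun j n => (j + 1) * n) ∧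
      ∀ (R : Type v) [CommRing R] [LambdaOps R], IsSpecial R → ∀ x : R,
        gamma i (aeval (fun j : ℕ => gamma (j + 1) x) G) =
          aeval (fun j : ℕ => gamma (j + 1) x) H := by
  classical
  set Gt : MvPolynomial ℕ ℤ := aeval (fun j : ℕ => gamPoly (j + 1)) G with hGt
  obtain ⟨Gt', hGt'⟩ := gamma_repInf.{v} Gt
  -- bound the variables of `Gt' i`
  obtain ⟨m, hm⟩ : ∃ m : ℕ, ∀ k ∈ (Gt' i).vars, k < m := by
    refine ⟨(Gt' i).vars.sup id + 1, fun k hk => ?_⟩
    have : k ≤ (Gt' i).vars.sup id := Finset.le_sup (f := id) hk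
    omega
  obtain ⟨G₀, hG₀⟩ := exists_rename_eq_of_vars_subset_range (Gt' i) (fun l : Fin m => (l : ℕ))
    Fin.val_injective (by
      intro k hk
      exact ⟨⟨k, hm k hk⟩, rfl⟩)
  choose! Lf hLf using exists_inv_gamPoly m
  set p : MvPolynomial (Fin m) ℤ := aeval (fun l : Fin m => Lf (l : ℕ)) G₀ with hp
  have hpG : aeval (fun l : Fin m => gamPoly ((l : ℕ) + 1)) p = Gt' i := by
    rw [hp, comp_aeval_apply]
    have : (fun l : Fin m => aeval (fun l : Fin m => gamPoly ((l : ℕ) + 1)) (Lf (l : ℕ))) =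
        fun l : Fin m => (X (l : ℕ) : MvPolynomial ℕ ℤ) := funext fun l => (hLf l l.2).symm
    rw [this, ← hG₀]
    have h2 : (aeval fun l : Fin m => (X (l : ℕ) : MvPolynomial ℕ ℤ)) =
        rename (fun l : Fin m => (l : ℕ)) := by
      apply algHom_ext
      intro l
      simp
    rw [h2]
  have hval : ∀ (R : Type v) [CommRing R] [LambdaOps R], IsSpecial R → ∀ x : R,
      gamma i (aeval (fun j : ℕ => gamma (j + 1) x) G) =
        aeval (fun l : Fin m => gamma ((l : ℕ) + 1) x) p := by
    intro R _ _ hR x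
    rw [aeval_gamma_eq_evalLamInf x G, ← hGt, hGt' R hR x i, ← hpG, comp_aeval_apply]
    congr 2
    funext l
    rw [evalLamInf_gamPoly]
  -- the line ring
  let σ := ULift.{v} (Fin m)
  have hcard : Fintype.card σ = m := by simp [σ]
  set x₀ : LineRing σ := lineN σ - (m : LineRing σ) with hx₀
  set z₀ : LineRing σ := evalLamInf x₀ Gt with hz₀def'
  have hz₀def := (aeval_gamma_eq_evalLamInf x₀ G).symm
  rw [← hGt, ← hz₀def'] at hz₀def
  have hz₀ : eval (fun _ => (1 : ℤ)) z₀ = 0 := by
    rw [hz₀def, map_aeval]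
    have : (fun j : ℕ => eval (fun _ => (1 : ℤ)) (gamma (j + 1) x₀)) = fun _ => 0 := by
      funext j
      rw [hx₀, gamma_lineN_sub σ m hcard, eval_one_shiftDown_esymm]
    rw [this, eval₂Hom_zero'_apply, hG, map_zero]
  have hmem : gamma i z₀ ∈ lineFil σ i := line_good σ z₀ hz₀ i
  have hpmem : aeval (fun k : Fin m => shiftDown σ (esymm σ ℤ ((k : ℕ) + 1))) p ∈
      lineFil σ i := by
    have h1 := hval (LineRing σ) isSpecial_line x₀
    have h2 : aeval (fun k : Fin m => shiftDown σ (esymm σ ℤ ((k : ℕ) + 1))) p =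
        gamma i z₀ := by
      rw [hz₀def, h1]
      congr 2
      funext l
      rw [hx₀, gamma_lineN_sub σ m hcard]
    rw [h2]
    exact hmem
  have hw := weight_ge_single σ m (le_of_eq hcard.symm) p i hpmem
  refine ⟨rename (fun l : Fin m => (l : ℕ)) p, ?_, ?_⟩
  · intro mono hmono
    rw [support_rename_of_injective Fin.val_injective, Finset.mem_image] at hmono
    obtain ⟨mono', hmono', rfl⟩ := hmono
    rw [Finsupp.sum_mapDomain_index (fun _ => by simp) (fun _ _ _ => by ring),
      Finsupp.sum_fintype _ _ (fun _ => by simp)]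
    exact hw mono' hmono'
  · intro R _ _ hR x
    rw [hval R hR x, aeval_rename]
    rfl

end main

end Groth.Agent.H43
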