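import Groth.Agent.H43.Isobaric
import Mathlib.Algebra.Order.Monoid.Prod

set_option autoImplicit false
universe u

namespace Groth.Agent.H43

open MvPolynomial LambdaRing Finset

section lemmaE

theorem esymm_map_val_of_embedding {σ τ A : Type*} [CommSemiring A]
    (S : Finset σ) (T : Finset τ) (f : τ ↪ σ)
    (hST : T.map f ⊆ S) (g : σ → A) (hg : ∀ i ∈ S, i ∉ T.map f → g i = 0) (j : ℕ) :
    (S.val.map g).esymm j = (T.val.map (g ∘ f)).esymm j := by
  classical
  rw [Finset.esymm_map_val, Finset.esymm_map_val]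
  have h1 : ∑ t ∈ T.powersetCard j, ∏ i ∈ t, (g ∘ f) i =
      ∑ s ∈ (T.map f).powersetCard j, ∏ i ∈ s, g i := by
    rw [Finset.powersetCard_map, Finset.sum_map]
    refine Finset.sum_congr rfl fun t _ => ?_
    simp [Finset.prod_map]
  rw [h1]
  symm
  apply Finset.sum_subset (Finset.powersetCard_mono hST)
  intro s hs hs'
  rw [Finset.mem_powersetCard] at hs hs'
  have h2 : ¬ s ⊆ T.map f := fun h => hs' ⟨h, hs.2⟩
  obtain ⟨i, his, hi⟩ := Finset.not_subset.mp h2
  exact Finset.prod_eq_zero his (hg i (hs.1 his) hi)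

theorem map_esymm_of_embedding {ι κ A B : Type*} [CommSemiring A] [CommSemiring B]
    (θ : A →+* B) (S : Finset ι) (T : Finset κ) (e : κ ↪ ι) (hST : T.map e ⊆ S)
    (u : ι → A) (v : κ → B) (huv : ∀ c ∈ T, θ (u (e c)) = v c)
    (hu0 : ∀ i ∈ S, i ∉ T.map e → θ (u i) = 0) (j : ℕ) :
    θ ((S.val.map u).esymm j) = (T.val.map v).esymm j := by
  rw [map_multiset_esymm, Multiset.map_map,
    esymm_map_val_of_embedding S T e hST (θ ∘ u) hu0 j]
  congr 1
  exact Multiset.map_congr rfl fun c hc => huv c (Finset.mem_val.mp hc)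

end lemmaE

end Groth.Agent.H43

namespace Groth.Agent.H43

open MvPolynomial LambdaRing Finset

section kill

variable {n N : ℕ} (h : n ≤ N)

/-- the inclusion of variable sets `X_k, Y_k` -/
def ι2 : Fin n ⊕ Fin n → Fin N ⊕ Fin N := Sum.map (Fin.castLE h) (Fin.castLE h)

theorem ι2_injective : Function.Injective (ι2 h) :=
  (Fin.castLE_injective h).sumMap (Fin.castLE_injective h)

/-- kill the variables `T_a`, `a ≥ n` -/
noncomputable def θ1 : MvPolynomial (Fin N) ℤ →ₐ[ℤ] MvPolynomial (Fin n) ℤ :=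
  killCompl (Fin.castLE_injective h)

/-- kill the variables `T_a, U_a`, `a ≥ n` -/
noncomputable def θ2 : MvPolynomial (Fin N ⊕ Fin N) ℤ →ₐ[ℤ] MvPolynomial (Fin n ⊕ Fin n) ℤ :=
  killCompl (ι2_injective h)

theorem θ1_X_castLE (a : Fin n) : θ1 h (X (Fin.castLE h a)) = X a := by
  rw [θ1, ← rename_X (R := ℤ) (Fin.castLE h), killCompl_rename_app]

theorem θ1_X_of_not (b : Fin N) (hb : b ∉ Set.range (Fin.castLE h)) : θ1 h (X b) = 0 := by
  rw [θ1, killCompl, aeval_X, dif_neg hb]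

theorem θ2_X_ι2 (a : Fin n ⊕ Fin n) : θ2 h (X (ι2 h a)) = X a := by
  rw [θ2, ← rename_X (R := ℤ) (ι2 h), killCompl_rename_app]

theorem θ2_X_of_not (b : Fin N ⊕ Fin N) (hb : b ∉ Set.range (ι2 h)) : θ2 h (X b) = 0 := by
  rw [θ2, killCompl, aeval_X, dif_neg hb]

theorem θ2_X_inl_of_not (b : Fin N) (hb : b ∉ Set.range (Fin.castLE h)) :
    θ2 h (X (Sum.inl b)) = 0 := by
  apply θ2_X_of_not
  rintro ⟨(a | a), ha⟩
  · simp only [ι2, Sum.map_inl, Sum.inl.injEq] at ha
    exact hb ⟨a, ha⟩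
  · simp [ι2] at ha

theorem θ2_X_inr_of_not (b : Fin N) (hb : b ∉ Set.range (Fin.castLE h)) :
    θ2 h (X (Sum.inr b)) = 0 := by
  apply θ2_X_of_not
  rintro ⟨(a | a), ha⟩
  · simp [ι2] at ha
  · simp only [ι2, Sum.map_inr, Sum.inr.injEq] at ha
    exact hb ⟨a, ha⟩

theorem not_mem_range_of_not_mem_map {b : Fin N}
    (hb : b ∉ (Finset.univ : Finset (Fin n)).map (Fin.castLEEmb h)) :
    b ∉ Set.range (Fin.castLE h) := by
  rintro ⟨a, rfl⟩
  exact hb (Finset.mem_map.mpr ⟨a, Finset.mem_univ _, rfl⟩)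

theorem θ1_esymm (k : ℕ) : θ1 h (esymm (Fin N) ℤ k) = esymm (Fin n) ℤ k := by
  rw [esymm_eq_multiset_esymm, esymm_eq_multiset_esymm, ← AlgHom.coe_toRingHom]
  refine map_esymm_of_embedding _ Finset.univ Finset.univ (Fin.castLEEmb h)
    (Finset.subset_univ _) X X (fun c _ => θ1_X_castLE h c) (fun i _ hi => ?_) k
  exact θ1_X_of_not h i (not_mem_range_of_not_mem_map h hi)

theorem rename_inl_esymm_eq (m k : ℕ) :
    rename Sum.inl (esymm (Fin m) ℤ k) =
      ((Finset.univ : Finset (Fin m)).val.map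
        fun a => (X (Sum.inl a) : MvPolynomial (Fin m ⊕ Fin m) ℤ)).esymm k := by
  rw [esymm_eq_multiset_esymm, ← AlgHom.coe_toRingHom, map_multiset_esymm, Multiset.map_map]
  congr 2
  funext a
  simp

theorem rename_inr_esymm_eq (m k : ℕ) :
    rename Sum.inr (esymm (Fin m) ℤ k) =
      ((Finset.univ : Finset (Fin m)).val.map
        fun a => (X (Sum.inr a) : MvPolynomial (Fin m ⊕ Fin m) ℤ)).esymm k := by
  rw [esymm_eq_multiset_esymm, ← AlgHom.coe_toRingHom, map_multiset_esymm, Multiset.map_map]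
  congr 2
  funext a
  simp

theorem θ2_rename_inl_esymm (k : ℕ) :
    θ2 h (rename Sum.inl (esymm (Fin N) ℤ k)) = rename Sum.inl (esymm (Fin n) ℤ k) := by
  rw [rename_inl_esymm_eq, rename_inl_esymm_eq, ← AlgHom.coe_toRingHom]
  refine map_esymm_of_embedding _ Finset.univ Finset.univ (Fin.castLEEmb h)
    (Finset.subset_univ _) _ _ (fun c _ => θ2_X_ι2 h (Sum.inl c)) (fun i _ hi => ?_) k
  exact θ2_X_inl_of_not h i (not_mem_range_of_not_mem_map h hi)

theorem θ2_rename_inr_esymm (k : ℕ) :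
    θ2 h (rename Sum.inr (esymm (Fin N) ℤ k)) = rename Sum.inr (esymm (Fin n) ℤ k) := by
  rw [rename_inr_esymm_eq, rename_inr_esymm_eq, ← AlgHom.coe_toRingHom]
  refine map_esymm_of_embedding _ Finset.univ Finset.univ (Fin.castLEEmb h)
    (Finset.subset_univ _) _ _ (fun c _ => θ2_X_ι2 h (Sum.inr c)) (fun i _ hi => ?_) k
  exact θ2_X_inr_of_not h i (not_mem_range_of_not_mem_map h hi)

theorem θ2_mulGen (k : ℕ) : θ2 h (mulGen N k) = mulGen n k := by
  rw [mulGen, mulGen, ← AlgHom.coe_toRingHom]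
  refine map_esymm_of_embedding _ Finset.univ Finset.univ
    ((Fin.castLEEmb h).prodMap (Fin.castLEEmb h))
    (Finset.subset_univ _) _ _ (fun c _ => ?_) (fun ab _ hab => ?_) k
  · simp only [AlgHom.coe_toRingHom, map_mul]
    exact congrArg₂ (· * ·) (θ2_X_ι2 h (Sum.inl c.1)) (θ2_X_ι2 h (Sum.inr c.2))
  · simp only [AlgHom.coe_toRingHom, map_mul]
    by_cases ha : ab.1 ∈ Set.range (Fin.castLE h)
    · have hb : ab.2 ∉ Set.range (Fin.castLE h) := by
        rintro ⟨b, hb⟩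
        obtain ⟨a, ha⟩ := ha
        apply hab
        refine Finset.mem_map.mpr ⟨(a, b), Finset.mem_univ _, ?_⟩
        ext <;> simp [Function.Embedding.prodMap, ha, hb]
      rw [θ2_X_inr_of_not h _ hb, mul_zero]
    · rw [θ2_X_inl_of_not h _ ha, zero_mul]

theorem θ1_compGen (i j : ℕ) : θ1 h (compGen N i j) = compGen n i j := by
  rw [compGen, compGen, ← AlgHom.coe_toRingHom]
  refine map_esymm_of_embedding _ _ _ (Finset.mapEmbedding (Fin.castLEEmb h)).toEmbedding
    ?_ _ _ (fun c _ => ?_) (fun s hs hs' => ?_) j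
  · intro s hs
    obtain ⟨t, ht, rfl⟩ := Finset.mem_map.mp hs
    rw [Finset.mem_powersetCard] at ht ⊢
    refine ⟨Finset.subset_univ _, ?_⟩
    simp [ht.2]
  · simp only [AlgHom.coe_toRingHom, RelEmbedding.coe_toEmbedding, Finset.mapEmbedding_apply,
      map_prod, Finset.prod_map]
    exact Finset.prod_congr rfl fun a _ => θ1_X_castLE h a
  · simp only [AlgHom.coe_toRingHom, map_prod]
    rw [Finset.mem_powersetCard] at hs
    have : ¬ s ⊆ (Finset.univ : Finset (Fin n)).map (Fin.castLEEmb h) := by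
      intro hsub
      obtain ⟨t, _, rfl⟩ := Finset.subset_map_iff.mp hsub
      apply hs'
      refine Finset.mem_map.mpr ⟨t, ?_, rfl⟩
      rw [Finset.mem_powersetCard]
      refine ⟨Finset.subset_univ _, ?_⟩
      have := hs.2
      rwa [Finset.card_map] at this
    obtain ⟨a, has, ha⟩ := Finset.not_subset.mp this
    exact Finset.prod_eq_zero has (θ1_X_of_not h a (not_mem_range_of_not_mem_map h ha))

end kill

end Groth.Agent.H43

namespace Groth.Agent.H43

open MvPolynomial LambdaRing Finset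

section stab

variable {n N : ℕ} (h : n ≤ N)

theorem θ2_comp_esymm2 (P : MvPolynomial (Fin n ⊕ Fin n) ℤ) :
    θ2 h (esymm2 ℤ n N P) = esymm2 ℤ n n P := by
  have : (θ2 h).comp (esymm2 ℤ n N) = esymm2 ℤ n n := by
    apply algHom_ext
    rintro (k | k)
    · simp only [AlgHom.comp_apply, esymm2, aeval_X, Sum.elim_inl]
      exact θ2_rename_inl_esymm h _
    · simp only [AlgHom.comp_apply, esymm2, aeval_X, Sum.elim_inr]
      exact θ2_rename_inr_esymm h _
  exact AlgHom.congr_fun this P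

theorem θ1_comp_esymm1 (Q : MvPolynomial (Fin n) ℤ) :
    θ1 h (esymm1 ℤ n N Q) = esymm1 ℤ n n Q := by
  have : (θ1 h).comp (esymm1 ℤ n N) = esymm1 ℤ n n := by
    apply algHom_ext
    intro k
    simp only [AlgHom.comp_apply, esymm1, aeval_X]
    exact θ1_esymm h _
  exact AlgHom.congr_fun this Q

theorem esymm2_rename_ι2 (M : ℕ) (P : MvPolynomial (Fin n ⊕ Fin n) ℤ) :
    esymm2 ℤ N M (rename (ι2 h) P) = esymm2 ℤ n M P := by
  rw [esymm2, aeval_rename, esymm2]
  congr 2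
  funext a
  rcases a with a | a <;> simp [ι2]

theorem esymm1_rename_castLE (M : ℕ) (Q : MvPolynomial (Fin n) ℤ) :
    esymm1 ℤ N M (rename (Fin.castLE h) Q) = esymm1 ℤ n M Q := by
  rw [esymm1, aeval_rename, esymm1]
  congr 1

variable {K : Type u} [CommRing K] [LambdaOps K]

theorem evalLam2_rename_ι2 (x y : K) (P : MvPolynomial (Fin n ⊕ Fin n) ℤ) :
    evalLam2 x y N (rename (ι2 h) P) = evalLam2 x y n P := by
  rw [evalLam2, aeval_rename, evalLam2]
  congr 2
  funext a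
  rcases a with a | a <;> simp [ι2]

theorem evalLam1_rename_castLE (x : K) (Q : MvPolynomial (Fin n) ℤ) :
    evalLam1 x N (rename (Fin.castLE h) Q) = evalLam1 x n Q := by
  rw [evalLam1, aeval_rename, evalLam1]
  congr 1

/-- an isobaric polynomial of weight `(k, k)`, `k ≤ n`, only involves `X_j, Y_j` with `j ≤ n` -/
theorem exists_rename_ι2_of_isobaric {k : ℕ} (hk : k ≤ n) (P' : MvPolynomial (Fin N ⊕ Fin N) ℤ)
    (hP' : IsWeightedHomogeneous (wXY N) P' ((k, k) : ℕ × ℕ)) :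
    ∃ P : MvPolynomial (Fin n ⊕ Fin n) ℤ, rename (ι2 h) P = P' := by
  apply exists_rename_eq_of_vars_subset_range P' (ι2 h) (ι2_injective h)
  intro v hv
  rw [Finset.mem_coe, mem_vars_iff_mem_support] at hv
  obtain ⟨d, hd, hvd⟩ := hv
  rw [Finsupp.mem_support_iff] at hvd
  have hw : Finsupp.weight (wXY N) d = ((k, k) : ℕ × ℕ) := hP' (mem_support_iff.mp hd)
  have hle : wXY N v ≤ Finsupp.weight (wXY N) d :=
    Finsupp.le_weight_of_ne_zero (fun s => by
      rcases s with s | s <;> exact ⟨Nat.zero_le _, Nat.zero_le _⟩) hvd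
  rw [hw] at hle
  rcases v with a | a
  · have : (a : ℕ) + 1 ≤ k := hle.1
    exact ⟨Sum.inl ⟨a, by omega⟩, rfl⟩
  · have : (a : ℕ) + 1 ≤ k := hle.2
    exact ⟨Sum.inr ⟨a, by omega⟩, rfl⟩

theorem exists_rename_castLE_of_isobaric {k : ℕ} (hk : k ≤ n) (Q' : MvPolynomial (Fin N) ℤ)
    (hQ' : IsWeightedHomogeneous (fun j : Fin N => (j : ℕ) + 1) Q' k) :
    ∃ Q : MvPolynomial (Fin n) ℤ, rename (Fin.castLE h) Q = Q' := by
  apply exists_rename_eq_of_vars_subset_range Q' (Fin.castLE h) (Fin.castLE_injective h)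
  intro v hv
  rw [Finset.mem_coe, mem_vars_iff_mem_support] at hv
  obtain ⟨d, hd, hvd⟩ := hv
  rw [Finsupp.mem_support_iff] at hvd
  have hw : Finsupp.weight (fun j : Fin N => (j : ℕ) + 1) d = k := hQ' (mem_support_iff.mp hd)
  have hle : (v : ℕ) + 1 ≤ Finsupp.weight (fun j : Fin N => (j : ℕ) + 1) d :=
    Finsupp.le_weight_of_ne_zero (w := fun j : Fin N => (j : ℕ) + 1) (fun s => Nat.zero_le _) hvd
  rw [hw] at hle
  exact ⟨⟨v, by omega⟩, rfl⟩

/-- stability of the universal polynomial for products -/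
theorem esymm2_stable {k : ℕ} (hk : k ≤ n) (P' : MvPolynomial (Fin N ⊕ Fin N) ℤ)
    (hP' : esymm2 ℤ N N P' = mulGen N k) :
    ∃ P : MvPolynomial (Fin n ⊕ Fin n) ℤ, rename (ι2 h) P = P' ∧ esymm2 ℤ n n P = mulGen n k := by
  obtain ⟨P, rfl⟩ := exists_rename_ι2_of_isobaric h hk P'
    (isobaric_of_esymm2_eq_mulGen le_rfl k P' hP')
  refine ⟨P, rfl, ?_⟩
  rw [← θ2_comp_esymm2 h, ← esymm2_rename_ι2 h N, hP', θ2_mulGen]

/-- stability of the universal polynomial for composition -/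
theorem esymm1_stable {i j : ℕ} (hij : i * j ≤ n) (Q' : MvPolynomial (Fin N) ℤ)
    (hQ' : esymm1 ℤ N N Q' = compGen N i j) :
    ∃ Q : MvPolynomial (Fin n) ℤ, rename (Fin.castLE h) Q = Q' ∧
      esymm1 ℤ n n Q = compGen n i j := by
  obtain ⟨Q, rfl⟩ := exists_rename_castLE_of_isobaric h hij Q'
    (isobaric_of_esymm1_eq_compGen le_rfl i j Q' hQ')
  refine ⟨Q, rfl, ?_⟩
  rw [← θ1_comp_esymm1 h, ← esymm1_rename_castLE h N, hQ', θ1_compGen]

end stab

section special

variable {K : Type u} [CommRing K] [LambdaOps K]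

/-- in a special λ-ring, `λ^n(xy)` is computed by any polynomial in `N ≥ n` variables
representing `e_n(T_a U_b)` -/
theorem lam_mul_general (hK : IsSpecial K) (x y : K) {n N : ℕ} (h : n ≤ N)
    (P' : MvPolynomial (Fin N ⊕ Fin N) ℤ) (hP' : esymm2 ℤ N N P' = mulGen N n) :
    LambdaOps.lam n (x * y) = evalLam2 x y N P' := by
  obtain ⟨P, rfl, hP⟩ := esymm2_stable h le_rfl P' hP'
  rw [evalLam2_rename_ι2]
  exact hK.lam_mul n P ⟨hP, isobaric_of_esymm2_eq_mulGen le_rfl n P hP⟩ x y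

theorem lam_lam_general (hK : IsSpecial K) (x : K) {i j N : ℕ} (h : i * j ≤ N)
    (Q' : MvPolynomial (Fin N) ℤ) (hQ' : esymm1 ℤ N N Q' = compGen N i j) :
    LambdaOps.lam j (LambdaOps.lam i x) = evalLam1 x N Q' := by
  obtain ⟨Q, rfl, hQ⟩ := esymm1_stable h le_rfl Q' hQ'
  rw [evalLam1_rename_castLE]
  exact hK.lam_lam i j Q ⟨hQ, isobaric_of_esymm1_eq_compGen le_rfl i j Q hQ⟩ x

end special

end Groth.Agent.H43
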