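import Groth.Agent.H43.GammaInf
import Groth.Agent.H43.Stability

set_option autoImplicit false
universe u v

namespace Groth.Agent.H43

open LambdaRing MvPolynomial Finset

section poly

/-- the polynomial expressing `γ^i(yz)` through the `λ^k(y)`, `λ^k(z)` -/
noncomputable def gamMulLam (i : ℕ) (Pj : ℕ → MvPolynomial (Fin i ⊕ Fin i) ℤ) :
    MvPolynomial (Fin i ⊕ Fin i) ℤ :=
  if i = 0 then 1 else ∑ j ∈ range (i + 1),
    C ((Nat.choose (i - 1) (j - 1) : ℕ) : ℤ) * (if j = 0 then 0 else Pj j)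

/-- the polynomial expressing `γ^i(yz)` through the `γ^k(y)`, `γ^k(z)` -/
noncomputable def gamMulPoly (i : ℕ) (Lf : ℕ → MvPolynomial (Fin i) ℤ)
    (Pj : ℕ → MvPolynomial (Fin i ⊕ Fin i) ℤ) : MvPolynomial (Fin i ⊕ Fin i) ℤ :=
  aeval (Sum.elim (fun k : Fin i => rename Sum.inl (Lf (k : ℕ)))
    (fun k : Fin i => rename Sum.inr (Lf (k : ℕ)))) (gamMulLam i Pj)

variable {R : Type*} [CommRing R] [LambdaOps R]

theorem lam_eq_aeval_gamma (i : ℕ) (Lf : ℕ → MvPolynomial (Fin i) ℤ)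
    (hLf : ∀ k : ℕ, k < i → (X k : MvPolynomial ℕ ℤ) =
      aeval (fun l : Fin i => gamPoly ((l : ℕ) + 1)) (Lf k)) (y : R) (k : Fin i) :
    LambdaOps.lam ((k : ℕ) + 1) y = aeval (fun l : Fin i => gamma ((l : ℕ) + 1) y) (Lf (k : ℕ)) := by
  rw [← evalLamInf_X, hLf k k.2, comp_aeval_apply]
  congr 2
  funext l
  rw [evalLamInf_gamPoly]

theorem gamma_mul_eq (hR : IsSpecial R) (i : ℕ) (Lf : ℕ → MvPolynomial (Fin i) ℤ)
    (hLf : ∀ k : ℕ, k < i → (X k : MvPolynomial ℕ ℤ) =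
      aeval (fun l : Fin i => gamPoly ((l : ℕ) + 1)) (Lf k))
    (Pj : ℕ → MvPolynomial (Fin i ⊕ Fin i) ℤ) (hPj : ∀ j : ℕ, j ≤ i → esymm2 ℤ i i (Pj j) = mulGen i j)
    (y z : R) :
    gamma i (y * z) = aeval (Sum.elim (fun k : Fin i => gamma ((k : ℕ) + 1) y)
      (fun k : Fin i => gamma ((k : ℕ) + 1) z)) (gamMulPoly i Lf Pj) := by
  have h1 : gamma i (y * z) = evalLam2 y z i (gamMulLam i Pj) := by
    unfold gamma gamMulLam
    by_cases hi : i = 0
    · rw [if_pos hi, if_pos hi, map_one]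
    · rw [if_neg hi, if_neg hi, map_sum]
      refine Finset.sum_congr rfl fun j hj => ?_
      rw [Finset.mem_range] at hj
      rw [map_mul]
      congr 1
      · simp [evalLam2]
      · split_ifs
        · exact (map_zero _).symm
        · exact lam_mul_general hR y z (show j ≤ i by omega) (Pj j) (hPj j (by omega))
  rw [h1, gamMulPoly, evalLam2, comp_aeval_apply]
  congr 2
  funext k
  rcases k with k | k
  · simp only [Sum.elim_inl]
    rw [aeval_rename, lam_eq_aeval_gamma i Lf hLf y k]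
    rfl
  · simp only [Sum.elim_inr]
    rw [aeval_rename, lam_eq_aeval_gamma i Lf hLf z k]
    rfl

end poly

section weights

attribute [local instance] lineLambdaOps

theorem gamma_block_sub (i : ℕ) (f : Fin i → Fin i ⊕ Fin i) (_hf : Function.Injective f) (k : ℕ) :
    gamma k (∑ a : Fin i, ((X (f a) : LineRing (Fin i ⊕ Fin i)) - 1)) =
      shiftDown (Fin i ⊕ Fin i) (rename f (esymm (Fin i) ℤ k)) := by
  classical
  have hy : ∀ (a : Fin i) (j : ℕ), 2 ≤ j →
      LambdaOps.lam j (X (f a) : LineRing (Fin i ⊕ Fin i)) = 0 := by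
    intro a j hj
    rw [← coeff_lamSeries, lamSeries_line_X]
    obtain ⟨j, rfl⟩ := Nat.exists_eq_add_of_le hj
    simp [PowerSeries.coeff_one, PowerSeries.coeff_succ_mul_X, add_comm 2 j]
  rw [gamma_sum_sub_one isSpecial_line.lam_one_eq_zero _ _ hy, esymm, map_sum, map_sum]
  refine Finset.sum_congr rfl fun t _ => ?_
  rw [map_prod, map_prod]
  refine Finset.prod_congr rfl fun a _ => ?_
  simp [shiftDown]

/-- the universal polynomial for `γ^i` of a product: all its monomials have total weight at least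
`i` -/
theorem exists_gamma_mul_poly (i : ℕ) : ∃ P : MvPolynomial (Fin i ⊕ Fin i) ℤ,
    (∀ m ∈ P.support, i ≤ ∑ k : Fin i, ((k : ℕ) + 1) * m (Sum.inl k) +
      ∑ k : Fin i, ((k : ℕ) + 1) * m (Sum.inr k)) ∧
    ∀ (R : Type v) [CommRing R] [LambdaOps R], IsSpecial R → ∀ y z : R,
      gamma i (y * z) = aeval (Sum.elim (fun k : Fin i => gamma ((k : ℕ) + 1) y)
        (fun k : Fin i => gamma ((k : ℕ) + 1) z)) P := by
  choose! Lf hLf using exists_inv_gamPoly i
  choose Pj hPj using fun j : ℕ => exists_esymm2_eq_mulGen i j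
  refine ⟨gamMulPoly i Lf Pj, ?_, fun R _ _ hR y z =>
    gamma_mul_eq hR i Lf hLf Pj (fun j _ => hPj j) y z⟩
  set y₀ : LineRing (Fin i ⊕ Fin i) := ∑ a : Fin i, (X (Sum.inl a) - 1) with hy₀
  set z₀ : LineRing (Fin i ⊕ Fin i) := ∑ a : Fin i, (X (Sum.inr a) - 1) with hz₀
  have h0 : eval (fun _ => (1 : ℤ)) (y₀ * z₀) = 0 := by
    rw [map_mul, hy₀, map_sum]
    simp
  have hmem : gamma i (y₀ * z₀) ∈ lineFil (Fin i ⊕ Fin i) i := line_good _ _ h0 i
  have h1 := gamma_mul_eq (R := LineRing (Fin i ⊕ Fin i)) isSpecial_line i Lf hLf Pj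
    (fun j _ => hPj j) y₀ z₀
  apply weight_ge_double i i le_rfl (gamMulPoly i Lf Pj) i
  have h2 : aeval (Sum.elim
      (fun k : Fin i => shiftDown (Fin i ⊕ Fin i) (rename Sum.inl (esymm (Fin i) ℤ ((k : ℕ) + 1))))
      (fun k : Fin i => shiftDown (Fin i ⊕ Fin i) (rename Sum.inr (esymm (Fin i) ℤ ((k : ℕ) + 1)))))
        (gamMulPoly i Lf Pj) = gamma i (y₀ * z₀) := by
    rw [h1]
    congr 2
    funext k
    rcases k with k | k
    · simp only [Sum.elim_inl]
      rw [hy₀, gamma_block_sub i Sum.inl Sum.inl_injective]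
    · simp only [Sum.elim_inr]
      rw [hz₀, gamma_block_sub i Sum.inr Sum.inr_injective]
  rw [h2]
  exact hmem

end weights

end Groth.Agent.H43
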