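import Mathlib

set_option autoImplicit false
universe u

namespace Groth.Agent.H43

section semilocal

variable {A : Type u} [CommRing A] {ι : Type} [Finite ι] (p : ι → PrimeSpectrum A)

/-- the complement of a finite union of primes -/
def unionCompl : Submonoid A := ⨅ i, (p i).asIdeal.primeCompl

theorem mem_unionCompl (x : A) : x ∈ unionCompl p ↔ ∀ i, x ∉ (p i).asIdeal := by
  simp [unionCompl, Submonoid.mem_iInf, Ideal.primeCompl]

theorem unionCompl_le (i : ι) : unionCompl p ≤ (p i).asIdeal.primeCompl := iInf_le _ i

/-- the localization at the complement of a finite union of primes is semilocal -/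
theorem finite_maximalSpectrum_unionCompl :
    Finite (MaximalSpectrum (Localization (unionCompl p))) := by
  classical
  haveI : Fintype ι := Fintype.ofFinite ι
  set S := unionCompl p with hS
  rcases isEmpty_or_nonempty ι with hι | hι
  · -- no primes: the localization has no maximal ideals at all
    have : IsEmpty (MaximalSpectrum (Localization S)) := by
      constructor
      intro m
      have hmprime : m.asIdeal.IsPrime := m.isMaximal.isPrime
      obtain ⟨hq, hdisj⟩ := (IsLocalization.isPrime_iff_isPrime_disjoint S (Localization S)
        m.asIdeal).mp hmprime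
      have h0S : (0 : A) ∈ S := (mem_unionCompl p 0).mpr (fun i => hι.elim i)
      exact Set.disjoint_left.mp hdisj h0S (Ideal.zero_mem _)
    infer_instance
  have key : ∀ m : MaximalSpectrum (Localization S), ∃ i : ι,
      m.asIdeal = Ideal.map (algebraMap A (Localization S)) (p i).asIdeal := by
    intro m
    have hmprime : m.asIdeal.IsPrime := m.isMaximal.isPrime
    obtain ⟨hq, hdisj⟩ := (IsLocalization.isPrime_iff_isPrime_disjoint S (Localization S)
      m.asIdeal).mp hmprime
    set q := m.asIdeal.under A with hq_def
    have hsub : ((q : Ideal A) : Set A) ⊆ ⋃ i ∈ ((Finset.univ : Finset ι) : Set ι),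
        ((p i).asIdeal : Set A) := by
      intro x hx
      by_contra hcon
      simp only [Finset.coe_univ, Set.mem_univ, Set.iUnion_true, Set.mem_iUnion, not_exists] at hcon
      have hxS : x ∈ S := (mem_unionCompl p x).mpr hcon
      exact Set.disjoint_left.mp hdisj hxS hx
    obtain ⟨i, -, hi⟩ := (Ideal.subset_union_prime (f := fun i => (p i).asIdeal)
      (Classical.arbitrary ι) (Classical.arbitrary ι) (fun i _ _ _ => (p i).isPrime)).mp hsub
    refine ⟨i, ?_⟩
    have hdisj_i : Disjoint (S : Set A) ((p i).asIdeal : Set A) := by
      rw [Set.disjoint_left]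
      intro x hx hxp
      exact (mem_unionCompl p x).mp hx i hxp
    have hPi : (Ideal.map (algebraMap A (Localization S)) (p i).asIdeal).IsPrime :=
      IsLocalization.isPrime_of_isPrime_disjoint S (Localization S) _ (p i).isPrime hdisj_i
    have hle : m.asIdeal ≤ Ideal.map (algebraMap A (Localization S)) (p i).asIdeal := by
      rw [← IsLocalization.map_under S (Localization S) m.asIdeal]
      exact Ideal.map_mono hi
    exact m.isMaximal.eq_of_le hPi.ne_top hle
  choose g hg using key
  apply Finite.of_injective g
  intro m m' h
  ext1
  rw [hg m, hg m', h]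

end semilocal

section generator

variable {A : Type u} [CommRing A] (M : Type u) [AddCommGroup M] [Module A M]
  [Module.Invertible A M] {ι : Type} [Finite ι] (p : ι → PrimeSpectrum A)

theorem exists_common_generator :
    ∃ s : M, ∀ i : ι, Submodule.span (Localization.AtPrime (p i).asIdeal)
      {LocalizedModule.mkLinearMap (p i).asIdeal.primeCompl M s} = ⊤ := by
  classical
  set S := unionCompl p with hS
  haveI : Finite (MaximalSpectrum (Localization S)) := finite_maximalSpectrum_unionCompl p
  haveI : Module.Free (Localization S) (LocalizedModule S M) := inferInstance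
  obtain ⟨e⟩ := (Module.Invertible.free_iff_linearEquiv
    (R := Localization S) (M := LocalizedModule S M)).mp inferInstance
  set g := e.symm 1 with hg
  have hgen : ∀ y : LocalizedModule S M, y = (e y) • g := by
    intro y
    rw [hg, ← map_smul, smul_eq_mul, mul_one, LinearEquiv.symm_apply_apply]
  induction' hgm : g using LocalizedModule.induction_on with s t
  refine ⟨s, fun i => ?_⟩
  rw [eq_top_iff]
  rintro z -
  induction' z using LocalizedModule.induction_on with y u
  have h1 := hgen (LocalizedModule.mk y 1)
  obtain ⟨b, t', hbt⟩ := IsLocalization.exists_mk'_eq S (e (LocalizedModule.mk y 1))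
  rw [← hbt, ← Localization.mk_eq_mk', hgm, LocalizedModule.mk_smul_mk, LocalizedModule.mk_eq] at h1
  obtain ⟨c, hc⟩ := h1
  have hle := unionCompl_le p i
  set c' : (p i).asIdeal.primeCompl := ⟨c, hle c.2⟩
  set t₁ : (p i).asIdeal.primeCompl := ⟨t', hle t'.2⟩
  set t₂ : (p i).asIdeal.primeCompl := ⟨t, hle t.2⟩
  have hz : LocalizedModule.mk y u =
      Localization.mk ((c : A) * b) (c' * t₁ * t₂ * u) •
        LocalizedModule.mkLinearMap (p i).asIdeal.primeCompl M s := by
    rw [LocalizedModule.mkLinearMap_apply, LocalizedModule.mk_smul_mk, LocalizedModule.mk_eq]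
    refine ⟨1, ?_⟩
    simp only [one_smul, mul_one]
    have hc' : (c : A) • ((t' : A) * (t : A)) • y = (c : A) • b • s := by
      have := hc
      simp only [Submonoid.smul_def, Submonoid.coe_mul, Submonoid.coe_one, one_smul] at this
      exact this
    simp only [Submonoid.smul_def, Submonoid.coe_mul]
    change ((c : A) * (t' : A) * (t : A) * (u : A)) • y = (u : A) • ((c : A) * b) • s
    rw [mul_smul ((c : A)) b s, ← hc']
    simp only [smul_smul]
    congr 1
    ring
  rw [hz]
  exact Submodule.smul_mem _ _ (Submodule.subset_span rfl)

end generator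

end Groth.Agent.H43
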