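import Groth.Agent.H43.Special

set_option autoImplicit false
universe u

namespace Groth.Agent.H43

open MvPolynomial LambdaRing

section general

variable {R : Type*} [CommSemiring R] {σ τ M : Type*} [AddCommMonoid M]

theorem aeval_isWeightedHomogeneous {w : σ → M} {w' : τ → M} {f : σ → MvPolynomial τ R}
    (hf : ∀ i, IsWeightedHomogeneous w' (f i) (w i)) {P : MvPolynomial σ R} {m : M}
    (hP : IsWeightedHomogeneous w P m) : IsWeightedHomogeneous w' (aeval f P) m := by
  induction hP using IsWeightedHomogeneous.induction_on with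
  | zero => simpa using isWeightedHomogeneous_zero R w' m
  | add p q hp hq ihp ihq => rw [map_add]; exact ihp.add ihq
  | monomial d r hr =>
    rw [aeval_monomial, ← hr, Finsupp.weight_apply, ← zero_add (Finsupp.sum d _)]
    refine (isWeightedHomogeneous_C w' r).mul ?_
    exact IsWeightedHomogeneous.prod _ _ _ fun i _ => (hf i).pow (d i)

end general

section inj

variable {R : Type*} [CommRing R] {σ τ M : Type*} [AddCommMonoid M]

theorem isWeightedHomogeneous_of_aeval_injective {w : σ → M} {w' : τ → M}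
    {f : σ → MvPolynomial τ R}
    (hf : ∀ i, IsWeightedHomogeneous w' (f i) (w i))
    (hinj : Function.Injective (aeval f : MvPolynomial σ R → MvPolynomial τ R))
    {P : MvPolynomial σ R} {m : M}
    (hP : IsWeightedHomogeneous w' (aeval f P) m) : IsWeightedHomogeneous w P m := by
  classical
  have hcomp : ∀ k, k ≠ m → weightedHomogeneousComponent w k P = 0 := by
    intro k hk
    apply hinj
    rw [map_zero]
    have h1 : aeval f P = ∑ᶠ m', aeval f (weightedHomogeneousComponent w m' P) := by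
      conv_lhs => rw [← sum_weightedHomogeneousComponent w P]
      rw [finsum_eq_sum _ (weightedHomogeneousComponent_finsupp P), map_sum]
      rw [finsum_eq_sum_of_support_subset]
      intro m' hm'
      simp only [Function.mem_support, ne_eq] at hm'
      simp only [Set.Finite.coe_toFinset, Function.mem_support, ne_eq]
      intro h0
      exact hm' (by rw [h0, map_zero])
    have hfin : (fun m' => aeval f (weightedHomogeneousComponent w m' P)).HasFiniteSupport := by
      apply (weightedHomogeneousComponent_finsupp P).subset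
      intro m' hm'
      simp only [Function.mem_support, ne_eq] at hm' ⊢
      intro h0
      exact hm' (by rw [h0, map_zero])
    have h2 := congrArg (weightedHomogeneousComponent w' k) h1
    rw [hP.weightedHomogeneousComponent_ne k hk, finsum_eq_sum _ hfin, map_sum] at h2
    rw [Finset.sum_eq_single k] at h2
    · rw [h2, (aeval_isWeightedHomogeneous hf
        (weightedHomogeneousComponent_isWeightedHomogeneous k P)).weightedHomogeneousComponent_same]
    · intro m' _ hm'
      exact (aeval_isWeightedHomogeneous hf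
        (weightedHomogeneousComponent_isWeightedHomogeneous m' P)).weightedHomogeneousComponent_ne
          k (Ne.symm hm')
    · intro hk'
      simp only [Set.Finite.mem_toFinset, Function.mem_support, ne_eq, not_not] at hk'
      rw [hk', map_zero]
  have : P = weightedHomogeneousComponent w m P := by
    conv_lhs => rw [← sum_weightedHomogeneousComponent w P]
    rw [finsum_eq_single _ m (fun k hk => hcomp k hk)]
  rw [this]
  exact weightedHomogeneousComponent_isWeightedHomogeneous m P

end inj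

end Groth.Agent.H43

namespace Groth.Agent.H43

open MvPolynomial LambdaRing

section specifics

/-- weight on the variables `X_k, Y_k` -/
def wXY (n : ℕ) : Fin n ⊕ Fin n → ℕ × ℕ :=
  Sum.elim (fun k : Fin n => (((k : ℕ) + 1, 0) : ℕ × ℕ)) (fun k : Fin n => ((0, (k : ℕ) + 1) : ℕ × ℕ))

/-- weight on the variables `T_a, U_b` -/
def wTU (m : ℕ) : Fin m ⊕ Fin m → ℕ × ℕ :=
  Sum.elim (fun _ : Fin m => ((1, 0) : ℕ × ℕ)) (fun _ : Fin m => ((0, 1) : ℕ × ℕ))

theorem esymm_isWeightedHomogeneous_one (m k : ℕ) :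
    IsWeightedHomogeneous (fun _ : Fin m => (1 : ℕ)) (esymm (Fin m) ℤ k) k := by
  rw [esymm]
  apply IsWeightedHomogeneous.sum
  intro s hs
  rw [Finset.mem_powersetCard] at hs
  have : (k : ℕ) = ∑ _i ∈ s, 1 := by simp [hs.2]
  rw [this]
  exact IsWeightedHomogeneous.prod _ _ _ fun i _ => isWeightedHomogeneous_X ℤ _ i

theorem rename_inl_esymm_isWeightedHomogeneous (m k : ℕ) :
    IsWeightedHomogeneous (wTU m) (rename Sum.inl (esymm (Fin m) ℤ k)) ((k, 0) : ℕ × ℕ) := by
  rw [esymm, map_sum]
  apply IsWeightedHomogeneous.sum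
  intro s hs
  rw [Finset.mem_powersetCard] at hs
  rw [map_prod]
  have : ((k, 0) : ℕ × ℕ) = ∑ _i ∈ s, ((1, 0) : ℕ × ℕ) := by
    simp [hs.2]
  rw [this]
  refine IsWeightedHomogeneous.prod _ _ _ fun i _ => ?_
  rw [rename_X]
  exact isWeightedHomogeneous_X ℤ (wTU m) (Sum.inl i)

theorem rename_inr_esymm_isWeightedHomogeneous (m k : ℕ) :
    IsWeightedHomogeneous (wTU m) (rename Sum.inr (esymm (Fin m) ℤ k)) ((0, k) : ℕ × ℕ) := by
  rw [esymm, map_sum]
  apply IsWeightedHomogeneous.sum
  intro s hs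
  rw [Finset.mem_powersetCard] at hs
  rw [map_prod]
  have : ((0, k) : ℕ × ℕ) = ∑ _i ∈ s, ((0, 1) : ℕ × ℕ) := by
    simp [hs.2]
  rw [this]
  refine IsWeightedHomogeneous.prod _ _ _ fun i _ => ?_
  rw [rename_X]
  exact isWeightedHomogeneous_X ℤ (wTU m) (Sum.inr i)

theorem mulGen_isWeightedHomogeneous (N k : ℕ) :
    IsWeightedHomogeneous (wTU N) (mulGen N k) ((k, k) : ℕ × ℕ) := by
  rw [mulGen, Finset.esymm_map_val]
  apply IsWeightedHomogeneous.sum
  intro t ht
  rw [Finset.mem_powersetCard] at ht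
  have : ((k, k) : ℕ × ℕ) = ∑ _i ∈ t, ((1, 0) + (0, 1) : ℕ × ℕ) := by
    simp [ht.2]
  rw [this]
  refine IsWeightedHomogeneous.prod _ _ _ fun ab _ => ?_
  exact (isWeightedHomogeneous_X ℤ (wTU N) (Sum.inl ab.1)).mul
    (isWeightedHomogeneous_X ℤ (wTU N) (Sum.inr ab.2))

theorem compGen_isWeightedHomogeneous (N i j : ℕ) :
    IsWeightedHomogeneous (fun _ : Fin N => (1 : ℕ)) (compGen N i j) (i * j) := by
  rw [compGen, Finset.esymm_map_val]
  apply IsWeightedHomogeneous.sum
  intro t ht
  rw [Finset.mem_powersetCard] at ht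
  have : (i * j : ℕ) = ∑ _s ∈ t, i := by
    simp [ht.2, mul_comm]
  rw [this]
  refine IsWeightedHomogeneous.prod _ _ _ fun s hs => ?_
  have hs' := ht.1 hs
  rw [Finset.mem_powersetCard] at hs'
  have : (i : ℕ) = ∑ _a ∈ s, 1 := by simp [hs'.2]
  rw [this]
  exact IsWeightedHomogeneous.prod _ _ _ fun a _ => isWeightedHomogeneous_X ℤ _ a

/-- isobaricity of any solution `P` of `esymm2 P = mulGen n k` -/
theorem isobaric_of_esymm2_eq_mulGen {n m : ℕ} (h : n ≤ m) (k : ℕ)
    (P : MvPolynomial (Fin n ⊕ Fin n) ℤ) (hP : esymm2 ℤ n m P = mulGen m k) :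
    IsWeightedHomogeneous (wXY n) P ((k, k) : ℕ × ℕ) := by
  refine isWeightedHomogeneous_of_aeval_injective (w' := wTU m)
    (f := Sum.elim (fun k : Fin n => rename Sum.inl (esymm (Fin m) ℤ ((k : ℕ) + 1)))
      (fun k : Fin n => rename Sum.inr (esymm (Fin m) ℤ ((k : ℕ) + 1)))) ?_
    (esymm2_injective ℤ h) ?_
  · rintro (i | i)
    · exact rename_inl_esymm_isWeightedHomogeneous m _
    · exact rename_inr_esymm_isWeightedHomogeneous m _
  · have : aeval (Sum.elim (fun k : Fin n => rename Sum.inl (esymm (Fin m) ℤ ((k : ℕ) + 1)))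
      (fun k : Fin n => rename Sum.inr (esymm (Fin m) ℤ ((k : ℕ) + 1)))) P = mulGen m k := hP
    rw [this]
    exact mulGen_isWeightedHomogeneous m k

theorem isobaric_of_esymm1_eq_compGen {n m : ℕ} (h : n ≤ m) (i j : ℕ)
    (Q : MvPolynomial (Fin n) ℤ) (hQ : esymm1 ℤ n m Q = compGen m i j) :
    IsWeightedHomogeneous (fun k : Fin n => (k : ℕ) + 1) Q (i * j) := by
  refine isWeightedHomogeneous_of_aeval_injective (w' := fun _ : Fin m => (1 : ℕ))
    (f := fun k : Fin n => esymm (Fin m) ℤ ((k : ℕ) + 1)) ?_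
    (esymm1_injective ℤ h) ?_
  · intro i
    exact esymm_isWeightedHomogeneous_one m _
  · have : aeval (fun k : Fin n => esymm (Fin m) ℤ ((k : ℕ) + 1)) Q = compGen m i j := hQ
    rw [this]
    exact compGen_isWeightedHomogeneous m i j

theorem exists_isMulPoly (n : ℕ) : ∃ P : MvPolynomial (Fin n ⊕ Fin n) ℤ, IsMulPoly n P := by
  obtain ⟨P, hP⟩ := exists_esymm2_eq_mulGen n n
  exact ⟨P, hP, isobaric_of_esymm2_eq_mulGen le_rfl n P hP⟩

theorem exists_isCompPoly (i j : ℕ) : ∃ Q : MvPolynomial (Fin (i * j)) ℤ, IsCompPoly i j Q := by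
  obtain ⟨Q, hQ⟩ := exists_esymm1_eq_compGen (i * j) i j
  exact ⟨Q, hQ, isobaric_of_esymm1_eq_compGen le_rfl i j Q hQ⟩

end specifics

end Groth.Agent.H43
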