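import Groth.Agent.H43.OverMapPush
import Groth.Agent.H16.KillClass
import Groth.Prelude.Def_CohSite

set_option autoImplicit false
universe u
open CategoryTheory Limits Opposite Abelian

namespace Groth.Agent.H43.KillLemma

section basics

variable {C : Type u} [SmallCategory C] (J : GrothendieckTopology C)

lemma exists_cover_res_eq_zero (F : Sheaf J AddCommGrpCat.{u}) (n : ℕ) (U : C)
    (ξ : CohSite.HU F (n + 1) U) :
    ∃ S : Sieve U, S ∈ J U ∧ ∀ ⦃V : C⦄ (a : V ⟶ U), S.arrows a → CohSite.res F (n + 1) a ξ = 0 :=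
  Groth.Agent.H16.KillClass.exists_cover_kill J n F U ξ

lemma res_comp (F : Sheaf J AddCommGrpCat.{u}) (n : ℕ) {U V W : C} (a : W ⟶ V) (b : V ⟶ U)
    (ξ : CohSite.HU F n U) :
    CohSite.res F n (a ≫ b) ξ = CohSite.res F n a (CohSite.res F n b ξ) := by
  simp [CohSite.res]

variable {J}
variable {P : Cᵒᵖ ⥤ AddCommGrpCat.{u}} {G : Sheaf J AddCommGrpCat.{u}}
  (φ : (presheafToSheaf J AddCommGrpCat.{u}).obj P ≅ G)

/-- the map from a presheaf to a sheaf isomorphic to its sheafification -/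
noncomputable def Θ : P ⟶ G.obj := toSheafify J P ≫ φ.hom.hom

instance : Presheaf.IsLocallyInjective J (Θ φ) := by
  have h : Presheaf.IsLocallyInjective J φ.hom.hom := by
    apply Presheaf.isLocallyInjective_of_injective
    intro X
    have : IsIso (φ.hom.hom.app X) := by
      have : IsIso φ.hom.hom := by
        have : IsIso ((sheafToPresheaf J AddCommGrpCat.{u}).map φ.hom) := inferInstance
        exact this
      infer_instance
    exact ((isIso_iff_bijective ((forget AddCommGrpCat).map (φ.hom.hom.app X))).1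
      inferInstance).1
  unfold Θ
  infer_instance

lemma locallyZero_of_Θ_eq_zero {V : C} (s : P.obj (op V))
    (hs : ((Θ φ).app (op V)).hom s = 0) :
    ∃ S : Sieve V, S ∈ J V ∧ ∀ ⦃W : C⦄ (g : W ⟶ V), S.arrows g → (P.map g.op).hom s = 0 := by
  refine ⟨Presheaf.equalizerSieve (F := P) (X := op V) s 0,
    Presheaf.equalizerSieve_mem J (Θ φ) s 0 ?_, ?_⟩
  · rw [map_zero]; exact hs
  · intro W g hg
    have : P.map g.op s = P.map g.op 0 := hg
    rw [map_zero] at this
    exact this

lemma Θ_eq_zero_of_locallyZero {V : C} (s : P.obj (op V)) (S : Sieve V) (hS : S ∈ J V)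
    (hs : ∀ ⦃W : C⦄ (g : W ⟶ V), S.arrows g → (P.map g.op).hom s = 0) :
    ((Θ φ).app (op V)).hom s = 0 := by
  apply (G.2.isSeparated) V S hS
  intro W g hg
  have := congrArg (fun k => k.hom s) ((Θ φ).naturality g.op)
  simp only [AddCommGrpCat.hom_comp, AddMonoidHom.coe_comp, Function.comp_apply] at this
  rw [map_zero]
  show (G.obj.map g.op).hom (((Θ φ).app (op V)).hom s) = 0
  rw [← this, hs g hg, map_zero]

end basics


section geom

open Groth.Agent.H43.OverMapPush Groth.Agent.H43.OverMapShriek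

variable {C : Type u} [SmallCategory C] {X Y : C} (f : X ⟶ Y) [HasPullbacksAlong f]

/-- the projection `V ×_Y X ⟶ X` in `C/Y` -/
noncomputable def sndProj (V : Over Y) : (piF f).obj V ⟶ Over.mk f :=
  Over.homMk (pullback.snd V.hom f) rfl

lemma sndProj_naturality {V' V : Over Y} (g : V' ⟶ V) :
    (piF f).map g ≫ sndProj f V = sndProj f V' := by
  ext
  simp only [sndProj, piF, Functor.comp_map, Over.comp_left, Over.map_map_left,
    Over.pullback_map_left, Over.homMk_left]
  exact pullback.lift_snd _ _ _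

/-- the projection `V ×_Y X ⟶ V` in `C/Y` -/
noncomputable def fstProj (V : Over Y) : (piF f).obj V ⟶ V :=
  (Over.mapPullbackAdj f).counit.app V

lemma fstProj_naturality {V' V : Over Y} (g : V' ⟶ V) :
    (piF f).map g ≫ fstProj f V = fstProj f V' ≫ g :=
  (Over.mapPullbackAdj f).counit.naturality g

lemma fstProj_left (V : Over Y) : (fstProj f V).left = pullback.fst V.hom f := by
  simp [fstProj]

variable {J J' : GrothendieckTopology C}

theorem kill [(aPush J' f).Additive]
    (hcov : Sieve.ofArrows (fun _ : PUnit.{u + 1} => X) (fun _ => f) ∈ J Y)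
    (F' : Sheaf (J'.over Y) AddCommGrpCat.{u}) (n : ℕ)
    (hG : Presheaf.IsSheaf (J.over Y)
      (((aPush J' f).rightDerived (n + 1)).obj ((restr J' f).obj F')).obj)
    (θ : CohSite.HU F' (n + 1) (Over.mk f))
    (hθ : ∀ (W : C) (p q : W ⟶ X) (hW : IsPullback p q f f),
      CohSite.res F' (n + 1) (Over.homMk p rfl : Over.mk (p ≫ f) ⟶ Over.mk f) θ =
        CohSite.res F' (n + 1) (Over.homMk q hW.w.symm : Over.mk (p ≫ f) ⟶ Over.mk f) θ) :
    ∃ (ι : Type u) (Z : ι → C) (g : ∀ i, Z i ⟶ Y), Sieve.ofArrows Z g ∈ J' Y ∧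
      ∀ (i : ι) (W : C) (p : W ⟶ Z i) (q : W ⟶ X), IsPullback p q (g i) f →
        CohSite.res F' (n + 1) (Over.homMk q rfl : Over.mk (q ≫ f) ⟶ Over.mk f) θ = 0 := by
  let G := ((aPush J' f).rightDerived (n + 1)).obj ((restr J' f).obj F')
  let 𝓗 : (Over Y)ᵒᵖ ⥤ AddCommGrpCat.{u} := (piF f).op ⋙ Sheaf.cohomologyPresheaf.{u} F' (n + 1)
  let φ : (presheafToSheaf (J'.over Y) AddCommGrpCat.{u}).obj 𝓗 ≅ G :=
    (mainIsoPi J' f F' (n + 1)).symm
  let Yt : Over Y := Over.mk (𝟙 Y)
  let Xf : Over Y := Over.mk f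
  let tX : Xf ⟶ Yt := Over.homMk f
  let θ₀ : 𝓗.obj (op Yt) := CohSite.res F' (n + 1) (sndProj f Yt) θ
  have key1 : ∀ (V : Over Y) (g : V ⟶ Yt),
      (𝓗.map g.op).hom θ₀ = CohSite.res F' (n + 1) (sndProj f V) θ := by
    intro V g
    show CohSite.res F' (n + 1) ((piF f).map g) (CohSite.res F' (n + 1) (sndProj f Yt) θ) = _
    rw [← res_comp, sndProj_naturality]
  have c1 : ((Θ φ).app (op Xf)).hom ((𝓗.map tX.op).hom θ₀) = 0 := by
    rw [key1]
    have e1 : CohSite.res F' (n + 1) (sndProj f Xf) θ =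
        CohSite.res F' (n + 1) (fstProj f Xf) θ := by
      have hW := IsPullback.of_hasPullback f f
      have hh := hθ _ _ _ hW
      let j : (piF f).obj Xf ⟶ Over.mk (pullback.fst f f ≫ f) :=
        Over.homMk (𝟙 _) (by
          show 𝟙 _ ≫ pullback.fst f f ≫ f = pullback.snd f f ≫ f
          rw [Category.id_comp, pullback.condition])
      have hs : sndProj f Xf = j ≫ (Over.homMk (pullback.snd f f) hW.w.symm :
          Over.mk (pullback.fst f f ≫ f) ⟶ Over.mk f) := by
        ext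
        simp [sndProj, j, Xf]
      have hf : fstProj f Xf = j ≫ (Over.homMk (pullback.fst f f) rfl :
          Over.mk (pullback.fst f f ≫ f) ⟶ Over.mk f) := by
        ext
        simp [fstProj, j, Xf]
      rw [hs, hf, res_comp, res_comp, hh]
    rw [e1]
    obtain ⟨S, hS, hS'⟩ := exists_cover_res_eq_zero (J'.over Y) F' n Xf θ
    apply Θ_eq_zero_of_locallyZero φ _ S hS
    intro V g hg
    show CohSite.res F' (n + 1) ((piF f).map g) (CohSite.res F' (n + 1) (fstProj f Xf) θ) = 0
    rw [← res_comp, fstProj_naturality, res_comp, hS' g hg, map_zero]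
  have c2 : ((Θ φ).app (op Yt)).hom θ₀ = 0 := by
    have hsep := Presheaf.IsSheaf.isSeparated hG
    let SX : Sieve Yt := Sieve.ofArrows (fun _ : PUnit.{u + 1} => Xf) (fun _ => tX)
    have hSX : SX ∈ (J.over Y) Yt := by
      rw [GrothendieckTopology.mem_over_iff]
      refine J.superset_covering ?_ hcov
      intro Z g hg
      rw [Sieve.mem_ofArrows_iff] at hg
      obtain ⟨_, a, rfl⟩ := hg
      rw [Sieve.overEquiv_iff]
      have : (Over.homMk (a ≫ f) : Over.mk ((a ≫ f) ≫ Yt.hom) ⟶ Yt) =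
          (Over.homMk a (by simp [Xf, Yt]) : Over.mk ((a ≫ f) ≫ Yt.hom) ⟶ Xf) ≫ tX := by
        ext
        simp [tX]
      rw [this]
      exact Sieve.downward_closed _ (Sieve.ofArrows_mk _ _ PUnit.unit) _
    apply hsep Yt SX hSX
    intro V g hg
    rw [Sieve.mem_ofArrows_iff] at hg
    obtain ⟨_, a, rfl⟩ := hg
    rw [map_zero]
    have nat := congrArg (fun k => k.hom θ₀) ((Θ φ).naturality tX.op)
    simp only [AddCommGrpCat.hom_comp, AddMonoidHom.coe_comp, Function.comp_apply] at nat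
    show (G.obj.map (a ≫ tX).op).hom _ = 0
    rw [op_comp, Functor.map_comp]
    simp only [AddCommGrpCat.hom_comp, AddMonoidHom.coe_comp, Function.comp_apply]
    rw [← nat, c1, map_zero]
  obtain ⟨S', hS', hS''⟩ := locallyZero_of_Θ_eq_zero φ θ₀ c2
  rw [GrothendieckTopology.mem_over_iff] at hS'
  let T : Sieve Y := Sieve.overEquiv Yt S'
  refine ⟨Σ Z : C, {g : Z ⟶ Y // T.arrows g}, fun i => i.1, fun i => i.2.1, ?_, ?_⟩
  · refine J'.superset_covering ?_ hS'
    intro Z g hg
    exact Sieve.ofArrows_mk _ _ (⟨Z, g, hg⟩ : Σ Z : C, {g : Z ⟶ Y // T.arrows g})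
  · rintro ⟨Z, g, hg⟩ W p q hpb
    have hg' : S'.arrows (Over.homMk g : Over.mk (g ≫ Yt.hom) ⟶ Yt) :=
      (Sieve.overEquiv_iff _ _).1 hg
    let V : Over Y := Over.mk (g ≫ Yt.hom)
    have h0 := hS'' _ hg'
    rw [key1] at h0
    have hpb' : IsPullback p q V.hom f := by
      have e : V.hom = g := Category.comp_id g
      rw [e]
      exact hpb
    let c : Over.mk (q ≫ f) ⟶ (piF f).obj V :=
      Over.homMk hpb'.isoPullback.hom (by
        show hpb'.isoPullback.hom ≫ pullback.snd V.hom f ≫ f = q ≫ f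
        rw [← Category.assoc, hpb'.isoPullback_hom_snd])
    have hc : (Over.homMk q rfl : Over.mk (q ≫ f) ⟶ Over.mk f) = c ≫ sndProj f V := by
      ext
      simp [c, sndProj]
    rw [hc, res_comp, h0, map_zero]

end geom

end Groth.Agent.H43.KillLemma
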