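import Groth.Prelude.Def_EtAcyc
import Groth.Agent.H21.ConstSec
import Groth.Agent.H21.TorsMul

/-!
# Basic lemmas on `L`-torsion étale sheaves (helper43)

* `primesIn_one`, `primesIn_mul`, `primesIn_prod`
* `exists_nsmul_eq_zero_of_compact`: sections of an `L`-torsion sheaf over a quasi-compact étale
  scheme are killed by an `L`-number.
* `isLTorsion_push`: `f_*` preserves `L`-torsion sheaves for `f` quasi-compact.
* `isLTorsion_of_mono`, `isLTorsion_of_epi`, `isLTorsion_of_iso`.
-/

set_option autoImplicit false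
set_option backward.isDefEq.respectTransparency.types false
universe u
open CategoryTheory CategoryTheory.Limits AlgebraicGeometry Opposite

namespace Groth.Agent.H43.LTors

open EtAcyc Groth.Agent.H21.ConstSec

variable {L : Set ℕ}

lemma primesIn_one (L : Set ℕ) : PrimesIn L 1 :=
  ⟨Nat.one_pos, fun _ hp h => absurd (Nat.dvd_one.1 h) hp.ne_one⟩

lemma primesIn_mul {m n : ℕ} (hm : PrimesIn L m) (hn : PrimesIn L n) : PrimesIn L (m * n) :=
  ⟨Nat.mul_pos hm.1 hn.1, fun p hp h => (hp.dvd_mul.1 h).elim (hm.2 p hp) (hn.2 p hp)⟩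

lemma primesIn_of_dvd {m n : ℕ} (hn : PrimesIn L n) (h : m ∣ n) : PrimesIn L m :=
  ⟨Nat.pos_of_dvd_of_pos h hn.1, fun p hp hpm => hn.2 p hp (hpm.trans h)⟩

lemma primesIn_prod {ι : Type*} (T : Finset ι) (n : ι → ℕ) (h : ∀ z ∈ T, PrimesIn L (n z)) :
    PrimesIn L (∏ z ∈ T, n z) := by
  classical
  induction T using Finset.induction_on with
  | empty => simpa using primesIn_one L
  | insert a T ha ih =>
    rw [Finset.prod_insert ha]
    exact primesIn_mul (h a (Finset.mem_insert_self a T))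
      (ih fun z hz => h z (Finset.mem_insert_of_mem hz))

variable {X Y : Scheme.{u}}

/-- on a quasi-compact étale scheme, a section of an `L`-torsion sheaf is killed by an
`L`-number -/
theorem exists_nsmul_eq_zero_of_compact {F : EtCoh.Ab Y} (hF : IsLTorsion L F) (P : Y.Etale)
    [CompactSpace P.left] (t : Sec F P) : ∃ m : ℕ, PrimesIn L m ∧ m • t = 0 := by
  classical
  have h : ∀ z : P.left, ∃ (W : Y.Etale) (g : W ⟶ P) (n : ℕ),
      (∃ w : W.left, g.left.base w = z) ∧ PrimesIn L n ∧ n • res F g t = 0 := by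
    intro z
    obtain ⟨W, g, n, hw, hn, hn0⟩ := hF P t z
    exact ⟨W, g, n, hw, hn, hn0⟩
  choose W g n hw hn hn0 using h
  let O : P.left → Set P.left := fun z => Set.range (g z).left.base
  have hO : ∀ z, IsOpen (O z) := fun z => by
    have : Etale (g z).left := inferInstanceAs (Etale (g z).left)
    exact (g z).left.isOpenMap.isOpen_range
  have hcov : (Set.univ : Set P.left) ⊆ ⋃ z, O z := fun z _ =>
    Set.mem_iUnion.2 ⟨z, hw z⟩
  obtain ⟨T, hT⟩ := isCompact_univ.elim_finite_subcover O hO hcov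
  let N : ℕ := ∏ z ∈ T, n z
  have hN : PrimesIn L N := primesIn_prod T n fun z _ => hn z
  refine ⟨N, hN, ?_⟩
  let S : Sieve P :=
    { arrows := fun Z h => N • res F h t = 0
      downward_closed := by
        intro Z Z' h hh k
        rw [← res_res, ← map_nsmul, hh, map_zero] }
  have hS : S ∈ Y.smallEtaleTopology P := by
    rw [mem_iff]
    intro y
    obtain ⟨z, hzT, hz⟩ : ∃ z ∈ T, y ∈ O z := by
      have := hT (Set.mem_univ y)
      simpa using this
    obtain ⟨w, hw'⟩ := hz
    refine ⟨W z, g z, w, ?_, hw'⟩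
    change N • res F (g z) t = 0
    obtain ⟨c, hc⟩ : n z ∣ N := Finset.dvd_prod_of_mem n hzT
    rw [hc, mul_nsmul, hn0 z, nsmul_zero]
  refine sec_ext F S hS _ _ ?_
  intro Z h hh
  rw [map_nsmul, map_zero]
  exact hh

/-- direct image along a quasi-compact morphism preserves `L`-torsion sheaves -/
theorem isLTorsion_push (f : Y ⟶ X) [QuasiCompact f] (F : EtCoh.Ab Y) (hF : IsLTorsion L F) :
    IsLTorsion L ((EtCoh.push f).obj F) := by
  intro U s x
  obtain ⟨_, ⟨V, hV, rfl⟩, hxV, -⟩ :=
    U.left.isBasis_affineOpens.exists_subset_of_mem_open (Set.mem_univ x) isOpen_univ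
  let V₀ : U.left.Opens := V
  let V' : X.Etale := Scheme.Etale.mk (V₀.ι ≫ U.hom)
  let g : V' ⟶ U := MorphismProperty.Over.homMk V₀.ι rfl trivial
  have : IsAffine V₀.toScheme := hV
  have : CompactSpace V₀.toScheme := inferInstance
  let h : V₀.toScheme ⟶ X := V₀.ι ≫ U.hom
  have hc' : CompactSpace ↑(pullback h f) := inferInstance
  have hc : CompactSpace ((EtCoh.bc f).obj V').left := hc'
  obtain ⟨m, hm, hm0⟩ := exists_nsmul_eq_zero_of_compact hF ((EtCoh.bc f).obj V')
    (((EtCoh.push f).obj F).obj.map g.op s)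
  exact ⟨V', g, m, ⟨⟨x, hxV⟩, rfl⟩, hm, hm0⟩

/-- a subsheaf of an `L`-torsion sheaf is `L`-torsion -/
theorem isLTorsion_of_mono {F G : EtCoh.Ab X} (φ : F ⟶ G) [Mono φ] (hG : IsLTorsion L G) :
    IsLTorsion L F := by
  intro U s x
  obtain ⟨V, g, m, hv, hm, h0⟩ := hG U (app φ U s) x
  refine ⟨V, g, m, hv, hm, ?_⟩
  have hmono : Mono (φ.hom.app (op V)) := by
    have h1 : Mono φ.hom := (Sheaf.Hom.mono_iff_presheaf_mono _ _ φ).1 inferInstance
    exact inferInstance
  have hinj : Function.Injective (app φ V) :=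
    (AddCommGrpCat.mono_iff_injective (φ.hom.app (op V))).1 hmono
  apply hinj
  rw [map_nsmul, map_zero]
  have h1 : app φ V (res F g s) = res G g (app φ U s) := app_res φ g s
  exact (congrArg (fun t => m • t) h1).trans h0

/-- a quotient of an `L`-torsion sheaf is `L`-torsion -/
theorem isLTorsion_of_epi {F G : EtCoh.Ab X} (φ : F ⟶ G) [Epi φ] (hF : IsLTorsion L F) :
    IsLTorsion L G := by
  intro U s x
  have hls : Sheaf.IsLocallySurjective φ := by
    rw [Sheaf.isLocallySurjective_iff_epi']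
    infer_instance
  have hS := Presheaf.imageSieve_mem X.smallEtaleTopology φ.hom s
  rw [mem_iff] at hS
  obtain ⟨W, g, w, ⟨t, ht⟩, hw⟩ := hS x
  obtain ⟨V, g', m, ⟨v, hv⟩, hm, h0⟩ := hF W t w
  refine ⟨V, g' ≫ g, m, ⟨v, ?_⟩, hm, ?_⟩
  · have : (g' ≫ g).left.base v = g.left.base (g'.left.base v) := rfl
    rw [this, hv]
    exact hw
  · have h1 : res G (g' ≫ g) s = app φ V (res F g' t) := by
      rw [app_res, ← res_res]
      exact congrArg (res G g') ht.symm
    change m • res G (g' ≫ g) s = 0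
    rw [h1, ← map_nsmul]
    have : m • res F g' t = 0 := h0
    rw [this, map_zero]

theorem isLTorsion_of_iso {F G : EtCoh.Ab X} (e : F ≅ G) (hF : IsLTorsion L F) :
    IsLTorsion L G :=
  isLTorsion_of_epi e.hom hF

end Groth.Agent.H43.LTors
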