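import Groth.Agent.H43.LTors8

/-!
# Coherence of units in a commutative square of schemes (helper43)

For `w : hb ≫ p = pY ≫ h` and `F` on `X`:
* `thetaSq : pY⁻¹ h⁻¹ F ⟶ hb⁻¹ p⁻¹ F`, the canonical isomorphism through `(pY ≫ h)⁻¹ F` used by
  `EtCore.HpullVia`.
* `unit_square`: the two unit maps `F ⟶ h_* pY_* hb⁻¹ p⁻¹ F` agree.
* `transpose_baseChange0`: for `v : p⁻¹ F ⟶ J`, the transpose under `pY⁻¹ ⊣ pY_*` of
  `h⁻¹(F → p_* J) ≫ baseChange0 J` is `thetaSq ≫ hb⁻¹ v`.
* `HpullVia_comp_mk₀`: naturality of `HpullVia` in the sheaf.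
-/

set_option autoImplicit false
set_option backward.isDefEq.respectTransparency.types false
universe u
open CategoryTheory CategoryTheory.Limits AlgebraicGeometry Opposite Abelian

namespace Groth.Agent.H43.LTors

open EtAcyc EtCoh EtCore Groth.Agent.H4.HpullAPI Groth.Agent.H69.EtColimH

section Congr

variable {A B : Scheme.{u}} (f : A ⟶ B)

lemma pullCongr_rfl_hom_app (F : Ab B) : (pullCongr (rfl : f = f)).hom.app F = 𝟙 _ := by
  simp [pullCongr]

lemma pullCongr_rfl_inv_app (F : Ab B) : (pullCongr (rfl : f = f)).inv.app F = 𝟙 _ := by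
  simp [pullCongr]

lemma pushCongr_rfl_hom_app (G : Ab A) : (EtCoh.pushCongr (rfl : f = f)).hom.app G = 𝟙 _ := by
  apply Sheaf.hom_ext
  ext V : 2
  change G.obj.map ((MorphismProperty.Over.pullbackCongr (P := etaleMP) (Q := ⊤)
    (rfl : f = f)).inv.app V.unop).op = 𝟙 _
  have : (MorphismProperty.Over.pullbackCongr (P := etaleMP) (Q := ⊤)
      (rfl : f = f)).inv.app V.unop = 𝟙 _ := by
    apply MorphismProperty.Over.Hom.ext
    simp [MorphismProperty.Over.pullbackCongr]
    rfl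
  rw [this]
  exact G.obj.map_id _

/-- compatibility of units with transport along an equality of morphisms -/
lemma unit_congr {f f' : A ⟶ B} (e : f = f') (F : Ab B) :
    (EtCoh.pullPushAdj f).unit.app F ≫ (EtCoh.pushCongr e).hom.app ((EtCoh.pull f).obj F) =
      (EtCoh.pullPushAdj f').unit.app F ≫ (EtCoh.push f').map ((pullCongr e).inv.app F) := by
  subst e
  rw [pushCongr_rfl_hom_app, pullCongr_rfl_inv_app, CategoryTheory.Functor.map_id]

end Congr

section Square

variable {X Y Xb Yb : Scheme.{u}} (h : Y ⟶ X) (p : Xb ⟶ X) (hb : Yb ⟶ Xb) (pY : Yb ⟶ Y)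
  (w : hb ≫ p = pY ≫ h) (F : Ab X)

/-- the canonical map `pY⁻¹ h⁻¹ F ⟶ hb⁻¹ p⁻¹ F` through `(pY ≫ h)⁻¹ F` -/
noncomputable def thetaSq :
    (EtCoh.pull pY).obj ((EtCoh.pull h).obj F) ⟶ (EtCoh.pull hb).obj ((EtCoh.pull p).obj F) :=
  (((pullComp pY h).symm ≪≫ pullCongr (rfl : pY ≫ h = pY ≫ h)).app F).hom ≫
    (((pullComp hb p).symm ≪≫ pullCongr w).app F).inv

lemma viaIso_rfl_hom :
    (((pullComp pY h).symm ≪≫ pullCongr (rfl : pY ≫ h = pY ≫ h)).app F).hom =
      (pullComp pY h).inv.app F := by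
  change (pullComp pY h).inv.app F ≫ (pullCongr rfl).hom.app F = _
  rw [pullCongr_rfl_hom_app, Category.comp_id]

lemma viaIso_inv :
    (((pullComp hb p).symm ≪≫ pullCongr w).app F).inv =
      (pullCongr w).inv.app F ≫ (pullComp hb p).hom.app F := rfl

lemma thetaSq_eq :
    thetaSq h p hb pY w F = (pullComp pY h).inv.app F ≫ (pullCongr w).inv.app F ≫
      (pullComp hb p).hom.app F := by
  unfold thetaSq
  rw [viaIso_rfl_hom, viaIso_inv]

/-- the transport `p_* hb_* ≅ h_* pY_*` -/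
noncomputable def isoW (G : Ab Yb) :
    (EtCoh.push p).obj ((EtCoh.push hb).obj G) ⟶ (EtCoh.push h).obj ((EtCoh.push pY).obj G) :=
  (EtCoh.pushComp p hb).hom.app G ≫ (EtCoh.pushCongr w).hom.app G ≫
    (EtCoh.pushComp h pY).inv.app G

lemma isoW_naturality {G G' : Ab Yb} (α : G ⟶ G') :
    (EtCoh.push p).map ((EtCoh.push hb).map α) ≫ isoW h p hb pY w G' =
      isoW h p hb pY w G ≫ (EtCoh.push h).map ((EtCoh.push pY).map α) := by
  unfold isoW
  have n1 := (EtCoh.pushComp p hb).hom.naturality α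
  have n2 := (EtCoh.pushCongr w).hom.naturality α
  have n3 := (EtCoh.pushComp h pY).inv.naturality α
  dsimp only [Functor.comp_map] at n1 n3
  rw [reassoc_of% n1, reassoc_of% n2, n3]
  simp only [Category.assoc]

/-- the two units `F ⟶ h_* pY_* hb⁻¹ p⁻¹ F` of a commutative square agree -/
theorem unit_square :
    (EtCoh.pullPushAdj p).unit.app F ≫
        (EtCoh.push p).map ((EtCoh.pullPushAdj hb).unit.app ((EtCoh.pull p).obj F)) ≫
        isoW h p hb pY w ((EtCoh.pull hb).obj ((EtCoh.pull p).obj F)) =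
      (EtCoh.pullPushAdj h).unit.app F ≫
        (EtCoh.push h).map ((EtCoh.pullPushAdj pY).unit.app ((EtCoh.pull h).obj F)) ≫
        (EtCoh.push h).map ((EtCoh.push pY).map (thetaSq h p hb pY w F)) := by
  have U1 := unit_pullComp hb p F
  have U2 := unit_pullComp pY h F
  have C1 := unit_congr w F
  -- left hand side
  have hL : (EtCoh.pullPushAdj p).unit.app F ≫
        (EtCoh.push p).map ((EtCoh.pullPushAdj hb).unit.app ((EtCoh.pull p).obj F)) ≫
        isoW h p hb pY w ((EtCoh.pull hb).obj ((EtCoh.pull p).obj F)) =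
      (EtCoh.pullPushAdj (pY ≫ h)).unit.app F ≫
        (EtCoh.push (pY ≫ h)).map ((pullCongr w).inv.app F ≫ (pullComp hb p).hom.app F) ≫
        (EtCoh.pushComp h pY).inv.app _ := by
    unfold isoW
    have n2 := (EtCoh.pushCongr w).hom.naturality ((pullComp hb p).hom.app F)
    rw [← Category.assoc, ← Category.assoc, ← Category.assoc]
    rw [Category.assoc ((EtCoh.pullPushAdj p).unit.app F), ← U1]
    simp only [Category.assoc]
    rw [reassoc_of% n2, reassoc_of% C1, ← Functor.map_comp_assoc]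
    rfl
  -- right hand side
  have hR : (EtCoh.pullPushAdj h).unit.app F ≫
        (EtCoh.push h).map ((EtCoh.pullPushAdj pY).unit.app ((EtCoh.pull h).obj F)) ≫
        (EtCoh.push h).map ((EtCoh.push pY).map (thetaSq h p hb pY w F)) =
      (EtCoh.pullPushAdj (pY ≫ h)).unit.app F ≫
        (EtCoh.push (pY ≫ h)).map ((pullComp pY h).hom.app F ≫ thetaSq h p hb pY w F) ≫
        (EtCoh.pushComp h pY).inv.app _ := by
    have n3 := (EtCoh.pushComp h pY).inv.naturality (thetaSq h p hb pY w F)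
    dsimp only [Functor.comp_map] at n3
    rw [Functor.map_comp, Category.assoc, n3, reassoc_of% U2, Iso.hom_inv_id_app_assoc]
  rw [hL, hR, thetaSq_eq, Iso.hom_inv_id_app_assoc]
  rfl

/-- the transpose under `pY⁻¹ ⊣ pY_*` of `h⁻¹(F → p_* J) ≫ baseChange0 J` -/
theorem transpose_baseChange0 {J : Ab Xb} (v : (EtCoh.pull p).obj F ⟶ J) :
    (EtCoh.pull pY).map ((EtCoh.pull h).map ((EtCoh.pullPushAdj p).unit.app F ≫
        (EtCoh.push p).map v) ≫ EtCoh.baseChange0 p h pY hb w J) ≫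
      (EtCoh.pullPushAdj pY).counit.app ((EtCoh.pull hb).obj J) =
    thetaSq h p hb pY w F ≫ (EtCoh.pull hb).map v := by
  have hc := (EtCoh.pullPushAdj pY).homEquiv_counit
    (X := (EtCoh.pull h).obj F) (Y := (EtCoh.pull hb).obj J)
    (g := (EtCoh.pull h).map ((EtCoh.pullPushAdj p).unit.app F ≫ (EtCoh.push p).map v) ≫
      EtCoh.baseChange0 p h pY hb w J)
  rw [← hc, Equiv.symm_apply_eq, Adjunction.homEquiv_unit]
  -- now an equality of maps `h⁻¹ F ⟶ pY_* hb⁻¹ J`; transpose under `h⁻¹ ⊣ h_*`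
  apply ((EtCoh.pullPushAdj h).homEquiv _ _).injective
  rw [Adjunction.homEquiv_naturality_left]
  have hb0 : (EtCoh.pullPushAdj h).homEquiv _ _ (EtCoh.baseChange0 p h pY hb w J) =
      (EtCoh.push p).map ((EtCoh.pullPushAdj hb).unit.app J) ≫ isoW h p hb pY w _ := by
    unfold EtCoh.baseChange0 isoW
    rw [Equiv.apply_symm_apply]
  rw [hb0, Adjunction.homEquiv_unit]
  have n1 := (EtCoh.pullPushAdj hb).unit.naturality v
  dsimp only [Functor.id_map, Functor.comp_map, Functor.id_obj, Functor.comp_obj] at n1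
  have n2 := isoW_naturality h p hb pY w ((EtCoh.pull hb).map v)
  have key := unit_square h p hb pY w F
  simp only [Functor.map_comp, Category.assoc]
  rw [← Functor.map_comp_assoc (EtCoh.push p), n1, Functor.map_comp_assoc, n2,
    reassoc_of% key]

end Square

section Nat

variable {X Y Z : Scheme.{u}} (f : X ⟶ Y) (t : Y ⟶ Z) (f₀ : X ⟶ Z) (w : f ≫ t = f₀)
  [PreservesFiniteLimits (EtCoh.pull f)]

/-- naturality of `HpullVia` in the sheaf -/
lemma HpullVia_comp_mk₀ {G G' : Ab Z} (φ : G ⟶ G') (k : ℕ)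
    (x : EtCoh.H Y ((EtCoh.pull t).obj G) k) :
    HpullVia f t f₀ w G' k (x.comp (Ext.mk₀ ((EtCoh.pull t).map φ)) (add_zero k)) =
      (HpullVia f t f₀ w G k x).comp (Ext.mk₀ ((EtCoh.pull f₀).map φ)) (add_zero k) := by
  rw [HpullVia_apply, HpullVia_apply, Hpull_comp_mk₀, Ext.comp_assoc_of_third_deg_zero,
    Ext.comp_assoc_of_third_deg_zero, Ext.mk₀_comp_mk₀, Ext.mk₀_comp_mk₀]
  congr 2
  exact ((pullComp f t).symm ≪≫ pullCongr w).hom.naturality φ

end Nat

end Groth.Agent.H43.LTors
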