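import Groth.Agent.H43.LTors9
import Groth.Agent.H43.LTors10
import Groth.Agent.H4.StalkPull
import Groth.Agent.S8536

/-!
# Descent of classes in degree `n+1` along a surjective base change (helper43)

Main result `mem_range_of_compat`: in a cartesian square of qcqs schemes with `p` surjective, `h`
satisfying `CompN h L n` and the `bcQ` hypotheses, a class `ξ ∈ H^{n+1}(Y, h⁻¹F)` whose pullback to
`Yb` comes from `H^{n+1}(Xb, p⁻¹F)` comes from `H^{n+1}(X, F)`.
-/

set_option autoImplicit false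
set_option backward.isDefEq.respectTransparency.types false
universe u
open CategoryTheory CategoryTheory.Limits AlgebraicGeometry Opposite Abelian

namespace Groth.Agent.H43.LTors

open EtAcyc EtCoh EtCore Groth.Agent.H4.HpullAPI Groth.Agent.H69.EtColimH
  Groth.Agent.H21.ConstSec

section Basic

variable {A B : Scheme.{u}} (f : A ⟶ B)

lemma killed_pull {F : Ab B} {m : ℕ} (hF : m • 𝟙 F = 0) : m • 𝟙 ((EtCoh.pull f).obj F) = 0 := by
  rw [← CategoryTheory.Functor.map_id, ← Functor.map_nsmul, hF, Functor.map_zero]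

lemma killed_push {G : Ab A} {m : ℕ} (hG : m • 𝟙 G = 0) : m • 𝟙 ((EtCoh.push f).obj G) = 0 := by
  rw [← CategoryTheory.Functor.map_id, ← Functor.map_nsmul, hG, Functor.map_zero]

/-- for `f` surjective the unit `F ⟶ f_* f⁻¹ F` is a monomorphism -/
theorem mono_unit_of_surjective (hf : Function.Surjective f.base) (F : Ab B) :
    Mono ((EtCoh.pullPushAdj f).unit.app F) := by
  have : Surjective f := ⟨hf⟩
  have h1 : ∀ V : (B.Etale)ᵒᵖ, Mono (((EtCoh.pullPushAdj f).unit.app F).hom.app V) := fun V =>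
    (AddCommGrpCat.mono_iff_injective _).2
      (Groth.Agent.H4.StalkPull.unit_injective_of_surjective f F V.unop)
  have h2 : Mono ((EtCoh.pullPushAdj f).unit.app F).hom := NatTrans.mono_of_mono_app _
  exact Sheaf.Hom.mono_of_presheaf_mono _ _ _

end Basic

variable {X Y Xb Yb : Scheme.{u}} (h : Y ⟶ X) (p : Xb ⟶ X) (hb : Yb ⟶ Xb) (pY : Yb ⟶ Y)
  (w : hb ≫ p = pY ≫ h) [PreservesFiniteLimits (EtCoh.pull hb)] {L : Set ℕ} (n : ℕ)

section Vanish2

variable (I : Ab Xb) [Injective I] (m : ℕ) (hm : 0 < m)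
  (hbcJ : ∀ i : ℕ, i ≤ n → IsIso (EtBC.bcQ p h pY hb w i (tors I m)))

include hm hbcJ in
theorem isZero_Rpush_pull_tors (i : ℕ) (hi : 0 < i) (hin : i ≤ n) :
    IsZero (((EtCoh.push pY).rightDerived i).obj ((EtCoh.pull hb).obj (tors I m))) := by
  obtain ⟨k, rfl⟩ : ∃ k, i = k + 1 := ⟨i - 1, by omega⟩
  have hz : IsZero ((EtCoh.Rpush p (k + 1)).obj (tors I m)) := isZero_Rpush_tors p I m hm k
  have hiso := hbcJ (k + 1) hin
  exact IsZero.of_iso ((EtCoh.pull h).map_isZero hz)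
    (asIso (EtBC.bcQ p h pY hb w (k + 1) (tors I m))).symm

end Vanish2

section KilledCase

variable [CompactSpace X] [QuasiSeparatedSpace X] [CompactSpace Y] [QuasiSeparatedSpace Y]
  [PreservesFiniteLimits (EtCoh.pull h)] [PreservesFiniteLimits (EtCoh.pull pY)]
  (hp : Function.Surjective p.base) (hh : CompN h L n)
  (hbc : ∀ Fb : EtCoh.Ab Xb, IsLTorsion L Fb →
    (∀ i : ℕ, i ≤ n → IsIso (EtBC.bcQ p h pY hb w i Fb)) ∧
      Mono (EtBC.bcQ p h pY hb w (n + 1) Fb))

include hp hh hbc in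
theorem mem_range_of_killed (m : ℕ) (hm : PrimesIn L m) (F : Ab X) (hF : m • 𝟙 F = 0)
    (ξ : EtCoh.H Y ((EtCoh.pull h).obj F) (n + 1))
    (η : EtCoh.H Xb ((EtCoh.pull p).obj F) (n + 1))
    (hcompat : HpullVia pY h (pY ≫ h) rfl F (n + 1) ξ = HpullVia hb p (pY ≫ h) w F (n + 1) η) :
    ξ ∈ Set.range (Hpull h F (n + 1)) := by
  have hF' : m • 𝟙 ((EtCoh.pull p).obj F) = 0 := killed_pull p hF
  let I : Ab Xb := Injective.under ((EtCoh.pull p).obj F)
  let v : (EtCoh.pull p).obj F ⟶ tors I m := envMap ((EtCoh.pull p).obj F) m hF'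
  have hvmono : Mono v := inferInstanceAs (Mono (envMap ((EtCoh.pull p).obj F) m hF'))
  let u' : F ⟶ (EtCoh.push p).obj (tors I m) :=
    (EtCoh.pullPushAdj p).unit.app F ≫ (EtCoh.push p).map v
  have hu'mono : Mono u' := by
    have := mono_unit_of_surjective p hp F
    have : Mono ((EtCoh.push p).map v) := inferInstance
    exact mono_comp _ _
  have hJt : IsLTorsion L (tors I m) := isLTorsion_of_killed hm _ (tors_killed I m)
  have hGt : IsLTorsion L ((EtCoh.push p).obj (tors I m)) :=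
    isLTorsion_of_killed hm _ (killed_push p (tors_killed I m))
  have hFt : IsLTorsion L F := isLTorsion_of_killed hm F hF
  have hbcJ := (hbc _ hJt).1
  have hbc0 : IsIso (EtCoh.baseChange0 p h pY hb w (tors I m)) :=
    isIso_baseChange0_of_isIso_bcQ h p hb pY w (tors I m) (hbcJ 0 (Nat.zero_le n))
  have hinj := Groth.Agent.H43.LTors4.psi_injective_trunc (EtCoh.pullPushAdj pY) (ZZ Y) n
    ((EtCoh.pull hb).obj (tors I m))
    (fun i hi hin => isZero_Rpush_pull_tors h p hb pY w n I m hm.1 hbcJ i hi hin)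
  -- the class `ξ₂ ∈ H^{n+1}(Y, pY_* hb⁻¹ J)`
  let a : (EtCoh.pull h).obj F ⟶ (EtCoh.push pY).obj ((EtCoh.pull hb).obj (tors I m)) :=
    (EtCoh.pull h).map u' ≫ EtCoh.baseChange0 p h pY hb w (tors I m)
  have hξ₂ : ξ.comp (Ext.mk₀ a) (add_zero (n + 1)) = 0 := by
    apply hinj
    rw [map_zero, Groth.Agent.H4.ExtAdjL.psi_apply, Ext.mapExactFunctor_comp,
      Ext.mapExactFunctor_mk₀, Ext.comp_assoc_of_third_deg_zero, Ext.mk₀_comp_mk₀,
      transpose_baseChange0 h p hb pY w F v]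
    -- rewrite `pY⁻¹ ξ` through `Hpull pY`
    have e1 : ξ.mapExactFunctor (EtCoh.pull pY) = (Ext.mk₀ (pullConst pY ℤ).hom).comp
        (Hpull pY ((EtCoh.pull h).obj F) (n + 1) ξ) (zero_add (n + 1)) := by
      rw [Hpull_apply, ← Ext.comp_assoc _ _ _ (zero_add 0) (zero_add (n + 1)) (by omega),
        Ext.mk₀_comp_mk₀, Iso.hom_inv_id, Ext.mk₀_id_comp]
    have e2 : (Hpull pY ((EtCoh.pull h).obj F) (n + 1) ξ).comp
        (Ext.mk₀ (thetaSq h p hb pY w F ≫ (EtCoh.pull hb).map v)) (add_zero (n + 1)) = 0 := by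
      have e3 : thetaSq h p hb pY w F ≫ (EtCoh.pull hb).map v =
          (((pullComp pY h).symm ≪≫ pullCongr (rfl : pY ≫ h = pY ≫ h)).app F).hom ≫
            ((((pullComp hb p).symm ≪≫ pullCongr w).app F).inv ≫ (EtCoh.pull hb).map v) := by
        unfold thetaSq
        rw [Category.assoc]
      rw [e3, ← Ext.mk₀_comp_mk₀, ← Ext.comp_assoc_of_third_deg_zero, ← HpullVia_apply, hcompat,
        HpullVia_apply, Ext.comp_assoc_of_third_deg_zero, Ext.mk₀_comp_mk₀,
        Iso.hom_inv_id_assoc, ← Hpull_comp_mk₀]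
      have e4 : η.comp (Ext.mk₀ v) (add_zero (n + 1)) = 0 :=
        ext_ZZ_tors_eq_zero I m hm.1 n _
      rw [e4, map_zero]
    rw [e1, Ext.comp_assoc _ _ _ (zero_add (n + 1)) (add_zero (n + 1)) (by omega), e2,
      Ext.comp_zero]
  have hξ₁ : ξ.comp (Ext.mk₀ ((EtCoh.pull h).map u')) (add_zero (n + 1)) = 0 := by
    have e5 : (EtCoh.pull h).map u' = a ≫ inv (EtCoh.baseChange0 p h pY hb w (tors I m)) := by
      simp only [a, Category.assoc, IsIso.hom_inv_id, Category.comp_id]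
    rw [e5, ← Ext.mk₀_comp_mk₀, ← Ext.comp_assoc_of_third_deg_zero, hξ₂, Ext.zero_comp]
  refine Groth.Agent.S8536.result h L n hh u' hFt hGt ξ ⟨0, ?_⟩
  rw [map_zero]
  exact hξ₁.symm

end KilledCase

end Groth.Agent.H43.LTors
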