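import Groth.Agent.H43.LTors11

/-!
# Descent of classes in degree `n+1`: reduction to sheaves killed by an `L`-number (helper43)
-/

set_option autoImplicit false
set_option backward.isDefEq.respectTransparency.types false
universe u
open CategoryTheory CategoryTheory.Limits AlgebraicGeometry Opposite Abelian

namespace Groth.Agent.H43.LTors

open EtAcyc EtCoh EtCore Groth.Agent.H4.HpullAPI Groth.Agent.H69.EtColimH
  Groth.Agent.H21.ConstSec

variable {X Y Xb Yb : Scheme.{u}} (h : Y ⟶ X) (p : Xb ⟶ X) (hb : Yb ⟶ Xb) (pY : Yb ⟶ Y)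
  (w : hb ≫ p = pY ≫ h) [PreservesFiniteLimits (EtCoh.pull hb)] {L : Set ℕ} (n : ℕ)
  [CompactSpace X] [QuasiSeparatedSpace X] [CompactSpace Y] [QuasiSeparatedSpace Y]
  [CompactSpace Xb] [QuasiSeparatedSpace Xb]
  [PreservesFiniteLimits (EtCoh.pull h)] [PreservesFiniteLimits (EtCoh.pull pY)]

include w in
theorem mem_range_of_compat (sq : IsPullback hb pY p h) (hp : Function.Surjective p.base)
    (hh : CompN h L n)
    (hbc : ∀ Fb : EtCoh.Ab Xb, IsLTorsion L Fb →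
      (∀ i : ℕ, i ≤ n → IsIso (EtBC.bcQ p h pY hb w i Fb)) ∧
        Mono (EtBC.bcQ p h pY hb w (n + 1) Fb))
    (F : Ab X) (hF : IsLTorsion L F)
    (ξ : EtCoh.H Y ((EtCoh.pull h).obj F) (n + 1))
    (η : EtCoh.H Xb ((EtCoh.pull p).obj F) (n + 1))
    (hcompat : HpullVia pY h (pY ≫ h) rfl F (n + 1) ξ = HpullVia hb p (pY ≫ h) w F (n + 1) η) :
    ξ ∈ Set.range (Hpull h F (n + 1)) := by
  have hqc : QuasiCompact pY :=
    MorphismProperty.of_isPullback sq (inferInstance : QuasiCompact p)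
  have hqs : QuasiSeparated pY :=
    MorphismProperty.of_isPullback sq (inferInstance : QuasiSeparated p)
  have hcY : CompactSpace Yb := QuasiCompact.compactSpace_of_compactSpace pY
  have hsY : QuasiSeparatedSpace Yb := quasiSeparatedSpace_of_quasiSeparated pY
  have hc := isColimitTorsCocone hF
  have i1 : PreservesColimitsOfSize.{u + 1, u + 1} (EtCoh.pull h) :=
    (EtCoh.pullPushAdj h).leftAdjoint_preservesColimits
  have i2 : PreservesColimitsOfSize.{u + 1, u + 1} (EtCoh.pull p) :=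
    (EtCoh.pullPushAdj p).leftAdjoint_preservesColimits
  have i3 : PreservesColimitsOfSize.{u + 1, u + 1} (EtCoh.pull (pY ≫ h)) :=
    (EtCoh.pullPushAdj (pY ≫ h)).leftAdjoint_preservesColimits
  have hcY' := isColimitOfPreserves (EtCoh.pull h) hc
  have hcXb := isColimitOfPreserves (EtCoh.pull p) hc
  have hcYb := isColimitOfPreserves (EtCoh.pull (pY ≫ h)) hc
  obtain ⟨a, (ξa : Ext (ZZ Y) ((EtCoh.pull h).obj (tors F a.val)) (n + 1)), hξa⟩ :=
    surj_of_isColimit (torsDiag F L ⋙ EtCoh.pull h) hcY' (n + 1) ξ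
  obtain ⟨b, (ηb : Ext (ZZ Xb) ((EtCoh.pull p).obj (tors F b.val)) (n + 1)), hηb⟩ :=
    surj_of_isColimit (torsDiag F L ⋙ EtCoh.pull p) hcXb (n + 1) η
  have hξa' : ξa.comp (Ext.mk₀ ((EtCoh.pull h).map (kernel.ι (a.val • 𝟙 F)))) (add_zero _) = ξ :=
    hξa
  have hηb' : ηb.comp (Ext.mk₀ ((EtCoh.pull p).map (kernel.ι (b.val • 𝟙 F)))) (add_zero _) = η :=
    hηb
  let m₁ := IsFiltered.max a b
  let fa : a ⟶ m₁ := IsFiltered.leftToMax a b
  let fb : b ⟶ m₁ := IsFiltered.rightToMax a b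
  let ξ₁ : Ext (ZZ Y) ((EtCoh.pull h).obj (tors F m₁.val)) (n + 1) :=
    ξa.comp (Ext.mk₀ ((EtCoh.pull h).map (torsTrans F L fa))) (add_zero _)
  let η₁ : Ext (ZZ Xb) ((EtCoh.pull p).obj (tors F m₁.val)) (n + 1) :=
    ηb.comp (Ext.mk₀ ((EtCoh.pull p).map (torsTrans F L fb))) (add_zero _)
  have hξ₁ : ξ₁.comp (Ext.mk₀ ((EtCoh.pull h).map (kernel.ι (m₁.val • 𝟙 F)))) (add_zero _) = ξ := by
    simp only [ξ₁]
    rw [Ext.comp_assoc_of_third_deg_zero, Ext.mk₀_comp_mk₀, ← Functor.map_comp, torsTrans_ι]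
    exact hξa'
  have hη₁ : η₁.comp (Ext.mk₀ ((EtCoh.pull p).map (kernel.ι (m₁.val • 𝟙 F)))) (add_zero _) = η := by
    simp only [η₁]
    rw [Ext.comp_assoc_of_third_deg_zero, Ext.mk₀_comp_mk₀, ← Functor.map_comp, torsTrans_ι]
    exact hηb'
  -- the difference of the two pullbacks dies in the colimit
  let δ : Ext (ZZ Yb) ((EtCoh.pull (pY ≫ h)).obj (tors F m₁.val)) (n + 1) :=
    HpullVia pY h (pY ≫ h) rfl (tors F m₁.val) (n + 1) ξ₁ -
      HpullVia hb p (pY ≫ h) w (tors F m₁.val) (n + 1) η₁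
  have hδ : δ.comp (Ext.mk₀ ((EtCoh.pull (pY ≫ h)).map (kernel.ι (m₁.val • 𝟙 F))))
      (add_zero _) = 0 := by
    simp only [δ]
    rw [sub_eq_add_neg, Ext.add_comp, Ext.neg_comp, ← HpullVia_comp_mk₀, ← HpullVia_comp_mk₀,
      hξ₁, hη₁, hcompat, add_neg_cancel]
  obtain ⟨m₂, f, hf⟩ := inj_of_isColimit (torsDiag F L ⋙ EtCoh.pull (pY ≫ h)) hcYb (n + 1)
    m₁ δ hδ
  have hf' : δ.comp (Ext.mk₀ ((EtCoh.pull (pY ≫ h)).map (torsTrans F L f))) (add_zero _) = 0 := hf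
  let ξ₂ : Ext (ZZ Y) ((EtCoh.pull h).obj (tors F m₂.val)) (n + 1) :=
    ξ₁.comp (Ext.mk₀ ((EtCoh.pull h).map (torsTrans F L f))) (add_zero _)
  let η₂ : Ext (ZZ Xb) ((EtCoh.pull p).obj (tors F m₂.val)) (n + 1) :=
    η₁.comp (Ext.mk₀ ((EtCoh.pull p).map (torsTrans F L f))) (add_zero _)
  have hcompat₂ : HpullVia pY h (pY ≫ h) rfl (tors F m₂.val) (n + 1) ξ₂ =
      HpullVia hb p (pY ≫ h) w (tors F m₂.val) (n + 1) η₂ := by
    have e1 := HpullVia_comp_mk₀ pY h (pY ≫ h) rfl (torsTrans F L f) (n + 1) ξ₁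
    have e2 := HpullVia_comp_mk₀ hb p (pY ≫ h) w (torsTrans F L f) (n + 1) η₁
    refine e1.trans (Eq.trans ?_ e2.symm)
    have h0 := hf'
    simp only [δ] at h0
    rw [sub_eq_add_neg, Ext.add_comp, Ext.neg_comp, add_neg_eq_zero] at h0
    exact h0
  obtain ⟨x₂, hx₂⟩ := mem_range_of_killed h p hb pY w n hp hh hbc m₂.val m₂.prop
    (tors F m₂.val) (tors_killed F m₂.val) ξ₂ η₂ hcompat₂
  refine ⟨x₂.comp (Ext.mk₀ (kernel.ι (m₂.val • 𝟙 F))) (add_zero _), ?_⟩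
  rw [Hpull_comp_mk₀, hx₂]
  simp only [ξ₂]
  rw [Ext.comp_assoc_of_third_deg_zero, Ext.mk₀_comp_mk₀, ← Functor.map_comp, torsTrans_ι]
  exact hξ₁

end Groth.Agent.H43.LTors
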