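import Groth.Agent.H43.LTors1
import Groth.Agent.H69.EtColimH

/-!
# Cohomology classes of `L`-torsion sheaves on qcqs schemes are killed by `L`-numbers (helper43)

* `LNum L`: the directed preorder of `L`-numbers (by divisibility), in `Type (u+1)`.
* `tors G m = ker (m : G → G)`; `torsDiag G L : LNum L ⥤ Ab X`.
* `isIso_torsDesc`: `colim_m G[m] ≅ G` for `G` an `L`-torsion sheaf.
* `exists_nsmul_eq_zero_H`: for `X` qcqs and `G` an `L`-torsion sheaf, every class in
  `H^q(X, G)` is killed by an `L`-number.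
-/

set_option autoImplicit false
set_option backward.isDefEq.respectTransparency.types false
universe u
open CategoryTheory CategoryTheory.Limits AlgebraicGeometry Opposite Abelian

namespace Groth.Agent.H43.LTors

open EtAcyc Groth.Agent.H21.ConstSec

/-- the `L`-numbers, as a type in the universe `u+1` -/
structure LNum (L : Set ℕ) : Type (u + 1) where
  val : ℕ
  prop : PrimesIn L val

namespace LNum

variable {L : Set ℕ}

instance : Preorder (LNum.{u} L) where
  le a b := a.val ∣ b.val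
  le_refl a := dvd_refl _
  le_trans _ _ _ := dvd_trans

instance : Nonempty (LNum.{u} L) := ⟨⟨1, primesIn_one L⟩⟩

instance : IsDirected (LNum.{u} L) (· ≤ ·) :=
  ⟨fun a b => ⟨⟨a.val * b.val, primesIn_mul a.prop b.prop⟩, dvd_mul_right _ _, dvd_mul_left _ _⟩⟩

end LNum

section Ext

variable {C : Type*} [Category C] [Abelian C] [HasExt.{u + 1} C]

lemma ext_comp_mk₀_nsmul {Z Y : C} (n : ℕ) (q : ℕ) (x : Ext Z Y q) :
    x.comp (Ext.mk₀ (n • 𝟙 Y)) (add_zero q) = n • x := by
  induction n with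
  | zero => simp
  | succ n ih =>
    rw [succ_nsmul, Ext.mk₀_add, Ext.comp_add, ih, Ext.comp_mk₀_id, succ_nsmul]

end Ext

variable {X : Scheme.{u}} (G : EtCoh.Ab X) (L : Set ℕ)

/-- the `m`-torsion subsheaf -/
noncomputable abbrev tors (m : ℕ) : EtCoh.Ab X := kernel (m • 𝟙 G)

lemma tors_ι_nsmul_of_dvd {m m' : ℕ} (h : m ∣ m') : kernel.ι (m • 𝟙 G) ≫ (m' • 𝟙 G) = 0 := by
  obtain ⟨c, rfl⟩ := h
  rw [mul_nsmul, Preadditive.comp_nsmul, kernel.condition, smul_zero]

/-- the diagram of torsion subsheaves -/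
noncomputable def torsDiag : LNum.{u} L ⥤ EtCoh.Ab X where
  obj m := tors G m.val
  map {m m'} h := kernel.lift _ (kernel.ι _) (tors_ι_nsmul_of_dvd G (leOfHom h))
  map_id m := by
    rw [← cancel_mono (kernel.ι _)]
    simp
  map_comp f g := by
    rw [← cancel_mono (kernel.ι _)]
    simp

/-- the inclusions `G[m] ⟶ G` as a natural transformation to the constant diagram -/
noncomputable def torsIncl : torsDiag G L ⟶ (Functor.const (LNum.{u} L)).obj G where
  app m := kernel.ι _
  naturality m m' h := by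
    simp [torsDiag]

instance : Mono (torsIncl G L) := by
  have : ∀ m, Mono ((torsIncl G L).app m) := fun m => inferInstanceAs (Mono (kernel.ι _))
  exact NatTrans.mono_of_mono_app _

/-- the cocone with point `G` -/
noncomputable def torsCocone : Cocone (torsDiag G L) where
  pt := G
  ι := torsIncl G L

/-- the canonical map `colim_m G[m] ⟶ G` -/
noncomputable def torsDesc : colimit (torsDiag G L) ⟶ G := colimit.desc _ (torsCocone G L)

@[reassoc (attr := simp)]
lemma ι_torsDesc (m : LNum.{u} L) :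
    colimit.ι (torsDiag G L) m ≫ torsDesc G L = kernel.ι (m.val • 𝟙 G) :=
  colimit.ι_desc _ _

/-- the colimit inclusion, with the source written as `tors G m` -/
noncomputable def torsι (m : LNum.{u} L) : tors G m.val ⟶ colimit (torsDiag G L) :=
  colimit.ι (torsDiag G L) m

lemma torsι_desc (m : LNum.{u} L) : torsι G L m ≫ torsDesc G L = kernel.ι (m.val • 𝟙 G) :=
  colimit.ι_desc _ _

attribute [local instance] IsFiltered.isConnected in
instance mono_torsDesc : Mono (torsDesc G L) := by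
  refine colim.map_mono' (torsIncl G L) (colimit.isColimit _)
    (isColimitConstCocone (LNum.{u} L) G) (torsDesc G L) ?_
  intro m
  exact (ι_torsDesc G L m).trans (Category.comp_id _).symm

/-- sections of `G[m]` are the `m`-torsion sections of `G` -/
lemma exists_tors_section (m : ℕ) (V : X.Etale) (s : Sec G V) (hs : m • s = 0) :
    ∃ t : Sec (tors G m) V, app (kernel.ι (m • 𝟙 G)) V t = s := by
  let ΓV : EtCoh.Ab X ⥤ AddCommGrpCat.{u + 1} :=
    sheafToPresheaf X.smallEtaleTopology AddCommGrpCat.{u + 1} ⋙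
      (evaluation X.Etaleᵒᵖ AddCommGrpCat.{u + 1}).obj (op V)
  have : ΓV.PreservesZeroMorphisms := ⟨fun _ _ => rfl⟩
  let S : ShortComplex (EtCoh.Ab X) := ShortComplex.mk (kernel.ι (m • 𝟙 G)) (m • 𝟙 G)
    (kernel.condition _)
  have hS : S.Exact := S.exact_of_f_is_kernel (kernelIsKernel _)
  have hS' : (S.map ΓV).Exact :=
    hS.map_of_mono_of_preservesKernel ΓV (inferInstanceAs (Mono (kernel.ι _))) inferInstance
  rw [ShortComplex.ab_exact_iff] at hS'
  obtain ⟨t, ht⟩ := hS' s (by
    change app (m • 𝟙 G) V s = 0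
    rw [Groth.Agent.H21.TorsMul.nsmul_id_apply, hs])
  exact ⟨t, ht⟩

variable {G L}

theorem epi_torsDesc (hG : IsLTorsion L G) : Epi (torsDesc G L) := by
  rw [← Sheaf.isLocallySurjective_iff_epi']
  constructor
  intro U s
  rw [mem_iff]
  intro x
  obtain ⟨V, g, m, ⟨v, hv⟩, hm, h0⟩ := hG U s x
  refine ⟨V, g, v, ?_, hv⟩
  obtain ⟨t, ht⟩ := exists_tors_section G m V (res G g s) h0
  refine ⟨app (colimit.ι (torsDiag G L) ⟨m, hm⟩) V t, ?_⟩
  have := congrArg (fun φ => app φ V t) (ι_torsDesc G L ⟨m, hm⟩)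
  exact this.trans ht

theorem isIso_torsDesc (hG : IsLTorsion L G) : IsIso (torsDesc G L) := by
  have := epi_torsDesc hG
  exact isIso_of_mono_of_epi _

open Groth.Agent.H60.ExtColim Groth.Agent.H69.EtColimH Groth.Agent.H69.EtCartan
  Groth.Agent.H60.QCEtale in
/-- every class in `H^q(X, colim D)` comes from a stage (`X` qcqs) -/
theorem surj_H [CompactSpace X] [QuasiSeparatedSpace X] {Λ : Type (u + 1)} [SmallCategory Λ]
    [IsFiltered Λ] (q : ℕ) (D : Λ ⥤ EtCoh.Ab X) : Surj (ZZ X) q D := by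
  have hX : QC (EtCoh.top X) :=
    ⟨inferInstanceAs (CompactSpace X), inferInstanceAs (QuasiSeparatedSpace X)⟩
  exact (surj_inj (ZZ X)
    (fun D => ⟨surj_zero_of (surj0_inj0 hX D).1, inj_zero_of (surj0_inj0 hX D).2⟩)
    (fun D hD q x => ext_eq_zero hX q (colimit D)
      (ac_colimit D (fun i => ac_of_injective (D.obj i))) x) q D).1

/-- **Lemma B.** On a qcqs scheme, every cohomology class of an `L`-torsion sheaf is killed by
an `L`-number. -/
theorem exists_nsmul_eq_zero_H [CompactSpace X] [QuasiSeparatedSpace X]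
    (hG : IsLTorsion L G) (q : ℕ) (c : EtCoh.H X G q) :
    ∃ m : ℕ, PrimesIn L m ∧ m • c = 0 := by
  have := isIso_torsDesc hG
  let c' : Ext (Groth.Agent.H69.EtColimH.ZZ X) (colimit (torsDiag G L)) q :=
    Ext.comp (show Ext (Groth.Agent.H69.EtColimH.ZZ X) G q from c)
      (Ext.mk₀ (inv (torsDesc G L))) (add_zero q)
  obtain ⟨m, (ξ : Ext (Groth.Agent.H69.EtColimH.ZZ X) (tors G m.val) q), hξ⟩ :=
    surj_H q (torsDiag G L) c'
  refine ⟨m.val, m.prop, ?_⟩
  have hc : (show Ext (Groth.Agent.H69.EtColimH.ZZ X) G q from c) =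
      ξ.comp (Ext.mk₀ (kernel.ι (m.val • 𝟙 G))) (add_zero q) := by
    have h1 : c'.comp (Ext.mk₀ (torsDesc G L)) (add_zero q) =
        (show Ext (Groth.Agent.H69.EtColimH.ZZ X) G q from c) := by
      simp only [c']
      rw [Ext.comp_assoc_of_third_deg_zero, Ext.mk₀_comp_mk₀, IsIso.inv_hom_id, Ext.comp_mk₀_id]
    have hξ' : ξ.comp (Ext.mk₀ (torsι G L m)) (add_zero q) = c' := hξ
    rw [← h1, ← hξ', Ext.comp_assoc_of_third_deg_zero, Ext.mk₀_comp_mk₀, torsι_desc]
  change m.val • (show Ext (Groth.Agent.H69.EtColimH.ZZ X) G q from c) = 0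
  rw [← ext_comp_mk₀_nsmul, hc, Ext.comp_assoc_of_third_deg_zero, Ext.mk₀_comp_mk₀,
    kernel.condition, Ext.mk₀_zero, Ext.comp_zero]

end Groth.Agent.H43.LTors
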