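import Groth.Agent.H43.LTors2
import Groth.Agent.H4.FlasquePush
import Groth.Agent.H60.AcycComp
import Mathlib.CategoryTheory.Abelian.Injective.Ext

/-!
# Higher direct images of `L`-torsion sheaves are `L`-torsion (helper43)

* `evW W N : (W_! ℤ ⟶ N) → N(W)` evaluation at the canonical section, bijective and natural.
* `exists_nsmul_eq_zero_ext`: for `W` étale over `X` with `W` qcqs and `G` an `L`-torsion sheaf,
  every class in `Ext^q(W_! ℤ, G)` is killed by an `L`-number.
* `exists_bound`: for an injective resolution `I` of `G`, every cocycle `z ∈ I^{q+1}(W)` has an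
  `L`-multiple which is a coboundary.
* `isLTorsion_Rpush`: `R^q f_* G` is `L`-torsion for `f` qcqs.
-/

set_option autoImplicit false
set_option backward.isDefEq.respectTransparency.types false
universe u
open CategoryTheory CategoryTheory.Limits AlgebraicGeometry Opposite Abelian

namespace Groth.Agent.H43.LTors

open EtAcyc EtCoh EtCore EtShriek Groth.Agent.H21.ConstSec Groth.Agent.H4.EtRestr
  Groth.Agent.H4.HpullEt Groth.Agent.H4.FlasquePush

section Ev

variable {U X : Scheme.{u}} (j : U ⟶ X) [Etale j]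

lemma ulift_int_hom_ext {A : Type*} [AddCommGroup A] (f g : ULift.{u + 1} ℤ →+ A)
    (h : f (ULift.up 1) = g (ULift.up 1)) : f = g := by
  have h1 : f.comp AddEquiv.ulift.symm.toAddMonoidHom = g.comp AddEquiv.ulift.symm.toAddMonoidHom :=
    AddMonoidHom.ext_int h
  ext x
  exact DFunLike.congr_fun h1 x.down

lemma ev_injective (N : Ab X) : Function.Injective (ev j N) := by
  intro t t' h
  apply ((extZeroAdj j).homEquiv _ _).injective
  apply ((constAdj U).homEquiv _ _).injective
  apply AddCommGrpCat.hom_ext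
  exact ulift_int_hom_ext _ _ h

end Ev

section EvW

variable {X : Scheme.{u}} (W : X.Etale)

lemma app_comp {F G H : Ab X} (φ : F ⟶ G) (ψ : G ⟶ H) (V : X.Etale) (s : Sec F V) :
    app (φ ≫ ψ) V s = app ψ V (app φ V s) := rfl

/-- evaluation of `W_! ℤ ⟶ N` at the canonical section over `W` -/
noncomputable def evW (N : Ab X) (t : ZJ W.hom ⟶ N) : Sec N W :=
  res N (selfIso W).inv (ev W.hom N t)

lemma evW_comp {M N : Ab X} (t : ZJ W.hom ⟶ M) (φ : M ⟶ N) :
    evW W N (t ≫ φ) = app φ W (evW W M t) := by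
  unfold evW
  rw [ev_comp]
  exact (app_res φ (selfIso W).inv (ev W.hom M t)).symm

lemma evW_injective (N : Ab X) : Function.Injective (evW W N) := by
  intro t t' h
  apply ev_injective W.hom N
  have h' := congrArg (res N (selfIso W).hom) h
  unfold evW at h'
  rw [res_res, res_res, Iso.hom_inv_id, res_id, res_id] at h'
  exact h'

lemma evW_surjective (N : Ab X) : Function.Surjective (evW W N) := by
  intro s
  obtain ⟨t, ht⟩ := ev_surjective W.hom N (res N (selfIso W).hom s)
  refine ⟨t, ?_⟩
  unfold evW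
  rw [ht, res_res, Iso.inv_hom_id, res_id]

lemma evW_zero (N : Ab X) : evW W N 0 = 0 := by
  have h := evW_comp W (0 : ZJ W.hom ⟶ N) (0 : N ⟶ N)
  rw [comp_zero] at h
  rw [h]
  rfl

lemma evW_nsmul (N : Ab X) (m : ℕ) (t : ZJ W.hom ⟶ N) : evW W N (m • t) = m • evW W N t := by
  have h : m • t = t ≫ (m • 𝟙 N) := by
    rw [Preadditive.comp_nsmul, Category.comp_id]
  rw [h, evW_comp, Groth.Agent.H21.TorsMul.nsmul_id_apply]

end EvW

section Bound

variable {X : Scheme.{u}} {L : Set ℕ} {G : Ab X}

/-- for `W` qcqs, classes in `Ext^q(W_! ℤ, G)` of an `L`-torsion sheaf are killed by `L`-numbers -/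
theorem exists_nsmul_eq_zero_ext (W : X.Etale) [CompactSpace W.left]
    [QuasiSeparatedSpace W.left] (hG : IsLTorsion L G) (q : ℕ) (c : Ext (ZJ W.hom) G q) :
    ∃ m : ℕ, PrimesIn L m ∧ m • c = 0 := by
  have hG' := Groth.Agent.H60.AcycComp.isLTorsion_pull W.hom L G hG
  haveI : CompactSpace ↥((𝟭 Scheme).obj W.left) := ‹CompactSpace W.left›
  haveI : QuasiSeparatedSpace ↥((𝟭 Scheme).obj W.left) := ‹QuasiSeparatedSpace W.left›
  obtain ⟨m, hm, h0⟩ := exists_nsmul_eq_zero_H hG' q (phiJ W.hom G q c)
  refine ⟨m, hm, (phiJ W.hom G q).injective ?_⟩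
  rw [map_nsmul, h0, map_zero]

lemma nsmul_extMk {C : Type*} [Category C] [Abelian C] [HasExt.{u + 1} C] {Z Y : C}
    (R : InjectiveResolution Y) {n : ℕ} (f : Z ⟶ R.cocomplex.X n) (k : ℕ) (hk : n + 1 = k)
    (hf : f ≫ R.cocomplex.d n k = 0) (m : ℕ) :
    m • R.extMk f k hk hf = R.extMk (m • f) k hk (by rw [Preadditive.nsmul_comp, hf, smul_zero]) := by
  induction m with
  | zero => simp
  | succ m ih =>
    simp only [succ_nsmul]
    rw [ih, InjectiveResolution.add_extMk]

/-- some `L`-multiple of a cocycle over a qcqs `W` is a coboundary -/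
theorem exists_bound (W : X.Etale) [CompactSpace W.left] [QuasiSeparatedSpace W.left]
    (hG : IsLTorsion L G) (I : InjectiveResolution G) (q : ℕ)
    (z : Sec (I.cocomplex.X (q + 1)) W)
    (hz : app (I.cocomplex.d (q + 1) (q + 2)) W z = 0) :
    ∃ (m : ℕ) (y : Sec (I.cocomplex.X q) W), PrimesIn L m ∧
      app (I.cocomplex.d q (q + 1)) W y = m • z := by
  obtain ⟨ζ, hζ⟩ := evW_surjective W _ z
  have hζd : ζ ≫ I.cocomplex.d (q + 1) (q + 2) = 0 := by
    apply evW_injective W
    rw [evW_comp, hζ, hz, evW_zero]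
  obtain ⟨m, hm, h0⟩ := exists_nsmul_eq_zero_ext W hG (q + 1) (I.extMk ζ (q + 2) rfl hζd)
  rw [nsmul_extMk, InjectiveResolution.extMk_eq_zero_iff _ _ _ _ _ q rfl] at h0
  obtain ⟨g, hg⟩ := h0
  refine ⟨m, evW W _ g, hm, ?_⟩
  rw [← evW_comp, hg, evW_nsmul, hζ]

end Bound

section Main

variable {X Y : Scheme.{u}} (f : X ⟶ Y) [QuasiCompact f] [QuasiSeparated f] {L : Set ℕ}

/-- **Lemma A.** higher direct images of `L`-torsion sheaves are `L`-torsion -/
theorem isLTorsion_Rpush (G : Ab X) (hG : IsLTorsion L G) (q : ℕ) :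
    IsLTorsion L ((EtCoh.Rpush f q).obj G) := by
  cases q with
  | zero =>
    have : PreservesFiniteLimits (EtCoh.push f) := by
      have := (EtCoh.pullPushAdj f).rightAdjoint_preservesLimits
      infer_instance
    exact isLTorsion_of_iso (((EtCoh.push f).rightDerivedZeroIsoSelf).app G).symm
      (isLTorsion_push f G hG)
  | succ q =>
    let I : InjectiveResolution G := Classical.choice (HasInjectiveResolution.out (Z := G))
    let K := ((EtCoh.push f).mapHomologicalComplex (ComplexShape.up ℕ)).obj I.cocomplex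
    refine isLTorsion_of_iso (I.isoRightDerivedObj (EtCoh.push f) (q + 1)).symm ?_
    change IsLTorsion L (K.homology (q + 1))
    intro U s x
    -- lift `s` locally to a cycle
    have hls : Sheaf.IsLocallySurjective (K.homologyπ (q + 1)) := by
      rw [Sheaf.isLocallySurjective_iff_epi']
      infer_instance
    have hS := Presheaf.imageSieve_mem Y.smallEtaleTopology (K.homologyπ (q + 1)).hom s
    rw [mem_iff] at hS
    obtain ⟨W₁, g₁, w₁, ⟨z', hz'⟩, hw₁⟩ := hS x
    -- shrink to an affine neighbourhood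
    obtain ⟨_, ⟨V, hV, rfl⟩, hxV, -⟩ :=
      W₁.left.isBasis_affineOpens.exists_subset_of_mem_open (Set.mem_univ w₁) isOpen_univ
    let V₀ : W₁.left.Opens := V
    let V' : Y.Etale := Scheme.Etale.mk (V₀.ι ≫ W₁.hom)
    let g₂ : V' ⟶ W₁ := MorphismProperty.Over.homMk V₀.ι rfl trivial
    have : IsAffine V₀.toScheme := hV
    have : CompactSpace V₀.toScheme := inferInstance
    have : QuasiSeparatedSpace V₀.toScheme := inferInstance
    let h : V₀.toScheme ⟶ Y := V₀.ι ≫ W₁.hom
    have hc' : CompactSpace ↑(pullback h f) := inferInstance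
    have hq' : QuasiSeparatedSpace ↑(pullback h f) :=
      quasiSeparatedSpace_of_quasiSeparated (pullback.fst h f)
    have hc : CompactSpace ((EtCoh.bc f).obj V').left := hc'
    have hq : QuasiSeparatedSpace ((EtCoh.bc f).obj V').left := hq'
    let z'' : Sec (K.cycles (q + 1)) V' := res _ g₂ z'
    let z : Sec (I.cocomplex.X (q + 1)) ((EtCoh.bc f).obj V') := app (K.iCycles (q + 1)) V' z''
    have hz : app (I.cocomplex.d (q + 1) (q + 2)) ((EtCoh.bc f).obj V') z = 0 := by
      have := congrArg (fun φ => app φ V' z'') (K.iCycles_d (q + 1) (q + 2))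
      exact this
    obtain ⟨m, y, hm, hy⟩ := exists_bound ((EtCoh.bc f).obj V') hG I q z hz
    refine ⟨V', g₂ ≫ g₁, m, ⟨⟨w₁, hxV⟩, ?_⟩, hm, ?_⟩
    · have : (g₂ ≫ g₁).left.base ⟨w₁, hxV⟩ = g₁.left.base (g₂.left.base ⟨w₁, hxV⟩) := rfl
      rw [this]
      exact hw₁
    · have h1 : res (K.homology (q + 1)) (g₂ ≫ g₁) s = app (K.homologyπ (q + 1)) V' z'' := by
        rw [app_res, ← res_res]
        exact congrArg (res _ g₂) hz'.symm
      have h2 : m • z'' = app (K.toCycles q (q + 1)) V' y := by
        have hmono : Mono ((K.iCycles (q + 1)).hom.app (op V')) := by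
          have h1 : Mono (K.iCycles (q + 1)).hom :=
            (Sheaf.Hom.mono_iff_presheaf_mono _ _ _).1 inferInstance
          exact inferInstance
        have hinj : Function.Injective (app (K.iCycles (q + 1)) V') :=
          (AddCommGrpCat.mono_iff_injective _).1 hmono
        apply hinj
        rw [map_nsmul]
        have := congrArg (fun φ => app φ V' y) (K.toCycles_i q (q + 1))
        exact hy.symm.trans this.symm
      change m • res (K.homology (q + 1)) (g₂ ≫ g₁) s = 0
      rw [h1, ← map_nsmul, h2]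
      have := congrArg (fun φ => app φ V' y) (K.toCycles_comp_homologyπ q (q + 1))
      exact this

end Main

end Groth.Agent.H43.LTors
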