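import Groth.Agent.H4.ExtAdjL
import Groth.Agent.H4.AcycPush
import Groth.Agent.H33.RDLes

/-!
# Abstract homological lemmas for the `L`-torsion base change argument (helper43)

* `psi_bijective_trunc`: truncated edge isomorphism: for `L ⊣ R` with `L` exact, if `R^q R B = 0`
  for `1 ≤ q ≤ N`, then `psi : Ext^n(A, R B) → Ext^n(L A, B)` is bijective for `n ≤ N`.
* `isZero_rightDerived_of_acyc`: `Ext^q(L t, G) = 0` for all test objects `t` (detecting
  epimorphisms) and `q > 0` implies `R^q R G = 0` for `q > 0`.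
* `ext_tors_eq_zero`: for `I` injective and divisible by `m` and `Z` without `m`-torsion,
  `Ext^q(Z, I[m]) = 0` for `q > 0`.
-/

set_option autoImplicit false
universe w w' v v' u u'
open CategoryTheory CategoryTheory.Limits Abelian

namespace Groth.Agent.H43.LTors4

section PsiTrunc

open Groth.Agent.H4.ExtAdjL

variable {C : Type u} [Category.{v} C] [Abelian C] {D : Type u'} [Category.{v'} D] [Abelian D]
variable {L : C ⥤ D} {R : D ⥤ C} (adj : L ⊣ R)
variable [L.Additive] [PreservesFiniteLimits L] [PreservesFiniteColimits L] [R.Additive]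
variable [HasExt.{w} C] [HasExt.{w'} D]

attribute [local instance] Ext.subsingleton_of_injective in
/-- **Truncated edge map**: if `R^q R B = 0` for `1 ≤ q ≤ N`, then
`psi : Ext^n(A, R B) → Ext^n(L A, B)` is bijective for `n ≤ N`. -/
theorem psi_bijective_trunc [EnoughInjectives D] (A : C) (n : ℕ) :
    ∀ (N : ℕ) (B : D), (∀ q : ℕ, 0 < q → q ≤ N → IsZero ((R.rightDerived q).obj B)) → n ≤ N →
      Function.Bijective (psi adj A B n) := by
  induction n with
  | zero =>
    intro N B _ _
    have h : ⇑(psi adj A B 0) = (Ext.homEquiv₀ (X := L.obj A) (Y := B)).symm ∘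
        (adj.homEquiv A B).symm ∘ (Ext.homEquiv₀ (X := A) (Y := R.obj B)) := by
      ext x
      rcases (Ext.mk₀_bijective A (R.obj B)).2 x with ⟨y, rfl⟩
      simp [psi_mk₀, Ext.homEquiv₀]
    rw [h]
    exact (Ext.homEquiv₀.symm.bijective.comp (adj.homEquiv A B).symm.bijective).comp
      Ext.homEquiv₀.bijective
  | succ n hn =>
    intro N B hB hN
    let I : InjectivePresentation B := Classical.arbitrary _
    let S := ShortComplex.mk _ _ (cokernel.condition I.f)
    have hI : Injective S.X₂ := I.injective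
    have hRI : Injective (S.map R).X₂ := adj.map_injective _ I.injective
    have hS : S.ShortExact := { exact := ShortComplex.exact_cokernel I.f }
    have hRS : (S.map R).ShortExact :=
      shortExact_map_of_isZero adj hS (hB 1 Nat.one_pos (by omega))
    have hI0 : ∀ q : ℕ, 0 < q → q ≤ N → IsZero ((R.rightDerived q).obj S.X₂) := by
      intro q hq _
      obtain ⟨k, rfl⟩ : ∃ k, q = k + 1 := ⟨q - 1, by omega⟩
      exact Functor.isZero_rightDerived_obj_injective_succ R k S.X₂
    have hQ0 : ∀ q : ℕ, 0 < q → q ≤ N - 1 → IsZero ((R.rightDerived q).obj S.X₃) := by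
      intro q hq hqN
      obtain ⟨_, _, δ, hδ⟩ := Groth.Agent.H33.RDLes.exists_les R S hS
      obtain ⟨w₁, _, e₃, _⟩ := hδ q
      exact e₃.isZero_X₂ ((hI0 q hq (by omega)).eq_of_src _ _)
        ((hB (q + 1) (Nat.succ_pos q) (by omega)).eq_of_tgt _ _)
    exact AddMonoidHom.bijective_of_surjective_of_bijective_of_right_exact _ _ _ _
      (psi adj A S.X₂ n) (psi adj A S.X₃ n) (psi adj A S.X₁ (n + 1))
      (by
        ext e
        exact (psi_comp_mk₀ adj A e S.g).symm)
      (by
        ext e
        exact (psi_comp_extClass adj A hS hRS e).symm)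
      ((ShortComplex.ab_exact_iff_function_exact _).mp
        (Ext.covariant_sequence_exact₃' A hRS n (n + 1) rfl))
      ((ShortComplex.ab_exact_iff_function_exact _).mp
        (Ext.covariant_sequence_exact₃' (L.obj A) hS n (n + 1) rfl))
      (hn N _ hI0 (by omega)).surjective (hn (N - 1) _ hQ0 (by omega))
      (fun x₁ ↦ Ext.covariant_sequence_exact₁ _ hRS x₁ (by subsingleton) rfl)
      (fun y₁ ↦ Ext.covariant_sequence_exact₁ _ hS y₁ (by subsingleton) rfl)

end PsiTrunc

section Acyc

open Groth.Agent.H4.AcycPush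

variable {A : Type u} [Category.{v} A] [Abelian A] [HasExt.{w} A] [EnoughInjectives A]
  {B : Type u'} [Category.{v'} B] [Abelian B] [HasExt.{w'} B]
  {L : B ⥤ A} {R : A ⥤ B} (adj : L ⊣ R) [R.Additive] [R.PreservesInjectiveObjects]
  [PreservesFiniteLimits R]
  (T : B → Prop)
  (hT : ∀ {M N : B} (φ : M ⟶ N),
    (∀ t, T t → ∀ s : t ⟶ N, ∃ s' : t ⟶ M, s' ≫ φ = s) → Epi φ)

include adj hT in
omit [R.PreservesInjectiveObjects] in
/-- acyclic objects (for the test objects `L t`) have vanishing higher derived direct images -/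
theorem isZero_rightDerived_of_acyc (q : ℕ) (G : A) (hG : Acyc L T G) :
    IsZero ((R.rightDerived (q + 1)).obj G) := by
  induction q generalizing G with
  | zero =>
    let I : InjectivePresentation G := Classical.arbitrary _
    let S := ShortComplex.mk _ _ (cokernel.condition I.f)
    have : Injective S.X₂ := I.injective
    have hS : S.ShortExact := { exact := ShortComplex.exact_cokernel I.f }
    have hRS := map_shortExact adj T hT S hS hG
    obtain ⟨_, _, δ, hδ⟩ := Groth.Agent.H33.RDLes.exists_les R S hS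
    obtain ⟨w₁, w₂, e₃, e₁⟩ := hδ 0
    have hz : IsZero ((R.rightDerived 1).obj S.X₂) :=
      Functor.isZero_rightDerived_obj_injective_succ R 0 S.X₂
    have hepiδ : Epi (δ 0) := e₁.epi_f (hz.eq_of_tgt _ _)
    have hepi : Epi (R.map S.g) := hRS.epi_g
    have hnat := R.rightDerivedZeroIsoSelf.hom.naturality S.g
    have hepi0 : Epi ((R.rightDerived 0).map S.g) := by
      have h2 : (R.rightDerived 0).map S.g = R.rightDerivedZeroIsoSelf.hom.app S.X₂ ≫ R.map S.g ≫
          R.rightDerivedZeroIsoSelf.inv.app S.X₃ := by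
        rw [← reassoc_of% hnat, Iso.hom_inv_id_app, Category.comp_id]
      rw [h2]
      infer_instance
    have hδ0 : δ 0 = 0 := by
      rw [← cancel_epi ((R.rightDerived 0).map S.g), w₁, comp_zero]
    exact IsZero.of_epi_eq_zero (δ 0) hδ0
  | succ q ih =>
    let I : InjectivePresentation G := Classical.arbitrary _
    let S := ShortComplex.mk _ _ (cokernel.condition I.f)
    have : Injective S.X₂ := I.injective
    have hS : S.ShortExact := { exact := ShortComplex.exact_cokernel I.f }
    obtain ⟨_, _, δ, hδ⟩ := Groth.Agent.H33.RDLes.exists_les R S hS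
    obtain ⟨w₁, w₂, e₃, e₁⟩ := hδ (q + 1)
    have hz : IsZero ((R.rightDerived (q + 2)).obj S.X₂) :=
      Functor.isZero_rightDerived_obj_injective_succ R (q + 1) S.X₂
    have hepiδ : Epi (δ (q + 1)) := e₁.epi_f (hz.eq_of_tgt _ _)
    have h3 : Acyc L T S.X₃ := acyc_X₃ T S hS hG
    have hQ : IsZero ((R.rightDerived (q + 1)).obj S.X₃) := ih S.X₃ h3
    exact IsZero.of_epi_eq_zero (δ (q + 1)) (hQ.eq_of_src _ _)

end Acyc

section Tors

variable {C : Type u} [Category.{v} C] [Abelian C] [HasExt.{w} C]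

/-- for `I` injective with `m : I → I` epi and `Z` with `m : Z → Z` mono, the `m`-torsion of `I` is
`Ext(Z, -)`-acyclic -/
theorem ext_tors_eq_zero {I Z : C} [Injective I] (m : ℕ) (hI : Epi (m • 𝟙 I))
    (hZ : Mono (m • 𝟙 Z)) (q : ℕ) (e : Ext.{w} Z (kernel (m • 𝟙 I)) (q + 1)) : e = 0 := by
  let S : ShortComplex C := ShortComplex.mk (kernel.ι (m • 𝟙 I)) (m • 𝟙 I) (kernel.condition _)
  have hS : S.ShortExact :=
    { exact := S.exact_of_f_is_kernel (kernelIsKernel _)
      mono_f := inferInstanceAs (Mono (kernel.ι _))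
      epi_g := hI }
  have hI' : Injective S.X₂ := inferInstanceAs (Injective I)
  obtain ⟨x₃, rfl⟩ := Ext.covariant_sequence_exact₁ Z hS e
    (Ext.eq_zero_of_injective _) (rfl : q + 1 = q + 1)
  cases q with
  | zero =>
    obtain ⟨u, rfl⟩ := (Ext.mk₀_bijective _ _).2 x₃
    -- lift `u` through multiplication by `m`
    obtain ⟨s', hs'⟩ : ∃ s' : Z ⟶ I, (m • 𝟙 Z) ≫ s' = u := ⟨Injective.factorThru u (m • 𝟙 Z),
      Injective.comp_factorThru u (m • 𝟙 Z)⟩
    have hs'' : s' ≫ S.g = u := by
      change s' ≫ (m • 𝟙 I) = u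
      rw [← hs', Preadditive.comp_nsmul, Preadditive.nsmul_comp, Category.comp_id,
        Category.id_comp]
    have h1 : Ext.mk₀ u = (Ext.mk₀ s').comp (Ext.mk₀ S.g) (add_zero 0) := by
      rw [Ext.mk₀_comp_mk₀]
      exact congrArg _ hs''.symm
    rw [h1, Ext.comp_assoc_of_second_deg_zero, ShortComplex.ShortExact.comp_extClass,
      Ext.comp_zero]
  | succ q =>
    have : x₃ = 0 := Ext.eq_zero_of_injective _
    rw [this, Ext.zero_comp]

end Tors

end Groth.Agent.H43.LTors4
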