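import Groth.Agent.H43.LTors3
import Groth.Agent.H43.LTors4

/-!
# `m`-torsion envelopes of étale sheaves (helper43)

* `mono_nsmul_ZZ`, `mono_nsmul_ZJ`: the sheaves `ℤ_X` and `j_! ℤ` have no `m`-torsion.
* `epi_nsmul_of_injective`: injective abelian étale sheaves are divisible.
* `ext_ZJ_tors_eq_zero`, `ext_ZZ_tors_eq_zero`: `I[m]` is acyclic for `Ext(W_! ℤ, -)`, `Ext(ℤ, -)`.
* `isZero_Rpush_tors`: `R^q f_* (I[m]) = 0` for `q > 0` and any `f`.
-/

set_option autoImplicit false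
set_option backward.isDefEq.respectTransparency.types false
universe u
open CategoryTheory CategoryTheory.Limits AlgebraicGeometry Opposite Abelian

namespace Groth.Agent.H43.LTors

open EtAcyc EtCoh EtCore EtShriek Groth.Agent.H21.ConstSec Groth.Agent.H4.EtRestr
  Groth.Agent.H4.HpullEt Groth.Agent.H4.FlasquePush Groth.Agent.H69.EtColimH

section TorsionFree

variable {X : Scheme.{u}}

instance constantSheaf_preservesFiniteLimits :
    PreservesFiniteLimits (constantSheaf X.smallEtaleTopology AddCommGrpCat.{u + 1}) := by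
  have h1 : PreservesLimitsOfSize.{0, 0}
      (Functor.const (X.Etale)ᵒᵖ : AddCommGrpCat.{u + 1} ⥤ _) :=
    (colimConstAdj (J := (X.Etale)ᵒᵖ) (C := AddCommGrpCat.{u + 1})).rightAdjoint_preservesLimits
  have h2 : PreservesFiniteLimits (Functor.const (X.Etale)ᵒᵖ : AddCommGrpCat.{u + 1} ⥤ _) :=
    PreservesLimitsOfSize.preservesFiniteLimits _
  exact comp_preservesFiniteLimits _ _

lemma nsmul_id_ulift_int_apply (m : ℕ) (c : ULift.{u + 1} ℤ) :
    (m • 𝟙 (AddCommGrpCat.of (ULift.{u + 1} ℤ)) : _ ⟶ _).hom c = m • c := by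
  induction m with
  | zero => simp
  | succ m ih =>
    rw [succ_nsmul, succ_nsmul, ← ih]
    rfl

lemma mono_nsmul_ulift_int (m : ℕ) (hm : 0 < m) :
    Mono (m • 𝟙 (AddCommGrpCat.of (ULift.{u + 1} ℤ))) := by
  rw [AddCommGrpCat.mono_iff_injective]
  intro a b hab
  have h2 : m • a = m • b := by
    rw [← nsmul_id_ulift_int_apply m a, ← nsmul_id_ulift_int_apply m b]; exact hab
  have h3 : m • a.down = m • b.down := congrArg ULift.down h2
  have hm' : (m : ℤ) ≠ 0 := by exact_mod_cast hm.ne'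
  simp only [nsmul_eq_mul] at h3
  exact ULift.ext _ _ (mul_left_cancel₀ hm' h3)

lemma mono_nsmul_ZZ (m : ℕ) (hm : 0 < m) : Mono (m • 𝟙 (ZZ X)) := by
  have h : m • 𝟙 (ZZ X) = (constantSheaf X.smallEtaleTopology AddCommGrpCat.{u + 1}).map
      (m • 𝟙 (AddCommGrpCat.of (ULift.{u + 1} ℤ))) := by
    rw [Functor.map_nsmul, CategoryTheory.Functor.map_id]
  rw [h]
  have := mono_nsmul_ulift_int.{u} m hm
  infer_instance

lemma mono_nsmul_ZJ {U : Scheme.{u}} (j : U ⟶ X) [Etale j] (m : ℕ) (hm : 0 < m) :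
    Mono (m • 𝟙 (ZJ j)) := by
  have : (restrAlong j).Additive := { map_add := by intros; rfl }
  have : (extZero j).Additive := (extZeroAdj j).left_adjoint_additive
  have h : m • 𝟙 (ZJ j) = (extZero j).map (m • 𝟙 (EtCoh.const U ℤ)) := by
    rw [Functor.map_nsmul, CategoryTheory.Functor.map_id]
  rw [h]
  have : Mono (m • 𝟙 (EtCoh.const U ℤ)) := mono_nsmul_ZZ m hm
  infer_instance

/-- injective abelian étale sheaves are divisible -/
theorem epi_nsmul_of_injective (I : Ab X) [Injective I] (m : ℕ) (hm : 0 < m) :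
    Epi (m • 𝟙 I) := by
  apply epi_of_lifts
  rintro t ⟨W, rfl⟩ s
  have := mono_nsmul_ZJ W.hom m hm
  refine ⟨Injective.factorThru s (m • 𝟙 (ZJ W.hom)), ?_⟩
  rw [Preadditive.comp_nsmul, Category.comp_id, ← Category.id_comp (Injective.factorThru _ _),
    ← Preadditive.nsmul_comp, Injective.comp_factorThru]

variable (I : Ab X) [Injective I] (m : ℕ) (hm : 0 < m)

include hm in
theorem ext_ZJ_tors_eq_zero (W : X.Etale) (q : ℕ) (e : Ext (ZJ W.hom) (tors I m) (q + 1)) :
    e = 0 :=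
  Groth.Agent.H43.LTors4.ext_tors_eq_zero m (epi_nsmul_of_injective I m hm)
    (mono_nsmul_ZJ W.hom m hm) q e

include hm in
theorem ext_ZZ_tors_eq_zero (q : ℕ) (e : Ext (ZZ X) (tors I m) (q + 1)) : e = 0 :=
  Groth.Agent.H43.LTors4.ext_tors_eq_zero m (epi_nsmul_of_injective I m hm)
    (mono_nsmul_ZZ m hm) q e

end TorsionFree

section Rpush

variable {X Y : Scheme.{u}} (f : X ⟶ Y) (I : Ab X) [Injective I] (m : ℕ) (hm : 0 < m)

include hm in
/-- `I[m]` is acyclic for every direct image -/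
theorem isZero_Rpush_tors (q : ℕ) : IsZero ((EtCoh.Rpush f (q + 1)).obj (tors I m)) := by
  refine Groth.Agent.H43.LTors4.isZero_rightDerived_of_acyc (EtCoh.pullPushAdj f) (T Y)
    (fun φ h => epi_of_lifts φ h) q (tors I m) ?_
  rintro t ⟨W₁, rfl⟩ q' hq' x
  obtain ⟨q', rfl⟩ : ∃ k, q' = k + 1 := ⟨q' - 1, by omega⟩
  have h0 := ext_ZJ_tors_eq_zero I m hm ((bc f).obj W₁) q'
    ((Ext.mk₀ (pullZJIso f W₁).inv).comp x (zero_add (q' + 1)))
  have h1 : x = (Ext.mk₀ (pullZJIso f W₁).hom).comp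
      ((Ext.mk₀ (pullZJIso f W₁).inv).comp x (zero_add (q' + 1))) (zero_add (q' + 1)) := by
    rw [← Ext.comp_assoc _ _ _ (zero_add 0) (zero_add (q' + 1)) (by omega), Ext.mk₀_comp_mk₀,
      Iso.hom_inv_id, Ext.mk₀_id_comp]
  rw [h1, h0, Ext.comp_zero]

end Rpush

end Groth.Agent.H43.LTors
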