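import Groth.Agent.H43.LTors5
import Groth.Agent.H4.HpullAPI
import Groth.Prelude.Def_EtBC2

/-!
# Degree zero: pullback on `H^0` and the base change map (helper43)

* `unitMap f G : Hom(ℤ_Y, G) → Hom(ℤ_Y, f_* f⁻¹ G)`, composition with the unit.
* `Hpull_zero_bijective_iff`: `Hpull f G 0` is bijective iff `unitMap f G` is.
* `unitMap_bijective_of_baseChange0`: in a commutative square `hb ≫ p = pY ≫ h`, if
  `baseChange0 p h pY hb w F` is an isomorphism and `unitMap h (p_* F)` is bijective then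
  `unitMap hb F` is bijective.
* `isIso_baseChange0_of_isIso_bcQ`.
-/

set_option autoImplicit false
set_option backward.isDefEq.respectTransparency.types false
universe u
open CategoryTheory CategoryTheory.Limits AlgebraicGeometry Opposite Abelian

namespace Groth.Agent.H43.LTors

open EtAcyc EtCoh EtCore Groth.Agent.H4.HpullAPI Groth.Agent.H69.EtColimH

section DegreeZero

variable {X Y : Scheme.{u}} (f : X ⟶ Y) (G : Ab Y)

/-- composition with the unit `G ⟶ f_* f⁻¹ G` on `Hom(ℤ_Y, -)` -/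
noncomputable def unitMap : (ZZ Y ⟶ G) → (ZZ Y ⟶ (EtCoh.push f).obj ((EtCoh.pull f).obj G)) :=
  fun φ => φ ≫ (EtCoh.pullPushAdj f).unit.app G

/-- the adjunction bijection `Hom(ℤ_X, A) ≃ Hom(ℤ_Y, f_* A)` -/
noncomputable def homPush (A : Ab X) : (ZZ X ⟶ A) ≃ (ZZ Y ⟶ (EtCoh.push f).obj A) :=
  ((pullConst f ℤ).homCongr (Iso.refl A)).symm.trans ((EtCoh.pullPushAdj f).homEquiv (ZZ Y) A)

lemma homPush_apply (A : Ab X) (ψ : ZZ X ⟶ A) :
    homPush f A ψ = (EtCoh.pullPushAdj f).homEquiv (ZZ Y) A ((pullConst f ℤ).hom ≫ ψ) := by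
  simp [homPush, Iso.homCongr]

lemma homPush_comp {A A' : Ab X} (ψ : ZZ X ⟶ A) (α : A ⟶ A') :
    homPush f A' (ψ ≫ α) = homPush f A ψ ≫ (EtCoh.push f).map α := by
  rw [homPush_apply, homPush_apply, ← Category.assoc, Adjunction.homEquiv_naturality_right]

variable [PreservesFiniteLimits (EtCoh.pull f)]

lemma Hpull_zero_mk₀ (φ : ZZ Y ⟶ G) :
    Hpull f G 0 (Ext.mk₀ φ) = Ext.mk₀ ((pullConst f ℤ).inv ≫ (EtCoh.pull f).map φ) := by
  rw [Hpull_apply, Ext.mapExactFunctor_mk₀, Ext.mk₀_comp_mk₀]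

theorem Hpull_zero_bijective_iff :
    Function.Bijective (Hpull f G 0) ↔ Function.Bijective (unitMap f G) := by
  let a : (ZZ Y ⟶ G) → (ZZ X ⟶ (EtCoh.pull f).obj G) :=
    fun φ => (pullConst f ℤ).inv ≫ (EtCoh.pull f).map φ
  have h1 : ⇑(Hpull f G 0) ∘ (Ext.mk₀ : (ZZ Y ⟶ G) → _) = Ext.mk₀ ∘ a :=
    funext (Hpull_zero_mk₀ f G)
  have h2 : unitMap f G = ⇑(homPush f ((EtCoh.pull f).obj G)) ∘ a := by
    funext φ
    change _ = homPush f _ ((pullConst f ℤ).inv ≫ (EtCoh.pull f).map φ)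
    rw [homPush_apply, Iso.hom_inv_id_assoc, Adjunction.homEquiv_unit]
    exact ((EtCoh.pullPushAdj f).unit.naturality φ)
  rw [← Function.Bijective.of_comp_iff _ (Ext.mk₀_bijective (ZZ Y) G), h1,
    Function.Bijective.of_comp_iff' (Ext.mk₀_bijective (ZZ X) ((EtCoh.pull f).obj G)), h2,
    Function.Bijective.of_comp_iff' (homPush f _).bijective]

end DegreeZero

section Square

variable {X Y Xb Yb : Scheme.{u}} (h : Y ⟶ X) (p : Xb ⟶ X) (hb : Yb ⟶ Xb) (pY : Yb ⟶ Y)
  (w : hb ≫ p = pY ≫ h) (F : Ab Xb)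

lemma bijective_comp_right_of_isIso {A B C : Ab X} (α : B ⟶ C) [IsIso α] :
    Function.Bijective (fun φ : A ⟶ B => φ ≫ α) :=
  ⟨fun a b hab => (cancel_mono α).1 hab, fun c => ⟨c ≫ inv α, by simp⟩⟩

/-- degree-zero base change: bijectivity of the unit map for `hb` from that for `h` -/
theorem unitMap_bijective_of_baseChange0 [IsIso (EtCoh.baseChange0 p h pY hb w F)]
    (hh : Function.Bijective (unitMap h ((EtCoh.push p).obj F))) :
    Function.Bijective (unitMap hb F) := by
  let iso : (EtCoh.push p).obj ((EtCoh.push hb).obj ((EtCoh.pull hb).obj F)) ⟶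
      (EtCoh.push h).obj ((EtCoh.push pY).obj ((EtCoh.pull hb).obj F)) :=
    (EtCoh.pushComp p hb).hom.app _ ≫ (EtCoh.pushCongr w).hom.app _ ≫
      (EtCoh.pushComp h pY).inv.app _
  let β : (EtCoh.push p).obj F ⟶
      (EtCoh.push h).obj ((EtCoh.push pY).obj ((EtCoh.pull hb).obj F)) :=
    (EtCoh.push p).map ((EtCoh.pullPushAdj hb).unit.app F) ≫ iso
  have hβ : β = (EtCoh.pullPushAdj h).unit.app ((EtCoh.push p).obj F) ≫
      (EtCoh.push h).map (EtCoh.baseChange0 p h pY hb w F) := by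
    have hu := (EtCoh.pullPushAdj h).homEquiv_unit (X := (EtCoh.push p).obj F)
      (Y := (EtCoh.push pY).obj ((EtCoh.pull hb).obj F)) (f := EtCoh.baseChange0 p h pY hb w F)
    rw [← hu]
    unfold EtCoh.baseChange0
    rw [Equiv.apply_symm_apply]
  -- step 1: `· ≫ β` is bijective
  have s1 : Function.Bijective (fun φ : ZZ X ⟶ (EtCoh.push p).obj F => φ ≫ β) := by
    have : (fun φ : ZZ X ⟶ (EtCoh.push p).obj F => φ ≫ β) =
        (fun ψ => ψ ≫ (EtCoh.push h).map (EtCoh.baseChange0 p h pY hb w F)) ∘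
          unitMap h ((EtCoh.push p).obj F) := by
      funext φ
      simp only [Function.comp_apply, unitMap, hβ, Category.assoc]
    rw [this]
    exact (bijective_comp_right_of_isIso _).comp hh
  -- step 2: `· ≫ p_*(unit)` is bijective
  have s2 : Function.Bijective (fun φ : ZZ X ⟶ (EtCoh.push p).obj F =>
      φ ≫ (EtCoh.push p).map ((EtCoh.pullPushAdj hb).unit.app F)) := by
    have hiso : IsIso iso := by
      dsimp only [iso]
      infer_instance
    have : (fun φ : ZZ X ⟶ (EtCoh.push p).obj F => φ ≫ β) =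
        (fun ψ => ψ ≫ iso) ∘ (fun φ : ZZ X ⟶ (EtCoh.push p).obj F =>
          φ ≫ (EtCoh.push p).map ((EtCoh.pullPushAdj hb).unit.app F)) := by
      funext φ
      simp only [Function.comp_apply, β, Category.assoc]
    rw [this] at s1
    exact (Function.Bijective.of_comp_iff' (bijective_comp_right_of_isIso iso) _).1 s1
  -- step 3: transport along `homPush p`
  have s3 : ⇑(homPush p _) ∘ unitMap hb F =
      (fun φ : ZZ X ⟶ (EtCoh.push p).obj F =>
        φ ≫ (EtCoh.push p).map ((EtCoh.pullPushAdj hb).unit.app F)) ∘ ⇑(homPush p F) := by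
    funext ψ
    simp only [Function.comp_apply, unitMap]
    exact homPush_comp p ψ _
  have s4 : Function.Bijective (⇑(homPush p _) ∘ unitMap hb F) := by
    rw [s3]
    exact s2.comp (homPush p F).bijective
  exact (Function.Bijective.of_comp_iff' (homPush p _).bijective _).1 s4

/-- if the degree-zero `bcQ` is an isomorphism, so is `baseChange0` -/
theorem isIso_baseChange0_of_isIso_bcQ [PreservesFiniteLimits (EtCoh.pull hb)]
    (hiso : IsIso (EtBC.bcQ p h pY hb w 0 F)) : IsIso (EtCoh.baseChange0 p h pY hb w F) := by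
  have hc := EtBC.bcQ_zero_compat p h pY hb w F
  have h1 : IsIso ((EtCoh.push p).toRightDerivedZero.app F) := inferInstance
  have h2 : IsIso ((EtCoh.push pY).toRightDerivedZero.app ((EtCoh.pull hb).obj F)) :=
    inferInstance
  have h3 : IsIso ((EtCoh.pull h).map ((EtCoh.push p).toRightDerivedZero.app F) ≫
      EtBC.bcQ p h pY hb w 0 F) := inferInstance
  rw [hc] at h3
  exact IsIso.of_isIso_comp_right _ ((EtCoh.push pY).toRightDerivedZero.app ((EtCoh.pull hb).obj F))

end Square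

end Groth.Agent.H43.LTors
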