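import Groth.Agent.H43.LTors6

/-!
# Base change of the cohomological comparison condition (helper43)

Main result `compN_pullback`: in a cartesian square of qcqs schemes, if `h` satisfies `CompN h L n`
and the base change maps `bcQ` are isomorphisms in degrees `≤ n` (mono in degree `n+1`) for
`L`-torsion sheaves, then `hb` satisfies `CompN hb L n`.
-/

set_option autoImplicit false
set_option backward.isDefEq.respectTransparency.types false
universe u
open CategoryTheory CategoryTheory.Limits AlgebraicGeometry Opposite Abelian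

namespace Groth.Agent.H43.LTors

open EtAcyc EtCoh EtCore Groth.Agent.H4.HpullAPI Groth.Agent.H69.EtColimH
  Groth.Agent.H60.ExtColim Groth.Agent.H21.ConstSec

section Colim

variable {X : Scheme.{u}} [CompactSpace X] [QuasiSeparatedSpace X] {Λ : Type (u + 1)}
  [SmallCategory Λ] [IsFiltered Λ]

open Groth.Agent.H69.EtCartan Groth.Agent.H60.QCEtale in
/-- a class dying in `H^q(X, colim D)` dies at a later stage (`X` qcqs) -/
theorem inj_H (q : ℕ) (D : Λ ⥤ EtCoh.Ab X) : Inj (ZZ X) q D := by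
  have hX : QC (EtCoh.top X) :=
    ⟨inferInstanceAs (CompactSpace X), inferInstanceAs (QuasiSeparatedSpace X)⟩
  exact (surj_inj (ZZ X)
    (fun D => ⟨surj_zero_of (surj0_inj0 hX D).1, inj_zero_of (surj0_inj0 hX D).2⟩)
    (fun D hD q x => ext_eq_zero hX q (colimit D)
      (ac_colimit D (fun i => ac_of_injective (D.obj i))) x) q D).2

theorem surj_of_isColimit (D : Λ ⥤ EtCoh.Ab X) {c : Cocone D} (hc : IsColimit c) (q : ℕ)
    (ξ : Ext (ZZ X) c.pt q) :
    ∃ (i : Λ) (ξi : Ext (ZZ X) (D.obj i) q),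
      ξi.comp (Ext.mk₀ (c.ι.app i)) (add_zero q) = ξ := by
  let e := hc.coconePointUniqueUpToIso (colimit.isColimit D)
  obtain ⟨i, ξi, hξi⟩ := surj_H q D (ξ.comp (Ext.mk₀ e.hom) (add_zero q))
  refine ⟨i, ξi, ?_⟩
  rw [push_apply] at hξi
  have h1 : ξ = (ξ.comp (Ext.mk₀ e.hom) (add_zero q)).comp (Ext.mk₀ e.inv) (add_zero q) := by
    rw [Ext.comp_assoc_of_third_deg_zero, Ext.mk₀_comp_mk₀, Iso.hom_inv_id, Ext.comp_mk₀_id]
  rw [h1, ← hξi, Ext.comp_assoc_of_third_deg_zero, Ext.mk₀_comp_mk₀]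
  have h2 : colimit.ι D i ≫ e.inv = c.ι.app i :=
    IsColimit.comp_coconePointUniqueUpToIso_inv hc (colimit.isColimit D) i
  rw [h2]

theorem inj_of_isColimit (D : Λ ⥤ EtCoh.Ab X) {c : Cocone D} (hc : IsColimit c) (q : ℕ)
    (i : Λ) (ξi : Ext (ZZ X) (D.obj i) q)
    (h : ξi.comp (Ext.mk₀ (c.ι.app i)) (add_zero q) = 0) :
    ∃ (j : Λ) (f : i ⟶ j), ξi.comp (Ext.mk₀ (D.map f)) (add_zero q) = 0 := by
  let e := hc.coconePointUniqueUpToIso (colimit.isColimit D)
  have h1 : push (ZZ X) (colimit.ι D i) q ξi = 0 := by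
    rw [push_apply]
    have h2 : colimit.ι D i = c.ι.app i ≫ e.hom :=
      (IsColimit.comp_coconePointUniqueUpToIso_hom hc (colimit.isColimit D) i).symm
    rw [h2, ← Ext.mk₀_comp_mk₀, ← Ext.comp_assoc_of_third_deg_zero, h, Ext.zero_comp]
  obtain ⟨j, f, hf⟩ := inj_H q D i ξi h1
  rw [push_apply] at hf
  exact ⟨j, f, hf⟩

end Colim

section Killed

variable {X : Scheme.{u}} {L : Set ℕ}

/-- the cocone of torsion subsheaves is a colimit cocone for an `L`-torsion sheaf -/
noncomputable def isColimitTorsCocone {G : Ab X} (hG : IsLTorsion L G) :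
    IsColimit (torsCocone G L) := by
  exact IsColimit.ofIsoColimit (colimit.isColimit _)
    (Cocone.ext (@asIso _ _ _ _ (torsDesc G L) (isIso_torsDesc hG)) (fun m => ι_torsDesc G L m))

/-- the transition maps of the torsion diagram, with explicit source and target -/
noncomputable def torsTrans (G : Ab X) (L : Set ℕ) {m m' : LNum.{u} L} (f : m ⟶ m') :
    tors G m.val ⟶ tors G m'.val := (torsDiag G L).map f

lemma torsTrans_ι (G : Ab X) (L : Set ℕ) {m m' : LNum.{u} L} (f : m ⟶ m') :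
    torsTrans G L f ≫ kernel.ι (m'.val • 𝟙 G) = kernel.ι (m.val • 𝟙 G) :=
  (torsCocone G L).w f

lemma isLTorsion_of_killed {m : ℕ} (hm : PrimesIn L m) (F : Ab X) (h : m • 𝟙 F = 0) :
    IsLTorsion L F := by
  intro U s x
  refine ⟨U, 𝟙 U, m, ⟨x, rfl⟩, hm, ?_⟩
  have h1 : F.obj.map (𝟙 U).op s = s := res_id F U s
  rw [h1, ← Groth.Agent.H21.TorsMul.nsmul_id_apply, h]
  rfl

lemma tors_killed (G : Ab X) (m : ℕ) : m • 𝟙 (tors G m) = 0 := by
  rw [← cancel_mono (kernel.ι (m • 𝟙 G)), zero_comp, Preadditive.nsmul_comp, Category.id_comp]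
  have := kernel.condition (m • 𝟙 G)
  rwa [Preadditive.comp_nsmul, Category.comp_id] at this

lemma killed_of_epi {F G : Ab X} (φ : F ⟶ G) [Epi φ] {m : ℕ} (h : m • 𝟙 F = 0) :
    m • 𝟙 G = 0 := by
  rw [← cancel_epi φ, comp_zero, Preadditive.comp_nsmul, Category.comp_id,
    ← Category.id_comp φ, ← Preadditive.nsmul_comp, h, zero_comp]

variable (F : Ab X) (m : ℕ) (hF : m • 𝟙 F = 0)

/-- the embedding of a sheaf killed by `m` into the `m`-torsion of its injective hull -/
noncomputable def envMap : F ⟶ tors (Injective.under F) m :=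
  kernel.lift _ (Injective.ι F) (by
    rw [Preadditive.comp_nsmul, Category.comp_id, ← Category.id_comp (Injective.ι F),
      ← Preadditive.nsmul_comp, hF, zero_comp])

instance : Mono (envMap F m hF) :=
  mono_of_mono_fac (kernel.lift_ι _ _ _)

/-- the short exact sequence `0 → F → I[m] → Q → 0` -/
noncomputable def envSC : ShortComplex (Ab X) :=
  ShortComplex.mk (envMap F m hF) (cokernel.π (envMap F m hF)) (cokernel.condition _)

lemma envSC_shortExact : (envSC F m hF).ShortExact :=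
  { exact := ShortComplex.exact_cokernel _
    mono_f := inferInstanceAs (Mono (envMap F m hF))
    epi_g := inferInstanceAs (Epi (cokernel.π (envMap F m hF))) }

lemma envSC_X₃_killed : m • 𝟙 (envSC F m hF).X₃ = 0 :=
  killed_of_epi (cokernel.π (envMap F m hF)) (tors_killed _ m)

end Killed

section HpullNat

variable {X Y : Scheme.{u}} (h : Y ⟶ X) [PreservesFiniteLimits (EtCoh.pull h)]

lemma Hpull_comp_mk₀ {A B : EtCoh.Ab X} (φ : A ⟶ B) (k : ℕ) (e : EtCoh.H X A k) :
    EtCore.Hpull h B k (e.comp (Ext.mk₀ φ) (add_zero k)) =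
      (EtCore.Hpull h A k e).comp (Ext.mk₀ ((EtCoh.pull h).map φ)) (add_zero k) := by
  rw [Hpull_apply, Hpull_apply, Ext.mapExactFunctor_comp, Ext.mapExactFunctor_mk₀,
    Ext.comp_assoc _ _ _ (zero_add k) (add_zero k) (by omega)]

lemma Hpull_comp_extClass {S : ShortComplex (EtCoh.Ab X)} (hS : S.ShortExact) (k : ℕ)
    (e : EtCoh.H X S.X₃ k) :
    EtCore.Hpull h S.X₁ (k + 1) (e.comp hS.extClass rfl) =
      (EtCore.Hpull h S.X₃ k e).comp (hS.map_of_exact (EtCoh.pull h)).extClass rfl := by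
  rw [Hpull_apply, Hpull_apply, Ext.mapExactFunctor_comp, Ext.mapExactFunctor_extClass,
    Ext.comp_assoc _ _ _ (zero_add k) rfl (by omega)]
  rfl

end HpullNat

section Reduce

variable {Xb Yb : Scheme.{u}} [CompactSpace Xb] [QuasiSeparatedSpace Xb] [CompactSpace Yb]
  [QuasiSeparatedSpace Yb] (hb : Yb ⟶ Xb) [PreservesFiniteLimits (EtCoh.pull hb)] {L : Set ℕ}

omit [CompactSpace Xb] [QuasiSeparatedSpace Xb] in
theorem surjective_of_killed (q : ℕ)
    (hq : ∀ m : ℕ, PrimesIn L m → ∀ F : Ab Xb, m • 𝟙 F = 0 →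
      Function.Surjective (Hpull hb F q))
    (F : Ab Xb) (hF : IsLTorsion L F) : Function.Surjective (Hpull hb F q) := by
  intro y
  have hc := isColimitTorsCocone hF
  have : PreservesColimitsOfSize.{u + 1, u + 1} (EtCoh.pull hb) :=
    (EtCoh.pullPushAdj hb).leftAdjoint_preservesColimits
  have hc' := isColimitOfPreserves (EtCoh.pull hb) hc
  obtain ⟨m, η, hη⟩ := surj_of_isColimit (torsDiag F L ⋙ EtCoh.pull hb) hc' q y
  obtain ⟨ξ, hξ⟩ := hq m.val m.prop (tors F m.val) (tors_killed F m.val) η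
  refine ⟨ξ.comp (Ext.mk₀ (kernel.ι (m.val • 𝟙 F))) (add_zero q), ?_⟩
  rw [Hpull_comp_mk₀, hξ]
  exact hη

theorem injective_of_killed (q : ℕ)
    (hq : ∀ m : ℕ, PrimesIn L m → ∀ F : Ab Xb, m • 𝟙 F = 0 →
      Function.Injective (Hpull hb F q))
    (F : Ab Xb) (hF : IsLTorsion L F) : Function.Injective (Hpull hb F q) := by
  rw [injective_iff_map_eq_zero]
  intro x hx
  have hc := isColimitTorsCocone hF
  have : PreservesColimitsOfSize.{u + 1, u + 1} (EtCoh.pull hb) :=
    (EtCoh.pullPushAdj hb).leftAdjoint_preservesColimits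
  have hc' := isColimitOfPreserves (EtCoh.pull hb) hc
  obtain ⟨m, (ξ : Ext (ZZ Xb) (tors F m.val) q), hξ⟩ := surj_of_isColimit (torsDiag F L) hc q x
  have hξ' : ξ.comp (Ext.mk₀ (kernel.ι (m.val • 𝟙 F))) (add_zero q) = x := hξ
  have h1 : (Hpull hb (tors F m.val) q ξ).comp
      (Ext.mk₀ ((EtCoh.pull hb).map (kernel.ι (m.val • 𝟙 F)))) (add_zero q) = 0 := by
    rw [← Hpull_comp_mk₀, hξ', hx]
  obtain ⟨m', f, hf⟩ := inj_of_isColimit (torsDiag F L ⋙ EtCoh.pull hb) hc' q m
    (Hpull hb (tors F m.val) q ξ) h1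
  have hf' : (Hpull hb (tors F m.val) q ξ).comp
      (Ext.mk₀ ((EtCoh.pull hb).map (torsTrans F L f))) (add_zero q) = 0 := hf
  have h2 : Hpull hb (tors F m'.val) q
      (ξ.comp (Ext.mk₀ (torsTrans F L f)) (add_zero q)) = 0 := by
    rw [Hpull_comp_mk₀]
    exact hf'
  have h3 : ξ.comp (Ext.mk₀ (torsTrans F L f)) (add_zero q) = 0 :=
    hq m'.val m'.prop (tors F m'.val) (tors_killed F m'.val)
      (h2.trans (map_zero _).symm)
  rw [← hξ', ← torsTrans_ι F L f, ← Ext.mk₀_comp_mk₀, ← Ext.comp_assoc_of_third_deg_zero, h3,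
    Ext.zero_comp]

end Reduce

end Groth.Agent.H43.LTors
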