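import Groth.Agent.H43.LTors7

/-!
# Base change of the cohomological comparison condition: the induction (helper43)
-/

set_option autoImplicit false
set_option backward.isDefEq.respectTransparency.types false
universe u
open CategoryTheory CategoryTheory.Limits AlgebraicGeometry Opposite Abelian

namespace Groth.Agent.H43.LTors

open EtAcyc EtCoh EtCore Groth.Agent.H4.HpullAPI Groth.Agent.H69.EtColimH
  Groth.Agent.H21.ConstSec

variable {X Y Xb Yb : Scheme.{u}} (h : Y ⟶ X) (p : Xb ⟶ X) (hb : Yb ⟶ Xb) (pY : Yb ⟶ Y)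
  (w : hb ≫ p = pY ≫ h) [PreservesFiniteLimits (EtCoh.pull hb)] {L : Set ℕ} (n : ℕ)

section Vanish

variable (I : Ab Xb) [Injective I] (m : ℕ) (hm : 0 < m)
  (hhJ : ∀ q : ℕ, q ≤ n → Function.Surjective (Hpull h ((EtCoh.push p).obj (tors I m)) q))
  (hbcJ : ∀ i : ℕ, i ≤ n → IsIso (EtBC.bcQ p h pY hb w i (tors I m)))

include hm hhJ hbcJ in
/-- `H^q(Yb, hb⁻¹ I[m]) = 0` for `1 ≤ q ≤ n` -/
theorem ext_pull_tors_eq_zero (q : ℕ) (hq : q + 1 ≤ n)
    (y : Ext (ZZ Yb) ((EtCoh.pull hb).obj (tors I m)) (q + 1)) : y = 0 := by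
  -- (1) vanishing of `R^i pY_* (hb⁻¹ J)` for `1 ≤ i ≤ n`
  have hR : ∀ i : ℕ, 0 < i → i ≤ n →
      IsZero (((EtCoh.push pY).rightDerived i).obj ((EtCoh.pull hb).obj (tors I m))) := by
    intro i hi hin
    obtain ⟨k, rfl⟩ : ∃ k, i = k + 1 := ⟨i - 1, by omega⟩
    have hz : IsZero ((EtCoh.Rpush p (k + 1)).obj (tors I m)) := isZero_Rpush_tors p I m hm k
    have hiso := hbcJ (k + 1) hin
    exact IsZero.of_iso ((EtCoh.pull h).map_isZero hz) (asIso (EtBC.bcQ p h pY hb w (k + 1) (tors I m))).symm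
  -- (2) truncated edge isomorphism for `pY`
  have hpsi := Groth.Agent.H43.LTors4.psi_bijective_trunc (EtCoh.pullPushAdj pY) (ZZ Y) (q + 1) n
    ((EtCoh.pull hb).obj (tors I m)) hR hq
  -- (3)
  obtain ⟨y₂, hy₂⟩ := hpsi.2 ((Ext.mk₀ (pullConst pY ℤ).hom).comp y (zero_add (q + 1)))
  -- (4)
  have hbc0 : IsIso (EtCoh.baseChange0 p h pY hb w (tors I m)) :=
    isIso_baseChange0_of_isIso_bcQ h p hb pY w (tors I m) (hbcJ 0 (Nat.zero_le n))
  -- (5)
  obtain ⟨y₄, hy₄⟩ := hhJ (q + 1) hq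
    (y₂.comp (Ext.mk₀ (inv (EtCoh.baseChange0 p h pY hb w (tors I m)))) (add_zero (q + 1)))
  -- (6)
  have hy₄0 : y₄ = 0 := by
    have hpsi' := Groth.Agent.H4.ExtAdjL.psi_bijective (EtCoh.pullPushAdj p) (ZZ X) (tors I m)
      (fun k hk => by
        obtain ⟨k', rfl⟩ : ∃ k', k = k' + 1 := ⟨k - 1, by omega⟩
        exact isZero_Rpush_tors p I m hm k') (q + 1)
    apply hpsi'.1
    rw [map_zero]
    have h0 := ext_ZZ_tors_eq_zero I m hm q
      ((Ext.mk₀ (pullConst p ℤ).inv).comp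
        (Groth.Agent.H4.ExtAdjL.psi (EtCoh.pullPushAdj p) (ZZ X) (tors I m) (q + 1) y₄)
        (zero_add (q + 1)))
    have h1 : Groth.Agent.H4.ExtAdjL.psi (EtCoh.pullPushAdj p) (ZZ X) (tors I m) (q + 1) y₄ =
        (Ext.mk₀ (pullConst p ℤ).hom).comp ((Ext.mk₀ (pullConst p ℤ).inv).comp
          (Groth.Agent.H4.ExtAdjL.psi (EtCoh.pullPushAdj p) (ZZ X) (tors I m) (q + 1) y₄)
          (zero_add (q + 1))) (zero_add (q + 1)) := by
      rw [← Ext.comp_assoc _ _ _ (zero_add 0) (zero_add (q + 1)) (by omega), Ext.mk₀_comp_mk₀,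
        Iso.hom_inv_id, Ext.mk₀_id_comp]
    rw [h1, h0, Ext.comp_zero]
  -- (7)
  have hy₂0 : y₂ = 0 := by
    have h1 : y₂ = (y₂.comp (Ext.mk₀ (inv (EtCoh.baseChange0 p h pY hb w (tors I m))))
        (add_zero (q + 1))).comp (Ext.mk₀ (EtCoh.baseChange0 p h pY hb w (tors I m)))
        (add_zero (q + 1)) := by
      rw [Ext.comp_assoc_of_third_deg_zero, Ext.mk₀_comp_mk₀, IsIso.inv_hom_id,
        Ext.comp_mk₀_id]
    rw [h1, ← hy₄, hy₄0, map_zero, Ext.zero_comp]
  have hy1 : (Ext.mk₀ (pullConst pY ℤ).hom).comp y (zero_add (q + 1)) = 0 := by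
    rw [← hy₂, hy₂0, map_zero]
  have h2 : y = (Ext.mk₀ (pullConst pY ℤ).inv).comp
      ((Ext.mk₀ (pullConst pY ℤ).hom).comp y (zero_add (q + 1))) (zero_add (q + 1)) := by
    rw [← Ext.comp_assoc _ _ _ (zero_add 0) (zero_add (q + 1)) (by omega), Ext.mk₀_comp_mk₀,
      Iso.inv_hom_id, Ext.mk₀_id_comp]
  rw [h2, hy1, Ext.comp_zero]

end Vanish

section Induction

variable [QuasiCompact p] (hh : CompN h L n)
  (hbc : ∀ Fb : EtCoh.Ab Xb, IsLTorsion L Fb →
    (∀ i : ℕ, i ≤ n → IsIso (EtBC.bcQ p h pY hb w i Fb)) ∧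
      Mono (EtBC.bcQ p h pY hb w (n + 1) Fb))
  (m : ℕ) (hm : PrimesIn L m)

include hh hbc hm in
theorem bijective_Hpull_zero_of_killed (F : Ab Xb) (hF : m • 𝟙 F = 0) :
    Function.Bijective (Hpull hb F 0) := by
  have hFt : IsLTorsion L F := isLTorsion_of_killed hm F hF
  have hbc0 : IsIso (EtCoh.baseChange0 p h pY hb w F) :=
    isIso_baseChange0_of_isIso_bcQ h p hb pY w F ((hbc F hFt).1 0 (Nat.zero_le n))
  have hpF : IsLTorsion L ((EtCoh.push p).obj F) := isLTorsion_push p F hFt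
  have h0 := ((hh ((EtCoh.push p).obj F) hpF).1 0 (Nat.zero_le n))
  rw [Hpull_zero_bijective_iff] at h0 ⊢
  exact unitMap_bijective_of_baseChange0 h p hb pY w F h0

include hh hbc hm in
theorem vanish_of_killed (F : Ab Xb) (hF : m • 𝟙 F = 0) (q : ℕ) (hq : q + 1 ≤ n)
    (y : Ext (ZZ Yb) ((EtCoh.pull hb).obj (envSC F m hF).X₂) (q + 1)) : y = 0 := by
  have hJt : IsLTorsion L (tors (Injective.under F) m) :=
    isLTorsion_of_killed hm _ (tors_killed _ m)
  have hpJ : IsLTorsion L ((EtCoh.push p).obj (tors (Injective.under F) m)) :=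
    isLTorsion_push p _ hJt
  exact ext_pull_tors_eq_zero h p hb pY w n (Injective.under F) m hm.1
    (fun q hq => ((hh _ hpJ).1 q hq).2) (hbc _ hJt).1 q hq y

include hh hbc hm in
theorem bijective_Hpull_of_killed (q : ℕ) (hq : q ≤ n) :
    ∀ (F : Ab Xb), m • 𝟙 F = 0 → Function.Bijective (Hpull hb F q) := by
  induction q with
  | zero => exact fun F hF => bijective_Hpull_zero_of_killed h p hb pY w n hh hbc m hm F hF
  | succ q ih =>
    intro F hF
    have hS := envSC_shortExact F m hF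
    have hS' := hS.map_of_exact (EtCoh.pull hb)
    have ihJ := ih (by omega) (envSC F m hF).X₂ (tors_killed _ m)
    have ihQ := ih (by omega) (envSC F m hF).X₃ (envSC_X₃_killed F m hF)
    exact AddMonoidHom.bijective_of_surjective_of_bijective_of_right_exact _ _ _ _
      (Hpull hb (envSC F m hF).X₂ q) (Hpull hb (envSC F m hF).X₃ q)
      (Hpull hb (envSC F m hF).X₁ (q + 1))
      (by
        ext e
        exact (Hpull_comp_mk₀ hb (envSC F m hF).g q e).symm)
      (by
        ext e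
        exact (Hpull_comp_extClass hb hS q e).symm)
      ((ShortComplex.ab_exact_iff_function_exact _).mp
        (Ext.covariant_sequence_exact₃' (ZZ Xb) hS q (q + 1) rfl))
      ((ShortComplex.ab_exact_iff_function_exact _).mp
        (Ext.covariant_sequence_exact₃' (ZZ Yb) hS' q (q + 1) rfl))
      ihJ.surjective ihQ
      (fun x₁ ↦ Ext.covariant_sequence_exact₁ _ hS x₁
        (ext_ZZ_tors_eq_zero (Injective.under F) m hm.1 q _) rfl)
      (fun y₁ ↦ Ext.covariant_sequence_exact₁ _ hS' y₁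
        (vanish_of_killed h p hb pY w n hh hbc m hm F hF q hq _) rfl)

include hh hbc hm in
theorem injective_Hpull_of_killed (F : Ab Xb) (hF : m • 𝟙 F = 0) :
    Function.Injective (Hpull hb F (n + 1)) := by
  have hS := envSC_shortExact F m hF
  have hS' := hS.map_of_exact (EtCoh.pull hb)
  have ihJ := bijective_Hpull_of_killed h p hb pY w n hh hbc m hm n le_rfl
    (envSC F m hF).X₂ (tors_killed _ m)
  have ihQ := bijective_Hpull_of_killed h p hb pY w n hh hbc m hm n le_rfl
    (envSC F m hF).X₃ (envSC_X₃_killed F m hF)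
  exact AddMonoidHom.injective_of_surjective_of_injective_of_right_exact _ _ _ _
    (Hpull hb (envSC F m hF).X₂ n) (Hpull hb (envSC F m hF).X₃ n)
    (Hpull hb (envSC F m hF).X₁ (n + 1))
    (by
      ext e
      exact (Hpull_comp_mk₀ hb (envSC F m hF).g n e).symm)
    (by
      ext e
      exact (Hpull_comp_extClass hb hS n e).symm)
    ((ShortComplex.ab_exact_iff_function_exact _).mp
      (Ext.covariant_sequence_exact₃' (ZZ Xb) hS n (n + 1) rfl))
    ((ShortComplex.ab_exact_iff_function_exact _).mp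
      (Ext.covariant_sequence_exact₃' (ZZ Yb) hS' n (n + 1) rfl))
    ihJ.surjective ihQ.injective
    (fun x₁ ↦ Ext.covariant_sequence_exact₁ _ hS x₁
      (ext_ZZ_tors_eq_zero (Injective.under F) m hm.1 n _) rfl)

end Induction

section Final

variable [CompactSpace X] [QuasiSeparatedSpace X] [CompactSpace Y] [QuasiSeparatedSpace Y]
  [CompactSpace Xb] [QuasiSeparatedSpace Xb]

include w in
omit [CompactSpace X] in
/-- **Base change of the comparison condition.** -/
theorem compN_pullback (sq : IsPullback hb pY p h) (hh : CompN h L n)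
    (hbc : ∀ Fb : EtCoh.Ab Xb, IsLTorsion L Fb →
      (∀ i : ℕ, i ≤ n → IsIso (EtBC.bcQ p h pY hb w i Fb)) ∧
        Mono (EtBC.bcQ p h pY hb w (n + 1) Fb)) :
    CompN hb L n := by
  have hqc : QuasiCompact pY :=
    MorphismProperty.of_isPullback sq (inferInstance : QuasiCompact p)
  have hqs : QuasiSeparated pY :=
    MorphismProperty.of_isPullback sq (inferInstance : QuasiSeparated p)
  have hcY : CompactSpace Yb := QuasiCompact.compactSpace_of_compactSpace pY
  have hsY : QuasiSeparatedSpace Yb := quasiSeparatedSpace_of_quasiSeparated pY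
  intro Fb hFb _
  refine ⟨fun q hq => ⟨?_, ?_⟩, ?_⟩
  · exact injective_of_killed hb q (fun m hm F hF =>
      (bijective_Hpull_of_killed h p hb pY w n hh hbc m hm q hq F hF).1) Fb hFb
  · exact surjective_of_killed hb q (fun m hm F hF =>
      (bijective_Hpull_of_killed h p hb pY w n hh hbc m hm q hq F hF).2) Fb hFb
  · exact injective_of_killed hb (n + 1) (fun m hm F hF =>
      injective_Hpull_of_killed h p hb pY w n hh hbc m hm F hF) Fb hFb

end Final

end Groth.Agent.H43.LTors
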