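import Groth.Agent.H43.LTors4

/-!
# Truncated edge map: injectivity in the next degree (helper43)

`psi_injective_trunc`: for `L ⊣ R` with `L` exact, if `R^q R B = 0` for `1 ≤ q ≤ n`, then
`psi : Ext^{n+1}(A, R B) → Ext^{n+1}(L A, B)` is injective.
-/

set_option autoImplicit false
universe w w' v v' u u'
open CategoryTheory CategoryTheory.Limits Abelian

namespace Groth.Agent.H43.LTors4

open Groth.Agent.H4.ExtAdjL

variable {C : Type u} [Category.{v} C] [Abelian C] {D : Type u'} [Category.{v'} D] [Abelian D]
variable {L : C ⥤ D} {R : D ⥤ C} (adj : L ⊣ R)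
variable [L.Additive] [PreservesFiniteLimits L] [PreservesFiniteColimits L] [R.Additive]
variable [HasExt.{w} C] [HasExt.{w'} D]

attribute [local instance] Ext.subsingleton_of_injective in
/-- the edge map in degree one is always injective -/
theorem psi_injective_one [EnoughInjectives D] (A : C) (B : D) :
    Function.Injective (psi adj A B 1) := by
  have : PreservesLimitsOfSize.{0, 0} R := adj.rightAdjoint_preservesLimits
  have : PreservesFiniteLimits R := PreservesLimitsOfSize.preservesFiniteLimits R
  rw [injective_iff_map_eq_zero]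
  intro x hx
  let I : InjectivePresentation B := Classical.arbitrary _
  let S := ShortComplex.mk _ _ (cokernel.condition I.f)
  have hI : Injective S.X₂ := I.injective
  have hRI : Injective (R.obj S.X₂) := adj.map_injective _ I.injective
  have hS : S.ShortExact := { exact := ShortComplex.exact_cokernel I.f }
  have hmono : Mono (R.map S.f) := inferInstance
  -- the image short exact sequence `0 → R B → R I → K → 0`
  let T : ShortComplex C := ShortComplex.mk (R.map S.f) (cokernel.π (R.map S.f))
    (cokernel.condition _)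
  have hT : T.ShortExact := { exact := ShortComplex.exact_cokernel _ }
  -- the inclusion `K ⟶ R Q`
  let incl : T.X₃ ⟶ R.obj S.X₃ := cokernel.desc (R.map S.f) (R.map S.g)
    (by rw [← R.map_comp, S.zero, R.map_zero])
  have hincl : T.g ≫ incl = R.map S.g := cokernel.π_desc _ _ _
  have hmonoincl : Mono incl := by
    have hex : (S.map R).Exact := hS.exact.map_of_mono_of_preservesKernel R hS.mono_f inferInstance
    exact hex.mono_cokernelDesc
  have hTI : Injective T.X₂ := hRI
  obtain ⟨x₃, rfl⟩ := Ext.covariant_sequence_exact₁ A hT x (by subsingleton) (zero_add 1)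
  obtain ⟨u, rfl⟩ := (Ext.mk₀_bijective _ _).2 x₃
  -- the morphism of short complexes `L T ⟶ S`
  let φ : T.map L ⟶ S :=
    { τ₁ := adj.counit.app S.X₁
      τ₂ := adj.counit.app S.X₂
      τ₃ := L.map incl ≫ adj.counit.app S.X₃
      comm₁₂ := (adj.counit.naturality S.f).symm
      comm₂₃ := by
        change adj.counit.app S.X₂ ≫ S.g = L.map T.g ≫ L.map incl ≫ adj.counit.app S.X₃
        rw [← L.map_comp_assoc, hincl]
        exact (adj.counit.naturality S.g).symm }
  have h1 : (hT.extClass.mapExactFunctor L).comp (Ext.mk₀ (adj.counit.app S.X₁)) (add_zero 1) =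
      (Ext.mk₀ (L.map incl ≫ adj.counit.app S.X₃)).comp hS.extClass (zero_add 1) :=
    map_extClass_comp (L := L) hT hS φ
  have h2 : psi adj A S.X₁ 1 ((Ext.mk₀ u).comp hT.extClass (zero_add 1)) =
      (Ext.mk₀ (L.map u ≫ L.map incl ≫ adj.counit.app S.X₃)).comp hS.extClass (zero_add 1) := by
    rw [psi_comp adj A S.X₁ (Ext.mk₀ u) hT.extClass (zero_add 1), psi_apply, h1,
      Ext.mapExactFunctor_mk₀]
    have h3 := Ext.comp_assoc (Ext.mk₀ (L.map u)) (Ext.mk₀ (L.map incl ≫ adj.counit.app S.X₃))
      hS.extClass (zero_add 0) (zero_add 1) (show 0 + 0 + 1 = 1 by omega)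
    rw [Ext.mk₀_comp_mk₀] at h3
    exact h3.symm
  rw [h2] at hx
  obtain ⟨x₂, hx₂⟩ := Ext.covariant_sequence_exact₃ _ hS _ (zero_add 1) hx
  obtain ⟨t, rfl⟩ := (Ext.mk₀_bijective _ _).2 x₂
  rw [Ext.mk₀_comp_mk₀] at hx₂
  have ht : t ≫ S.g = L.map u ≫ L.map incl ≫ adj.counit.app S.X₃ :=
    (Ext.mk₀_bijective _ _).1 hx₂
  -- transpose
  have hu : u = adj.homEquiv A S.X₂ t ≫ T.g := by
    have h4 := adj.homEquiv_counit (X := A) (Y := S.X₃) (g := u ≫ incl)
    rw [← cancel_mono incl, Category.assoc, hincl, ← Adjunction.homEquiv_naturality_right, ht,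
      ← L.map_comp_assoc, ← h4, Equiv.apply_symm_apply]
  rw [hu, ← Ext.mk₀_comp_mk₀, Ext.comp_assoc_of_second_deg_zero,
    ShortComplex.ShortExact.comp_extClass, Ext.comp_zero]

attribute [local instance] Ext.subsingleton_of_injective in
/-- **Truncated edge map, injectivity**: if `R^q R B = 0` for `1 ≤ q ≤ n`, then
`psi : Ext^{n+1}(A, R B) → Ext^{n+1}(L A, B)` is injective. -/
theorem psi_injective_trunc [EnoughInjectives D] (A : C) (n : ℕ) :
    ∀ (B : D), (∀ q : ℕ, 0 < q → q ≤ n → IsZero ((R.rightDerived q).obj B)) →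
      Function.Injective (psi adj A B (n + 1)) := by
  induction n with
  | zero => exact fun B _ => psi_injective_one adj A B
  | succ n hn =>
    intro B hB
    let I : InjectivePresentation B := Classical.arbitrary _
    let S := ShortComplex.mk _ _ (cokernel.condition I.f)
    have hI : Injective S.X₂ := I.injective
    have hRI : Injective (S.map R).X₂ := adj.map_injective _ I.injective
    have hS : S.ShortExact := { exact := ShortComplex.exact_cokernel I.f }
    have hRS : (S.map R).ShortExact :=
      shortExact_map_of_isZero adj hS (hB 1 Nat.one_pos (by omega))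
    have hI0 : ∀ q : ℕ, 0 < q → IsZero ((R.rightDerived q).obj S.X₂) := by
      intro q hq
      obtain ⟨k, rfl⟩ : ∃ k, q = k + 1 := ⟨q - 1, by omega⟩
      exact Functor.isZero_rightDerived_obj_injective_succ R k S.X₂
    have hQ0 : ∀ q : ℕ, 0 < q → q ≤ n → IsZero ((R.rightDerived q).obj S.X₃) := by
      intro q hq hqN
      obtain ⟨_, _, δ, hδ⟩ := Groth.Agent.H33.RDLes.exists_les R S hS
      obtain ⟨w₁, _, e₃, _⟩ := hδ q
      exact e₃.isZero_X₂ ((hI0 q hq).eq_of_src _ _)
        ((hB (q + 1) (Nat.succ_pos q) (by omega)).eq_of_tgt _ _)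
    exact AddMonoidHom.injective_of_surjective_of_injective_of_right_exact _ _ _ _
      (psi adj A S.X₂ (n + 1)) (psi adj A S.X₃ (n + 1)) (psi adj A S.X₁ (n + 2))
      (by
        ext e
        exact (psi_comp_mk₀ adj A e S.g).symm)
      (by
        ext e
        exact (psi_comp_extClass adj A hS hRS e).symm)
      ((ShortComplex.ab_exact_iff_function_exact _).mp
        (Ext.covariant_sequence_exact₃' A hRS (n + 1) (n + 2) rfl))
      ((ShortComplex.ab_exact_iff_function_exact _).mp
        (Ext.covariant_sequence_exact₃' (L.obj A) hS (n + 1) (n + 2) rfl))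
      (psi_bijective adj A S.X₂ hI0 (n + 1)).surjective (hn _ hQ0)
      (fun x₁ ↦ Ext.covariant_sequence_exact₁ _ hRS x₁ (by subsingleton) rfl)

end Groth.Agent.H43.LTors4
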