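import Groth.Agent.H43.LambdaBasic
import Groth.Prelude.Def_LambdaSp

set_option autoImplicit false
universe u

namespace Groth.Agent.H43

open LambdaRing Finset

section basic

variable {A : Type u} [CommRing A] [LambdaOps A]

theorem lam_add' (k : ℕ) (x y : A) :
    LambdaOps.lam k (x + y) = ∑ p ∈ antidiagonal k, LambdaOps.lam p.1 x * LambdaOps.lam p.2 y := by
  rw [LambdaOps.lam_add, Finset.Nat.sum_antidiagonal_eq_sum_range_succ_mk]

/-- recursion for `λ^i(-u)` -/
theorem lam_neg_rec (i : ℕ) (u : A) :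
    LambdaOps.lam (i + 1) (-u) =
      - ∑ p ∈ antidiagonal (i + 1) with p.1 ≠ 0, LambdaOps.lam p.1 u * LambdaOps.lam p.2 (-u) := by
  have h := lam_add' (i + 1) u (-u)
  rw [add_neg_cancel, lam_zero_arg, if_neg (Nat.succ_ne_zero i),
    ← Finset.sum_filter_add_sum_filter_not _ (fun p : ℕ × ℕ => p.1 ≠ 0)] at h
  have h2 : ∑ p ∈ antidiagonal (i + 1) with ¬ p.1 ≠ 0,
      LambdaOps.lam p.1 u * LambdaOps.lam p.2 (-u) = LambdaOps.lam (i + 1) (-u) := by
    rw [Finset.sum_eq_single (0, i + 1)]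
    · simp [LambdaOps.lam_zero]
    · intro p hp hne
      rw [Finset.mem_filter, Finset.mem_antidiagonal] at hp
      exfalso
      apply hne
      have : p.1 = 0 := by simpa using hp.2
      ext
      · exact this
      · simp only; omega
    · intro hn
      exfalso
      apply hn
      rw [Finset.mem_filter, Finset.mem_antidiagonal]
      simp
  rw [h2] at h
  rw [eq_neg_iff_add_eq_zero, add_comm]
  exact h.symm

omit [LambdaOps A] in
theorem sum_antidiagonal_split (j : ℕ) (hj : 1 ≤ j) (f : ℕ × ℕ → A) :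
    ∑ p ∈ antidiagonal j, f p =
      f (0, j) + f (j, 0) + ∑ p ∈ antidiagonal j with p.1 ≠ 0 ∧ p.2 ≠ 0, f p := by
  rw [← Finset.sum_filter_add_sum_filter_not (antidiagonal j) (fun p : ℕ × ℕ => p.1 ≠ 0 ∧ p.2 ≠ 0),
    add_comm]
  congr 1
  have : (antidiagonal j).filter (fun p : ℕ × ℕ => ¬ (p.1 ≠ 0 ∧ p.2 ≠ 0)) = {(0, j), (j, 0)} := by
    ext p
    simp only [Finset.mem_filter, Finset.mem_antidiagonal, Finset.mem_insert,
      Finset.mem_singleton, Prod.ext_iff]
    omega
  rw [this, Finset.sum_pair]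
  intro h
  rw [Prod.ext_iff] at h
  simp only at h
  omega

/-- the elements all of whose `λ^j`, `j ≥ 1`, lie in the ideal `J` -/
def lamStable (J : Ideal A) : Set A := {y | ∀ j : ℕ, 1 ≤ j → LambdaOps.lam j y ∈ J}

theorem lamStable_zero (J : Ideal A) : (0 : A) ∈ lamStable J := by
  intro j hj
  rw [lam_zero_arg, if_neg (by omega)]
  exact zero_mem _

theorem lamStable_add (J : Ideal A) {y z : A} (hy : y ∈ lamStable J) (hz : z ∈ lamStable J) :
    y + z ∈ lamStable J := by
  intro j hj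
  rw [lam_add']
  refine Ideal.sum_mem _ fun p hp => ?_
  rw [Finset.mem_antidiagonal] at hp
  by_cases h1 : p.1 = 0
  · exact Ideal.mul_mem_left _ _ (hz p.2 (by omega))
  · exact Ideal.mul_mem_right _ _ (hy p.1 (by omega))

theorem lamStable_neg (J : Ideal A) {y : A} (hy : y ∈ lamStable J) : -y ∈ lamStable J := by
  intro j hj
  obtain ⟨i, rfl⟩ : ∃ i, j = i + 1 := ⟨j - 1, by omega⟩
  rw [lam_neg_rec]
  refine neg_mem (Ideal.sum_mem _ fun p hp => ?_)
  rw [Finset.mem_filter] at hp
  exact Ideal.mul_mem_right _ _ (hy p.1 (by have := hp.2; omega))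

/-- the additive subgroup of stable elements -/
def lamStableSubgroup (J : Ideal A) : AddSubgroup A where
  carrier := lamStable J
  zero_mem' := lamStable_zero J
  add_mem' := lamStable_add J
  neg_mem' := lamStable_neg J

/-- the elements of `J` whose `λ^j` is congruent to `c j` times the element modulo `J'` -/
def lamCong (J J' : Ideal A) (c : ℕ → ℤ) : Set A :=
  {y | y ∈ J ∧ ∀ j : ℕ, 1 ≤ j → LambdaOps.lam j y - (c j : A) * y ∈ J'}

variable {J J' : Ideal A} (hJ : IsLambdaIdeal J) (hJJ : J * J ≤ J') (c : ℕ → ℤ)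

include hJ hJJ

theorem lamCong_zero : (0 : A) ∈ lamCong J J' c := by
  refine ⟨zero_mem _, fun j hj => ?_⟩
  rw [lam_zero_arg, if_neg (by omega), mul_zero, sub_zero]
  exact zero_mem _

theorem lamCong_add {y z : A} (hy : y ∈ lamCong J J' c) (hz : z ∈ lamCong J J' c) :
    y + z ∈ lamCong J J' c := by
  refine ⟨add_mem hy.1 hz.1, fun j hj => ?_⟩
  rw [lam_add', sum_antidiagonal_split j hj]
  simp only [LambdaOps.lam_zero, mul_one, one_mul]
  have hcross : ∑ p ∈ antidiagonal j with p.1 ≠ 0 ∧ p.2 ≠ 0,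
      LambdaOps.lam p.1 y * LambdaOps.lam p.2 z ∈ J' := by
    refine Ideal.sum_mem _ fun p hp => hJJ ?_
    rw [Finset.mem_filter] at hp
    exact Ideal.mul_mem_mul (hJ p.1 (by have := hp.2.1; omega) y hy.1)
      (hJ p.2 (by have := hp.2.2; omega) z hz.1)
  have e : LambdaOps.lam j z + LambdaOps.lam j y + ∑ p ∈ antidiagonal j with p.1 ≠ 0 ∧ p.2 ≠ 0,
      LambdaOps.lam p.1 y * LambdaOps.lam p.2 z - (c j : A) * (y + z) =
      (LambdaOps.lam j y - (c j : A) * y) + (LambdaOps.lam j z - (c j : A) * z) +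
        ∑ p ∈ antidiagonal j with p.1 ≠ 0 ∧ p.2 ≠ 0,
          LambdaOps.lam p.1 y * LambdaOps.lam p.2 z := by ring
  rw [e]
  exact add_mem (add_mem (hy.2 j hj) (hz.2 j hj)) hcross

theorem lamCong_neg {y : A} (hy : y ∈ lamCong J J' c) : -y ∈ lamCong J J' c := by
  refine ⟨neg_mem hy.1, fun j hj => ?_⟩
  have h := lam_add' j y (-y)
  rw [add_neg_cancel, lam_zero_arg, if_neg (by omega), sum_antidiagonal_split j hj] at h
  simp only [LambdaOps.lam_zero, mul_one, one_mul] at h
  have hcross : ∑ p ∈ antidiagonal j with p.1 ≠ 0 ∧ p.2 ≠ 0,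
      LambdaOps.lam p.1 y * LambdaOps.lam p.2 (-y) ∈ J' := by
    refine Ideal.sum_mem _ fun p hp => hJJ ?_
    rw [Finset.mem_filter] at hp
    exact Ideal.mul_mem_mul (hJ p.1 (by have := hp.2.1; omega) y hy.1)
      (hJ p.2 (by have := hp.2.2; omega) (-y) (neg_mem hy.1))
  have e : LambdaOps.lam j (-y) - (c j : A) * -y =
      -(LambdaOps.lam j y - (c j : A) * y) -
        ∑ p ∈ antidiagonal j with p.1 ≠ 0 ∧ p.2 ≠ 0,
          LambdaOps.lam p.1 y * LambdaOps.lam p.2 (-y) := by
    linear_combination -h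
  rw [e]
  exact sub_mem (neg_mem (hy.2 j hj)) hcross

/-- the additive subgroup of elements satisfying the congruences -/
def lamCongSubgroup : AddSubgroup A where
  carrier := lamCong J J' c
  zero_mem' := lamCong_zero hJ hJJ c
  add_mem' := lamCong_add hJ hJJ c
  neg_mem' := lamCong_neg hJ hJJ c

end basic

end Groth.Agent.H43
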