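import Groth.Agent.H43.LineDeg
import Groth.Agent.H43.LamIdeal

set_option autoImplicit false
universe u

namespace Groth.Agent.H43

open LambdaRing MvPolynomial Finset

section uMon

variable (σ : Type u)

/-- the monomials in the `ℓ_a - 1` -/
noncomputable def uMon (α : σ →₀ ℕ) : LineRing σ := shiftDown σ (monomial α (1 : ℤ))

theorem uMon_zero : uMon σ 0 = 1 := by
  rw [uMon]
  exact map_one _

theorem uMon_add_single (α : σ →₀ ℕ) (a : σ) :
    uMon σ (α + Finsupp.single a 1) = uMon σ α * (X a - 1) := by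
  rw [uMon, uMon, ← mul_one (1 : ℤ), ← monomial_mul, map_mul, mul_one]
  congr 1
  change shiftDown σ (X a) = _
  simp [shiftDown]

theorem uMon_mem_lineFil (α : σ →₀ ℕ) : uMon σ α ∈ lineFil σ α.degree := by
  rw [lineFil, Ideal.mem_comap, uMon, shiftUp_shiftDown,
    monomial_mem_pow_idealOfVars_iff _ _ one_ne_zero]

/-- the filtration is spanned additively by the monomials in the `ℓ_a - 1` of large degree -/
theorem lineFil_induction (n : ℕ) (S : AddSubgroup (LineRing σ))
    (h : ∀ α : σ →₀ ℕ, n ≤ α.degree → uMon σ α ∈ S) (f : LineRing σ) (hf : f ∈ lineFil σ n) :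
    f ∈ S := by
  rw [lineFil, Ideal.mem_comap, mem_pow_idealOfVars_iff] at hf
  rw [← shiftDown_shiftUp σ f, ← support_sum_monomial_coeff (shiftUp σ f), map_sum]
  refine AddSubgroup.sum_mem _ fun α hα => ?_
  have : monomial α (coeff α (shiftUp σ f)) = coeff α (shiftUp σ f) • monomial α (1 : ℤ) := by
    rw [smul_monomial, smul_eq_mul, mul_one]
  rw [this, map_zsmul]
  exact AddSubgroup.zsmul_mem _ (h α (hf α hα)) _

/-- decomposition of an exponent of positive degree -/
theorem exists_add_single_of_degree {α : σ →₀ ℕ} {d : ℕ} (h : α.degree = d + 1) :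
    ∃ (α' : σ →₀ ℕ) (a : σ), α = α' + Finsupp.single a 1 ∧ α'.degree = d := by
  classical
  have hne : α ≠ 0 := by
    intro h0
    rw [h0] at h
    simp at h
  obtain ⟨a, ha⟩ := Finsupp.support_nonempty_iff.mpr hne
  have hle : Finsupp.single a 1 ≤ α := by
    rw [Finsupp.single_le_iff]
    exact Nat.one_le_iff_ne_zero.mpr (Finsupp.mem_support_iff.mp ha)
  refine ⟨α - Finsupp.single a 1, a, (tsub_add_cancel_of_le hle).symm, ?_⟩
  have h2 : (α - Finsupp.single a 1 + Finsupp.single a 1).degree = d + 1 := by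
    rw [tsub_add_cancel_of_le hle, h]
  rw [map_add, Finsupp.degree_single] at h2
  omega

end uMon

/-- the constants `(-1)^(j-1) j^(n-1)` -/
def lamConst (n j : ℕ) : ℤ := (-1) ^ (j - 1) * (j : ℤ) ^ (n - 1)

theorem lamConst_succ (n j : ℕ) (hn : 1 ≤ n) : lamConst (n + 1) j = (j : ℤ) * lamConst n j := by
  obtain ⟨m, rfl⟩ : ∃ m, n = m + 1 := ⟨n - 1, by omega⟩
  simp only [lamConst, Nat.add_sub_cancel]
  ring

section step

variable (σ : Type u)

attribute [local instance] lineLambdaOps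

theorem lam_mul_X (y : LineRing σ) (a : σ) (j : ℕ) :
    LambdaOps.lam j (y * X a) = (X a : LineRing σ) ^ j * LambdaOps.lam j y := by
  rw [← coeff_lamSeries, lamSeries_line_mul_X, PowerSeries.coeff_rescale, coeff_lamSeries]

theorem lam_mul_X_split (y : LineRing σ) (a : σ) (j : ℕ) (hj : 1 ≤ j) :
    (X a : LineRing σ) ^ j * LambdaOps.lam j y =
      LambdaOps.lam j y + LambdaOps.lam j (y * (X a - 1)) +
        ∑ p ∈ antidiagonal j with p.1 ≠ 0 ∧ p.2 ≠ 0,
          LambdaOps.lam p.1 (y * (X a - 1)) * LambdaOps.lam p.2 y := by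
  have e : y * X a = y * (X a - 1) + y := by ring
  rw [← lam_mul_X, e, lam_add', sum_antidiagonal_split j hj]
  simp only [LambdaOps.lam_zero, mul_one, one_mul]

theorem X_sub_one_mem (a : σ) : (X a - 1 : LineRing σ) ∈ lineFil σ 1 := by
  rw [mem_lineFil_one]
  simp

theorem X_pow_sub_one_mem (a : σ) (j : ℕ) : ((X a : LineRing σ) ^ j - 1) ∈ lineFil σ 1 := by
  rw [mem_lineFil_one]
  simp

theorem X_pow_sub_mem_two (a : σ) (j : ℕ) :
    ((X a : LineRing σ) ^ j - 1 - (j : LineRing σ) * (X a - 1)) ∈ lineFil σ 2 := by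
  induction j with
  | zero => simp
  | succ j ih =>
    have e : (X a : LineRing σ) ^ (j + 1) - 1 - ((j + 1 : ℕ) : LineRing σ) * (X a - 1) =
        X a * ((X a : LineRing σ) ^ j - 1 - (j : LineRing σ) * (X a - 1)) +
          (j : LineRing σ) * ((X a - 1) * (X a - 1)) := by
      push_cast
      ring
    rw [e]
    exact add_mem (Ideal.mul_mem_left _ _ ih) (Ideal.mul_mem_left _ _
      ((mulFil_lineFil σ).mul_mem 1 1 _ _ (X_sub_one_mem σ a) (X_sub_one_mem σ a)))

theorem lamStable_mul_u {d : ℕ} {y : LineRing σ} (hy : y ∈ lamStable (lineFil σ d)) (a : σ) :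
    y * (X a - 1) ∈ lamStable (lineFil σ (d + 1)) := by
  have hD := mulFil_lineFil σ
  intro j
  induction j using Nat.strong_induction_on with
  | _ j ih =>
    intro hj
    have h := lam_mul_X_split σ y a j hj
    have e : LambdaOps.lam j (y * (X a - 1)) =
        ((X a : LineRing σ) ^ j - 1) * LambdaOps.lam j y -
          ∑ p ∈ antidiagonal j with p.1 ≠ 0 ∧ p.2 ≠ 0,
            LambdaOps.lam p.1 (y * (X a - 1)) * LambdaOps.lam p.2 y := by
      linear_combination -h
    rw [e]
    refine sub_mem ?_ (Ideal.sum_mem _ fun p hp => ?_)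
    · rw [add_comm d 1]
      exact hD.mul_mem 1 d _ _ (X_pow_sub_one_mem σ a j) (hy j hj)
    · rw [Finset.mem_filter, Finset.mem_antidiagonal] at hp
      exact Ideal.mul_mem_right _ _ (ih p.1 (by omega) (by omega))

theorem lamCong_mul_u {n : ℕ} (hn : 1 ≤ n) {y : LineRing σ}
    (hy : y ∈ lamCong (lineFil σ n) (lineFil σ (n + 1)) (lamConst n))
    (hys : y ∈ lamStable (lineFil σ n)) (a : σ) :
    y * (X a - 1) ∈ lamCong (lineFil σ (n + 1)) (lineFil σ (n + 2)) (lamConst (n + 1)) := by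
  have hD := mulFil_lineFil σ
  have hu := X_sub_one_mem σ a
  refine ⟨hD.mul_mem n 1 _ _ hy.1 hu, fun j hj => ?_⟩
  have h := lam_mul_X_split σ y a j hj
  have e : LambdaOps.lam j (y * (X a - 1)) - ((lamConst (n + 1) j : ℤ) : LineRing σ) * (y * (X a - 1)) =
      ((X a : LineRing σ) ^ j - 1 - (j : LineRing σ) * (X a - 1)) * LambdaOps.lam j y +
        (j : LineRing σ) * ((X a - 1) * (LambdaOps.lam j y - ((lamConst n j : ℤ) : LineRing σ) * y)) -
          ∑ p ∈ antidiagonal j with p.1 ≠ 0 ∧ p.2 ≠ 0,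
            LambdaOps.lam p.1 (y * (X a - 1)) * LambdaOps.lam p.2 y := by
    rw [lamConst_succ n j hn]
    push_cast
    linear_combination -h
  rw [e]
  refine sub_mem (add_mem ?_ ?_) (Ideal.sum_mem _ fun p hp => ?_)
  · rw [add_comm n 2]
    exact hD.mul_mem 2 n _ _ (X_pow_sub_mem_two σ a j) (hys j hj)
  · refine Ideal.mul_mem_left _ _ ?_
    have := hD.mul_mem 1 (n + 1) _ _ hu (hy.2 j hj)
    rwa [show 1 + (n + 1) = n + 2 by ring] at this
  · rw [Finset.mem_filter, Finset.mem_antidiagonal] at hp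
    have h1 := lamStable_mul_u σ hys a p.1 (by omega)
    have h2 := hys p.2 (by omega)
    exact hD.anti _ _ (by omega) (hD.mul_mem (n + 1) n _ _ h1 h2)

theorem lineFil_zero : lineFil σ 0 = ⊤ :=
  (Ideal.eq_top_iff_one _).mpr (mulFil_lineFil σ).one_mem

theorem uMon_lamStable : ∀ (d : ℕ) (α : σ →₀ ℕ), α.degree = d →
    uMon σ α ∈ lamStable (lineFil σ d) := by
  intro d
  induction d with
  | zero =>
    intro α _ j _
    rw [lineFil_zero]
    trivial
  | succ d ih =>
    intro α hα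
    obtain ⟨α', a, rfl, hα'⟩ := exists_add_single_of_degree σ hα
    rw [uMon_add_single]
    exact lamStable_mul_u σ (ih α' hα') a

theorem lam_X_sub_one (a : σ) (j : ℕ) (hj : 1 ≤ j) :
    LambdaOps.lam j (X a - 1 : LineRing σ) = ((lamConst 1 j : ℤ) : LineRing σ) * (X a - 1) := by
  obtain ⟨i, rfl⟩ : ∃ i, j = i + 1 := ⟨j - 1, by omega⟩
  have hy : ∀ k : ℕ, 2 ≤ k → LambdaOps.lam k (X a : LineRing σ) = 0 := by
    intro k hk
    rw [← coeff_lamSeries, lamSeries_line_X]
    obtain ⟨k, rfl⟩ := Nat.exists_eq_add_of_le hk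
    simp [PowerSeries.coeff_one, PowerSeries.coeff_succ_mul_X, add_comm 2 k]
  rw [lam_sub_one isSpecial_line.lam_one_eq_zero, Finset.sum_range_succ', Finset.sum_range_succ']
  have h0 : ∑ k ∈ range i, (-1 : LineRing σ) ^ (k + 1 + 1) * LambdaOps.lam (k + 1 + 1) (X a) = 0 :=
    Finset.sum_eq_zero fun k _ => by rw [hy (k + 1 + 1) (by omega), mul_zero]
  rw [h0, LambdaOps.lam_zero, LambdaOps.lam_one]
  simp only [lamConst, Nat.add_sub_cancel, Nat.sub_self, pow_zero, mul_one]
  push_cast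
  ring

theorem uMon_lamCong : ∀ (d : ℕ) (α : σ →₀ ℕ), α.degree = d + 1 →
    uMon σ α ∈ lamCong (lineFil σ (d + 1)) (lineFil σ (d + 2)) (lamConst (d + 1)) := by
  intro d
  induction d with
  | zero =>
    intro α hα
    obtain ⟨α', a, rfl, hα'⟩ := exists_add_single_of_degree σ hα
    rw [Finsupp.degree_eq_zero_iff] at hα'
    subst hα'
    rw [uMon_add_single, uMon_zero, one_mul]
    refine ⟨X_sub_one_mem σ a, fun j hj => ?_⟩
    rw [lam_X_sub_one σ a j hj, sub_self]
    exact zero_mem _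
  | succ d ih =>
    intro α hα
    obtain ⟨α', a, rfl, hα'⟩ := exists_add_single_of_degree σ hα
    rw [uMon_add_single]
    exact lamCong_mul_u σ (by omega) (ih α' hα') (uMon_lamStable σ (d + 1) α' hα') a

/-- the powers of the augmentation ideal of the line ring are λ-ideals -/
theorem isLambdaIdeal_lineFil (n : ℕ) : IsLambdaIdeal (lineFil σ n) := by
  intro j hj f hf
  refine lineFil_induction σ n (lamStableSubgroup (lineFil σ n)) ?_ f hf j hj
  intro α hα k hk
  exact (mulFil_lineFil σ).anti _ _ hα (uMon_lamStable σ α.degree α rfl k hk)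

theorem lineFil_mul_le (n : ℕ) (hn : 1 ≤ n) : lineFil σ n * lineFil σ n ≤ lineFil σ (n + 1) := by
  rw [Ideal.mul_le]
  intro r hr s hs
  exact (mulFil_lineFil σ).anti _ _ (by omega) ((mulFil_lineFil σ).mul_mem n n _ _ hr hs)

/-- on the `n`-th power of the augmentation ideal of the line ring, `λ^j` is multiplication by
`(-1)^(j-1) j^(n-1)` modulo the next power -/
theorem lamCong_lineFil (n : ℕ) (hn : 1 ≤ n) (f : LineRing σ) (hf : f ∈ lineFil σ n) :
    f ∈ lamCong (lineFil σ n) (lineFil σ (n + 1)) (lamConst n) := by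
  refine lineFil_induction σ n (lamCongSubgroup (isLambdaIdeal_lineFil σ n)
    (lineFil_mul_le σ n hn) (lamConst n)) ?_ f hf
  intro α hα
  rcases Nat.eq_or_lt_of_le hα with h | h
  · obtain ⟨d, rfl⟩ : ∃ d, n = d + 1 := ⟨n - 1, by omega⟩
    exact uMon_lamCong σ d α h.symm
  · have hmem : uMon σ α ∈ lineFil σ (n + 1) :=
      (mulFil_lineFil σ).anti _ _ h (uMon_mem_lineFil σ α)
    refine ⟨(mulFil_lineFil σ).anti _ _ hα (uMon_mem_lineFil σ α), fun j hj => ?_⟩
    exact sub_mem (isLambdaIdeal_lineFil σ (n + 1) j hj _ hmem) (Ideal.mul_mem_left _ _ hmem)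

end step

end Groth.Agent.H43
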