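import Groth.Agent.H43.GammaInf
import Groth.Agent.H43.LineLam

set_option autoImplicit false
universe u v

namespace Groth.Agent.H43

open LambdaRing MvPolynomial Finset

section defs

variable {R : Type*} [CommRing R] [LambdaOps R]

/-- evaluation `Y_l ↦ γ^{l+1}(x)`, `l < m` -/
noncomputable def gammaEval (x : R) (m : ℕ) : MvPolynomial (Fin m) ℤ →ₐ[ℤ] R :=
  aeval fun l : Fin m => gamma ((l : ℕ) + 1) x

/-- evaluation `Y_k ↦ γ^{k+1}(x)`, all `k` -/
noncomputable def gammaEvalInf (x : R) : MvPolynomial ℕ ℤ →ₐ[ℤ] R :=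
  aeval fun k : ℕ => gamma (k + 1) x

theorem gammaEvalInf_eq (x : R) (G : MvPolynomial ℕ ℤ) :
    gammaEvalInf x G = evalLamInf x (aeval (fun j : ℕ => gamPoly (j + 1)) G) :=
  aeval_gamma_eq_evalLamInf x G

theorem gammaEval_eq (x : R) (m : ℕ) (p : MvPolynomial (Fin m) ℤ) :
    gammaEval x m p = evalLamInf x (aeval (fun l : Fin m => gamPoly ((l : ℕ) + 1)) p) := by
  rw [gammaEval, comp_aeval_apply]
  congr 2
  funext l
  rw [evalLamInf_gamPoly]

end defs

section repr

/-- every polynomial in the `λ^k` is a polynomial in the `γ^k` -/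
theorem exists_gamPoly_repr (Q : MvPolynomial ℕ ℤ) (m₀ : ℕ) :
    ∃ (m : ℕ) (_ : m₀ ≤ m) (p : MvPolynomial (Fin m) ℤ),
      aeval (fun l : Fin m => gamPoly ((l : ℕ) + 1)) p = Q := by
  classical
  obtain ⟨m, hm₀, hm⟩ : ∃ m : ℕ, m₀ ≤ m ∧ ∀ k ∈ Q.vars, k < m := by
    refine ⟨max (Q.vars.sup id + 1) m₀, le_max_right _ _, fun k hk => ?_⟩
    have : k ≤ Q.vars.sup id := Finset.le_sup (f := id) hk
    exact lt_of_lt_of_le (by omega) (le_max_left _ _)
  obtain ⟨G₀, hG₀⟩ := exists_rename_eq_of_vars_subset_range Q (fun l : Fin m => (l : ℕ))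
    Fin.val_injective (by
      intro k hk
      exact ⟨⟨k, hm k hk⟩, rfl⟩)
  choose! Lf hLf using exists_inv_gamPoly m
  refine ⟨m, hm₀, aeval (fun l : Fin m => Lf (l : ℕ)) G₀, ?_⟩
  rw [comp_aeval_apply]
  have : (fun l : Fin m => aeval (fun l : Fin m => gamPoly ((l : ℕ) + 1)) (Lf (l : ℕ))) =
      fun l : Fin m => (X (l : ℕ) : MvPolynomial ℕ ℤ) := funext fun l => (hLf l l.2).symm
  rw [this, ← hG₀]
  have h2 : (aeval fun l : Fin m => (X (l : ℕ) : MvPolynomial ℕ ℤ)) =
      rename (fun l : Fin m => (l : ℕ)) := by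
    apply algHom_ext
    intro l
    simp
  rw [h2]

/-- `λ^j` of a polynomial in the `γ^k(x)` is a universal polynomial in the `γ^k(x)` -/
theorem exists_lam_poly_inf (G : MvPolynomial ℕ ℤ) (j : ℕ) (m₀ : ℕ) :
    ∃ (m : ℕ) (_ : m₀ ≤ m) (p : MvPolynomial (Fin m) ℤ),
      ∀ (R : Type v) [CommRing R] [LambdaOps R], IsSpecial R → ∀ x : R,
        LambdaOps.lam j (gammaEvalInf x G) = gammaEval x m p := by
  obtain ⟨Q, hQ⟩ := repInf_all.{v} (aeval (fun j : ℕ => gamPoly (j + 1)) G) j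
  obtain ⟨m, hm, p, hp⟩ := exists_gamPoly_repr Q m₀
  refine ⟨m, hm, p, fun R _ _ hR x => ?_⟩
  rw [gammaEvalInf_eq, hQ R hR x, gammaEval_eq, hp]

end repr

section line

attribute [local instance] lineLambdaOps

variable (σ : Type u) [Fintype σ]

theorem gammaEval_line (m : ℕ) (hcard : Fintype.card σ = m) (p : MvPolynomial (Fin m) ℤ) :
    gammaEval (lineN σ - (m : LineRing σ)) m p =
      aeval (fun k : Fin m => shiftDown σ (esymm σ ℤ ((k : ℕ) + 1))) p := by
  rw [gammaEval]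
  congr 2
  funext l
  rw [gamma_lineN_sub σ m hcard]

theorem gamma_line_mem (m : ℕ) (hcard : Fintype.card σ = m) (i : ℕ) :
    gamma i (lineN σ - (m : LineRing σ)) ∈ lineFil σ i := by
  apply line_good σ
  rw [map_sub, lineN, map_sum, map_natCast]
  simp [hcard]

/-- if the value of a polynomial in the `γ^k` of the universal element lies in the `n`-th step,
all its monomials have weight at least `n` -/
theorem weights_of_line (m : ℕ) (hcard : Fintype.card σ = m) (p : MvPolynomial (Fin m) ℤ) (n : ℕ)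
    (h : gammaEval (lineN σ - (m : LineRing σ)) m p ∈ lineFil σ n) :
    ∀ mono ∈ p.support, n ≤ ∑ l : Fin m, ((l : ℕ) + 1) * mono l := by
  rw [gammaEval_line σ m hcard] at h
  exact weight_ge_single σ m (le_of_eq hcard.symm) p n h

end line

section value

variable {K : Type u} [CommRing K] {A : Type v} [CommRing A] [LambdaOps A]

theorem gammaEval_mem_gammaFil (ε : A →+* K) {x : A} (hx : ε x = 0) (m : ℕ)
    (p : MvPolynomial (Fin m) ℤ) (n : ℕ)
    (hw : ∀ mono ∈ p.support, n ≤ ∑ l : Fin m, ((l : ℕ) + 1) * mono l) :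
    gammaEval x m p ∈ gammaFil ε n := by
  have hF := mulFil_gammaFil ε
  rw [gammaEval, aeval_def, eval₂_eq']
  refine Ideal.sum_mem _ fun mono hmono => Ideal.mul_mem_left _ _ ?_
  refine hF.anti _ _ (hw mono hmono) ?_
  exact hF.prod_mem Finset.univ (fun l : Fin m => ((l : ℕ) + 1) * mono l) _
    (fun l _ => hF.pow_mem (gamma_mem_gammaFil ε hx _) _)

end value

end Groth.Agent.H43
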