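import Groth.Agent.H43.EdgeBij
import Groth.Agent.H43.EdgeMain
import Groth.Agent.Lead.Coh.TopIso

/-!
# Natural Čech-to-derived comparison, sheaf level (helper43)

* `edgeSh_natural`: the comparison maps `CechEdge.edgeSh e F p` are natural in the sheaf `F`.
* `hEquiv hT F n : H'^n(T₀, F) ≃+ Sheaf.H F n` for a terminal object `T₀`, natural in `F`.
-/

set_option autoImplicit false
universe u
open CategoryTheory Limits Opposite Abelian

namespace Groth.Agent.H43.LerayLin

open CechEdge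

section Edge

variable {C : Type u} [SmallCategory C] [HasPullbacks C] {J : GrothendieckTopology C} {U : C}
  {ι : Type u} {Y : ι → Over U}

omit [HasPullbacks C] in
lemma HUmap_apply {F G : Sheaf J AddCommGrpCat.{u}} (φ : F ⟶ G) (p : ℕ) (V : C)
    (x : CohSite.HU F p V) : HUmap φ p V x = x.comp (Ext.mk₀ φ) (add_zero p) := rfl

omit [HasPullbacks C] in
lemma HUmap_comp {F G K : Sheaf J AddCommGrpCat.{u}} (φ : F ⟶ G) (ψ : G ⟶ K) (p : ℕ) (V : C)
    (x : CohSite.HU F p V) : HUmap (φ ≫ ψ) p V x = HUmap ψ p V (HUmap φ p V x) := by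
  rw [HUmap_apply, HUmap_apply, HUmap_apply, Ext.comp_assoc_of_third_deg_zero, Ext.mk₀_comp_mk₀]

variable {e : ∀ (P : Cᵒᵖ ⥤ AddCommGrpCat.{u}) (p : ℕ),
    CohCx.cechH P Y p →+ CohSite.HU (shf J P) p U} (he : IsEdge J Y e)

include he in
/-- the sheaf-level comparison maps are natural in the sheaf -/
theorem edgeSh_natural {F G : Sheaf J AddCommGrpCat.{u}} (φ : F ⟶ G) (p : ℕ)
    (x : CohCx.cechH F.obj Y p) :
    edgeSh e G p (cechHMap Y φ.hom p x) = HUmap φ p U (edgeSh e F p x) := by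
  change HUmap _ p U (e G.obj p (cechHMap Y φ.hom p x)) = HUmap φ p U (HUmap _ p U (e F.obj p x))
  rw [he.natural, ← HUmap_comp, ← HUmap_comp]
  congr 2
  exact (sheafificationAdjunction J AddCommGrpCat.{u}).counit.naturality φ

end Edge

section Top

variable {C : Type u} [SmallCategory C] {J : GrothendieckTopology C}

/-- a chosen isomorphism between the free sheaf on a terminal object and the constant sheaf -/
noncomputable def freeIsoConst {T₀ : C} (hT : IsTerminal T₀) :
    Groth.Agent.Lead.Coh.freeSheaf J T₀ ≅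
      (constantSheaf J AddCommGrpCat.{u}).obj (AddCommGrpCat.of (ULift ℤ)) :=
  Classical.choice (Groth.Agent.Lead.Coh.exists_iso_constant (J := J) hT)

/-- `H'^n(T₀, F) ≃+ H^n(F)` for a terminal object `T₀`, as data -/
noncomputable def hEquiv {T₀ : C} (hT : IsTerminal T₀) (F : Sheaf J AddCommGrpCat.{u}) (n : ℕ) :
    CohSite.HU F n T₀ ≃+ Sheaf.H F n where
  toFun x := (Ext.mk₀ (freeIsoConst (J := J) hT).inv).comp x (zero_add n)
  invFun y := (Ext.mk₀ (freeIsoConst (J := J) hT).hom).comp y (zero_add n)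
  left_inv x := by
    change (Ext.mk₀ _).comp ((Ext.mk₀ _).comp x (zero_add n)) (zero_add n) = x
    rw [Ext.mk₀_comp_mk₀_assoc, Iso.hom_inv_id, Ext.mk₀_id_comp]
  right_inv y := by
    change (Ext.mk₀ _).comp ((Ext.mk₀ _).comp y (zero_add n)) (zero_add n) = y
    rw [Ext.mk₀_comp_mk₀_assoc, Iso.inv_hom_id, Ext.mk₀_id_comp]
  map_add' x y := Ext.comp_add _ _ _ _

lemma hEquiv_natural {T₀ : C} (hT : IsTerminal T₀) {F G : Sheaf J AddCommGrpCat.{u}} (φ : F ⟶ G)
    (n : ℕ) (x : CohSite.HU F n T₀) :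
    hEquiv hT G n (HUmap φ n T₀ x) = Sheaf.H.map φ n (hEquiv hT F n x) := by
  change (Ext.mk₀ _).comp (x.comp (Ext.mk₀ φ) (add_zero n)) (zero_add n) =
    ((Ext.mk₀ _).comp x (zero_add n)).comp (Ext.mk₀ φ) (add_zero n)
  rw [Ext.comp_assoc_of_third_deg_zero]

end Top

end Groth.Agent.H43.LerayLin
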