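import Groth.Agent.H43.LerayLin1

/-!
# Čech complexes and functors preserving the relevant products (helper43)

For a functor `Φ : D ⥤ D'` into a thin category, a family `Y : ι → D` and a presheaf `Q` on `D'`,
the comparison morphisms `Φ (∏ Y∘a) ⟶ ∏ Φ∘Y∘a` induce a morphism of Čech complexes
`cxMap Φ Y Q : Č(Φ ∘ Y, Q) ⟶ Č(Y, Φ.op ⋙ Q)`, natural in `Q`, which is an isomorphism when
the comparison morphisms are.
-/

set_option autoImplicit false
universe u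
open CategoryTheory Limits Opposite

namespace Groth.Agent.H43.LerayLin

section Generic

variable {D D' : Type u} [Category.{u} D] [Category.{u} D'] [HasFiniteProducts D]
  [HasFiniteProducts D'] (Φ : D ⥤ D') [Quiver.IsThin D'] {ι : Type u} (Y : ι → D)

/-- the Čech object of the image family -/
noncomputable abbrev E' : SimplicialObject (FormalCoproduct.{u} D') :=
  (FormalCoproduct.mk ι (fun i => Φ.obj (Y i))).cech

/-- the Čech object of the family -/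
noncomputable abbrev E : SimplicialObject (FormalCoproduct.{u} D) :=
  (FormalCoproduct.mk ι Y).cech

lemma cosimp_map_π {D₀ : Type u} [Category.{u} D₀] [HasFiniteProducts D₀] {ι : Type u} (Y₀ : ι → D₀)
    (Q : D₀ᵒᵖ ⥤ AddCommGrpCat.{u}) {n m : SimplexCategory} (θ : n ⟶ m)
    (b : ToType m → ι) :
    ((FormalCoproduct.cosimplicialObjectFunctor (E Y₀)).obj Q).map θ ≫
      Pi.π (fun b : ToType m → ι => Q.obj (op (∏ᶜ (Y₀ ∘ b)))) b =
    Pi.π (fun a : ToType n → ι => Q.obj (op (∏ᶜ (Y₀ ∘ a)))) (((E Y₀).map θ.op).f b) ≫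
      Q.map (((E Y₀).map θ.op).φ b).op :=
  Pi.lift_π _ _

/-- the comparison morphism of cosimplicial objects -/
noncomputable def cosimpMap (Q : D'ᵒᵖ ⥤ AddCommGrpCat.{u}) :
    (FormalCoproduct.cosimplicialObjectFunctor (E' Φ Y)).obj Q ⟶
    (FormalCoproduct.cosimplicialObjectFunctor (E Y)).obj (Φ.op ⋙ Q) where
  app n := Limits.Pi.map (fun a : ToType n → ι =>
    (Q.map (piComparison Φ (Y ∘ a)).op :
      Q.obj (op (∏ᶜ ((fun i => Φ.obj (Y i)) ∘ a))) ⟶ Q.obj (op (Φ.obj (∏ᶜ (Y ∘ a))))))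
  naturality n m θ := by
    apply Pi.hom_ext
    intro b
    have hL := cosimp_map_π (fun i => Φ.obj (Y i)) Q θ b
    have hR := cosimp_map_π Y (Φ.op ⋙ Q) θ b
    have hm : ∀ (k : SimplexCategory) (a : ToType k → ι),
        (Limits.Pi.map (fun a : ToType k → ι =>
          (Q.map (piComparison Φ (Y ∘ a)).op :
            Q.obj (op (∏ᶜ ((fun i => Φ.obj (Y i)) ∘ a))) ⟶ Q.obj (op (Φ.obj (∏ᶜ (Y ∘ a))))))) ≫
          Pi.π (fun a : ToType k → ι => Q.obj (op (Φ.obj (∏ᶜ (Y ∘ a))))) a =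
        Pi.π (fun a : ToType k → ι => Q.obj (op (∏ᶜ ((fun i => Φ.obj (Y i)) ∘ a)))) a ≫
          Q.map (piComparison Φ (Y ∘ a)).op := fun k a => Limits.Pi.map_π _ _
    refine (Category.assoc _ _ _).trans (((congrArg (_ ≫ ·) (hm m b)).trans
      ((Category.assoc _ _ _).symm.trans (congrArg (· ≫ _) hL))).trans ?_)
    refine Eq.symm ((Category.assoc _ _ _).trans (((congrArg (_ ≫ ·) hR).trans
      ((Category.assoc _ _ _).symm.trans (congrArg (· ≫ _) (hm n _)))).trans ?_))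
    refine (Category.assoc _ _ _).trans (Eq.trans ?_ (Category.assoc _ _ _).symm)
    congr 1
    change Q.map _ ≫ Q.map _ = Q.map _ ≫ Q.map _
    rw [← Q.map_comp, ← Q.map_comp]
    congr 1
    exact Quiver.Hom.unop_inj (Subsingleton.elim _ _)

lemma cosimpMap_app_π (Q : D'ᵒᵖ ⥤ AddCommGrpCat.{u}) (k : SimplexCategory) (a : ToType k → ι) :
    (cosimpMap Φ Y Q).app k ≫ Pi.π (fun a : ToType k → ι => Q.obj (op (Φ.obj (∏ᶜ (Y ∘ a))))) a =
      Pi.π (fun a : ToType k → ι => Q.obj (op (∏ᶜ ((fun i => Φ.obj (Y i)) ∘ a)))) a ≫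
        Q.map (piComparison Φ (Y ∘ a)).op :=
  Limits.Pi.map_π (fun a : ToType k → ι =>
    (Q.map (piComparison Φ (Y ∘ a)).op :
      Q.obj (op (∏ᶜ ((fun i => Φ.obj (Y i)) ∘ a))) ⟶ Q.obj (op (Φ.obj (∏ᶜ (Y ∘ a)))))) a

/-- the comparison morphism of Čech complexes -/
noncomputable def cxMap (Q : D'ᵒᵖ ⥤ AddCommGrpCat.{u}) :
    (cechComplexFunctor (fun i => Φ.obj (Y i))).obj Q ⟶ (cechComplexFunctor Y).obj (Φ.op ⋙ Q) :=
  (AlgebraicTopology.alternatingCofaceMapComplex AddCommGrpCat.{u}).map (cosimpMap Φ Y Q)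

lemma cosimpMap_natural {Q Q' : D'ᵒᵖ ⥤ AddCommGrpCat.{u}} (ψ : Q ⟶ Q') :
    (FormalCoproduct.cosimplicialObjectFunctor (E' Φ Y)).map ψ ≫ cosimpMap Φ Y Q' =
      cosimpMap Φ Y Q ≫
        (FormalCoproduct.cosimplicialObjectFunctor (E Y)).map (Functor.whiskerLeft Φ.op ψ) := by
  apply NatTrans.ext
  funext n
  apply Pi.hom_ext
  intro b
  have h1 : ((FormalCoproduct.cosimplicialObjectFunctor (E' Φ Y)).map ψ).app n ≫
      Pi.π (fun a : ToType n → ι => Q'.obj (op (∏ᶜ ((fun i => Φ.obj (Y i)) ∘ a)))) b =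
      Pi.π (fun a : ToType n → ι => Q.obj (op (∏ᶜ ((fun i => Φ.obj (Y i)) ∘ a)))) b ≫ ψ.app _ :=
    Limits.Pi.map_π (fun a : ToType n → ι => ψ.app (op (∏ᶜ ((fun i => Φ.obj (Y i)) ∘ a)))) b
  have h2 : ((FormalCoproduct.cosimplicialObjectFunctor (E Y)).map
        (Functor.whiskerLeft Φ.op ψ)).app n ≫
      Pi.π (fun a : ToType n → ι => (Φ.op ⋙ Q').obj (op (∏ᶜ (Y ∘ a)))) b =
      Pi.π (fun a : ToType n → ι => (Φ.op ⋙ Q).obj (op (∏ᶜ (Y ∘ a)))) b ≫
        ψ.app (op (Φ.obj (∏ᶜ (Y ∘ b)))) :=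
    Limits.Pi.map_π (fun a : ToType n → ι => ψ.app (op (Φ.obj (∏ᶜ (Y ∘ a))))) b
  refine (Category.assoc _ _ _).trans (((congrArg (_ ≫ ·) (cosimpMap_app_π Φ Y Q' n b)).trans
    ((Category.assoc _ _ _).symm.trans (congrArg (· ≫ _) h1))).trans ?_)
  refine Eq.symm ((Category.assoc _ _ _).trans (((congrArg (_ ≫ ·) h2).trans
    ((Category.assoc _ _ _).symm.trans (congrArg (· ≫ _) (cosimpMap_app_π Φ Y Q n b)))).trans ?_))
  refine (Category.assoc _ _ _).trans (Eq.trans ?_ (Category.assoc _ _ _).symm)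
  congr 1
  exact ψ.naturality _

lemma cxMap_natural {Q Q' : D'ᵒᵖ ⥤ AddCommGrpCat.{u}} (ψ : Q ⟶ Q') :
    (cechComplexFunctor (fun i => Φ.obj (Y i))).map ψ ≫ cxMap Φ Y Q' =
      cxMap Φ Y Q ≫ (cechComplexFunctor Y).map (Functor.whiskerLeft Φ.op ψ) := by
  change (AlgebraicTopology.alternatingCofaceMapComplex AddCommGrpCat.{u}).map _ ≫
    (AlgebraicTopology.alternatingCofaceMapComplex AddCommGrpCat.{u}).map _ =
    (AlgebraicTopology.alternatingCofaceMapComplex AddCommGrpCat.{u}).map _ ≫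
    (AlgebraicTopology.alternatingCofaceMapComplex AddCommGrpCat.{u}).map _
  rw [← Functor.map_comp, ← Functor.map_comp, cosimpMap_natural]

lemma isIso_cxMap (hΦ : ∀ (n : ℕ) (a : Fin (n + 1) → ι), IsIso (piComparison Φ (Y ∘ a)))
    (Q : D'ᵒᵖ ⥤ AddCommGrpCat.{u}) : IsIso (cxMap Φ Y Q) := by
  have h : ∀ n : SimplexCategory, IsIso ((cosimpMap Φ Y Q).app n) := by
    intro n
    have : ∀ a : ToType n → ι, IsIso (Q.map (piComparison Φ (Y ∘ a)).op :
      Q.obj (op (∏ᶜ ((fun i => Φ.obj (Y i)) ∘ a))) ⟶ Q.obj (op (Φ.obj (∏ᶜ (Y ∘ a))))) := by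
      intro a
      have := hΦ n.len a
      infer_instance
    exact @Limits.Pi.map_isIso _ _ _ _ _ _ _ this
  have : IsIso (cosimpMap Φ Y Q) := NatIso.isIso_of_isIso_app _
  exact Functor.map_isIso _ _

end Generic

end Groth.Agent.H43.LerayLin
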