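import Groth.Agent.H43.LerayLin2

/-!
# Čech cohomology of a pushforward (helper43)

For a continuous map `f : X' ⟶ X`, a family `Y` of opens of `X` over an open `T` and a presheaf `P`
on `X'`, the Čech complex of `P` for the preimage family is isomorphic to the Čech complex of
`f_* P` for `Y`, naturally in `P`.
-/

set_option autoImplicit false
universe u
open CategoryTheory Limits Opposite TopologicalSpace

namespace Groth.Agent.H43.LerayLin

instance isThin_over {C : Type u} [Category.{u} C] [Quiver.IsThin C] (T : C) :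
    Quiver.IsThin (Over T) := fun _ _ =>
  ⟨fun _ _ => Over.OverMorphism.ext (Subsingleton.elim _ _)⟩

lemma isIso_of_thin {C : Type u} [Category.{u} C] [Quiver.IsThin C] {A B : C} (g : A ⟶ B)
    (h : B ⟶ A) : IsIso g :=
  ⟨h, Subsingleton.elim _ _, Subsingleton.elim _ _⟩

section Push

variable {X' X : TopCat.{u}} (f : X' ⟶ X) {T : Opens X} {ι : Type u} (Y : ι → Over T)

/-- the preimage family -/
abbrev preFam : ι → Over ((Opens.map f).obj T) := fun i => (Over.post (Opens.map f)).obj (Y i)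

/-- the Čech complex of `P` for the preimage family maps to the Čech complex of `f_* P` -/
noncomputable def cxPush (P : (Opens X')ᵒᵖ ⥤ AddCommGrpCat.{u}) :
    CechEdge.cx P (preFam f Y) ⟶ CechEdge.cx ((Opens.map f).op ⋙ P) Y :=
  cxMap (Over.post (Opens.map f)) Y ((Over.forget _).op ⋙ P)

lemma le_pi_left {Z : TopCat.{u}} {T : Opens Z} {κ : Type} [Finite κ] [Nonempty κ]
    (W : κ → Over T) : (⨅ k, (W k).left) ≤ (∏ᶜ W).left := by
  have hT : (⨅ k, (W k).left) ≤ T :=
    (iInf_le _ (Classical.arbitrary κ)).trans (W (Classical.arbitrary κ)).hom.le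
  let A : Over T := Over.mk (homOfLE hT)
  exact (Pi.lift (fun k => (Over.homMk (homOfLE (iInf_le _ k)) : A ⟶ W k))).left.le

lemma pi_left_le {Z : TopCat.{u}} {T : Opens Z} {κ : Type} [Finite κ]
    (W : κ → Over T) (k : κ) : (∏ᶜ W).left ≤ (W k).left :=
  (Pi.π W k).left.le

lemma pi_left_eq {Z : TopCat.{u}} {T : Opens Z} {κ : Type} [Finite κ] [Nonempty κ]
    (W : κ → Over T) : (∏ᶜ W).left = ⨅ k, (W k).left :=
  le_antisymm (le_iInf (pi_left_le W)) (le_pi_left W)

lemma isIso_piComparison (n : ℕ) (a : Fin (n + 1) → ι) :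
    IsIso (piComparison (Over.post (Opens.map f)) (Y ∘ a)) := by
  refine isIso_of_thin _ (Over.homMk (homOfLE ?_))
  intro x' hx'
  change f x' ∈ (∏ᶜ (Y ∘ a)).left
  apply le_pi_left (Y ∘ a)
  rw [← SetLike.mem_coe, Opens.coe_iInf, Set.mem_iInter]
  intro k
  exact pi_left_le (fun k => (Over.post (Opens.map f)).obj ((Y ∘ a) k)) k hx'

instance isIso_cxPush (P : (Opens X')ᵒᵖ ⥤ AddCommGrpCat.{u}) : IsIso (cxPush f Y P) :=
  isIso_cxMap _ _ (isIso_piComparison f Y) _

/-- the comparison on Čech cohomology -/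
noncomputable def pushH (P : (Opens X')ᵒᵖ ⥤ AddCommGrpCat.{u}) (p : ℕ) :
    CohCx.cechH P (preFam f Y) p →+ CohCx.cechH ((Opens.map f).op ⋙ P) Y p :=
  (HomologicalComplex.homologyMap (cxPush f Y P) p).hom

lemma pushH_bijective (P : (Opens X')ᵒᵖ ⥤ AddCommGrpCat.{u}) (p : ℕ) :
    Function.Bijective (pushH f Y P p) :=
  ConcreteCategory.bijective_of_isIso (HomologicalComplex.homologyMap (cxPush f Y P) p)

lemma pushH_natural {P P' : (Opens X')ᵒᵖ ⥤ AddCommGrpCat.{u}} (ψ : P ⟶ P') (p : ℕ)
    (x : CohCx.cechH P (preFam f Y) p) :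
    pushH f Y P' p (CechEdge.cechHMap (preFam f Y) ψ p x) =
      CechEdge.cechHMap Y (Functor.whiskerLeft (Opens.map f).op ψ) p (pushH f Y P p x) := by
  have h : (CechEdge.cxFunctor (preFam f Y)).map ψ ≫ cxPush f Y P' =
      cxPush f Y P ≫ (CechEdge.cxFunctor Y).map (Functor.whiskerLeft (Opens.map f).op ψ) :=
    cxMap_natural (Over.post (Opens.map f)) Y (Functor.whiskerLeft (Over.forget _).op ψ)
  have h2 := congrArg (fun g => HomologicalComplex.homologyMap g p) h
  simp only [HomologicalComplex.homologyMap_comp] at h2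
  exact ConcreteCategory.congr_hom h2 x

end Push

end Groth.Agent.H43.LerayLin
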