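import Groth.Agent.H43.LerayLin3

/-!
# The natural Leray comparison (helper43)

Site level: for a terminal object `T`, a covering family `Y` of `T` and an abelian sheaf `F`,
`lerayHom J hT Y hY F p : Ȟ^p(Y, F) →+ Sheaf.H F p`, natural in `F`, bijective when `F` is
acyclic on the finite fibre products of the family.
-/

set_option autoImplicit false
universe u
open CategoryTheory Limits Opposite TopologicalSpace Abelian

namespace Groth.Agent.H43.LerayLin

open CechEdge

section Site

variable {C : Type u} [SmallCategory C] [HasPullbacks C] (J : GrothendieckTopology C) {T : C}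
  (hT : IsTerminal T) {ι : Type u} (Y : ι → Over T)
  (hY : Sieve.ofArrows (fun i => (Y i).left) (fun i => (Y i).hom) ∈ J T)

/-- a chosen edge family -/
noncomputable def edgeFam : ∀ (P : Cᵒᵖ ⥤ AddCommGrpCat.{u}) (p : ℕ),
    CohCx.cechH P Y p →+ CohSite.HU (shf J P) p T :=
  Classical.choose (Groth.Agent.H43.EdgeMain.exists_isEdge J Y hY)

lemma isEdge_edgeFam : IsEdge J Y (edgeFam J Y hY) :=
  Classical.choose_spec (Groth.Agent.H43.EdgeMain.exists_isEdge J Y hY)

/-- the comparison map from Čech cohomology of a covering of a terminal object to `Sheaf.H` -/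
noncomputable def lerayHom (F : Sheaf J AddCommGrpCat.{u}) (p : ℕ) :
    CohCx.cechH F.obj Y p →+ Sheaf.H F p :=
  (hEquiv hT F p).toAddMonoidHom.comp (edgeSh (edgeFam J Y hY) F p)

lemma lerayHom_natural {F G : Sheaf J AddCommGrpCat.{u}} (φ : F ⟶ G) (p : ℕ)
    (x : CohCx.cechH F.obj Y p) :
    lerayHom J hT Y hY G p (cechHMap Y φ.hom p x) = Sheaf.H.map φ p (lerayHom J hT Y hY F p x) := by
  change hEquiv hT G p (edgeSh _ G p (cechHMap Y φ.hom p x)) =
    Sheaf.H.map φ p (hEquiv hT F p (edgeSh _ F p x))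
  rw [edgeSh_natural (isEdge_edgeFam J Y hY), hEquiv_natural]

lemma lerayHom_bijective (F : Sheaf J AddCommGrpCat.{u})
    (h : ∀ (p : ℕ) (a : Fin (p + 1) → ι) (q : ℕ),
      Subsingleton (CohSite.HU F (q + 1) (∏ᶜ fun k => Y (a k)).left))
    (p : ℕ) : Function.Bijective (lerayHom J hT Y hY F p) :=
  (hEquiv hT F p).bijective.comp
    (Groth.Agent.H43.EdgeBij.edgeSh_bijective (isEdge_edgeFam J Y hY) F h p)

end Site

end Groth.Agent.H43.LerayLin
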