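import Groth.Agent.H43.LerayLin4

/-!
# The natural Leray comparison on topological spaces and for pushforwards (helper43)
-/

set_option autoImplicit false
universe u
open CategoryTheory Limits Opposite TopologicalSpace Abelian

namespace Groth.Agent.H43.LerayLin

open CechEdge
open Groth.Agent.Lead.Coh (freeSheaf)

section Top

variable {X : TopCat.{u}} {ι : Type u} (U : ι → Opens X)

/-- an indexed family of opens as a family over `⊤` -/
def famTop : ι → Over (⊤ : Opens X) := fun i => Over.mk (homOfLE (le_top : U i ≤ ⊤))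

lemma famTop_cover (hU : iSup U = ⊤) :
    Sieve.ofArrows (fun i => (famTop U i).left) (fun i => (famTop U i).hom) ∈
      Opens.grothendieckTopology X ⊤ := by
  intro x _
  have hx : x ∈ iSup U := hU ▸ (trivial : x ∈ (⊤ : Opens X))
  obtain ⟨i, hi⟩ := Opens.mem_iSup.mp hx
  exact ⟨U i, (famTop U i).hom, Sieve.ofArrows_mk _ _ i, hi⟩

/-- acyclicity of an abelian sheaf on all finite intersections of the family -/
def Acyc (F : Sheaf (Opens.grothendieckTopology X) AddCommGrpCat.{u}) : Prop :=
  ∀ (p : ℕ) (a : Fin (p + 1) → ι) (q : ℕ)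
    (x : Ext (freeSheaf (Opens.grothendieckTopology X) (⨅ k, U (a k))) F (q + 1)), x = 0

/-- **P1**: the comparison map from Čech cohomology of an open cover to `Sheaf.H` -/
noncomputable def lerayTop (hU : iSup U = ⊤)
    (F : Sheaf (Opens.grothendieckTopology X) AddCommGrpCat.{u}) (p : ℕ) :
    CohCx.cechH F.obj (famTop U) p →+ Sheaf.H F p :=
  lerayHom _ isTerminalTop (famTop U) (famTop_cover U hU) F p

lemma lerayTop_natural (hU : iSup U = ⊤)
    {F G : Sheaf (Opens.grothendieckTopology X) AddCommGrpCat.{u}} (φ : F ⟶ G) (p : ℕ)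
    (x : CohCx.cechH F.obj (famTop U) p) :
    lerayTop U hU G p (cechHMap (famTop U) φ.hom p x) = Sheaf.H.map φ p (lerayTop U hU F p x) :=
  lerayHom_natural _ _ _ _ φ p x

lemma lerayTop_bijective (hU : iSup U = ⊤)
    (F : Sheaf (Opens.grothendieckTopology X) AddCommGrpCat.{u}) (hF : Acyc U F) (p : ℕ) :
    Function.Bijective (lerayTop U hU F p) := by
  refine lerayHom_bijective _ _ _ _ F ?_ p
  intro n a q
  have h : (∏ᶜ fun k => famTop U (a k)).left = ⨅ k, U (a k) :=
    pi_left_eq (fun k => famTop U (a k))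
  rw [h]
  exact ⟨fun x y => (hF n a q x).trans (hF n a q y).symm⟩

end Top

section Push

variable {X' X : TopCat.{u}} (f : X' ⟶ X) {ι : Type u} (U : ι → Opens X)

/-- acyclicity of an abelian sheaf on `X'` on the preimages of all finite intersections -/
def AcycPre (F' : Sheaf (Opens.grothendieckTopology X') AddCommGrpCat.{u}) : Prop :=
  ∀ (p : ℕ) (a : Fin (p + 1) → ι) (q : ℕ)
    (x : Ext (freeSheaf (Opens.grothendieckTopology X') ((Opens.map f).obj (⨅ k, U (a k))))
      F' (q + 1)), x = 0

lemma preFam_cover (hU : iSup U = ⊤) :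
    Sieve.ofArrows (fun i => (preFam f (famTop U) i).left) (fun i => (preFam f (famTop U) i).hom) ∈
      Opens.grothendieckTopology X' ((Opens.map f).obj ⊤) := by
  intro x _
  have hx : f x ∈ iSup U := hU ▸ (trivial : f x ∈ (⊤ : Opens X))
  obtain ⟨i, hi⟩ := Opens.mem_iSup.mp hx
  exact ⟨(Opens.map f).obj (U i), (preFam f (famTop U) i).hom, Sieve.ofArrows_mk _ _ i, hi⟩

/-- the preimage of the whole space is terminal -/
def isTerminalPre : IsTerminal ((Opens.map f).obj (⊤ : Opens X)) := isTerminalTop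

lemma map_iInf {κ : Type} [Finite κ] (V : κ → Opens X) :
    (Opens.map f).obj (⨅ k, V k) = ⨅ k, (Opens.map f).obj (V k) := by
  apply Opens.ext
  rw [Opens.coe_iInf]
  change f ⁻¹' ((⨅ k, V k : Opens X) : Set X) = _
  rw [Opens.coe_iInf, Set.preimage_iInter]
  rfl

/-- the comparison map for the preimage cover -/
noncomputable def lerayPre (hU : iSup U = ⊤)
    (F' : Sheaf (Opens.grothendieckTopology X') AddCommGrpCat.{u}) (p : ℕ) :
    CohCx.cechH F'.obj (preFam f (famTop U)) p →+ Sheaf.H F' p :=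
  lerayHom _ (isTerminalPre f) (preFam f (famTop U)) (preFam_cover f U hU) F' p

lemma lerayPre_natural (hU : iSup U = ⊤)
    {F G : Sheaf (Opens.grothendieckTopology X') AddCommGrpCat.{u}} (φ : F ⟶ G) (p : ℕ)
    (x : CohCx.cechH F.obj (preFam f (famTop U)) p) :
    lerayPre f U hU G p (cechHMap (preFam f (famTop U)) φ.hom p x) =
      Sheaf.H.map φ p (lerayPre f U hU F p x) :=
  lerayHom_natural _ _ _ _ φ p x

lemma lerayPre_bijective (hU : iSup U = ⊤)
    (F' : Sheaf (Opens.grothendieckTopology X') AddCommGrpCat.{u}) (hF : AcycPre f U F') (p : ℕ) :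
    Function.Bijective (lerayPre f U hU F' p) := by
  refine lerayHom_bijective _ _ _ _ F' ?_ p
  intro n a q
  have h : (∏ᶜ fun k => preFam f (famTop U) (a k)).left =
      (Opens.map f).obj (⨅ k, U (a k)) := by
    rw [pi_left_eq (fun k => preFam f (famTop U) (a k)), map_iInf]
    rfl
  rw [h]
  exact ⟨fun x y => (hF n a q x).trans (hF n a q y).symm⟩

/-- the comparison for the preimage cover as an equivalence -/
noncomputable def lerayPreEquiv (hU : iSup U = ⊤)
    (F' : Sheaf (Opens.grothendieckTopology X') AddCommGrpCat.{u}) (hF : AcycPre f U F') (p : ℕ) :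
    CohCx.cechH F'.obj (preFam f (famTop U)) p ≃+ Sheaf.H F' p :=
  AddEquiv.ofBijective (lerayPre f U hU F' p) (lerayPre_bijective f U hU F' hF p)

lemma lerayPreEquiv_apply (hU : iSup U = ⊤)
    (F' : Sheaf (Opens.grothendieckTopology X') AddCommGrpCat.{u}) (hF : AcycPre f U F') (p : ℕ)
    (c : CohCx.cechH F'.obj (preFam f (famTop U)) p) :
    lerayPreEquiv f U hU F' hF p c = lerayPre f U hU F' p c := rfl

/-- **(Lf)**, abelian form: cohomology of `F'` on `X'` against cohomology of `f_* F'` on `X` -/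
noncomputable def pushHom (hU : iSup U = ⊤)
    (F' : Sheaf (Opens.grothendieckTopology X') AddCommGrpCat.{u}) (hF : AcycPre f U F') (p : ℕ) :
    Sheaf.H F' p →+ Sheaf.H ((TopCat.Sheaf.pushforward AddCommGrpCat.{u} f).obj F') p :=
  ((lerayTop U hU ((TopCat.Sheaf.pushforward AddCommGrpCat.{u} f).obj F') p).comp
    (pushH f (famTop U) F'.obj p)).comp (lerayPreEquiv f U hU F' hF p).symm.toAddMonoidHom

lemma pushHom_apply (hU : iSup U = ⊤)
    (F' : Sheaf (Opens.grothendieckTopology X') AddCommGrpCat.{u}) (hF : AcycPre f U F') (p : ℕ)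
    (x : Sheaf.H F' p) :
    pushHom f U hU F' hF p x =
      lerayTop U hU ((TopCat.Sheaf.pushforward AddCommGrpCat.{u} f).obj F') p
        (pushH f (famTop U) F'.obj p ((lerayPreEquiv f U hU F' hF p).symm x)) := rfl

lemma pushHom_lerayPre (hU : iSup U = ⊤)
    (F' : Sheaf (Opens.grothendieckTopology X') AddCommGrpCat.{u}) (hF : AcycPre f U F') (p : ℕ)
    (c : CohCx.cechH F'.obj (preFam f (famTop U)) p) :
    pushHom f U hU F' hF p (lerayPre f U hU F' p c) =
      lerayTop U hU ((TopCat.Sheaf.pushforward AddCommGrpCat.{u} f).obj F') p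
        (pushH f (famTop U) F'.obj p c) := by
  rw [pushHom_apply, ← lerayPreEquiv_apply f U hU F' hF, AddEquiv.symm_apply_apply]

lemma pushHom_bijective (hU : iSup U = ⊤)
    (F' : Sheaf (Opens.grothendieckTopology X') AddCommGrpCat.{u}) (hF : AcycPre f U F')
    (hF2 : Acyc U ((TopCat.Sheaf.pushforward AddCommGrpCat.{u} f).obj F')) (p : ℕ) :
    Function.Bijective (pushHom f U hU F' hF p) :=
  ((lerayTop_bijective U hU _ hF2 p).comp (pushH_bijective f (famTop U) F'.obj p)).comp
    (lerayPreEquiv f U hU F' hF p).symm.bijective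

lemma pushHom_natural (hU : iSup U = ⊤)
    {F' F'' : Sheaf (Opens.grothendieckTopology X') AddCommGrpCat.{u}} (hF' : AcycPre f U F')
    (hF'' : AcycPre f U F'') (φ : F' ⟶ F'') (p : ℕ) (x : Sheaf.H F' p) :
    pushHom f U hU F'' hF'' p (Sheaf.H.map φ p x) =
      Sheaf.H.map ((TopCat.Sheaf.pushforward AddCommGrpCat.{u} f).map φ) p
        (pushHom f U hU F' hF' p x) := by
  obtain ⟨c, rfl⟩ := (lerayPre_bijective f U hU F' hF' p).2 x
  rw [← lerayPre_natural, pushHom_lerayPre, pushHom_lerayPre, pushH_natural]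
  exact lerayTop_natural U hU ((TopCat.Sheaf.pushforward AddCommGrpCat.{u} f).map φ) p _

end Push

end Groth.Agent.H43.LerayLin
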