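import Groth.Agent.H43.LerayLin5
import Groth.Agent.H30.SmulMod

/-!
# Linear Leray comparison for schemes (helper43)

`exists_pushEquiv` : for `f : X' ⟶ X`, an `O_{X'}`-module `F` and an open cover `U` of `X` such that
`F` is acyclic on the preimages of the finite intersections and `f_* F` is acyclic on the finite
intersections, `H^n(X', F) ≃+ H^n(X, f_* F)`, compatibly with multiplication by global functions of
`X`; `nonempty_linearEquiv_over`: the `A`-linear form for schemes over `Spec A`.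
-/

set_option autoImplicit false
universe u
open CategoryTheory Limits Opposite TopologicalSpace Abelian AlgebraicGeometry

namespace Groth.Agent.H43.LerayLin

open Groth.Agent.Lead.Coh (freeSheaf)
open Groth.Agent.H30.SmulMod

section Scheme

variable {X' X : Scheme.{u}} (f : X' ⟶ X) (F : X'.Modules) {ι : Type u} (U : ι → X.Opens)

/-- pullback of global functions along `f`, typed for `Coh.Γtop` -/
noncomputable def pullTop : Coh.Γtop X →+* Coh.Γtop X' := f.appTop.hom

lemma pullTop_apply (r : Coh.Γtop X) : pullTop f r = f.appTop r := rfl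

lemma pushAb_map_smulAb (r : Coh.Γtop X) :
    (Coh.pushAb f).map (Coh.smulAb F (f.appTop r)) = Coh.smulAb ((Coh.push f).obj F) r := by
  rw [← toSheaf_map_smulMod, ← toSheaf_map_smulMod, ← pushforward_map_smulMod]
  rfl

/-- **Linear Leray comparison for a morphism and an acyclic cover.** -/
theorem exists_pushEquiv (hU : iSup U = ⊤)
    (h1 : ∀ (p : ℕ) (a : Fin (p + 1) → ι) (q : ℕ)
      (x : Ext (freeSheaf (Opens.grothendieckTopology X') (f ⁻¹ᵁ (⨅ k, U (a k))))
        (Coh.toAb F) (q + 1)), x = 0)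
    (h2 : ∀ (p : ℕ) (a : Fin (p + 1) → ι) (q : ℕ)
      (x : Ext (freeSheaf (Opens.grothendieckTopology X) (⨅ k, U (a k)))
        (Coh.toAb ((Coh.push f).obj F)) (q + 1)), x = 0) (n : ℕ) :
    ∃ e : Coh.HH X' F n ≃+ Coh.HH X ((Coh.push f).obj F) n,
      ∀ (r : Coh.Γtop X) (x : Coh.HH X' F n), e (pullTop f r • x) = r • e x := by
  have hA : AcycPre f.base U (Coh.toAb F) := h1
  have hB : Acyc U ((TopCat.Sheaf.pushforward AddCommGrpCat.{u} f.base).obj (Coh.toAb F)) := h2
  refine ⟨AddEquiv.ofBijective (pushHom f.base U hU (Coh.toAb F) hA n)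
    (pushHom_bijective f.base U hU (Coh.toAb F) hA hB n), ?_⟩
  intro r x
  change pushHom f.base U hU (Coh.toAb F) hA n
      (Sheaf.H.map (Coh.smulAb F (f.appTop r)) n x) =
    Sheaf.H.map (Coh.smulAb ((Coh.push f).obj F) r) n (pushHom f.base U hU (Coh.toAb F) hA n x)
  rw [pushHom_natural f.base U hU hA hA, ← pushAb_map_smulAb]
  rfl

lemma toGlobal_comp {A : Type u} [CommRing A] (g : X ⟶ Spec (CommRingCat.of A)) (a : A) :
    Coh.toGlobal (f ≫ g) a = pullTop f (Coh.toGlobal g a) := by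
  change ((f ≫ g).appTop).hom _ = (f.appTop).hom ((g.appTop).hom _)
  rw [Scheme.Hom.comp_appTop]
  rfl

/-- **`A`-linear Leray comparison** for a morphism of schemes over `Spec A` and an acyclic cover. -/
theorem nonempty_linearEquiv_over (A : Type u) [CommRing A] {X' X : Scheme.{u}}
    [X'.Over (Spec (CommRingCat.of A))] [X.Over (Spec (CommRingCat.of A))] (f : X' ⟶ X)
    (hf : f ≫ (X ↘ Spec (CommRingCat.of A)) = X' ↘ Spec (CommRingCat.of A))
    (F : X'.Modules) {ι : Type u} (U : ι → X.Opens) (hU : iSup U = ⊤)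
    (h1 : ∀ (p : ℕ) (a : Fin (p + 1) → ι) (q : ℕ)
      (x : Ext (freeSheaf (Opens.grothendieckTopology X') (f ⁻¹ᵁ (⨅ k, U (a k))))
        (Coh.toAb F) (q + 1)), x = 0)
    (h2 : ∀ (p : ℕ) (a : Fin (p + 1) → ι) (q : ℕ)
      (x : Ext (freeSheaf (Opens.grothendieckTopology X) (⨅ k, U (a k)))
        (Coh.toAb ((Coh.push f).obj F)) (q + 1)), x = 0) (n : ℕ) :
    Nonempty (Coh.HH X' F n ≃ₗ[A] Coh.HH X ((Coh.push f).obj F) n) := by
  obtain ⟨e, he⟩ := exists_pushEquiv f F U hU h1 h2 n
  refine ⟨{ e with map_smul' := ?_ }⟩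
  intro a x
  change e (Coh.toGlobal (X' ↘ Spec (CommRingCat.of A)) a • x) =
    Coh.toGlobal (X ↘ Spec (CommRingCat.of A)) a • e x
  rw [← hf, toGlobal_comp, he]

end Scheme

end Groth.Agent.H43.LerayLin
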