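import Groth.Agent.H43.LerayLin6
import Groth.Agent.Lead.Coh.AffineOpen

/-!
# Turnkey forms of the linear Leray comparison (helper43)

* `nonempty_linearEquiv_of_cover`: hypotheses phrased with `Finset`-indexed intersections
  `⨅ i ∈ s, U i` of an affine cover (as in `S0013`), `f_* F` quasi-coherent.
* `nonempty_linearEquiv_of_isAffineHom`: `f` affine (e.g. a closed immersion), `F` quasi-coherent,
  affine opens of the target have affine intersections: `H^n(X', F) ≃ₗ[A] H^n(X, f_* F)`.
-/

set_option autoImplicit false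
universe u
open CategoryTheory Limits Opposite TopologicalSpace Abelian AlgebraicGeometry

namespace Groth.Agent.H43.LerayLin

open Groth.Agent.Lead.Coh (freeSheaf)

lemma iInf_finset_image_eq {α ι : Type*} [CompleteLattice α] [DecidableEq ι] (U : ι → α) {p : ℕ}
    (a : Fin (p + 1) → ι) : (⨅ i ∈ Finset.univ.image a, U i) = ⨅ k, U (a k) := by
  apply le_antisymm
  · exact le_iInf fun k => iInf₂_le (a k) (Finset.mem_image_of_mem a (Finset.mem_univ k))
  · refine le_iInf₂ fun i hi => ?_
    obtain ⟨k, -, rfl⟩ := Finset.mem_image.mp hi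
    exact iInf_le _ k

/-- **`A`-linear Leray comparison**, hypotheses on `Finset`-indexed intersections of an affine
cover of the target. -/
theorem nonempty_linearEquiv_of_cover (A : Type u) [CommRing A] {X' X : Scheme.{u}}
    [X'.Over (Spec (CommRingCat.of A))] [X.Over (Spec (CommRingCat.of A))] (f : X' ⟶ X)
    (hf : f ≫ (X ↘ Spec (CommRingCat.of A)) = X' ↘ Spec (CommRingCat.of A))
    (F : X'.Modules) [((Coh.push f).obj F).IsQuasicoherent]
    {ι : Type u} (U : ι → X.Opens) (hU : iSup U = ⊤)
    (haff : ∀ s : Finset ι, s.Nonempty → IsAffineOpen (⨅ i ∈ s, U i))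
    (h1 : ∀ s : Finset ι, s.Nonempty → ∀ (q : ℕ)
      (x : Ext (freeSheaf (Opens.grothendieckTopology X') (f ⁻¹ᵁ (⨅ i ∈ s, U i)))
        (Coh.toAb F) (q + 1)), x = 0) (n : ℕ) :
    Nonempty (Coh.HH X' F n ≃ₗ[A] Coh.HH X ((Coh.push f).obj F) n) := by
  classical
  refine nonempty_linearEquiv_over A f hf F U hU ?_ ?_ n
  · intro p a q
    have h := h1 (Finset.univ.image a) ⟨a 0, Finset.mem_image_of_mem a (Finset.mem_univ 0)⟩ q
    rwa [iInf_finset_image_eq U a] at h
  · intro p a q
    have h := haff (Finset.univ.image a) ⟨a 0, Finset.mem_image_of_mem a (Finset.mem_univ 0)⟩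
    rw [iInf_finset_image_eq U a] at h
    exact Groth.Agent.Lead.Coh.hVanish_of_isAffineOpen X ((Coh.push f).obj F) h q

lemma isAffineOpen_biInf {X : Scheme.{u}}
    (hd : ∀ V W : X.Opens, IsAffineOpen V → IsAffineOpen W → IsAffineOpen (V ⊓ W))
    {ι : Type*} (U : ι → X.Opens) (hU : ∀ i, IsAffineOpen (U i)) (s : Finset ι)
    (hs : s.Nonempty) : IsAffineOpen (⨅ i ∈ s, U i) := by
  classical
  induction hs using Finset.Nonempty.cons_induction with
  | singleton a =>
    rw [show (⨅ i ∈ ({a} : Finset ι), U i) = U a by simp]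
    exact hU a
  | cons a s ha hs ih =>
    rw [Finset.cons_eq_insert, Finset.iInf_insert]
    exact hd _ _ (hU a) ih

/-- **`A`-linear cohomology of a pushforward along an affine morphism** (e.g. a closed
immersion): `H^n(X', F) ≃ₗ[A] H^n(X, f_* F)` for `F` quasi-coherent, when affine opens of `X` have
affine intersections. -/
theorem nonempty_linearEquiv_of_isAffineHom (A : Type u) [CommRing A] {X' X : Scheme.{u}}
    [X'.Over (Spec (CommRingCat.of A))] [X.Over (Spec (CommRingCat.of A))] (f : X' ⟶ X)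
    (hf : f ≫ (X ↘ Spec (CommRingCat.of A)) = X' ↘ Spec (CommRingCat.of A)) [IsAffineHom f]
    (F : X'.Modules) [F.IsQuasicoherent] [((Coh.push f).obj F).IsQuasicoherent]
    (hd : ∀ V W : X.Opens, IsAffineOpen V → IsAffineOpen W → IsAffineOpen (V ⊓ W)) (n : ℕ) :
    Nonempty (Coh.HH X' F n ≃ₗ[A] Coh.HH X ((Coh.push f).obj F) n) := by
  have haff : ∀ s : Finset X.affineOpens, s.Nonempty →
      IsAffineOpen (⨅ i ∈ s, (i : X.Opens)) :=
    fun s hs => isAffineOpen_biInf hd (fun i : X.affineOpens => (i : X.Opens)) (fun i => i.2) s hs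
  refine nonempty_linearEquiv_of_cover A f hf F (fun i : X.affineOpens => (i : X.Opens))
    (iSup_affineOpens_eq_top X) haff ?_ n
  intro s hs q
  exact Groth.Agent.Lead.Coh.hVanish_of_isAffineOpen X' F ((haff s hs).preimage f) q

end Groth.Agent.H43.LerayLin
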