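import Groth.Agent.H43.LerayLin7

/-!
# The three-step comparison used in the finiteness theorem (helper43)

`X ⟵i— Z ⟵π— Z' —j⟶ P` with `i`, `j` affine (closed immersions) and `π` acyclic for `L` over an
affine cover of `Z`: `H^n(X, i_* π_* L) ≃ₗ[A] H^n(P, j_* L)`.
-/

set_option autoImplicit false
universe u
open CategoryTheory Limits Opposite TopologicalSpace Abelian AlgebraicGeometry

namespace Groth.Agent.H43.LerayLin

open Groth.Agent.Lead.Coh (freeSheaf)

/-- **Chow-type comparison**: for `X ⟵i— Z ⟵π— Z' —j⟶ P` over `Spec A` with `i` and `j` affine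
morphisms, `L` quasi-coherent on `Z'` with quasi-coherent direct images, and an open cover `V` of `Z`
with affine finite intersections over whose preimages `L` is acyclic,
`H^n(X, i_* π_* L) ≃ₗ[A] H^n(P, j_* L)`. -/
theorem nonempty_linearEquiv_three (A : Type u) [CommRing A] {X Z Z' P : Scheme.{u}}
    [X.Over (Spec (CommRingCat.of A))] [P.Over (Spec (CommRingCat.of A))]
    (i : Z ⟶ X) [IsAffineHom i] (π : Z' ⟶ Z) (j : Z' ⟶ P) [IsAffineHom j]
    (hj : j ≫ (P ↘ Spec (CommRingCat.of A)) = π ≫ i ≫ (X ↘ Spec (CommRingCat.of A)))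
    (L : Z'.Modules) [L.IsQuasicoherent] [((Coh.push π).obj L).IsQuasicoherent]
    [((Coh.push i).obj ((Coh.push π).obj L)).IsQuasicoherent]
    [((Coh.push j).obj L).IsQuasicoherent]
    (hdX : ∀ V W : X.Opens, IsAffineOpen V → IsAffineOpen W → IsAffineOpen (V ⊓ W))
    (hdP : ∀ V W : P.Opens, IsAffineOpen V → IsAffineOpen W → IsAffineOpen (V ⊓ W))
    {ι : Type u} (V : ι → Z.Opens) (hV : iSup V = ⊤)
    (haff : ∀ s : Finset ι, s.Nonempty → IsAffineOpen (⨅ k ∈ s, V k))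
    (h1 : ∀ s : Finset ι, s.Nonempty → ∀ (q : ℕ)
      (x : Ext (freeSheaf (Opens.grothendieckTopology Z') (π ⁻¹ᵁ (⨅ k ∈ s, V k)))
        (Coh.toAb L) (q + 1)), x = 0) (n : ℕ) :
    Nonempty (Coh.HH X ((Coh.push i).obj ((Coh.push π).obj L)) n ≃ₗ[A]
      Coh.HH P ((Coh.push j).obj L) n) := by
  letI : Z.Over (Spec (CommRingCat.of A)) := ⟨i ≫ (X ↘ Spec (CommRingCat.of A))⟩
  letI : Z'.Over (Spec (CommRingCat.of A)) := ⟨π ≫ i ≫ (X ↘ Spec (CommRingCat.of A))⟩
  obtain ⟨e1⟩ := nonempty_linearEquiv_of_isAffineHom A i rfl ((Coh.push π).obj L) hdX n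
  obtain ⟨e2⟩ := nonempty_linearEquiv_of_cover A π rfl L V hV haff h1 n
  obtain ⟨e3⟩ := nonempty_linearEquiv_of_isAffineHom A j hj L hdP n
  exact ⟨e1.symm.trans (e2.symm.trans e3)⟩

end Groth.Agent.H43.LerayLin
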