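import Groth.Agent.H43.S8691aux
import Groth.Agent.H43.FilBasic
import Mathlib.RingTheory.MvPolynomial.Ideal

set_option autoImplicit false
universe u

namespace Groth.Agent.H43

open LambdaRing MvPolynomial Finset

section whc

variable {R : Type*} [CommRing R] {σ τ M : Type*} [AddCommMonoid M]

theorem weightedHomogeneousComponent_aeval {w : σ → M} {w' : τ → M}
    {f : σ → MvPolynomial τ R}
    (hf : ∀ i, IsWeightedHomogeneous w' (f i) (w i)) (P : MvPolynomial σ R) (k : M) :
    weightedHomogeneousComponent w' k (aeval f P) =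
      aeval f (weightedHomogeneousComponent w k P) := by
  classical
  have h1 : aeval f P = ∑ᶠ m', aeval f (weightedHomogeneousComponent w m' P) := by
    conv_lhs => rw [← sum_weightedHomogeneousComponent w P]
    rw [finsum_eq_sum _ (weightedHomogeneousComponent_finsupp P), map_sum]
    rw [finsum_eq_sum_of_support_subset]
    intro m' hm'
    simp only [Function.mem_support, ne_eq] at hm'
    simp only [Set.Finite.coe_toFinset, Function.mem_support, ne_eq]
    intro h0
    exact hm' (by rw [h0, map_zero])
  have hfin : (fun m' => aeval f (weightedHomogeneousComponent w m' P)).HasFiniteSupport := by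
    apply (weightedHomogeneousComponent_finsupp P).subset
    intro m' hm'
    simp only [Function.mem_support, ne_eq] at hm' ⊢
    intro h0
    exact hm' (by rw [h0, map_zero])
  have h2 := congrArg (weightedHomogeneousComponent w' k) h1
  rw [finsum_eq_sum _ hfin, map_sum] at h2
  rw [Finset.sum_eq_single k] at h2
  · rw [h2, (aeval_isWeightedHomogeneous hf
      (weightedHomogeneousComponent_isWeightedHomogeneous k P)).weightedHomogeneousComponent_same]
  · intro m' _ hm'
    exact (aeval_isWeightedHomogeneous hf
      (weightedHomogeneousComponent_isWeightedHomogeneous m' P)).weightedHomogeneousComponent_ne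
        k (Ne.symm hm')
  · intro hk'
    simp only [Set.Finite.mem_toFinset, Function.mem_support, ne_eq, not_not] at hk'
    rw [hk', map_zero]

end whc

section gammaLine

variable {K : Type*} [CommRing K] [LambdaOps K]

theorem gamma_sum_sub_one (h1 : ∀ k : ℕ, 2 ≤ k → LambdaOps.lam k (1 : K) = 0) {ι : Type*}
    [DecidableEq ι] (s : Finset ι) (y : ι → K)
    (hy : ∀ (i : ι) (j : ℕ), 2 ≤ j → LambdaOps.lam j (y i) = 0) (k : ℕ) :
    gamma k (∑ i ∈ s, (y i - 1)) = ∑ t ∈ s.powersetCard k, ∏ i ∈ t, (y i - 1) := by
  rw [← coeff_gammaSeries, gammaSeries_sum,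
    Finset.prod_congr rfl (fun i _ => gammaSeries_line_sub_one h1 (hy i)),
    coeff_prod_one_add_C_mul_X]

end gammaLine

section shift

variable (σ : Type u)

/-- the substitution `ℓ ↦ ℓ + 1` -/
noncomputable def shiftUp : LineRing σ →ₐ[ℤ] LineRing σ := aeval fun a => X a + 1

/-- the substitution `ℓ ↦ ℓ - 1` -/
noncomputable def shiftDown : LineRing σ →ₐ[ℤ] LineRing σ := aeval fun a => X a - 1

theorem shiftDown_shiftUp (f : LineRing σ) : shiftDown σ (shiftUp σ f) = f := by
  have : (shiftDown σ).comp (shiftUp σ) = AlgHom.id ℤ _ := by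
    apply MvPolynomial.algHom_ext
    intro a
    simp [shiftUp, shiftDown]
  exact DFunLike.congr_fun this f

theorem shiftUp_shiftDown (f : LineRing σ) : shiftUp σ (shiftDown σ f) = f := by
  have : (shiftUp σ).comp (shiftDown σ) = AlgHom.id ℤ _ := by
    apply MvPolynomial.algHom_ext
    intro a
    simp [shiftUp, shiftDown]
  exact DFunLike.congr_fun this f

theorem shiftUp_rename (e : Equiv.Perm σ) (f : LineRing σ) :
    shiftUp σ (rename e f) = rename e (shiftUp σ f) := by
  have : (shiftUp σ).comp (rename e) = (rename e).comp (shiftUp σ) := by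
    apply MvPolynomial.algHom_ext
    intro a
    simp [shiftUp]
  exact DFunLike.congr_fun this f

theorem constantCoeff_shiftUp (f : LineRing σ) :
    constantCoeff (shiftUp σ f) = eval (fun _ => (1 : ℤ)) f := by
  induction f using MvPolynomial.induction_on with
  | C a => simp [shiftUp]
  | add p q hp hq => rw [map_add, map_add, map_add, hp, hq]
  | mul_X p a hp =>
    rw [map_mul, map_mul, map_mul, hp]
    simp [shiftUp]

/-- the filtration of the line ring by the powers of the augmentation ideal -/
noncomputable def lineFil (j : ℕ) : Ideal (LineRing σ) :=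
  Ideal.comap (shiftUp σ) (idealOfVars σ ℤ ^ j)

theorem mulFil_lineFil : MulFil (K := LineRing σ) (A := LineRing σ) (lineFil σ) where
  one_mem := by simp [lineFil]
  mul_mem := by
    intro a b y z hy hz
    rw [lineFil, Ideal.mem_comap] at *
    rw [map_mul, pow_add]
    exact Ideal.mul_mem_mul hy hz
  anti := by
    intro a b hab
    exact Ideal.comap_mono (Ideal.pow_le_pow_right hab)

theorem mem_lineFil_one (f : LineRing σ) :
    f ∈ lineFil σ 1 ↔ eval (fun _ => (1 : ℤ)) f = 0 := by
  rw [lineFil, Ideal.mem_comap, mem_pow_idealOfVars_iff', ← constantCoeff_shiftUp]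
  constructor
  · intro h
    exact h 0 (by simp)
  · intro h x hx
    have : x = 0 := by
      rw [← Finsupp.degree_eq_zero_iff]
      omega
    rw [this]
    exact h

attribute [local instance] lineLambdaOps

theorem monomial_sub_one_good (m : σ →₀ ℕ) :
    (monomial m (1 : ℤ) - 1 : LineRing σ) ∈ gammaGood (K := LineRing σ) (lineFil σ) := by
  intro i
  have hy : ∀ j : ℕ, 2 ≤ j → LambdaOps.lam j (monomial m (1 : ℤ) : LineRing σ) = 0 := by
    intro j hj
    rw [← coeff_lamSeries, lamSeries_line_monomial]
    obtain ⟨j, rfl⟩ := Nat.exists_eq_add_of_le hj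
    simp [PowerSeries.coeff_one, PowerSeries.coeff_succ_mul_X, add_comm 2 j]
  rw [← coeff_gammaSeries, gammaSeries_line_sub_one isSpecial_line.lam_one_eq_zero hy]
  match i with
  | 0 => simpa using (mulFil_lineFil σ).one_mem
  | 1 =>
    rw [map_add, PowerSeries.coeff_one, if_neg one_ne_zero, zero_add,
      PowerSeries.coeff_succ_mul_X, PowerSeries.coeff_zero_C, mem_lineFil_one]
    simp [eval_monomial]
  | (i + 2) =>
    rw [map_add, PowerSeries.coeff_one, if_neg (by omega), zero_add,
      PowerSeries.coeff_succ_mul_X, PowerSeries.coeff_C, if_neg (by omega)]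
    exact zero_mem _

theorem line_good (z : LineRing σ) (hz : eval (fun _ => (1 : ℤ)) z = 0) :
    z ∈ gammaGood (K := LineRing σ) (lineFil σ) := by
  have hM := mulFil_lineFil σ
  have key : ∀ f : LineRing σ, f - C (eval (fun _ => (1 : ℤ)) f) ∈ gammaGoodSubgroup hM := by
    intro f
    induction f using MvPolynomial.induction_on' with
    | monomial u a =>
      have : (monomial u a - C (eval (fun _ => (1 : ℤ)) (monomial u a)) : LineRing σ) =
          a • (monomial u (1 : ℤ) - 1) := by
        rw [eval_monomial]
        simp only [one_pow, Finsupp.prod, Finset.prod_const_one, mul_one, smul_sub]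
        rw [smul_monomial, smul_eq_mul, mul_one, smul_eq_C_mul, mul_one]
      rw [this]
      exact zsmul_mem (monomial_sub_one_good σ u) a
    | add p q hp hq =>
      have : p + q - C (eval (fun _ => (1 : ℤ)) (p + q)) =
          (p - C (eval (fun _ => (1 : ℤ)) p)) + (q - C (eval (fun _ => (1 : ℤ)) q)) := by
        rw [map_add, map_add]; ring
      rw [this]
      exact add_mem hp hq
  have := key z
  rwa [hz, map_zero, sub_zero] at this

end shift

section FT

variable (σ : Type u) [Fintype σ]

attribute [local instance] lineLambdaOps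

theorem esymm_isWeightedHomogeneous_one' (k : ℕ) :
    IsWeightedHomogeneous (fun _ : σ => (1 : ℕ)) (esymm σ ℤ k) k := by
  rw [esymm]
  apply IsWeightedHomogeneous.sum
  intro s hs
  rw [Finset.mem_powersetCard] at hs
  have : (k : ℕ) = ∑ _i ∈ s, 1 := by simp [hs.2]
  rw [this]
  exact IsWeightedHomogeneous.prod _ _ _ fun i _ => isWeightedHomogeneous_X ℤ _ i

theorem shiftDown_esymm (k : ℕ) :
    shiftDown σ (esymm σ ℤ k) =
      ∑ t ∈ (Finset.univ : Finset σ).powersetCard k, ∏ a ∈ t, (X a - 1 : LineRing σ) := by
  rw [esymm, map_sum]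
  refine Finset.sum_congr rfl fun t _ => ?_
  rw [map_prod]
  refine Finset.prod_congr rfl fun a _ => ?_
  simp [shiftDown]

theorem gamma_lineN_sub (n : ℕ) (hn : Fintype.card σ = n) (k : ℕ) :
    gamma k (lineN σ - (n : LineRing σ)) = shiftDown σ (esymm σ ℤ k) := by
  classical
  have e : lineN σ - (n : LineRing σ) = ∑ a : σ, ((X a : LineRing σ) - 1) := by
    rw [Finset.sum_sub_distrib, lineN]
    simp [hn]
  have hy : ∀ (a : σ) (j : ℕ), 2 ≤ j → LambdaOps.lam j (X a : LineRing σ) = 0 := by
    intro a j hj
    rw [← coeff_lamSeries, lamSeries_line_X]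
    obtain ⟨j, rfl⟩ := Nat.exists_eq_add_of_le hj
    simp [PowerSeries.coeff_one, PowerSeries.coeff_succ_mul_X, add_comm 2 j]
  rw [e, gamma_sum_sub_one isSpecial_line.lam_one_eq_zero _ _ hy, shiftDown_esymm]

/-- the fundamental theorem on symmetric functions, with the filtration by the powers of the
augmentation ideal on one side and by the weight on the other -/
theorem filtered_FT (n : ℕ) (hn : Fintype.card σ = n) (g : LineRing σ) (hg : g.IsSymmetric)
    (j : ℕ) (hgj : g ∈ lineFil σ j) :
    ∃ H : MvPolynomial (Fin n) ℤ, (∀ m ∈ H.support, j ≤ ∑ k : Fin n, ((k : ℕ) + 1) * m k) ∧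
      g = aeval (fun k : Fin n => shiftDown σ (esymm σ ℤ ((k : ℕ) + 1))) H := by
  classical
  have hg' : (shiftUp σ g).IsSymmetric := by
    intro e
    rw [← shiftUp_rename, hg e]
  obtain ⟨H, hH⟩ := esymmAlgHom_surjective (σ := σ) ℤ (le_of_eq hn) ⟨shiftUp σ g, hg'⟩
  have hH' : aeval (fun k : Fin n => esymm σ ℤ ((k : ℕ) + 1)) H = shiftUp σ g := by
    rw [← esymmAlgHom_apply, hH]
  refine ⟨H, ?_, ?_⟩
  · intro m hm
    by_contra hlt
    rw [not_le] at hlt
    set w : Fin n → ℕ := fun k => (k : ℕ) + 1 with hw
    have hwt : Finsupp.weight w m = ∑ k : Fin n, ((k : ℕ) + 1) * m k := by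
      rw [Finsupp.weight_apply, Finsupp.sum_fintype _ _ (fun _ => by simp)]
      refine Finset.sum_congr rfl fun k _ => ?_
      rw [smul_eq_mul, mul_comm]
    set d := Finsupp.weight w m with hd
    have hf : ∀ k : Fin n, IsWeightedHomogeneous (fun _ : σ => (1 : ℕ))
        (esymm σ ℤ ((k : ℕ) + 1)) (w k) := fun k => esymm_isWeightedHomogeneous_one' σ _
    have hcomp := weightedHomogeneousComponent_aeval (R := ℤ) hf H d
    rw [hH'] at hcomp
    have hzero : weightedHomogeneousComponent (fun _ : σ => (1 : ℕ)) d (shiftUp σ g) = 0 := by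
      ext x
      rw [coeff_weightedHomogeneousComponent, coeff_zero]
      split_ifs with hx
      · have hmem : shiftUp σ g ∈ idealOfVars σ ℤ ^ j := hgj
        rw [mem_pow_idealOfVars_iff'] at hmem
        apply hmem
        have : Finsupp.degree x = Finsupp.weight (fun _ : σ => (1 : ℕ)) x := by
          rw [Finsupp.degree_eq_weight_one]
        rw [this, hx, hwt]
        exact hlt
      · rfl
    rw [hzero] at hcomp
    have hinj := esymmAlgHom_injective (σ := σ) ℤ (le_of_eq hn.symm)
    have hH0 : weightedHomogeneousComponent w d H = 0 := by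
      apply hinj
      apply Subtype.ext
      rw [esymmAlgHom_apply, map_zero, Subalgebra.coe_zero]
      exact hcomp.symm
    have := congrArg (coeff m) hH0
    rw [coeff_weightedHomogeneousComponent, if_pos hd.symm, coeff_zero] at this
    exact (mem_support_iff.mp hm) this
  · rw [← comp_aeval_apply, hH', shiftDown_shiftUp]

end FT

end Groth.Agent.H43
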