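import Groth.Agent.H43.Special
import Mathlib.Algebra.MvPolynomial.Expand

set_option autoImplicit false
universe u

namespace Groth.Agent.H43

open LambdaRing PowerSeries

section units

variable {K : Type*} [CommRing K]

theorem one_add_C_mul_X_mul_geom (a : K) :
    (1 + C a * X : PowerSeries K) * PowerSeries.mk (fun k => (-a) ^ k) = 1 := by
  ext n
  rw [add_mul, one_mul, map_add, coeff_mk, mul_assoc, coeff_C_mul]
  match n with
  | 0 => simp
  | (n + 1) =>
    rw [mul_comm X, coeff_succ_mul_X, coeff_mk, coeff_one, if_neg (Nat.succ_ne_zero n), pow_succ]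
    ring

/-- the unit `1 + a t` of `K[[t]]` -/
noncomputable def lineUnit (a : K) : (PowerSeries K)ˣ where
  val := 1 + C a * X
  inv := PowerSeries.mk fun k => (-a) ^ k
  val_inv := one_add_C_mul_X_mul_geom a
  inv_val := by rw [mul_comm]; exact one_add_C_mul_X_mul_geom a

@[simp] theorem lineUnit_val (a : K) : ((lineUnit a : (PowerSeries K)ˣ) : PowerSeries K) = 1 + C a * X :=
  rfl

theorem lineUnit_inv_val (a : K) :
    (((lineUnit a)⁻¹ : (PowerSeries K)ˣ) : PowerSeries K) = PowerSeries.mk fun k => (-a) ^ k := rfl

/-- the logarithmic derivative as a homomorphism on units -/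
noncomputable def logDerivHom : (PowerSeries K)ˣ →* Multiplicative (PowerSeries K) where
  toFun w := Multiplicative.ofAdd (derivative K (w : PowerSeries K) * ((w⁻¹ : (PowerSeries K)ˣ) : PowerSeries K))
  map_one' := by simp
  map_mul' u v := by
    rw [← ofAdd_add]
    congr 1
    rw [Units.val_mul, Derivation.leibniz, mul_inv, Units.val_mul]
    simp only [smul_eq_mul]
    have hu : (u : PowerSeries K) * ((u⁻¹ : (PowerSeries K)ˣ) : PowerSeries K) = 1 := Units.mul_inv u
    have hv : (v : PowerSeries K) * ((v⁻¹ : (PowerSeries K)ˣ) : PowerSeries K) = 1 := Units.mul_inv v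
    calc ((u : PowerSeries K) * derivative K (v : PowerSeries K) + (v : PowerSeries K) * derivative K (u : PowerSeries K)) *
          (((u⁻¹ : (PowerSeries K)ˣ) : PowerSeries K) * ((v⁻¹ : (PowerSeries K)ˣ) : PowerSeries K))
        = ((u : PowerSeries K) * ((u⁻¹ : (PowerSeries K)ˣ) : PowerSeries K)) *
            (derivative K (v : PowerSeries K) * ((v⁻¹ : (PowerSeries K)ˣ) : PowerSeries K)) +
          ((v : PowerSeries K) * ((v⁻¹ : (PowerSeries K)ˣ) : PowerSeries K)) *
            (derivative K (u : PowerSeries K) * ((u⁻¹ : (PowerSeries K)ˣ) : PowerSeries K)) := by ring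
      _ = _ := by rw [hu, hv, one_mul, one_mul, add_comm]

theorem logDerivHom_apply (w : (PowerSeries K)ˣ) :
    (logDerivHom w).toAdd = derivative K (w : PowerSeries K) * ((w⁻¹ : (PowerSeries K)ˣ) : PowerSeries K) :=
  rfl

theorem logDerivHom_lineUnit (a : K) :
    (logDerivHom (lineUnit a)).toAdd = PowerSeries.mk fun k => (-1 : K) ^ k * a ^ (k + 1) := by
  rw [logDerivHom_apply, lineUnit_val, lineUnit_inv_val]
  ext n
  simp only [map_add, derivative_one, zero_add, Derivation.leibniz, derivative_C, derivative_X,
    smul_eq_mul]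
  rw [mul_zero, add_zero, mul_one, coeff_C_mul, coeff_mk, coeff_mk, neg_pow, pow_succ]
  ring

end units

end Groth.Agent.H43

namespace Groth.Agent.H43

open LambdaRing PowerSeries

section line

variable (σ : Type*)

/-- the line ring -/
abbrev LineRing := MvPolynomial σ ℤ

/-- `f ↦ ∏ (1 + m t)^{c_m}` as a linear map to the (additive) group of units -/
noncomputable def lineLamHom :
    LineRing σ →ₗ[ℤ] Additive (PowerSeries (LineRing σ))ˣ :=
  (MvPolynomial.basisMonomials σ ℤ).constr ℤ fun m =>
    Additive.ofMul (lineUnit (MvPolynomial.monomial m (1 : ℤ)))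

/-- the series `λ_t(f)` in the line ring -/
noncomputable def lineSeries (f : LineRing σ) : PowerSeries (LineRing σ) :=
  ((lineLamHom σ f).toMul : (PowerSeries (LineRing σ))ˣ)

variable {σ}

theorem lineLamHom_monomial (m : σ →₀ ℕ) :
    lineLamHom σ (MvPolynomial.monomial m (1 : ℤ)) =
      Additive.ofMul (lineUnit (MvPolynomial.monomial m (1 : ℤ))) := by
  have hm : MvPolynomial.monomial m (1 : ℤ) = MvPolynomial.basisMonomials σ ℤ m := by
    rw [MvPolynomial.coe_basisMonomials]
  rw [lineLamHom]
  conv_lhs => rw [hm]
  rw [Module.Basis.constr_basis]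

theorem lineSeries_monomial (m : σ →₀ ℕ) :
    lineSeries σ (MvPolynomial.monomial m (1 : ℤ)) =
      1 + C (MvPolynomial.monomial m (1 : ℤ)) * X := by
  rw [lineSeries, lineLamHom_monomial]; rfl

theorem lineSeries_add (f g : LineRing σ) :
    lineSeries σ (f + g) = lineSeries σ f * lineSeries σ g := by
  rw [lineSeries, map_add]; rfl

theorem lineSeries_zero : lineSeries σ (0 : LineRing σ) = 1 := by
  rw [lineSeries, map_zero]; rfl

/-- the line ring hom-extension principle -/
theorem lineRing_linearMap_ext {M : Type*} [AddCommGroup M] (φ ψ : LineRing σ →ₗ[ℤ] M)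
    (h : ∀ m : σ →₀ ℕ, φ (MvPolynomial.monomial m 1) = ψ (MvPolynomial.monomial m 1)) : φ = ψ := by
  apply (MvPolynomial.basisMonomials σ ℤ).ext
  intro m
  rw [MvPolynomial.coe_basisMonomials]
  exact h m

theorem constantCoeff_lineSeries (f : LineRing σ) : constantCoeff (lineSeries σ f) = 1 := by
  let c0 : Additive (PowerSeries (LineRing σ))ˣ →+ Additive (LineRing σ)ˣ :=
    MonoidHom.toAdditive (Units.map (constantCoeff (R := LineRing σ)).toMonoidHom)
  have h : c0.toIntLinearMap.comp (lineLamHom σ) = 0 := by
    apply lineRing_linearMap_ext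
    intro m
    rw [LinearMap.comp_apply, lineLamHom_monomial, LinearMap.zero_apply]
    apply Additive.toMul.injective
    apply Units.ext
    change constantCoeff (1 + C (MvPolynomial.monomial m (1 : ℤ)) * X) = 1
    simp
  have h2 := LinearMap.congr_fun h f
  rw [LinearMap.comp_apply, LinearMap.zero_apply] at h2
  have h3 := congrArg (fun w : Additive (LineRing σ)ˣ => ((Additive.toMul w : (LineRing σ)ˣ) : LineRing σ)) h2
  exact h3

/-- the logarithmic derivative of `λ_t(f)` in the line ring -/
theorem logDeriv_lineSeries (f : LineRing σ) :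
    derivative (LineRing σ) (lineSeries σ f) * (lineSeries σ f).invOfUnit 1 =
      PowerSeries.mk fun k => (-1 : LineRing σ) ^ k * MvPolynomial.expand (k + 1) f := by
  -- both sides are additive in `f`
  let lhs : LineRing σ →ₗ[ℤ] PowerSeries (LineRing σ) :=
    ((MonoidHom.toAdditive (logDerivHom (K := LineRing σ))).toIntLinearMap).comp (lineLamHom σ)
  let rhsAdd : LineRing σ →+ PowerSeries (LineRing σ) :=
    { toFun := fun f => PowerSeries.mk fun k => (-1 : LineRing σ) ^ k * MvPolynomial.expand (k + 1) f
      map_zero' := by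
        ext k
        simp
      map_add' := by
        intro f g
        ext k
        simp [mul_add] }
  let rhs : LineRing σ →ₗ[ℤ] PowerSeries (LineRing σ) := rhsAdd.toIntLinearMap
  have h : lhs = rhs := by
    apply lineRing_linearMap_ext
    intro m
    change (logDerivHom (lineLamHom σ (MvPolynomial.monomial m 1)).toMul).toAdd = _
    rw [lineLamHom_monomial]
    change (logDerivHom (lineUnit (MvPolynomial.monomial m (1 : ℤ)))).toAdd = _
    rw [logDerivHom_lineUnit]
    refine PowerSeries.ext fun k => ?_
    change _ = coeff k (PowerSeries.mk fun k => (-1 : LineRing σ) ^ k *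
      MvPolynomial.expand (k + 1) (MvPolynomial.monomial m (1 : ℤ)))
    rw [coeff_mk, coeff_mk, MvPolynomial.expand_monomial, MvPolynomial.monomial_pow]
    simp
  have h2 := LinearMap.congr_fun h f
  change (logDerivHom (lineLamHom σ f).toMul).toAdd = _ at h2
  rw [logDerivHom_apply] at h2
  refine Eq.trans ?_ h2
  change derivative (LineRing σ) (lineSeries σ f) * _ = derivative (LineRing σ) (lineSeries σ f) * _
  congr 1
  -- the inverse unit is `invOfUnit`
  have hinv : (lineSeries σ f) * (lineSeries σ f).invOfUnit 1 = 1 :=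
    PowerSeries.mul_invOfUnit _ _ (by rw [constantCoeff_lineSeries]; rfl)
  have hinv' : (lineSeries σ f) * (((lineLamHom σ f).toMul⁻¹ : (PowerSeries (LineRing σ))ˣ) :
      PowerSeries (LineRing σ)) = 1 := Units.mul_inv _
  calc (lineSeries σ f).invOfUnit 1
      = (lineSeries σ f).invOfUnit 1 * ((lineSeries σ f) *
          (((lineLamHom σ f).toMul⁻¹ : (PowerSeries (LineRing σ))ˣ) :
            PowerSeries (LineRing σ))) := by rw [hinv', mul_one]
    _ = _ := by rw [← mul_assoc, mul_comm _ (lineSeries σ f), hinv, one_mul]

end line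

end Groth.Agent.H43

namespace Groth.Agent.H43

open LambdaRing PowerSeries

section lineOps

variable {σ : Type*}

theorem coeff_one_lineSeries (f : LineRing σ) : coeff 1 (lineSeries σ f) = f := by
  have h := logDeriv_lineSeries f
  have hinv : (lineSeries σ f).invOfUnit 1 * (lineSeries σ f) = 1 := by
    rw [mul_comm]
    exact PowerSeries.mul_invOfUnit _ _ (by rw [constantCoeff_lineSeries]; rfl)
  have h2 : derivative (LineRing σ) (lineSeries σ f) =
      (PowerSeries.mk fun k => (-1 : LineRing σ) ^ k * MvPolynomial.expand (k + 1) f) *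
        lineSeries σ f := by
    rw [← h, mul_assoc, hinv, mul_one]
  have h3 := congrArg (coeff 0) h2
  rw [coeff_derivative, coeff_zero_eq_constantCoeff_apply, map_mul, constantCoeff_lineSeries,
    mul_one, ← coeff_zero_eq_constantCoeff_apply, coeff_mk] at h3
  simpa using h3

/-- the λ-structure of the line ring: all monomials are line elements -/
@[reducible] noncomputable def lineLambdaOps : LambdaOps (LineRing σ) where
  lam n f := coeff n (lineSeries σ f)
  lam_zero f := by
    rw [coeff_zero_eq_constantCoeff_apply, constantCoeff_lineSeries]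
  lam_one f := coeff_one_lineSeries f
  lam_add k f g := by
    rw [lineSeries_add, coeff_mul, Finset.Nat.sum_antidiagonal_eq_sum_range_succ_mk]

attribute [local instance] lineLambdaOps

theorem lamSeries_line (f : LineRing σ) : lamSeries f = lineSeries σ f := by
  ext n
  rw [coeff_lamSeries]
  rfl

theorem logDerivSeries_line (f : LineRing σ) :
    logDerivSeries f = PowerSeries.mk fun k => (-1 : LineRing σ) ^ k * MvPolynomial.expand (k + 1) f := by
  rw [logDerivSeries, lamSeries_line, logDeriv_lineSeries]

theorem adamsOp_line (k : ℕ) (hk : 1 ≤ k) (f : LineRing σ) :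
    adamsOp k f = MvPolynomial.expand k f := by
  obtain ⟨k, rfl⟩ := Nat.exists_eq_add_of_le' hk
  rw [adamsOp_succ, logDerivSeries_line, coeff_mk, ← mul_assoc, ← pow_add, ← two_mul, pow_mul]
  simp

theorem isSpecial_line : IsSpecial (LineRing σ) := by
  apply isSpecial_of_adams
  · intro k hk
    rw [adamsOp_line k hk, map_one]
  · intro k hk x y
    rw [adamsOp_line k hk, adamsOp_line k hk, adamsOp_line k hk, map_mul]
  · intro k k' hk hk' x
    rw [adamsOp_line k' hk', adamsOp_line k hk, adamsOp_line (k * k') (Nat.mul_pos hk hk'),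
      MvPolynomial.expand_mul]

theorem lamSeries_line_monomial (m : σ →₀ ℕ) :
    lamSeries (MvPolynomial.monomial m (1 : ℤ) : LineRing σ) =
      1 + C (MvPolynomial.monomial m (1 : ℤ)) * X := by
  rw [lamSeries_line, lineSeries_monomial]

theorem lamSeries_line_X (i : σ) :
    lamSeries (MvPolynomial.X i : LineRing σ) = 1 + C (MvPolynomial.X i) * X :=
  lamSeries_line_monomial _

end lineOps

end Groth.Agent.H43

namespace Groth.Agent.H43

open LambdaRing PowerSeries

section lineDiv

variable {σ : Type*}

attribute [local instance] lineLambdaOps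

/-- rescaling on the additive group of units -/
noncomputable def rescaleUnitsAdd (a : LineRing σ) :
    Additive (PowerSeries (LineRing σ))ˣ →+ Additive (PowerSeries (LineRing σ))ˣ :=
  MonoidHom.toAdditive (Units.map (rescale a).toMonoidHom)

theorem rescaleUnitsAdd_val (a : LineRing σ) (w : Additive (PowerSeries (LineRing σ))ˣ) :
    (((rescaleUnitsAdd a w).toMul : (PowerSeries (LineRing σ))ˣ) : PowerSeries (LineRing σ)) =
      rescale a ((w.toMul : (PowerSeries (LineRing σ))ˣ) : PowerSeries (LineRing σ)) := rfl

theorem rescale_C' (a b : LineRing σ) : rescale a (C b) = C b := by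
  ext n
  rw [coeff_rescale, coeff_C]
  split_ifs with h0
  · subst h0; simp
  · simp

/-- multiplying by a monomial rescales the λ-series -/
theorem lineSeries_mul_monomial (f : LineRing σ) (m : σ →₀ ℕ) :
    lineSeries σ (f * MvPolynomial.monomial m (1 : ℤ)) =
      rescale (MvPolynomial.monomial m (1 : ℤ)) (lineSeries σ f) := by
  have h : (lineLamHom σ).comp (LinearMap.mulRight ℤ (MvPolynomial.monomial m (1 : ℤ))) =
      ((rescaleUnitsAdd (MvPolynomial.monomial m (1 : ℤ))).toIntLinearMap).comp (lineLamHom σ) := by
    apply lineRing_linearMap_ext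
    intro m'
    rw [LinearMap.comp_apply, LinearMap.comp_apply, LinearMap.mulRight_apply,
      AddMonoidHom.coe_toIntLinearMap, MvPolynomial.monomial_mul, mul_one, lineLamHom_monomial,
      lineLamHom_monomial]
    apply Additive.toMul.injective
    apply Units.ext
    rw [rescaleUnitsAdd_val]
    change 1 + C (MvPolynomial.monomial (m' + m) (1 : ℤ)) * X =
      rescale (MvPolynomial.monomial m (1 : ℤ)) (1 + C (MvPolynomial.monomial m' (1 : ℤ)) * X)
    rw [RingHom.map_add, RingHom.map_one, RingHom.map_mul, rescale_X, rescale_C', ← mul_assoc,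
      ← RingHom.map_mul, MvPolynomial.monomial_mul, mul_one]
  have h2 := LinearMap.congr_fun h f
  rw [LinearMap.comp_apply, LinearMap.comp_apply, LinearMap.mulRight_apply,
    AddMonoidHom.coe_toIntLinearMap] at h2
  have h3 := congrArg (fun w : Additive (PowerSeries (LineRing σ))ˣ =>
    ((Additive.toMul w : (PowerSeries (LineRing σ))ˣ) : PowerSeries (LineRing σ))) h2
  simp only [rescaleUnitsAdd_val] at h3
  exact h3

theorem lamSeries_line_mul_X (f : LineRing σ) (i : σ) :
    lamSeries (f * MvPolynomial.X i) = rescale (MvPolynomial.X i : LineRing σ) (lamSeries f) := by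
  rw [lamSeries_line, lamSeries_line]
  exact lineSeries_mul_monomial f (Finsupp.single i 1)

/-- all coefficients in an ideal -/
def CoeffsIn (I : Ideal (LineRing σ)) (F : PowerSeries (LineRing σ)) : Prop :=
  ∀ n, coeff n F ∈ I

theorem CoeffsIn.mul_right {I : Ideal (LineRing σ)} {F : PowerSeries (LineRing σ)}
    (hF : CoeffsIn I F) (G : PowerSeries (LineRing σ)) : CoeffsIn I (F * G) := by
  intro n
  rw [coeff_mul]
  exact Ideal.sum_mem _ fun p _ => Ideal.mul_mem_right _ _ (hF p.1)

/-- the product `∏_{i ∈ s} (1 - X_i)` -/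
noncomputable def lamMinusOne (s : Finset σ) : LineRing σ := ∏ i ∈ s, (1 - MvPolynomial.X i)

theorem lam_lamMinusOne_mem (s : Finset σ) (n : ℕ) (hn : 1 ≤ n) :
    LambdaOps.lam n (lamMinusOne s) ∈ Ideal.span {lamMinusOne s} := by
  classical
  induction s using Finset.induction_on generalizing n with
  | empty =>
    have : lamMinusOne (∅ : Finset σ) = 1 := by simp [lamMinusOne]
    rw [this, Ideal.span_singleton_one]
    trivial
  | insert i s hi ih =>
    set Y := lamMinusOne s with hY
    have hY' : lamMinusOne (insert i s) = Y - Y * MvPolynomial.X i := by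
      rw [lamMinusOne, Finset.prod_insert hi]
      change (1 - MvPolynomial.X i) * Y = _
      ring
    set F := lamSeries Y with hF
    set G := lamSeries (Y * MvPolynomial.X i) with hG
    set H := lamSeries (lamMinusOne (insert i s)) with hH
    have hGF : G = rescale (MvPolynomial.X i : LineRing σ) F := lamSeries_line_mul_X Y i
    have hHG : H * G = F := by
      rw [hH, hG, ← lamSeries_add, hY']
      congr 1
      ring
    have hGinv : G * G.invOfUnit 1 = 1 :=
      PowerSeries.mul_invOfUnit _ _ (by rw [hG, constantCoeff_lamSeries]; rfl)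
    have hH1 : H - 1 = (F - G) * G.invOfUnit 1 := by
      rw [← hHG, sub_mul, mul_assoc, hGinv, mul_one]
    have hFG : CoeffsIn (Ideal.span {lamMinusOne (insert i s)}) (F - G) := by
      intro k
      rw [map_sub, hGF, coeff_rescale]
      by_cases hk : k = 0
      · subst hk
        simp
      · have h1 : coeff k F ∈ Ideal.span {Y} := by
          rw [hF, coeff_lamSeries]
          exact ih k (Nat.one_le_iff_ne_zero.mpr hk)
        obtain ⟨c, hc⟩ := Ideal.mem_span_singleton'.mp h1
        obtain ⟨e, he⟩ : (1 - MvPolynomial.X i : LineRing σ) ∣ 1 - MvPolynomial.X i ^ k := by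
          have := sub_dvd_pow_sub_pow (1 : LineRing σ) (MvPolynomial.X i) k
          rwa [one_pow] at this
        rw [Ideal.mem_span_singleton']
        refine ⟨c * e, ?_⟩
        rw [hY', ← hc]
        have : coeff k F - MvPolynomial.X i ^ k * coeff k F = (1 - MvPolynomial.X i ^ k) * coeff k F := by
          ring
        rw [← hc] at this
        rw [this, he]
        ring
    have hH1' : CoeffsIn (Ideal.span {lamMinusOne (insert i s)}) (H - 1) := by
      rw [hH1]
      exact hFG.mul_right _
    have := hH1' n
    rw [map_sub, coeff_one, if_neg (by omega), sub_zero, hH, coeff_lamSeries] at this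
    exact this

end lineDiv

end Groth.Agent.H43
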