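import Groth.Agent.H30.Degenerate

/-!
# Truncated degenerate case of the Grothendieck spectral sequence (helper43)

If `R^qT(X) = 0` for `0 < q ≤ m`, then `Rⁿ(T ⋙ S)(X) ≅ RⁿS(R⁰T(X))` for `n ≤ m`.
-/

set_option autoImplicit false
set_option linter.unusedSectionVars false
universe w w' v v' u u'
open CategoryTheory Limits Pretriangulated ZeroObject

namespace Groth.Agent.H43.LowDegIso

open DerivedCategory Groth.Agent.H30 Groth.Agent.H30.Hyper Groth.Agent.H30.Leray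
  Groth.Agent.H30.GrothSS Groth.Agent.H30.Degenerate

section Core

variable {A : Type u} [Category.{v} A] [Abelian A] [HasDerivedCategory.{w} A] [EnoughInjectives A]
  {B : Type u'} [Category.{v'} B] [Abelian B] [HasDerivedCategory.{w'} B]
  (F : A ⥤ B) [F.Additive] (KK : DerivedCategory.Plus A)

lemma isIso_homology_map_triA_mor₁ (q i : ℤ) (hi : i < q) :
    IsIso ((Plus.homologyFunctor A i).map (triA KK q).mor₁) := by
  have hGE : Plus.TStructure.t.IsGE (triA KK q).obj₃ q :=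
    Plus.TStructure.t.isGE_eTruncGE_obj_obj q _ le_rfl _
  exact isIso_shift_map_mor₁ (Plus.homologyFunctor A 0) _ (triA_dist KK q) (i - 1) i (by lia)
    (Plus.isZero_homology_of_isGE _ q _ (by lia))
    (Plus.isZero_homology_of_isGE _ q _ (by lia))

/-- If `KK ∈ D^{≥ 0}` and `H^i(KK) = 0` for `0 < i ≤ m` then `Φ_n(KK) ≅ RⁿF(H^0 KK)` for `n ≤ m`. -/
lemma nonempty_Φ_iso_of_isZero_mid [KK.IsGE 0] (m : ℕ)
    (h : ∀ i : ℤ, 0 < i → i ≤ m → IsZero ((Plus.homologyFunctor A i).obj KK)) (n : ℕ)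
    (hn : n ≤ m) :
    Nonempty (((Φ F).shift (n : ℤ)).obj KK ≅
      (F.rightDerived n).obj ((Plus.homologyFunctor A 0).obj KK)) := by
  have i₁ := isIso_Φ_map_triA_mor₁ F KK ((m : ℤ) + 1) n (by exact_mod_cast Nat.lt_succ_of_le hn)
  have hGE : (tLT KK ((m : ℤ) + 1)).IsGE 0 := by
    dsimp only [tLT]
    infer_instance
  have hLE : Plus.TStructure.t.IsLE (tLT KK ((m : ℤ) + 1)) m :=
    Plus.TStructure.t.isLE_eTruncLT_obj_obj m _ le_rfl KK
  have hz : ∀ i : ℤ, 0 < i → IsZero ((Plus.homologyFunctor A i).obj (tLT KK ((m : ℤ) + 1))) := by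
    intro i hi
    by_cases him : i ≤ m
    · have := isIso_homology_map_triA_mor₁ KK ((m : ℤ) + 1) i (by lia)
      exact (h i hi him).of_iso (@asIso _ _ _ _ _ this)
    · exact Plus.isZero_homology_of_isLE _ m _ (by lia)
  obtain ⟨e⟩ := nonempty_Φ_iso_of_isLE F (tLT KK ((m : ℤ) + 1)) hz n
  have i₂ := isIso_homology_map_triA_mor₁ KK ((m : ℤ) + 1) 0 (by lia)
  exact ⟨(@asIso _ _ _ _ _ i₁).symm ≪≫ e ≪≫
    (F.rightDerived n).mapIso (@asIso _ _ _ _ _ i₂)⟩

end Core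

section Main

variable {C : Type*} [Category C] [Abelian C] [HasInjectiveResolutions C]
  {C' : Type u} [Category.{v} C'] [Abelian C'] [HasDerivedCategory.{w} C'] [EnoughInjectives C']
  {C'' : Type u'} [Category.{v'} C''] [Abelian C''] [HasDerivedCategory.{w'} C'']
  (T : C ⥤ C') [T.Additive] (S : C' ⥤ C'') [S.Additive] [PreservesFiniteLimits S]
  (hT : ∀ Q : C, Injective Q → ∀ q : ℕ, 0 < q → IsZero ((S.rightDerived q).obj (T.obj Q)))
  (X : C)

include hT in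
/-- If `R^qT(X) = 0` for `0 < q ≤ m`, then `Rⁿ(T ⋙ S)(X) ≅ RⁿS(R⁰T(X))` for `n ≤ m`. -/
theorem iso_of_isZero_mid (m : ℕ)
    (h : ∀ q : ℕ, 0 < q → q ≤ m → IsZero ((T.rightDerived q).obj X)) (n : ℕ) (hn : n ≤ m) :
    Nonempty (((T ⋙ S).rightDerived n).obj X ≅
      (S.rightDerived n).obj ((T.rightDerived 0).obj X)) := by
  let I := injectiveResolution X
  obtain ⟨e⟩ := nonempty_abutIso T S hT X I n n rfl
  have hz : ∀ i : ℤ, 0 < i → i ≤ m →
      IsZero ((Plus.homologyFunctor C' i).obj (Plus.Q.obj (TI T X I))) := fun i hi him => by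
    obtain ⟨q, rfl⟩ : ∃ q : ℕ, i = (q : ℤ) := ⟨i.toNat, by lia⟩
    exact (h q (by exact_mod_cast hi) (by exact_mod_cast him)).of_iso (homologyTIIso T X I q)
  obtain ⟨e'⟩ := nonempty_Φ_iso_of_isZero_mid S (Plus.Q.obj (TI T X I)) m hz n hn
  exact ⟨e.symm ≪≫ e' ≪≫ (S.rightDerived n).mapIso (homologyTIIso T X I 0)⟩

end Main

end Groth.Agent.H43.LowDegIso
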