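import Groth.Agent.H43.Adams
import Mathlib.RingTheory.MvPolynomial.Symmetric.NewtonIdentities

set_option autoImplicit false
universe u

namespace Groth.Agent.H43

open Finset

theorem sum_antidiagonal_succ_filter {K : Type*} [AddCommMonoid K] (f : ℕ × ℕ → K) (m : ℕ) :
    ∑ a ∈ antidiagonal (m + 1) with a.1 < m + 1, f a = ∑ p ∈ antidiagonal m, f (p.2, p.1 + 1) := by
  rw [Finset.Nat.antidiagonal_succ', Finset.sum_filter, Finset.sum_cons]
  simp only [lt_self_iff_false, if_false, zero_add, Finset.sum_map]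
  rw [← Finset.Nat.sum_antidiagonal_swap]
  refine Finset.sum_congr rfl fun p hp => ?_
  rw [Finset.mem_antidiagonal] at hp
  have : ((Function.Embedding.refl ℕ).prodMap ⟨Nat.succ, Nat.succ_injective⟩) p.swap =
      (p.2, p.1 + 1) := rfl
  rw [this, if_pos (by simp only; omega)]

/-- Newton's relation between "elementary symmetric" values `e` and "power sum" values `p`. -/
def NewtonRel {A : Type*} [CommRing A] (e p : ℕ → A) (k : ℕ) : Prop :=
  (k : A) * e k = (-1) ^ (k + 1) *
    ∑ a ∈ antidiagonal k with a.1 < k, (-1) ^ a.1 * e a.1 * p a.2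

theorem NewtonRel.map {A B : Type*} [CommRing A] [CommRing B] (f : A →+* B) {e p : ℕ → A} {k : ℕ}
    (h : NewtonRel e p k) : NewtonRel (fun i => f (e i)) (fun i => f (p i)) k := by
  have := congrArg f h
  simpa [NewtonRel, map_sum] using this

theorem NewtonRel.of_map {A B : Type*} [CommRing A] [CommRing B] (f : A →+* B)
    (hf : Function.Injective f) {e p : ℕ → A} {k : ℕ}
    (h : NewtonRel (fun i => f (e i)) (fun i => f (p i)) k) : NewtonRel e p k := by
  apply hf
  simpa [NewtonRel, map_sum] using h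

/-- a relation only depends on the values `e i` for `i ≤ k` and `p r` for `1 ≤ r ≤ k` -/
theorem NewtonRel.congr {A : Type*} [CommRing A] {e e' p p' : ℕ → A} {k : ℕ}
    (he : ∀ i ≤ k, e i = e' i) (hp : ∀ r, 1 ≤ r → r ≤ k → p r = p' r)
    (h : NewtonRel e p k) : NewtonRel e' p' k := by
  unfold NewtonRel at h ⊢
  rw [← he k le_rfl, h]
  congr 1
  refine Finset.sum_congr rfl fun a ha => ?_
  rw [Finset.mem_filter, Finset.mem_antidiagonal] at ha
  rw [he a.1 (by omega), hp a.2 (by omega) (by omega)]

theorem newtonRel_mvPolynomial (σ : Type*) [Fintype σ] [DecidableEq σ] (R : Type*) [CommRing R]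
    (k : ℕ) : NewtonRel (MvPolynomial.esymm σ R) (MvPolynomial.psum σ R) k :=
  MvPolynomial.mul_esymm_eq_sum σ R k

/-- Newton's relations for an arbitrary finite family in a commutative ring -/
theorem newtonRel_family {B : Type*} [CommRing B] {ι : Type*} [Fintype ι] (z : ι → B) (k : ℕ) :
    NewtonRel (fun i => (Finset.univ.val.map z).esymm i) (fun r => ∑ i, z i ^ r) k := by
  classical
  have h := (newtonRel_mvPolynomial ι ℤ k).map (MvPolynomial.aeval z : MvPolynomial ι ℤ →ₐ[ℤ] B).toRingHom
  refine NewtonRel.congr (fun i _ => ?_) (fun r _ _ => ?_) h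
  · exact MvPolynomial.aeval_esymm_eq_multiset_esymm ι ℤ i z
  · simp [MvPolynomial.psum]

/-- Newton's relations for an arbitrary multiset in a commutative ring -/
theorem newtonRel_multiset {B : Type*} [CommRing B] (M : Multiset B) (k : ℕ) :
    NewtonRel (fun i => M.esymm i) (fun r => (M.map (· ^ r)).sum) k := by
  induction M using Quotient.inductionOn with
  | _ l =>
    have h := newtonRel_family (fun i : Fin l.length => l.get i) k
    have e : (Finset.univ : Finset (Fin l.length)).val.map (fun i => l.get i) = (l : Multiset B) := by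
      rw [Fin.univ_val_map, List.ofFn_get]
    refine NewtonRel.congr (fun i _ => ?_) (fun r _ _ => ?_) h
    · rw [e]; rfl
    · have : ∑ i : Fin l.length, l.get i ^ r =
          (((Finset.univ : Finset (Fin l.length)).val.map (fun i => l.get i)).map (· ^ r)).sum := by
        rw [Multiset.map_map]; rfl
      rw [this, e]; rfl

end Groth.Agent.H43

namespace Groth.Agent.H43

open Finset LambdaRing PowerSeries

section lam

variable {K : Type u} [CommRing K] [LambdaOps K]

theorem newtonRel_lam (x : K) (k : ℕ) :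
    NewtonRel (fun i => LambdaOps.lam i x) (fun r => adamsOp r x) k := by
  unfold NewtonRel
  match k with
  | 0 =>
    simp
  | (m + 1) =>
    have h := congrArg (coeff m) (logDerivSeries_mul x)
    rw [coeff_derivative, coeff_lamSeries, coeff_mul] at h
    have h2 : (((m + 1 : ℕ) : K)) * LambdaOps.lam (m + 1) x =
        ∑ p ∈ antidiagonal m, (-1 : K) ^ p.1 * adamsOp (p.1 + 1) x * LambdaOps.lam p.2 x := by
      rw [mul_comm]
      push_cast
      rw [← h]
      refine Finset.sum_congr rfl fun p _ => ?_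
      rw [coeff_logDerivSeries, coeff_lamSeries]
    rw [h2]
    -- reindex the right-hand side
    have h3 : ∑ a ∈ antidiagonal (m + 1) with a.1 < m + 1,
        (-1 : K) ^ a.1 * LambdaOps.lam a.1 x * adamsOp a.2 x =
        ∑ p ∈ antidiagonal m, (-1 : K) ^ p.2 * LambdaOps.lam p.2 x * adamsOp (p.1 + 1) x :=
      sum_antidiagonal_succ_filter
        (fun a : ℕ × ℕ => (-1 : K) ^ a.1 * LambdaOps.lam a.1 x * adamsOp a.2 x) m
    rw [h3, Finset.mul_sum]
    refine Finset.sum_congr rfl fun p hp => ?_
    rw [Finset.mem_antidiagonal] at hp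
    have e : (-1 : K) ^ (m + 1 + 1) * (-1) ^ p.2 = (-1) ^ p.1 := by
      rw [← pow_add]
      have : m + 1 + 1 + p.2 = p.1 + 2 * (p.2 + 1) := by omega
      rw [this, pow_add, pow_mul]
      simp
    rw [← e]
    ring

end lam

section uniq

variable {K : Type*} [CommRing K]

/-- Newton's relations determine the `e`-sequence from the `p`-sequence in a torsion-free ring. -/
theorem NewtonRel.e_unique [IsAddTorsionFree K] {e e' p : ℕ → K} (n : ℕ)
    (h0 : e 0 = e' 0) (h : ∀ k, 1 ≤ k → k ≤ n → NewtonRel e p k)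
    (h' : ∀ k, 1 ≤ k → k ≤ n → NewtonRel e' p k) : ∀ k ≤ n, e k = e' k := by
  intro k
  induction k using Nat.strong_induction_on with
  | _ k ih =>
    intro hk
    by_cases hk0 : k = 0
    · subst hk0; exact h0
    have h1 := h k (by omega) hk
    have h2 := h' k (by omega) hk
    unfold NewtonRel at h1 h2
    have : (k : K) * e k = (k : K) * e' k := by
      rw [h1, h2]
      congr 1
      refine Finset.sum_congr rfl fun a ha => ?_
      rw [Finset.mem_filter, Finset.mem_antidiagonal] at ha
      rw [ih a.1 ha.2 (by omega)]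
    rw [← nsmul_eq_mul, ← nsmul_eq_mul] at this
    exact nsmul_right_injective hk0 this

/-- Newton's relations determine the `p`-sequence from the `e`-sequence. -/
theorem NewtonRel.p_unique {e p p' : ℕ → K} (n : ℕ)
    (h0 : e 0 = 1) (h : ∀ k, 1 ≤ k → k ≤ n → NewtonRel e p k)
    (h' : ∀ k, 1 ≤ k → k ≤ n → NewtonRel e p' k) : ∀ k, 1 ≤ k → k ≤ n → p k = p' k := by
  intro k
  induction k using Nat.strong_induction_on with
  | _ k ih =>
    intro hk1 hk
    have h1 := h k hk1 hk
    have h2 := h' k hk1 hk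
    unfold NewtonRel at h1 h2
    rw [h1] at h2
    have hu : IsUnit ((-1 : K) ^ (k + 1)) := (isUnit_one.neg).pow _
    have h3 := hu.mul_left_cancel h2
    have hmem : (0, k) ∈ (antidiagonal k).filter (fun a => a.1 < k) := by
      rw [Finset.mem_filter, Finset.mem_antidiagonal]; exact ⟨by simp, by omega⟩
    rw [← Finset.add_sum_erase _ _ hmem, ← Finset.add_sum_erase _ _ hmem] at h3
    have h4 : ∑ a ∈ ((antidiagonal k).filter (fun a => a.1 < k)).erase (0, k),
          (-1 : K) ^ a.1 * e a.1 * p a.2 =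
        ∑ a ∈ ((antidiagonal k).filter (fun a => a.1 < k)).erase (0, k),
          (-1 : K) ^ a.1 * e a.1 * p' a.2 := by
      refine Finset.sum_congr rfl fun a ha => ?_
      rw [Finset.mem_erase, Finset.mem_filter, Finset.mem_antidiagonal] at ha
      have ha1 : a.1 ≠ 0 := by
        intro h0'
        apply ha.1
        ext
        · exact h0'
        · simp only; omega
      rw [ih a.2 (by omega) (by omega) (by omega)]
    rw [h4] at h3
    have h5 := add_right_cancel h3
    simpa [h0] using h5

end uniq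

end Groth.Agent.H43

namespace Groth.Agent.H43

open Finset

theorem multiset_esymm_zero' {B : Type*} [CommSemiring B] (s : Multiset B) : s.esymm 0 = 1 := by
  simp [Multiset.esymm, Multiset.powersetCard_zero_left]

section transfer

variable {A B K : Type*} [CommRing A] [CommRing B] [CommRing K]
  (ε : A →+* B) (hε : Function.Injective ε) (Φ : A →+* K) (z : Multiset B)

include hε

theorem newtonRel_of_family (E P : ℕ → A) (k : ℕ)
    (hE : ∀ i ≤ k, ε (E i) = z.esymm i)
    (hP : ∀ r, 1 ≤ r → r ≤ k → ε (P r) = (z.map (· ^ r)).sum) : NewtonRel E P k := by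
  apply NewtonRel.of_map ε hε
  exact NewtonRel.congr (fun i hi => (hE i hi).symm) (fun r h1 h2 => (hP r h1 h2).symm)
    (newtonRel_multiset z k)

theorem transfer_e [IsAddTorsionFree K] (C S : ℕ → A) (n : ℕ)
    (hC : ∀ k ≤ n, ε (C k) = z.esymm k)
    (hS : ∀ r, 1 ≤ r → r ≤ n → ε (S r) = (z.map (· ^ r)).sum)
    (b s : ℕ → K) (hb0 : b 0 = 1) (hb : ∀ k, 1 ≤ k → k ≤ n → NewtonRel b s k)
    (hs : ∀ r, 1 ≤ r → r ≤ n → Φ (S r) = s r) : ∀ k ≤ n, Φ (C k) = b k := by
  have hC0 : C 0 = 1 := by
    apply hε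
    rw [hC 0 (Nat.zero_le n), multiset_esymm_zero', map_one]
  refine NewtonRel.e_unique (e := fun k => Φ (C k)) (e' := b) (p := s) n ?_ ?_ hb
  · simp only [hC0, map_one, hb0]
  · intro k hk1 hkn
    have h1 : NewtonRel C S k := newtonRel_of_family ε hε z C S k
      (fun i hi => hC i (hi.trans hkn)) (fun r h1 h2 => hS r h1 (h2.trans hkn))
    exact NewtonRel.congr (fun i _ => rfl) (fun r h1 h2 => hs r h1 (h2.trans hkn)) (h1.map Φ)

theorem transfer_p (E P : ℕ → A) (n : ℕ)
    (hE : ∀ k ≤ n, ε (E k) = z.esymm k)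
    (hP : ∀ r, 1 ≤ r → r ≤ n → ε (P r) = (z.map (· ^ r)).sum)
    (b s : ℕ → K) (hb : ∀ k, 1 ≤ k → k ≤ n → NewtonRel b s k)
    (hE' : ∀ k ≤ n, Φ (E k) = b k) : ∀ r, 1 ≤ r → r ≤ n → Φ (P r) = s r := by
  have hE0 : E 0 = 1 := by
    apply hε
    rw [hE 0 (Nat.zero_le n), multiset_esymm_zero', map_one]
  have hb0 : b 0 = 1 := by rw [← hE' 0 (Nat.zero_le n), hE0, map_one]
  refine NewtonRel.p_unique (e := b) (p := fun r => Φ (P r)) (p' := s) n hb0 ?_ hb
  intro k hk1 hkn
  have h1 : NewtonRel E P k := newtonRel_of_family ε hε z E P k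
    (fun i hi => hE i (hi.trans hkn)) (fun r h1 h2 => hP r h1 (h2.trans hkn))
  exact NewtonRel.congr (fun i hi => hE' i (hi.trans hkn)) (fun r _ _ => rfl) (h1.map Φ)

end transfer

end Groth.Agent.H43
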