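import Mathlib.RingTheory.Polynomial.Resultant.Basic
import Mathlib.RingTheory.Norm.Defs
import Mathlib.RingTheory.AdjoinRoot
import Mathlib.LinearAlgebra.Charpoly.ToMatrix
import Mathlib.LinearAlgebra.Matrix.Charpoly.Minpoly
import Mathlib.LinearAlgebra.Matrix.Charpoly.Coeff

set_option autoImplicit false
universe u

namespace Groth.Agent.H43

open Polynomial Matrix

theorem mapMatrix_algebraMap_comp {R S : Type*} [CommRing R] [CommRing S] (φ : R →+* S) (n : ℕ) :
    (algebraMap S (Matrix (Fin n) (Fin n) S)).comp φ =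
      (φ.mapMatrix).comp (algebraMap R (Matrix (Fin n) (Fin n) R)) := by
  ext x i j
  simp only [RingHom.coe_comp, Function.comp_apply, RingHom.mapMatrix_apply, Matrix.map_apply,
    Matrix.algebraMap_matrix_apply]
  split_ifs <;> simp

/-- `det (p(U))` is the resultant of the characteristic polynomial of `U` and `p`. -/
theorem det_aeval_eq_resultant {R : Type u} [CommRing R] (p : R[X]) :
    ∀ (n : ℕ) (U : Matrix (Fin n) (Fin n) R),
      (aeval U p).det = resultant U.charpoly p n p.natDegree := by
  induction p using induction_of_Splits_of_injective_of_surjective with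
  | Splits R p hp =>
    intro n U
    have hχ : U.charpoly.natDegree ≤ n := by
      rw [Matrix.charpoly_natDegree_eq_dim, Fintype.card_fin]
    rw [resultant_comm, resultant_eq_prod_eval p U.charpoly n hχ hp]
    let Φ : R[X] →* R := (detMonoidHom (n := Fin n) (R := R)).comp
      ((aeval U : R[X] →ₐ[R] Matrix (Fin n) (Fin n) R) : R[X] →* Matrix (Fin n) (Fin n) R)
    have hΦ : ∀ q : R[X], (aeval U q).det = Φ q := fun q => rfl
    rw [hΦ]
    conv_lhs => rw [hp.eq_prod_roots]
    rw [map_mul, map_multiset_prod, Multiset.map_map]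
    have h1 : Φ (C p.leadingCoeff) = p.leadingCoeff ^ n := by
      rw [← hΦ, aeval_C, Matrix.algebraMap_eq_diagonal, det_diagonal]
      simp
    have h2 : ∀ μ : R, (Φ ∘ fun a => (X - C a : R[X])) μ = (-1 : R) ^ n * U.charpoly.eval μ := by
      intro μ
      have : aeval U (X - C μ : R[X]) = (-1 : R) • (scalar (Fin n) μ - U) := by
        simp only [map_sub, aeval_X, aeval_C, neg_smul, one_smul, neg_sub]
        rfl
      rw [Function.comp_apply, ← hΦ, this, det_smul, Fintype.card_fin, eval_charpoly]
    rw [h1, Multiset.map_congr rfl (fun μ _ => h2 μ), Multiset.prod_map_mul, Multiset.map_const',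
      Multiset.prod_replicate, ← hp.natDegree_eq_card_roots, ← pow_mul]
    ring
  | injective R S φ hφ p IH =>
    intro n U
    apply hφ
    have h := IH n (U.map φ)
    rw [charpoly_map, natDegree_map_eq_of_injective hφ, resultant_map_map] at h
    rw [← h, RingHom.map_det]
    congr 1
    exact map_aeval_eq_aeval_map (φ := φ) (ψ := φ.mapMatrix) (mapMatrix_algebraMap_comp φ n) p U
  | surjective R S φ hφ p IH =>
    intro n U
    obtain ⟨q, hq, hdeg⟩ := exists_natDegree_eq_of_mem_lifts (Polynomial.map_surjective φ hφ p)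
    obtain ⟨U', hU'⟩ : ∃ U' : Matrix (Fin n) (Fin n) R, U'.map φ = U :=
      ⟨fun i j => (hφ (U i j)).choose, by ext i j; exact (hφ (U i j)).choose_spec⟩
    have h := congrArg φ (IH q n U')
    rw [RingHom.map_det, ← resultant_map_map, ← charpoly_map, hq, hU', hdeg] at h
    rw [← h]
    congr 1
    rw [← hq, ← hU']
    exact (map_aeval_eq_aeval_map (φ := φ) (ψ := φ.mapMatrix) (mapMatrix_algebraMap_comp φ n) q U').symm

end Groth.Agent.H43

namespace Groth.Agent.H43

open Polynomial Matrix

theorem minpoly_root_of_monic {k : Type*} [CommRing k] [Nontrivial k] {g : k[X]} (hg : g.Monic) :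
    minpoly k (AdjoinRoot.root g) = g := by
  symm
  apply minpoly.unique' k _ hg
  · rw [AdjoinRoot.aeval_eq, AdjoinRoot.mk_self]
  · intro q hq
    by_cases h0 : q = 0
    · exact Or.inl h0
    · right
      rw [AdjoinRoot.aeval_eq, Ne, AdjoinRoot.mk_eq_zero]
      exact hg.not_dvd_of_degree_lt h0 hq

theorem norm_adjoinRoot_eq_resultant {k : Type u} [CommRing k] [Nontrivial k] {g : k[X]}
    (hg : g.Monic) (P : k[X]) :
    Algebra.norm k (AdjoinRoot.mk g P) = resultant g P g.natDegree P.natDegree := by
  set pb := AdjoinRoot.powerBasis' hg with hpb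
  rw [Algebra.norm_eq_matrix_det pb.basis, ← AdjoinRoot.aeval_eq,
    ← Polynomial.aeval_algHom_apply (Algebra.leftMulMatrix pb.basis)]
  have h := det_aeval_eq_resultant P pb.dim (Algebra.leftMulMatrix pb.basis (AdjoinRoot.root g))
  have hc : (Algebra.leftMulMatrix pb.basis (AdjoinRoot.root g)).charpoly = g := by
    have := charpoly_leftMulMatrix pb
    rw [hpb, AdjoinRoot.powerBasis'_gen, minpoly_root_of_monic hg] at this
    exact this
  rw [hc] at h
  exact h

theorem norm_adjoinRoot_charpoly {k : Type u} [CommRing k] (M : Type u) [AddCommGroup M] [Module k M]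
    [Module.Free k M] [Module.Finite k M] (u : M →ₗ[k] M) (P : Polynomial k) :
    Algebra.norm k (AdjoinRoot.mk u.charpoly P) = LinearMap.det (Polynomial.aeval u P) := by
  cases subsingleton_or_nontrivial k
  · exact Subsingleton.elim _ _
  rw [norm_adjoinRoot_eq_resultant (LinearMap.charpoly_monic u), LinearMap.charpoly_natDegree]
  set n := Module.finrank k M
  let b : Module.Basis (Fin n) k M := Module.finBasis k M
  rw [← LinearMap.det_toMatrix b]
  have e : LinearMap.toMatrix b b (aeval u P) = aeval (LinearMap.toMatrix b b u) P := by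
    have := Polynomial.aeval_algHom_apply
      ((LinearMap.toMatrixAlgEquiv b : (M →ₗ[k] M) ≃ₐ[k] Matrix (Fin n) (Fin n) k) :
        (M →ₗ[k] M) →ₐ[k] Matrix (Fin n) (Fin n) k) u P
    simp only [AlgEquiv.coe_toAlgHom] at this
    exact this.symm
  rw [e, det_aeval_eq_resultant, LinearMap.charpoly_toMatrix]

end Groth.Agent.H43
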