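import Groth.Agent.H4.ExtZero
import Mathlib.CategoryTheory.Sites.Over
import Mathlib.CategoryTheory.Preadditive.Injective.Basic

/-!
# Relocalisation `C/X ⟶ C/Y` along `f : X ⟶ Y`: extension by zero is exact,
restriction preserves injective abelian sheaves (helper43; after helper30's `OverShriek`)
-/

set_option autoImplicit false
universe u
open CategoryTheory Limits Opposite

namespace Groth.Agent.H43.OverMapShriek

open Groth.Agent.H4.ExtZero

variable {C : Type u} [SmallCategory C] (J : GrothendieckTopology C) {X Y : C} (f : X ⟶ Y)

/-- The indexing category of the pointwise left Kan extension at `V`. -/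
abbrev JV (V : Over Y) : Type u := CostructuredArrow (Over.map f).op (op V)

/-- The lifts of the structure map of `V` through `f`. -/
abbrev Lift (V : Over Y) : Type u := {φ : V.left ⟶ X // φ ≫ f = V.hom}

variable {f}

/-- the component of an object of `JV`. -/
def comp {V : Over Y} (c : JV f V) : Lift f V :=
  ⟨c.hom.unop.left ≫ c.left.unop.hom, by
    have := Over.w c.hom.unop
    simpa using this⟩

lemma comp_eq_of_hom {V : Over Y} {c c' : JV f V} (g : c ⟶ c') : comp c = comp c' := by
  apply Subtype.ext
  have w := CostructuredArrow.w g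
  have w' : c'.hom.unop.left ≫ g.left.unop.left = c.hom.unop.left := by
    have := congrArg (fun z => z.unop.left) w
    exact this
  have h2 : g.left.unop.left ≫ c.left.unop.hom = c'.left.unop.hom := Over.w g.left.unop
  calc (comp c).1 = (c'.hom.unop.left ≫ g.left.unop.left) ≫ c.left.unop.hom :=
        congrArg (fun z => z ≫ c.left.unop.hom) w'.symm
    _ = c'.hom.unop.left ≫ (g.left.unop.left ≫ c.left.unop.hom) := Category.assoc _ _ _
    _ = (comp c').1 := congrArg (fun z => c'.hom.unop.left ≫ z) h2

variable (f)

/-- The "component" functor. -/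
def L (V : Over Y) : JV f V ⥤ Discrete (Lift f V) where
  obj c := ⟨comp c⟩
  map g := Discrete.eqToHom (comp_eq_of_hom g)

/-- The terminal objects of the components. -/
def R (V : Over Y) : Discrete (Lift f V) ⥤ JV f V :=
  Discrete.functor fun φ => CostructuredArrow.mk (Y := op (Over.mk φ.1))
    (Over.homMk (U := V) (V := (Over.map f).obj (Over.mk φ.1)) (𝟙 V.left)
      (by simpa using φ.2)).op

variable {f}

lemma comp_R {V : Over Y} (φ : Lift f V) : comp ((R f V).obj ⟨φ⟩) = φ := by
  apply Subtype.ext
  change 𝟙 _ ≫ φ.1 = φ.1
  exact Category.id_comp _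

instance subsingleton_hom_R {V : Over Y} (c : JV f V) (d : Discrete (Lift f V)) :
    Subsingleton (c ⟶ (R f V).obj d) := by
  constructor
  intro m m'
  have key : ∀ m : c ⟶ (R f V).obj d, m.left.unop.left = c.hom.unop.left := by
    intro m
    have w := CostructuredArrow.w m
    have w' : 𝟙 V.left ≫ m.left.unop.left = c.hom.unop.left := by
      have := congrArg (fun z => z.unop.left) w
      exact this
    exact (Category.id_comp _).symm.trans w'
  apply CostructuredArrow.hom_ext
  apply Quiver.Hom.unop_inj
  apply Over.OverMorphism.ext
  rw [key m, key m']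

/-- the unique map from `c` to the terminal object of its component. -/
def toR {V : Over Y} (c : JV f V) (φ : Lift f V) (h : comp c = φ) : c ⟶ (R f V).obj ⟨φ⟩ :=
  CostructuredArrow.homMk
    (Over.homMk (U := Over.mk φ.1) (V := c.left.unop) c.hom.unop.left
      (congrArg Subtype.val h)).op
    (by
      apply Quiver.Hom.unop_inj
      apply Over.OverMorphism.ext
      change 𝟙 _ ≫ c.hom.unop.left = c.hom.unop.left
      exact Category.id_comp _)

variable (f)

/-- The adjunction exhibiting `JV` as a disjoint union of categories with terminal objects. -/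
def adj (V : Over Y) : L f V ⊣ R f V :=
  Adjunction.mkOfHomEquiv
    { homEquiv := fun c d =>
        { toFun := fun h => toR c d.as (Discrete.eq_of_hom h)
          invFun := fun m => Discrete.eqToHom ((comp_eq_of_hom m).trans (comp_R d.as))
          left_inv := fun _ => Subsingleton.elim _ _
          right_inv := fun _ => Subsingleton.elim _ _ }
      homEquiv_naturality_left_symm := fun _ _ => Subsingleton.elim _ _
      homEquiv_naturality_right := fun _ _ => Subsingleton.elim _ _ }

instance hasExactColimitsOfShape_JV (V : (Over Y)ᵒᵖ) :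
    HasExactColimitsOfShape (CostructuredArrow (Over.map f).op V) AddCommGrpCat.{u} :=
  hasExactColimitsOfShape_of_discrete_adjoint AddCommGrpCat.{u} (adj f V.unop)

instance lan_preservesFiniteLimits :
    PreservesFiniteLimits ((Over.map f).op.lan :
      ((Over X)ᵒᵖ ⥤ AddCommGrpCat.{u}) ⥤ (Over Y)ᵒᵖ ⥤ AddCommGrpCat.{u}) :=
  lan_preservesFiniteLimits_of_exact AddCommGrpCat.{u} (Over.map f).op

/-- Extension by zero along the relocalisation `C/X ⟶ C/Y`. -/
noncomputable abbrev shriek :
    Sheaf (J.over X) AddCommGrpCat.{u} ⥤ Sheaf (J.over Y) AddCommGrpCat.{u} :=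
  (Over.map f).sheafPullback AddCommGrpCat.{u} (J.over X) (J.over Y)

/-- Restriction from `C/Y` to `C/X`. -/
noncomputable abbrev restr :
    Sheaf (J.over Y) AddCommGrpCat.{u} ⥤ Sheaf (J.over X) AddCommGrpCat.{u} :=
  (Over.map f).sheafPushforwardContinuous AddCommGrpCat.{u} (J.over X) (J.over Y)

/-- `f_! ⊣ f^{-1}`. -/
noncomputable def shriekAdj : shriek J f ⊣ restr J f :=
  (Over.map f).sheafAdjunctionContinuous AddCommGrpCat.{u} (J.over X) (J.over Y)

/-- Extension by zero is left exact. -/
instance preservesFiniteLimits_shriek : PreservesFiniteLimits (shriek J f) :=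
  Functor.sheafPullbackConstruction.preservesFiniteLimits (Over.map f) AddCommGrpCat.{u}
    (J.over X) (J.over Y)

instance preservesFiniteColimits_shriek : PreservesFiniteColimits (shriek J f) := by
  have : (shriek J f).IsLeftAdjoint := (shriekAdj J f).isLeftAdjoint
  exact ⟨fun _ _ _ => inferInstance⟩

instance additive_restr : (restr J f).Additive := {}

instance additive_shriek : (shriek J f).Additive := (shriekAdj J f).left_adjoint_additive

/-- Restriction to `C/X` preserves injective abelian sheaves. -/
lemma injective_restr (Q : Sheaf (J.over Y) AddCommGrpCat.{u}) [Injective Q] :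
    Injective ((restr J f).obj Q) := by
  have : (shriek J f).PreservesMonomorphisms := inferInstance
  exact Injective.injective_of_adjoint (shriekAdj J f) Q

end Groth.Agent.H43.OverMapShriek
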