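import Groth.Agent.H43.FilLam

set_option autoImplicit false
universe u v

namespace Groth.Agent.H43

open LambdaRing MvPolynomial Finset

section restrict

variable {R : Type*} [CommRing R] [LambdaOps R]

/-- restriction of a polynomial in `m` variables to the first `d` -/
noncomputable def restrictVars (m d : ℕ) : MvPolynomial (Fin m) ℤ →ₐ[ℤ] MvPolynomial (Fin d) ℤ :=
  aeval fun l : Fin m => if h : (l : ℕ) < d then X ⟨l, h⟩ else 0

/-- restriction of a polynomial in countably many variables to the first `d` -/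
noncomputable def restrictInf (d : ℕ) : MvPolynomial ℕ ℤ →ₐ[ℤ] MvPolynomial (Fin d) ℤ :=
  aeval fun l : ℕ => if h : l < d then X ⟨l, h⟩ else 0

theorem gammaEval_restrictVars (x : R) (m d : ℕ) (hx : ∀ k, d < k → gamma k x = 0)
    (p : MvPolynomial (Fin m) ℤ) :
    gammaEval x d (restrictVars m d p) = gammaEval x m p := by
  rw [gammaEval, restrictVars, comp_aeval_apply, gammaEval]
  congr 2
  funext l
  split_ifs with h
  · simp
  · rw [map_zero, hx _ (by omega)]

theorem gammaEval_restrictInf (x : R) (d : ℕ) (hx : ∀ k, d < k → gamma k x = 0)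
    (p : MvPolynomial ℕ ℤ) :
    gammaEval x d (restrictInf d p) = gammaEvalInf x p := by
  rw [gammaEval, restrictInf, comp_aeval_apply, gammaEvalInf]
  congr 2
  funext l
  split_ifs with h
  · simp
  · rw [map_zero, hx _ (by omega)]

end restrict

section line

attribute [local instance] lineLambdaOps

variable (σ : Type u) [Fintype σ]

theorem gamma_lineN_sub_eq_zero (n : ℕ) (hn : Fintype.card σ = n) (k : ℕ) (hk : n < k) :
    gamma k (lineN σ - (n : LineRing σ)) = 0 := by
  classical
  rw [gamma_lineN_sub σ n hn, shiftDown_esymm, Finset.powersetCard_eq_empty.mpr, Finset.sum_empty]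
  rw [Finset.card_univ, hn]
  exact hk

end line

section divlast

attribute [local instance] lineLambdaOps

/-- a polynomial in `γ^1, …, γ^d` vanishing on the universal element of rank `d - 1` is divisible
by the last variable, with control of the weights -/
theorem div_last (d : ℕ) (hd : 1 ≤ d) (σ' : Type u) [Fintype σ']
    (hcard : Fintype.card σ' = d - 1) (F : MvPolynomial (Fin d) ℤ) (n : ℕ)
    (hvan : gammaEval (lineN σ' - ((d - 1 : ℕ) : LineRing σ')) d F = 0)
    (hw : ∀ mono ∈ F.support, n ≤ ∑ l : Fin d, ((l : ℕ) + 1) * mono l) :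
    ∃ G : MvPolynomial (Fin d) ℤ, F = X ⟨d - 1, by omega⟩ * G ∧
      ∀ mono ∈ G.support, n - d ≤ ∑ l : Fin d, ((l : ℕ) + 1) * mono l := by
  classical
  set last : Fin d := ⟨d - 1, by omega⟩ with hlast
  set s : Fin d →₀ ℕ := Finsupp.single last 1 with hs
  set G := F.divMonomial s with hG
  set H := F.modMonomial s with hH
  have hFGH : X last * G + H = F := divMonomial_add_modMonomial_single F last
  set u' : LineRing σ' := lineN σ' - ((d - 1 : ℕ) : LineRing σ') with hu'
  have htop : gamma d u' = 0 := gamma_lineN_sub_eq_zero σ' (d - 1) hcard d (by omega)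
  -- `H` does not involve the last variable
  have hHsupp : ∀ mono ∈ H.support, mono last = 0 := by
    intro mono hmono
    by_contra hne
    have hle : s ≤ mono := by
      rw [hs, Finsupp.single_le_iff]
      omega
    rw [mem_support_iff, hH, coeff_modMonomial_of_le F hle] at hmono
    exact hmono rfl
  let emb : Fin (d - 1) → Fin d := fun k => ⟨k, by omega⟩
  have hemb : Function.Injective emb := by
    intro a b hab
    apply Fin.ext
    simpa [emb] using congrArg Fin.val hab
  obtain ⟨H', hH'⟩ := exists_rename_eq_of_vars_subset_range H emb hemb (by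
    intro k hk
    rw [Finset.mem_coe, mem_vars_iff_mem_support] at hk
    obtain ⟨mono, hmono, hk⟩ := hk
    have hkl : k ≠ last := by
      intro h
      rw [h, Finsupp.mem_support_iff, hHsupp mono hmono] at hk
      exact hk rfl
    refine ⟨⟨k, ?_⟩, rfl⟩
    have : (k : ℕ) ≠ d - 1 := fun h => hkl (Fin.ext h)
    omega)
  have hvalH : gammaEval u' d H = gammaEval u' (d - 1) H' := by
    rw [← hH', gammaEval, aeval_rename, gammaEval]
    rfl
  have hvan' : gammaEval u' (d - 1) H' = 0 := by
    rw [← hvalH]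
    have h1 := hvan
    rw [← hFGH, map_add, map_mul] at h1
    have h2 : gammaEval u' d (X last) = 0 := by
      rw [gammaEval, aeval_X]
      simpa [hlast, Nat.sub_add_cancel hd] using htop
    rwa [h2, zero_mul, zero_add] at h1
  have hH'0 : H' = 0 := by
    by_contra hne
    obtain ⟨mono, hmono⟩ := (MvPolynomial.support_nonempty (p := H')).mpr hne
    have := weights_of_line σ' (d - 1) hcard H'
      (∑ l : Fin (d - 1), ((l : ℕ) + 1) * mono l + 1) (by
        rw [hu'] at hvan'
        rw [hvan']
        exact zero_mem _) mono hmono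
    omega
  have hH0 : H = 0 := by rw [← hH', hH'0, map_zero]
  refine ⟨G, by rw [← hFGH, hH0, add_zero], fun mono hmono => ?_⟩
  rw [mem_support_iff, hG, coeff_divMonomial] at hmono
  have h3 := hw (s + mono) (mem_support_iff.mpr hmono)
  have h4 : ∑ l : Fin d, ((l : ℕ) + 1) * (s + mono) l =
      d + ∑ l : Fin d, ((l : ℕ) + 1) * mono l := by
    simp only [Finsupp.add_apply, mul_add, Finset.sum_add_distrib]
    congr 1
    rw [Finset.sum_eq_single last]
    · rw [hs, Finsupp.single_eq_same, mul_one, hlast]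
      simp only
      omega
    · intro b _ hb
      rw [hs, Finsupp.single_eq_of_ne hb, mul_zero]
    · intro h
      exact absurd (Finset.mem_univ _) h
  omega

end divlast

section base

attribute [local instance] lineLambdaOps

variable {K : Type u} [CommRing K] {A : Type v} [CommRing A] [LambdaOps A]

/-- `λ^j(γ^d(u))` is divisible by `γ^d(u)` when `u` has rank `d`, with quotient congruent to
`(-1)^(j-1) j^(d-1)` modulo `Fil^1` -/
theorem lam_top_gamma_div (hA : IsSpecial A) (ε : A →+* K) (d : ℕ) (hd : 1 ≤ d) {u : A}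
    (hu : ε u = 0) (hrank : ∀ k, d < k → gamma k u = 0) (j : ℕ) (hj : 1 ≤ j) :
    ∃ l : A, l * gamma d u = LambdaOps.lam j (gamma d u) ∧
      l - ((lamConst d j : ℤ) : A) ∈ gammaFil ε 1 := by
  obtain ⟨d', rfl⟩ : ∃ d', d = d' + 1 := ⟨d - 1, by omega⟩
  obtain ⟨m, hm, p, hp⟩ := exists_lam_poly_inf.{v} (X d' : MvPolynomial ℕ ℤ) j (d' + 1)
  have hX : ∀ {R : Type v} [CommRing R] [LambdaOps R] (y : R),
      gammaEvalInf y (X d' : MvPolynomial ℕ ℤ) = gamma (d' + 1) y := by
    intro R _ _ y
    simp [gammaEvalInf]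
  set last : Fin (d' + 1) := ⟨d' + 1 - 1, by omega⟩ with hlast
  set c : ℤ := lamConst (d' + 1) j with hc
  set F : MvPolynomial (Fin (d' + 1)) ℤ := restrictVars m (d' + 1) p - C c * X last with hF
  let σ := ULift.{v} (Fin (d' + 1))
  let σ' := ULift.{v} (Fin d')
  have hcard : Fintype.card σ = d' + 1 := by simp [σ]
  have hcard' : Fintype.card σ' = d' + 1 - 1 := by simp [σ']
  have hFval : ∀ {R : Type v} [CommRing R] [LambdaOps R], IsSpecial R → ∀ y : R,
      (∀ k, d' + 1 < k → gamma k y = 0) →
      gammaEval y (d' + 1) F =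
        LambdaOps.lam j (gamma (d' + 1) y) - ((c : ℤ) : R) * gamma (d' + 1) y := by
    intro R _ _ hR y hy
    rw [hF, map_sub, gammaEval_restrictVars y m (d' + 1) hy, ← hp R hR y, hX, map_mul]
    simp [gammaEval, hlast]
  have hw := weights_of_line σ (d' + 1) hcard F (d' + 1 + 1) (by
    rw [hFval isSpecial_line _ (fun k hk => gamma_lineN_sub_eq_zero σ (d' + 1) hcard k hk)]
    exact (lamCong_lineFil σ (d' + 1) (by omega) _
      (gamma_line_mem σ (d' + 1) hcard (d' + 1))).2 j hj)
  have hvan : gammaEval (lineN σ' - ((d' + 1 - 1 : ℕ) : LineRing σ')) (d' + 1) F = 0 := by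
    rw [hFval isSpecial_line _
      (fun k hk => gamma_lineN_sub_eq_zero σ' (d' + 1 - 1) hcard' k (by omega)),
      gamma_lineN_sub_eq_zero σ' (d' + 1 - 1) hcard' (d' + 1) (by omega), lam_zero_arg,
      if_neg (by omega), mul_zero, sub_zero]
  obtain ⟨G, hFG, hGw⟩ := div_last (d' + 1) (by omega) σ' hcard' F (d' + 1 + 1) hvan hw
  refine ⟨gammaEval u (d' + 1) G + ((c : ℤ) : A), ?_, ?_⟩
  · have h1 := hFval hA u hrank
    rw [hFG, map_mul] at h1
    have h2 : gammaEval u (d' + 1) (X last) = gamma (d' + 1) u := by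
      simp [gammaEval, hlast]
    rw [h2] at h1
    linear_combination h1
  · rw [add_sub_cancel_right]
    exact gammaEval_mem_gammaFil ε hu (d' + 1) G 1 (fun mono hmono => by
      have := hGw mono hmono
      omega)

/-- `γ^p(γ^d(u))` is divisible by `γ^d(u)` when `u` has rank `d`, with quotient in `Fil^(p-d)` -/
theorem gamma_top_gamma_div (hA : IsSpecial A) (ε : A →+* K) (d : ℕ) (hd : 1 ≤ d) {u : A}
    (hu : ε u = 0) (hrank : ∀ k, d < k → gamma k u = 0) (p : ℕ) (hp : 1 ≤ p) :
    ∃ y ∈ gammaFil ε (p - d), y * gamma d u = gamma p (gamma d u) := by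
  obtain ⟨d', rfl⟩ : ∃ d', d = d' + 1 := ⟨d - 1, by omega⟩
  obtain ⟨H, -, hH⟩ := exists_gamma_poly_inf.{v} (X d' : MvPolynomial ℕ ℤ) (by simp) p
  set last : Fin (d' + 1) := ⟨d' + 1 - 1, by omega⟩ with hlast
  set F : MvPolynomial (Fin (d' + 1)) ℤ := restrictInf (d' + 1) H with hF
  let σ := ULift.{v} (Fin (d' + 1))
  let σ' := ULift.{v} (Fin d')
  have hcard : Fintype.card σ = d' + 1 := by simp [σ]
  have hcard' : Fintype.card σ' = d' + 1 - 1 := by simp [σ']
  have hFval : ∀ {R : Type v} [CommRing R] [LambdaOps R], IsSpecial R → ∀ y : R,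
      (∀ k, d' + 1 < k → gamma k y = 0) →
      gammaEval y (d' + 1) F = gamma p (gamma (d' + 1) y) := by
    intro R _ _ hR y hy
    have := hH R hR y
    rw [aeval_X] at this
    rw [hF, gammaEval_restrictInf y (d' + 1) hy, this, gammaEvalInf]
  have hw := weights_of_line σ (d' + 1) hcard F p (by
    rw [hFval isSpecial_line _ (fun k hk => gamma_lineN_sub_eq_zero σ (d' + 1) hcard k hk)]
    apply line_good σ
    have := (mulFil_lineFil σ).anti _ _ (show 1 ≤ d' + 1 by omega)
      (gamma_line_mem σ (d' + 1) hcard (d' + 1))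
    exact (mem_lineFil_one σ _).mp this)
  have hvan : gammaEval (lineN σ' - ((d' + 1 - 1 : ℕ) : LineRing σ')) (d' + 1) F = 0 := by
    rw [hFval isSpecial_line _
      (fun k hk => gamma_lineN_sub_eq_zero σ' (d' + 1 - 1) hcard' k (by omega)),
      gamma_lineN_sub_eq_zero σ' (d' + 1 - 1) hcard' (d' + 1) (by omega), gamma_zero_arg,
      if_neg (by omega)]
  obtain ⟨G, hFG, hGw⟩ := div_last (d' + 1) (by omega) σ' hcard' F p hvan hw
  refine ⟨gammaEval u (d' + 1) G, gammaEval_mem_gammaFil ε hu (d' + 1) G _ hGw, ?_⟩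
  have h1 := hFval hA u hrank
  rw [hFG, map_mul] at h1
  have h2 : gammaEval u (d' + 1) (X last) = gamma (d' + 1) u := by
    simp [gammaEval, hlast]
  rw [h2] at h1
  rw [← h1, mul_comm]

end base

end Groth.Agent.H43
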