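import Groth.Agent.H43.GammaGen

set_option autoImplicit false
universe u

namespace Groth.Agent.H43

open LambdaRing Finset

section shift

variable {A : Type u} [CommRing A] [LambdaOps A]

theorem gammaSeries_natCast (h1 : ∀ k : ℕ, 2 ≤ k → LambdaOps.lam k (1 : A) = 0) (d : ℕ) :
    gammaSeries ((d : ℕ) : A) = (PowerSeries.mk 1) ^ d := by
  induction d with
  | zero => rw [Nat.cast_zero, gammaSeries_zero, pow_zero]
  | succ d ih => rw [Nat.cast_succ, gammaSeries_add, ih, gammaSeries_one h1, pow_succ]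

theorem gammaSeries_sub_natCast (h1 : ∀ k : ℕ, 2 ≤ k → LambdaOps.lam k (1 : A) = 0) (N : A)
    (d : ℕ) : gammaSeries (N - (d : A)) = gammaSeries N * (1 - PowerSeries.X) ^ d := by
  have h : gammaSeries (N - (d : A)) * gammaSeries ((d : ℕ) : A) = gammaSeries N := by
    rw [← gammaSeries_add, sub_add_cancel]
  rw [← h, gammaSeries_natCast h1, mul_assoc, ← mul_pow, PowerSeries.mk_one_mul_one_sub_eq_one,
    one_pow, mul_one]

/-- the polynomial `Σ_j λ^j(N) t^j (1-t)^(d-j)` -/
noncomputable def rankPoly (N : A) (d : ℕ) : Polynomial A :=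
  ∑ j ∈ range (d + 1),
    Polynomial.C (LambdaOps.lam j N) * Polynomial.X ^ j * (1 - Polynomial.X) ^ (d - j)

theorem lamSeries_eq_coe (N : A) (d : ℕ) (hN : ∀ k : ℕ, d < k → LambdaOps.lam k N = 0) :
    lamSeries N = ((∑ j ∈ range (d + 1),
      Polynomial.C (LambdaOps.lam j N) * Polynomial.X ^ j : Polynomial A) : PowerSeries A) := by
  ext n
  rw [coeff_lamSeries, Polynomial.coeff_coe, Polynomial.finsetSum_coeff]
  simp only [Polynomial.coeff_C_mul_X_pow]
  by_cases hn : n < d + 1
  · rw [Finset.sum_eq_single n]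
    · simp
    · intro b _ hb
      rw [if_neg (Ne.symm hb)]
    · intro h
      exact absurd (Finset.mem_range.mpr hn) h
  · rw [hN n (by omega), Finset.sum_eq_zero]
    intro b hb
    rw [Finset.mem_range] at hb
    rw [if_neg (by omega)]

theorem gammaSeries_sub_natCast_eq_coe (h1 : ∀ k : ℕ, 2 ≤ k → LambdaOps.lam k (1 : A) = 0) (N : A)
    (d : ℕ) (hN : ∀ k : ℕ, d < k → LambdaOps.lam k N = 0) :
    gammaSeries (N - (d : A)) = ((rankPoly N d : Polynomial A) : PowerSeries A) := by
  rw [gammaSeries_sub_natCast h1, gammaSeries_eq_subst, lamSeries_eq_coe N d hN,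
    PowerSeries.subst_coe hasSubst_uSer, map_sum, Finset.sum_mul, rankPoly,
    ← Polynomial.coeToPowerSeries.ringHom_apply, map_sum]
  refine Finset.sum_congr rfl fun j hj => ?_
  rw [Finset.mem_range] at hj
  rw [map_mul, map_pow, Polynomial.aeval_C, Polynomial.aeval_X,
    Polynomial.coeToPowerSeries.ringHom_apply, Polynomial.coe_mul, Polynomial.coe_mul,
    Polynomial.coe_pow, Polynomial.coe_pow, Polynomial.coe_C, Polynomial.coe_X, Polynomial.coe_sub,
    Polynomial.coe_one, Polynomial.coe_X]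
  have hd : d = j + (d - j) := by omega
  conv_lhs => rw [hd, pow_add]
  rw [← uSer_mul_one_sub (K := A), mul_pow]
  rw [uSer_mul_one_sub]
  rw [PowerSeries.algebraMap_apply, Algebra.algebraMap_self, RingHom.id_apply]
  ring

omit [LambdaOps A] in
theorem natDegree_one_sub_X_pow_le (n : ℕ) :
    ((1 - Polynomial.X : Polynomial A) ^ n).natDegree ≤ n := by
  refine le_trans Polynomial.natDegree_pow_le ?_
  have : (1 - Polynomial.X : Polynomial A).natDegree ≤ 1 := by
    refine le_trans (Polynomial.natDegree_sub_le _ _) ?_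
    rw [Polynomial.natDegree_one]
    exact max_le (Nat.zero_le _) Polynomial.natDegree_X_le
  calc n * (1 - Polynomial.X : Polynomial A).natDegree ≤ n * 1 := Nat.mul_le_mul_left n this
    _ = n := mul_one n

omit [LambdaOps A] in
theorem coeff_one_sub_X_pow_self (n : ℕ) :
    ((1 - Polynomial.X : Polynomial A) ^ n).coeff n = (-1) ^ n := by
  induction n with
  | zero => simp
  | succ n ih =>
    rw [pow_succ, mul_sub, mul_one, Polynomial.coeff_sub, Polynomial.coeff_mul_X, ih,
      Polynomial.coeff_eq_zero_of_natDegree_lt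
        (lt_of_le_of_lt (natDegree_one_sub_X_pow_le n) (Nat.lt_succ_self n)), pow_succ]
    ring

theorem natDegree_rankPoly_le (N : A) (d : ℕ) : (rankPoly N d).natDegree ≤ d := by
  apply Polynomial.natDegree_sum_le_of_forall_le
  intro j hj
  rw [Finset.mem_range] at hj
  refine le_trans Polynomial.natDegree_mul_le ?_
  have h1 : (Polynomial.C (LambdaOps.lam j N) * Polynomial.X ^ j : Polynomial A).natDegree ≤ j :=
    Polynomial.natDegree_C_mul_X_pow_le _ _
  have h2 := natDegree_one_sub_X_pow_le (A := A) (d - j)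
  omega

theorem coeff_rankPoly_top (N : A) (d : ℕ) :
    (rankPoly N d).coeff d = (-1) ^ d * ∑ j ∈ range (d + 1), (-1) ^ j * LambdaOps.lam j N := by
  rw [rankPoly, Polynomial.finsetSum_coeff, Finset.mul_sum]
  refine Finset.sum_congr rfl fun j hj => ?_
  rw [Finset.mem_range] at hj
  obtain ⟨e, rfl⟩ : ∃ e, d = e + j := ⟨d - j, by omega⟩
  rw [mul_assoc, Polynomial.coeff_C_mul, mul_comm (Polynomial.X ^ j), Polynomial.coeff_mul_X_pow,
    Nat.add_sub_cancel, coeff_one_sub_X_pow_self]
  have hs : ((-1 : A)) ^ (e + j) * (-1) ^ j = (-1) ^ e := by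
    rw [pow_add, mul_assoc, ← mul_pow]
    simp
  rw [← hs]
  ring

/-- an element of rank `d` shifted by `d` has vanishing `γ^k` above `d` -/
theorem gamma_sub_natCast_eq_zero (h1 : ∀ k : ℕ, 2 ≤ k → LambdaOps.lam k (1 : A) = 0) (N : A)
    (d : ℕ) (hN : ∀ k : ℕ, d < k → LambdaOps.lam k N = 0) (k : ℕ) (hk : d < k) :
    gamma k (N - (d : A)) = 0 := by
  rw [← coeff_gammaSeries, gammaSeries_sub_natCast_eq_coe h1 N d hN, Polynomial.coeff_coe]
  exact Polynomial.coeff_eq_zero_of_natDegree_lt (lt_of_le_of_lt (natDegree_rankPoly_le N d) hk)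

/-- `γ^d(N - d) = (-1)^d λ_{-1}(N)` for `N` of rank `d` -/
theorem gamma_sub_natCast_top (h1 : ∀ k : ℕ, 2 ≤ k → LambdaOps.lam k (1 : A) = 0) (N : A)
    (d : ℕ) (hN : ∀ k : ℕ, d < k → LambdaOps.lam k N = 0) :
    gamma d (N - (d : A)) = (-1) ^ d * ∑ j ∈ range (d + 1), (-1) ^ j * LambdaOps.lam j N := by
  rw [← coeff_gammaSeries, gammaSeries_sub_natCast_eq_coe h1 N d hN, Polynomial.coeff_coe,
    coeff_rankPoly_top]

end shift

end Groth.Agent.H43
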