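import Groth.Agent.H43.S8690aux

set_option autoImplicit false
universe u v

namespace Groth.Agent.H43

open LambdaRing MvPolynomial Finset

section general

variable {A : Type v} [CommRing A] [LambdaOps A]

omit [LambdaOps A] in
theorem prod_pow_mem_pow {n : ℕ} {I : Ideal A} (f : Fin n → A) (hf : ∀ k, f k ∈ I)
    (e : Fin n → ℕ) : ∏ k : Fin n, f k ^ e k ∈ I ^ (∑ k : Fin n, e k) := by
  rw [← Finset.prod_pow_eq_pow_sum]
  exact Ideal.prod_mem_prod fun k _ => Ideal.pow_mem_pow (hf k) _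

/-- `λ^j` of a product of stable elements, for two ideals -/
theorem lamStable_mul' (hA : IsSpecial A) {I I' : Ideal A} {y z : A} (hy : y ∈ lamStable I)
    (hz : z ∈ lamStable I') : y * z ∈ lamStable (I * I') := by
  classical
  intro j hj
  obtain ⟨P, hP⟩ := exists_isMulPoly j
  rw [hA.lam_mul j P hP, aeval_def, eval₂_eq']
  refine Ideal.sum_mem _ fun dd hdd => Ideal.mul_mem_left _ _ ?_
  have hw : Finsupp.weight (wXY j) dd = ((j, j) : ℕ × ℕ) := hP.2 (mem_support_iff.mp hdd)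
  have hw1 : ∑ k : Fin j, ((k : ℕ) + 1) * dd (Sum.inl k) = j := by
    rw [← weight_wXY_fst, hw]
  have hw2 : ∑ k : Fin j, ((k : ℕ) + 1) * dd (Sum.inr k) = j := by
    rw [← weight_wXY_snd, hw]
  have hY : ∃ k : Fin j, dd (Sum.inl k) ≠ 0 := by
    by_contra hcon
    push Not at hcon
    simp only [hcon, mul_zero, Finset.sum_const_zero] at hw1
    omega
  have hZ : ∃ k : Fin j, dd (Sum.inr k) ≠ 0 := by
    by_contra hcon
    push Not at hcon
    simp only [hcon, mul_zero, Finset.sum_const_zero] at hw2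
    omega
  obtain ⟨k1, hk1⟩ := hY
  obtain ⟨k2, hk2⟩ := hZ
  rw [Fintype.prod_sum_type]
  simp only [Sum.elim_inl, Sum.elim_inr]
  refine Ideal.mul_mem_mul ?_ ?_
  · rw [← Finset.mul_prod_erase _ _ (Finset.mem_univ k1)]
    apply Ideal.mul_mem_right
    exact Ideal.pow_mem_of_mem _ (hy _ (by omega)) _ (Nat.pos_of_ne_zero hk1)
  · rw [← Finset.mul_prod_erase _ _ (Finset.mem_univ k2)]
    apply Ideal.mul_mem_right
    exact Ideal.pow_mem_of_mem _ (hz _ (by omega)) _ (Nat.pos_of_ne_zero hk2)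

omit [LambdaOps A] in
theorem aeval_isobaric_two' {I I' T : Ideal A} (h1 : I * I * I' ≤ T) (h2 : I * (I' * I') ≤ T)
    {n : ℕ} (hn : 1 ≤ n) (P : MvPolynomial (Fin n ⊕ Fin n) ℤ)
    (hP : IsWeightedHomogeneous (wXY n) P ((n, n) : ℕ × ℕ))
    (f g : Fin n → A) (hf : ∀ k, f k ∈ I) (hg : ∀ k, g k ∈ I') :
    aeval (Sum.elim f g) P - ((coeff (m0 n hn) P : ℤ) : A) *
      (f ⟨n - 1, by omega⟩ * g ⟨n - 1, by omega⟩) ∈ T := by
  classical
  set c := coeff (m0 n hn) P with hc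
  set P' := P - monomial (m0 n hn) c with hP'
  have e : aeval (Sum.elim f g) P - ((c : ℤ) : A) * (f ⟨n - 1, by omega⟩ * g ⟨n - 1, by omega⟩) =
      aeval (Sum.elim f g) P' := by
    rw [hP', map_sub, aeval_monomial]
    congr 1
    rw [m0, Finsupp.prod_add_index' (fun _ => pow_zero _) (fun _ _ _ => pow_add _ _ _),
      Finsupp.prod_single_index (by simp), Finsupp.prod_single_index (by simp)]
    simp
  rw [e, aeval_def, eval₂_eq']
  refine Ideal.sum_mem _ fun dd hdd => Ideal.mul_mem_left _ _ ?_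
  have hcoef : coeff dd P' = coeff dd P - if m0 n hn = dd then c else 0 := by
    rw [hP', coeff_sub, coeff_monomial]
  have hne : dd ≠ m0 n hn := by
    intro h
    rw [mem_support_iff, hcoef, h, if_pos rfl, hc, sub_self] at hdd
    exact hdd rfl
  have hddP : coeff dd P ≠ 0 := by
    rw [mem_support_iff, hcoef, if_neg (Ne.symm hne), sub_zero] at hdd
    exact hdd
  have hw : Finsupp.weight (wXY n) dd = ((n, n) : ℕ × ℕ) := hP hddP
  have hw1 : ∑ k : Fin n, ((k : ℕ) + 1) * dd (Sum.inl k) = n := by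
    rw [← weight_wXY_fst, hw]
  have hw2 : ∑ k : Fin n, ((k : ℕ) + 1) * dd (Sum.inr k) = n := by
    rw [← weight_wXY_snd, hw]
  have hY : 1 ≤ ∑ k : Fin n, dd (Sum.inl k) := by
    by_contra hlt
    have h0 : ∑ k : Fin n, dd (Sum.inl k) = 0 := by omega
    have : ∀ k : Fin n, dd (Sum.inl k) = 0 := fun k =>
      (Finset.sum_eq_zero_iff.mp h0) k (Finset.mem_univ k)
    simp only [this, mul_zero, Finset.sum_const_zero] at hw1
    omega
  have hZ : 1 ≤ ∑ k : Fin n, dd (Sum.inr k) := by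
    by_contra hlt
    have h0 : ∑ k : Fin n, dd (Sum.inr k) = 0 := by omega
    have : ∀ k : Fin n, dd (Sum.inr k) = 0 := fun k =>
      (Finset.sum_eq_zero_iff.mp h0) k (Finset.mem_univ k)
    simp only [this, mul_zero, Finset.sum_const_zero] at hw2
    omega
  have hnot : ¬ (∑ k : Fin n, dd (Sum.inl k) = 1 ∧ ∑ k : Fin n, dd (Sum.inr k) = 1) := by
    rintro ⟨h1, h2⟩
    exact hne (eq_m0_of_sum_one hn dd hw h1 h2)
  rw [Fintype.prod_sum_type]
  simp only [Sum.elim_inl, Sum.elim_inr]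
  have hf' := prod_pow_mem_pow f hf (fun k => dd (Sum.inl k))
  have hg' := prod_pow_mem_pow g hg (fun k => dd (Sum.inr k))
  set p := ∑ k : Fin n, dd (Sum.inl k)
  set q := ∑ k : Fin n, dd (Sum.inr k)
  have hpq : 2 ≤ p ∨ 2 ≤ q := by omega
  rcases hpq with h | h
  · apply h1
    refine Ideal.mul_mem_mul ?_ (Ideal.pow_le_self (by omega) hg')
    have := Ideal.pow_le_pow_right (I := I) h hf'
    rwa [pow_two] at this
  · apply h2
    refine Ideal.mul_mem_mul (Ideal.pow_le_self (by omega) hf') ?_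
    have := Ideal.pow_le_pow_right (I := I') h hg'
    rwa [pow_two] at this

/-- the congruence for a product, for two pairs of ideals -/
theorem lamCong_mul' (hA : IsSpecial A) {I₁ I₁' I₂ I₂' T : Ideal A} {c₁ c₂ : ℕ → ℤ}
    (hI₁ : IsLambdaIdeal I₁) (hI₂ : IsLambdaIdeal I₂)
    (h1 : I₁ * I₁ * I₂ ≤ T) (h2 : I₁ * (I₂ * I₂) ≤ T) (h3 : I₁' * I₂ ≤ T) (h4 : I₁ * I₂' ≤ T)
    {y z : A} (hy : y ∈ lamCong I₁ I₁' c₁) (hz : z ∈ lamCong I₂ I₂' c₂) (j : ℕ) (hj : 1 ≤ j) :
    LambdaOps.lam j (y * z) - ((lamConst 2 j * c₁ j * c₂ j : ℤ) : A) * (y * z) ∈ T := by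
  obtain ⟨P, hP⟩ := exists_isMulPoly j
  have h0 := aeval_isobaric_two' h1 h2 hj P hP.2
    (fun k : Fin j => LambdaOps.lam ((k : ℕ) + 1) y)
    (fun k : Fin j => LambdaOps.lam ((k : ℕ) + 1) z)
    (fun k => hI₁ _ (by omega) y hy.1)
    (fun k => hI₂ _ (by omega) z hz.1)
  rw [← hA.lam_mul j P hP y z, coeff_m0_mulPoly j hj P hP] at h0
  simp only [Nat.sub_add_cancel hj] at h0
  have h5 : (LambdaOps.lam j y - ((c₁ j : ℤ) : A) * y) * LambdaOps.lam j z ∈ T :=
    h3 (Ideal.mul_mem_mul (hy.2 j hj) (hI₂ j hj z hz.1))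
  have h6 : y * (LambdaOps.lam j z - ((c₂ j : ℤ) : A) * z) ∈ T :=
    h4 (Ideal.mul_mem_mul hy.1 (hz.2 j hj))
  have e : LambdaOps.lam j (y * z) - ((lamConst 2 j * c₁ j * c₂ j : ℤ) : A) * (y * z) =
      (LambdaOps.lam j (y * z) - ((lamConst 2 j : ℤ) : A) *
        (LambdaOps.lam j y * LambdaOps.lam j z)) +
      ((lamConst 2 j : ℤ) : A) * ((LambdaOps.lam j y - ((c₁ j : ℤ) : A) * y) *
        LambdaOps.lam j z) +
      ((lamConst 2 j : ℤ) : A) * ((c₁ j : ℤ) : A) *
        (y * (LambdaOps.lam j z - ((c₂ j : ℤ) : A) * z)) := by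
    push_cast
    ring
  rw [e]
  exact add_mem (add_mem h0 (Ideal.mul_mem_left _ _ h5)) (Ideal.mul_mem_left _ _ h6)

theorem mem_lamCong_of_mem' {J J' : Ideal A} (hJ' : IsLambdaIdeal J') (hle : J' ≤ J) (c : ℕ → ℤ)
    {f : A} (hf : f ∈ J') : f ∈ lamCong J J' c :=
  ⟨hle hf, fun j hj => sub_mem (hJ' j hj f hf) (Ideal.mul_mem_left _ _ hf)⟩

end general

section scalar

variable {K : Type u} [CommRing K] [LambdaOps K] [BinomialRing K]
  {A : Type v} [CommRing A] [LambdaOps A] [Algebra K A]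

/-- multiplying by a scalar of the binomial ring preserves the congruence (general ideals) -/
theorem lamCong_smul' (hKb : IsBinomial K) (hA : IsSpecial A) (hAlg : IsLambdaAlg K A)
    {J J' : Ideal A} (hJ : IsLambdaIdeal J) (hJJ : J * J ≤ J') (cc : ℕ → ℤ) (c : K) {g : A}
    (hg : g ∈ lamCong J J' cc) : algebraMap K A c * g ∈ lamCong J J' cc := by
  refine ⟨Ideal.mul_mem_left _ _ hg.1, fun j hj => ?_⟩
  obtain ⟨j', rfl⟩ : ∃ j', j = j' + 1 := ⟨j - 1, by omega⟩
  rw [lam_smul_binom hKb hA hAlg, Finset.sum_range_succ', Finset.sum_range_succ']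
  have hw : ∀ r, PowerSeries.coeff r (lamSeries g - 1) ∈ J := by
    intro r
    rw [map_sub, coeff_lamSeries, PowerSeries.coeff_one]
    by_cases hr : r = 0
    · subst hr
      rw [LambdaOps.lam_zero, if_pos rfl, sub_self]
      exact zero_mem _
    · rw [if_neg hr, sub_zero]
      exact hJ r (by omega) g hg.1
  have h0 : algebraMap K A (Ring.choose c 0) *
      PowerSeries.coeff (j' + 1) ((lamSeries g - 1) ^ 0) = 0 := by
    rw [pow_zero, PowerSeries.coeff_one, if_neg (Nat.succ_ne_zero j'), mul_zero]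
  have h1 : algebraMap K A (Ring.choose c (0 + 1)) *
      PowerSeries.coeff (j' + 1) ((lamSeries g - 1) ^ (0 + 1)) =
      algebraMap K A c * LambdaOps.lam (j' + 1) g := by
    rw [zero_add, Ring.choose_one_right, pow_one, map_sub, coeff_lamSeries, PowerSeries.coeff_one,
      if_neg (Nat.succ_ne_zero j'), sub_zero]
  rw [h0, h1, add_zero]
  have e : ∑ k ∈ range j', algebraMap K A (Ring.choose c (k + 1 + 1)) *
        PowerSeries.coeff (j' + 1) ((lamSeries g - 1) ^ (k + 1 + 1)) +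
      algebraMap K A c * LambdaOps.lam (j' + 1) g -
      ((cc (j' + 1) : ℤ) : A) * (algebraMap K A c * g) =
      ∑ k ∈ range j', algebraMap K A (Ring.choose c (k + 1 + 1)) *
        PowerSeries.coeff (j' + 1) ((lamSeries g - 1) ^ (k + 1 + 1)) +
      algebraMap K A c * (LambdaOps.lam (j' + 1) g - ((cc (j' + 1) : ℤ) : A) * g) := by
    ring
  rw [e]
  refine add_mem (Ideal.sum_mem _ fun k _ => Ideal.mul_mem_left _ _ ?_)
    (Ideal.mul_mem_left _ _ (hg.2 _ hj))
  exact coeff_pow_mem_two hJJ hw _ (by omega) _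

end scalar

end Groth.Agent.H43
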