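import Groth.Agent.H43.PolyRep

set_option autoImplicit false
universe u

namespace Groth.Agent.H43

open LambdaRing MvPolynomial Finset

section evalInf

variable {K : Type*} [CommRing K] [LambdaOps K]

/-- evaluation `X_k ↦ λ^{k+1}(x)`, all `k` -/
noncomputable def evalLamInf (x : K) : MvPolynomial ℕ ℤ →ₐ[ℤ] K :=
  aeval fun k : ℕ => LambdaOps.lam (k + 1) x

@[simp] theorem evalLamInf_X (x : K) (k : ℕ) : evalLamInf x (X k) = LambdaOps.lam (k + 1) x := by
  simp [evalLamInf]

end evalInf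

section rep

/-- `G` is uniformly representable: `λ^n` of the value of `G` at the `λ^i x` is the value of a
polynomial `G'` independent of the (special) λ-ring and of the element `x`. -/
def RepInf (G : MvPolynomial ℕ ℤ) : Prop :=
  ∀ n : ℕ, ∃ G' : MvPolynomial ℕ ℤ,
    ∀ (K : Type u) [CommRing K] [LambdaOps K], IsSpecial K → ∀ x : K,
      LambdaOps.lam n (evalLamInf x G) = evalLamInf x G'

theorem repInf_zero : RepInf.{u} (0 : MvPolynomial ℕ ℤ) := by
  intro n
  refine ⟨C (if n = 0 then 1 else 0), ?_⟩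
  intro K _ _ hK x
  rw [map_zero, ← coeff_lamSeries, lamSeries_zero, PowerSeries.coeff_one]
  split_ifs <;> simp

theorem repInf_one : RepInf.{u} (1 : MvPolynomial ℕ ℤ) := by
  intro n
  refine ⟨C (if n = 0 then 1 else if n = 1 then 1 else 0), ?_⟩
  intro K _ _ hK x
  rw [map_one]
  match n with
  | 0 => simp [LambdaOps.lam_zero]
  | 1 => simp [LambdaOps.lam_one]
  | (n + 2) =>
    rw [hK.lam_one_eq_zero (n + 2) (by omega)]
    simp

theorem repInf_neg_one : RepInf.{u} (C (-1) : MvPolynomial ℕ ℤ) := by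
  intro n
  refine ⟨C ((-1) ^ n), ?_⟩
  intro K _ _ hK x
  have : evalLamInf x (C (-1) : MvPolynomial ℕ ℤ) = (-1 : K) := by simp [evalLamInf]
  rw [this, ← coeff_lamSeries, lamSeries_neg_one hK.lam_one_eq_zero, PowerSeries.coeff_mk]
  simp [evalLamInf]

theorem repInf_add {G₁ G₂ : MvPolynomial ℕ ℤ} (h₁ : RepInf.{u} G₁) (h₂ : RepInf.{u} G₂) :
    RepInf.{u} (G₁ + G₂) := by
  intro n
  choose G₁' hG₁' using h₁
  choose G₂' hG₂' using h₂
  refine ⟨∑ i ∈ range (n + 1), G₁' i * G₂' (n - i), ?_⟩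
  intro K _ _ hK x
  rw [map_add, LambdaOps.lam_add, map_sum]
  refine Finset.sum_congr rfl fun i _ => ?_
  rw [map_mul, hG₁' i K hK x, hG₂' (n - i) K hK x]

theorem repInf_mul {G₁ G₂ : MvPolynomial ℕ ℤ} (h₁ : RepInf.{u} G₁) (h₂ : RepInf.{u} G₂) :
    RepInf.{u} (G₁ * G₂) := by
  intro n
  choose G₁' hG₁' using h₁
  choose G₂' hG₂' using h₂
  obtain ⟨P, hP⟩ := exists_isMulPoly n
  refine ⟨aeval (Sum.elim (fun k : Fin n => G₁' ((k : ℕ) + 1))
    (fun k : Fin n => G₂' ((k : ℕ) + 1))) P, ?_⟩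
  intro K _ _ hK x
  rw [map_mul, hK.lam_mul n P hP, evalLamInf, comp_aeval_apply]
  congr 2
  funext k
  rcases k with k | k
  · simp only [Sum.elim_inl]
    exact hG₁' _ K hK x
  · simp only [Sum.elim_inr]
    exact hG₂' _ K hK x

theorem repInf_X (k : ℕ) : RepInf.{u} (X k : MvPolynomial ℕ ℤ) := by
  intro n
  obtain ⟨Q, hQ⟩ := exists_isCompPoly (k + 1) n
  refine ⟨rename (fun l : Fin ((k + 1) * n) => (l : ℕ)) Q, ?_⟩
  intro K _ _ hK x
  rw [evalLamInf_X, hK.lam_lam (k + 1) n Q hQ, evalLamInf, aeval_rename]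
  rfl

theorem repInf_C (a : ℤ) : RepInf.{u} (C a : MvPolynomial ℕ ℤ) := by
  induction a using Int.induction_on with
  | zero => simpa using repInf_zero
  | succ i ih =>
    have : (C ((i : ℤ) + 1) : MvPolynomial ℕ ℤ) = C (i : ℤ) + 1 := by simp
    rw [this]
    exact repInf_add ih repInf_one
  | pred i ih =>
    have : (C (-(i : ℤ) - 1) : MvPolynomial ℕ ℤ) = C (-(i : ℤ)) + C (-1) := by
      rw [← C_add]; congr 1
    rw [this]
    exact repInf_add ih repInf_neg_one

theorem repInf_all (G : MvPolynomial ℕ ℤ) : RepInf.{u} G := by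
  induction G using MvPolynomial.induction_on with
  | C a => exact repInf_C a
  | add p q hp hq => exact repInf_add hp hq
  | mul_X p i hp => exact repInf_mul hp (repInf_X i)

/-- the `γ`-version -/
theorem gamma_repInf (G : MvPolynomial ℕ ℤ) :
    ∃ G'' : ℕ → MvPolynomial ℕ ℤ, ∀ (R : Type u) [CommRing R] [LambdaOps R], IsSpecial R →
      ∀ x : R, ∀ k : ℕ, gamma k (evalLamInf x G) = evalLamInf x (G'' k) := by
  choose G' hG' using repInf_all.{u} G
  refine ⟨fun k => if k = 0 then 1 else ∑ j ∈ range (k + 1),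
    C ((Nat.choose (k - 1) (j - 1) : ℕ) : ℤ) * (if j = 0 then 0 else G' j), ?_⟩
  intro R _ _ hR x k
  unfold gamma
  beta_reduce
  by_cases hk : k = 0
  · rw [if_pos hk, if_pos hk, map_one]
  · rw [if_neg hk, if_neg hk, map_sum]
    refine Finset.sum_congr rfl fun j _ => ?_
    rw [map_mul]
    congr 1
    · simp [evalLamInf]
    · split_ifs
      · exact (map_zero _).symm
      · exact hG' j R hR x

end rep

end Groth.Agent.H43
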