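import Groth.Prelude.Def_KRR
import Groth.Agent.H41.LambdaInv
import Groth.Agent.H17.LambdaSplit

set_option autoImplicit false
universe u

namespace Groth.Agent.H43

open LambdaRing Finset MvPolynomial

variable {K : Type u} [CommRing K] [LambdaOps K]

/-- splitting of one positive element, indexed by `Fin n`, in an extension with the splitting
property -/
theorem exists_split_fin' (P : PosStructure K) (hK : HasSplitting K P) (e : K) (he : e ∈ P.pos) :
    ∃ (L : Type u) (_ : CommRing L) (_ : LambdaOps L) (P' : PosStructure L)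
      (f : K →+* L), HasSplitting L P' ∧ IsExtension P P' f ∧
      ∃ (n : ℕ) (y : Fin n → L), (∀ i, P'.IsLine (y i)) ∧ ∑ i, y i = f e ∧ (P.aug e).toNat = n := by
  obtain ⟨L, _, _, P', f, hL, hf, s, hs, hsum⟩ := Groth.Agent.H17.exists_split_one P hK e he
  refine ⟨L, _, _, P', f, hL, hf, s.toList.length, fun i => s.toList.get i, ?_, ?_, ?_⟩
  · intro i
    apply hs
    rw [← Multiset.mem_toList]
    exact List.get_mem _ _
  · rw [← hsum, ← List.sum_ofFn]
    have : List.ofFn (fun i : Fin s.toList.length => s.toList.get i) = s.toList := List.ofFn_get _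
    rw [this, Multiset.sum_toList]
  · have h1 : P'.aug (f e) = P.aug e := hf.aug_comp e
    rw [← h1, ← hsum, Groth.Agent.H17.aug_sum_lines P' s hs, Int.toNat_natCast,
      Multiset.length_toList]

theorem aeval_bottPoly (j n : ℕ) :
    aeval (fun i : Fin n => esymm (Fin n) ℤ ((i : ℕ) + 1)) (KRR.bottPoly j n) = KRR.bottSym j n := by
  rw [← esymmAlgHom_apply]
  have h : esymmAlgHom (Fin n) ℤ n (KRR.bottPoly j n) =
      ⟨KRR.bottSym j n, KRR.bottSym_isSymmetric j n⟩ := by
    unfold KRR.bottPoly
    exact (esymmAlgEquiv (Fin n) ℤ (Fintype.card_fin n)).apply_symm_apply _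
  rw [h]

theorem S3792_main (P : PosStructure K) (hK : HasSplitting K P) (e : K) (he : e ∈ P.pos) (j : ℕ)
    (hj : 1 ≤ j) : adams P j (KRR.lamAlt P e) = KRR.lamAlt P e * KRR.bott P j e := by
  classical
  obtain ⟨L, _, _, P', f, hL, hf, n, y, hy, hsum, hn⟩ := exists_split_fin' P hK e he
  apply hf.injective
  rw [Groth.Agent.H17.map_adams P P' f hf, map_mul]
  have h1 : f (KRR.lamAlt P e) = ∏ i, (1 - y i) := by
    unfold KRR.lamAlt
    rw [hn, map_sum, ← Groth.Agent.H41.lamAlt_sum_lines P' y hy]
    refine Finset.sum_congr rfl fun i _ => ?_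
    rw [map_mul, map_pow, map_neg, map_one, hf.isLambdaHom, hsum]
  have h2 : f (KRR.bott P j e) = ∏ i, ∑ k ∈ range j, y i ^ k := by
    unfold KRR.bott
    generalize (P.aug e).toNat = m at hn
    subst hn
    rw [aeval_def, eval₂_comp_left]
    have hcomp : f.comp (algebraMap ℤ K) = algebraMap ℤ L := Subsingleton.elim _ _
    rw [hcomp, ← aeval_def]
    have hfun : (f ∘ fun i : Fin m => LambdaOps.lam ((i : ℕ) + 1) e) =
        fun i : Fin m => aeval y (esymm (Fin m) ℤ ((i : ℕ) + 1)) := by
      funext i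
      simp only [Function.comp_apply]
      rw [hf.isLambdaHom, ← hsum, Groth.Agent.H41.lam_sum_lines P' y hy, esymm, map_sum]
      refine Finset.sum_congr rfl fun t _ => ?_
      rw [map_prod]
      simp
    rw [hfun, ← comp_aeval_apply, aeval_bottPoly, KRR.bottSym, map_prod]
    refine Finset.prod_congr rfl fun i _ => ?_
    rw [map_sum]
    simp
  have h3 : adams P' j (∏ i, (1 - y i)) = ∏ i, (1 - y i ^ j) := by
    let g : L →+* L :=
      ⟨⟨⟨adams P' j, Groth.Agent.H17.adams_one P' j⟩, Groth.Agent.H17.adams_mul P' hL j⟩,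
        Groth.Agent.H17.adams_zero P' j, Groth.Agent.H17.adams_add P' j⟩
    have hg : ∀ x, g x = adams P' j x := fun _ => rfl
    rw [← hg, map_prod]
    refine Finset.prod_congr rfl fun i _ => ?_
    rw [map_sub, map_one, hg, Groth.Agent.H17.adams_of_isLine P' _ (hy i)]
  rw [h1, h2, h3, ← Finset.prod_mul_distrib]
  exact Finset.prod_congr rfl fun i _ => (mul_neg_geom_sum (y i) j).symm

end Groth.Agent.H43
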