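import Groth.Agent.H43.LambdaBasic

set_option autoImplicit false
universe u

namespace Groth.Agent.H43

open LambdaRing PowerSeries Finset

variable {K : Type u} [CommRing K] [LambdaOps K]

theorem lamSeries_line {L : K} (hL : ∀ j : ℕ, 2 ≤ j → LambdaOps.lam j L = 0) :
    lamSeries L = 1 + C L * X := by
  ext n
  rw [coeff_lamSeries]
  match n with
  | 0 => simp [LambdaOps.lam_zero]
  | 1 => 
    rw [LambdaOps.lam_one, map_add, coeff_one, if_neg one_ne_zero, zero_add, coeff_C_mul, coeff_one_X,
      mul_one]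
  | (k + 2) =>
    rw [hL (k + 2) (by omega), map_add, coeff_one, if_neg (by omega), zero_add, coeff_C_mul, coeff_X,
      if_neg (by omega), mul_zero]

theorem S8678_aux (h1 : ∀ k : ℕ, 2 ≤ k → LambdaOps.lam k (1 : K) = 0) (d : ℕ) (hd : 2 ≤ d)
    (F L N' : K) (hL : ∀ j : ℕ, 2 ≤ j → LambdaOps.lam j L = 0)
    (hN' : ∀ i : ℕ, d - 1 ≤ i → LambdaOps.lam i N' = 0) (hrel : F + L = N' + 2) :
    (1 - L) ∣ ∑ i ∈ range d, (-1 : K) ^ i * LambdaOps.lam i F := by
  -- series identity
  have hs : lamSeries F * (1 + C L * X) = lamSeries N' * ((1 + X) * (1 + X)) := by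
    rw [← lamSeries_line hL, ← lamSeries_add, hrel, lamSeries_add]
    congr 1
    have : (2 : K) = ((2 : ℕ) : K) := by norm_num
    rw [this, lamSeries_natCast h1, pow_two]
  set I : Ideal K := Ideal.span {1 - L} with hI
  have hmem : ∀ a : K, a * (1 - L) ∈ I := fun a =>
    Ideal.mul_mem_left _ _ (Ideal.subset_span rfl)
  -- coefficient relations
  have hc0 : LambdaOps.lam 1 F + L = LambdaOps.lam 1 N' + 2 := by
    rw [LambdaOps.lam_one, LambdaOps.lam_one, hrel]
  have hc : ∀ i : ℕ, LambdaOps.lam (i + 2) F + L * LambdaOps.lam (i + 1) F =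
      LambdaOps.lam (i + 2) N' + 2 * LambdaOps.lam (i + 1) N' + LambdaOps.lam i N' := by
    intro i
    have := congrArg (coeff (i + 2)) hs
    have e1 : (1 + X : PowerSeries K) * (1 + X) = 1 + (2 : K) • X + X ^ 2 := by
      rw [smul_eq_C_mul]; simp only [map_ofNat]; ring
    rw [e1, mul_add, mul_add, mul_add, mul_one, mul_one, map_add, map_add, map_add,
      coeff_mul_X_pow, mul_smul_comm, map_smul, smul_eq_mul] at this
    rw [← mul_assoc, mul_comm _ (C L), mul_assoc, coeff_C_mul] at this
    rw [show i + 2 = (i + 1) + 1 from rfl, coeff_succ_mul_X, coeff_succ_mul_X] at this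
    simpa [coeff_lamSeries] using this
  have key : ∀ i : ℕ, LambdaOps.lam (i + 1) F - LambdaOps.lam (i + 1) N' - LambdaOps.lam i N' ∈ I := by
    intro i
    induction i with
    | zero =>
      rw [LambdaOps.lam_zero]
      have : LambdaOps.lam (0 + 1) F - LambdaOps.lam (0 + 1) N' - 1 = 1 * (1 - L) := by
        simp only [zero_add]; linear_combination hc0
      rw [this]; exact hmem 1
    | succ i ih =>
      have : LambdaOps.lam (i + 1 + 1) F - LambdaOps.lam (i + 1 + 1) N' - LambdaOps.lam (i + 1) N'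
          = LambdaOps.lam (i + 1) F * (1 - L)
            - (LambdaOps.lam (i + 1) F - LambdaOps.lam (i + 1) N' - LambdaOps.lam i N') := by
        linear_combination hc i
      rw [this]
      exact I.sub_mem (hmem _) ih
  rw [← Ideal.mem_span_singleton]
  obtain ⟨m, rfl⟩ : ∃ m, d = m + 1 := ⟨d - 1, by omega⟩
  have hNm : LambdaOps.lam m N' = 0 := hN' m (by omega)
  rw [Finset.sum_range_succ']
  simp only [pow_zero, LambdaOps.lam_zero, mul_one]
  -- telescoping
  have tel : ∀ m : ℕ, ∑ i ∈ range m, (-1 : K) ^ (i + 1) * (LambdaOps.lam (i + 1) N' + LambdaOps.lam i N')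
      = (-1 : K) ^ m * LambdaOps.lam m N' - 1 := by
    intro m
    induction m with
    | zero => simp [LambdaOps.lam_zero]
    | succ m ih => rw [Finset.sum_range_succ, ih]; ring
  have e : ∑ i ∈ range m, (-1 : K) ^ (i + 1) * LambdaOps.lam (i + 1) F + 1
      = ∑ i ∈ range m, (-1 : K) ^ (i + 1) *
          (LambdaOps.lam (i + 1) F - LambdaOps.lam (i + 1) N' - LambdaOps.lam i N') := by
    have := tel m
    rw [hNm, mul_zero, zero_sub] at this
    have h2 : ∀ i ∈ range m, (-1 : K) ^ (i + 1) *
          (LambdaOps.lam (i + 1) F - LambdaOps.lam (i + 1) N' - LambdaOps.lam i N') =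
        (-1 : K) ^ (i + 1) * LambdaOps.lam (i + 1) F -
          (-1 : K) ^ (i + 1) * (LambdaOps.lam (i + 1) N' + LambdaOps.lam i N') := by
      intro i _; ring
    rw [Finset.sum_congr rfl h2, Finset.sum_sub_distrib, this]; ring
  rw [e]
  exact I.sum_mem fun i _ => Ideal.mul_mem_left _ _ (key i)

end Groth.Agent.H43
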