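import Groth.Agent.H43.FilLam
import Mathlib.Algebra.Group.ForwardDiff

set_option autoImplicit false
universe u v

namespace Groth.Agent.H43

open LambdaRing Finset

section identity

theorem binid (n : ℕ) :
    ∑ k ∈ range (n + 1), ((n.choose k : ℤ) * ((-1) ^ k * ((k : ℤ) + 1) ^ n)) =
      (-1) ^ n * (n.factorial : ℤ) := by
  have h1 := fwdDiff_iter_eq_sum_shift (h := (1 : ℤ)) (fun r : ℤ => r ^ n) n 1
  have h2 := congrFun (fwdDiff_iter_eq_factorial (R := ℤ) (n := n)) 1
  rw [h2] at h1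
  simp only [Pi.natCast_apply, smul_eq_mul] at h1
  rw [h1, Finset.mul_sum]
  refine Finset.sum_congr rfl fun k hk => ?_
  rw [Finset.mem_range] at hk
  have hs : ((-1 : ℤ) ^ n) * (-1) ^ (n - k) = (-1) ^ k := by
    rw [← pow_add, show n + (n - k) = 2 * (n - k) + k by omega, pow_add, pow_mul]
    simp
  rw [← hs]
  ring

theorem binid' (m : ℕ) (hm : 1 ≤ m) :
    ∑ j ∈ range (m + 1), (((m - 1).choose (j - 1) : ℤ) * (if j = 0 then 0 else lamConst m j)) =
      (-1) ^ (m - 1) * ((m - 1).factorial : ℤ) := by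
  obtain ⟨n, rfl⟩ : ∃ n, m = n + 1 := ⟨m - 1, by omega⟩
  rw [Finset.sum_range_succ', if_pos rfl, mul_zero, add_zero, Nat.add_sub_cancel, ← binid n]
  refine Finset.sum_congr rfl fun k _ => ?_
  rw [if_neg (Nat.succ_ne_zero k)]
  simp [lamConst]

end identity

section coeffs

variable {A : Type v} [CommRing A]

theorem coeff_pow_mem_one (J : Ideal A) {w : PowerSeries A}
    (hw : ∀ r, PowerSeries.coeff r w ∈ J) (k : ℕ) (hk : 1 ≤ k) (i : ℕ) :
    PowerSeries.coeff i (w ^ k) ∈ J := by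
  obtain ⟨k', rfl⟩ : ∃ k', k = k' + 1 := ⟨k - 1, by omega⟩
  rw [pow_succ, PowerSeries.coeff_mul]
  exact Ideal.sum_mem _ fun p _ => Ideal.mul_mem_left _ _ (hw _)

theorem coeff_pow_mem_two {J J' : Ideal A} (hJJ : J * J ≤ J') {w : PowerSeries A}
    (hw : ∀ r, PowerSeries.coeff r w ∈ J) (k : ℕ) (hk : 2 ≤ k) (i : ℕ) :
    PowerSeries.coeff i (w ^ k) ∈ J' := by
  obtain ⟨k', rfl⟩ : ∃ k', k = k' + 1 := ⟨k - 1, by omega⟩
  rw [pow_succ, PowerSeries.coeff_mul]
  exact Ideal.sum_mem _ fun p _ =>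
    hJJ (Ideal.mul_mem_mul (coeff_pow_mem_one J hw k' (by omega) _) (hw _))

end coeffs

section scalar

variable {K : Type u} [CommRing K] [LambdaOps K] [BinomialRing K]
  {A : Type v} [CommRing A] [LambdaOps A] [Algebra K A]

omit [LambdaOps K] [BinomialRing K] [Algebra K A] in
theorem gammaFil_mul_self_le (ε : A →+* K) (m : ℕ) (hm : 1 ≤ m) :
    gammaFil ε m * gammaFil ε m ≤ gammaFil ε (m + 1) := by
  rw [Ideal.mul_le]
  intro a ha b hb
  exact (mulFil_gammaFil ε).anti _ _ (by omega) ((mulFil_gammaFil ε).mul_mem _ _ _ _ ha hb)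

/-- multiplying by a scalar of the binomial ring preserves the congruence -/
theorem lamCong_smul (hKb : IsBinomial K) (hA : IsSpecial A) (hAlg : IsLambdaAlg K A)
    (ε : A →+* K) (m : ℕ) (hm : 1 ≤ m) (c : K) {g : A}
    (hg : g ∈ lamCong (gammaFil ε m) (gammaFil ε (m + 1)) (lamConst m)) :
    algebraMap K A c * g ∈ lamCong (gammaFil ε m) (gammaFil ε (m + 1)) (lamConst m) := by
  refine ⟨Ideal.mul_mem_left _ _ hg.1, fun j hj => ?_⟩
  obtain ⟨j', rfl⟩ : ∃ j', j = j' + 1 := ⟨j - 1, by omega⟩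
  rw [lam_smul_binom hKb hA hAlg, Finset.sum_range_succ', Finset.sum_range_succ']
  have hw : ∀ r, PowerSeries.coeff r (lamSeries g - 1) ∈ gammaFil ε m := by
    intro r
    rw [map_sub, coeff_lamSeries, PowerSeries.coeff_one]
    by_cases hr : r = 0
    · subst hr
      rw [LambdaOps.lam_zero, if_pos rfl, sub_self]
      exact zero_mem _
    · rw [if_neg hr, sub_zero]
      exact isLambdaIdeal_gammaFil hA ε m r (by omega) g hg.1
  have h0 : algebraMap K A (Ring.choose c 0) *
      PowerSeries.coeff (j' + 1) ((lamSeries g - 1) ^ 0) = 0 := by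
    rw [pow_zero, PowerSeries.coeff_one, if_neg (Nat.succ_ne_zero j'), mul_zero]
  have h1 : algebraMap K A (Ring.choose c (0 + 1)) *
      PowerSeries.coeff (j' + 1) ((lamSeries g - 1) ^ (0 + 1)) =
      algebraMap K A c * LambdaOps.lam (j' + 1) g := by
    rw [zero_add, Ring.choose_one_right, pow_one, map_sub, coeff_lamSeries, PowerSeries.coeff_one,
      if_neg (Nat.succ_ne_zero j'), sub_zero]
  rw [h0, h1, add_zero]
  have e : ∑ k ∈ range j', algebraMap K A (Ring.choose c (k + 1 + 1)) *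
        PowerSeries.coeff (j' + 1) ((lamSeries g - 1) ^ (k + 1 + 1)) +
      algebraMap K A c * LambdaOps.lam (j' + 1) g -
      ((lamConst m (j' + 1) : ℤ) : A) * (algebraMap K A c * g) =
      ∑ k ∈ range j', algebraMap K A (Ring.choose c (k + 1 + 1)) *
        PowerSeries.coeff (j' + 1) ((lamSeries g - 1) ^ (k + 1 + 1)) +
      algebraMap K A c * (LambdaOps.lam (j' + 1) g - ((lamConst m (j' + 1) : ℤ) : A) * g) := by
    ring
  rw [e]
  refine add_mem (Ideal.sum_mem _ fun k _ => Ideal.mul_mem_left _ _ ?_)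
    (Ideal.mul_mem_left _ _ (hg.2 _ hj))
  exact coeff_pow_mem_two (gammaFil_mul_self_le ε m hm) hw _ (by omega) _

end scalar

section main

variable {K : Type u} [CommRing K] [LambdaOps K] [BinomialRing K]
  {A : Type v} [CommRing A] [LambdaOps A] [Algebra K A]

omit [LambdaOps K] [BinomialRing K] [Algebra K A] in
theorem aug_zero_mul_mem (ε : A →+* K) {a : A} (ha : ε a = 0) (m : ℕ) {g : A}
    (hg : g ∈ gammaFil ε m) : a * g ∈ gammaFil ε (m + 1) := by
  have h1 : a ∈ gammaFil ε 1 := by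
    have := gamma_mem_gammaFil ε ha 1
    rwa [gamma_one] at this
  have := (mulFil_gammaFil ε).mul_mem _ _ _ _ h1 hg
  rwa [add_comm] at this

/-- the key congruence: `λ^j(f) ≡ (-1)^(j-1) j^(m-1) f` modulo `Fil^(m+1)` for `f ∈ Fil^m` -/
theorem lamCong_gammaFil (hKb : IsBinomial K) (hA : IsSpecial A) (ε : A →ₐ[K] K)
    (hε : IsAugLambdaAlg K A ε) (m : ℕ) (hm : 1 ≤ m) {f : A}
    (hf : f ∈ gammaFil (ε : A →+* K) m) :
    f ∈ lamCong (gammaFil (ε : A →+* K) m) (gammaFil (ε : A →+* K) (m + 1)) (lamConst m) := by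
  have hJ := isLambdaIdeal_gammaFil hA (ε : A →+* K) m
  have hJJ := gammaFil_mul_self_le (ε : A →+* K) m hm
  suffices h : ∀ a : A, a * f ∈ lamCong (gammaFil (ε : A →+* K) m)
      (gammaFil (ε : A →+* K) (m + 1)) (lamConst m) by simpa using h 1
  unfold gammaFil at hf
  induction hf using Submodule.span_induction with
  | mem g hg =>
    obtain ⟨l, hl, hml, rfl⟩ := hg
    intro a
    rcases Nat.lt_or_ge m (l.map Prod.fst).sum with hlt | hge
    · apply mem_lamCong_of_mem_succ hA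
      apply Ideal.mul_mem_left
      exact Ideal.subset_span ⟨l, hl, hlt, rfl⟩
    · have hEq : (l.map Prod.fst).sum = m := le_antisymm hge hml
      have hg0 := prod_gamma_lamCong hA (ε : A →+* K) l hl (by omega)
      rw [hEq] at hg0
      have ha : a = (a - algebraMap K A (ε a)) + algebraMap K A (ε a) := by ring
      rw [ha, add_mul]
      refine lamCong_add hJ hJJ _ ?_ ?_
      · apply mem_lamCong_of_mem_succ hA
        apply aug_zero_mul_mem _ _ m hg0.1
        change ε (a - algebraMap K A (ε a)) = 0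
        rw [map_sub, AlgHom.commutes, Algebra.algebraMap_self, RingHom.id_apply, sub_self]
      · exact lamCong_smul hKb hA hε.isLambdaAlg _ m hm _ hg0
  | zero =>
    intro a
    rw [mul_zero]
    exact lamCong_zero hJ hJJ _
  | add x y _ _ hx hy =>
    intro a
    rw [mul_add]
    exact lamCong_add hJ hJJ _ (hx a) (hy a)
  | smul b x _ hx =>
    intro a
    rw [smul_eq_mul, ← mul_assoc]
    exact hx (a * b)

theorem S8690_main (hKb : IsBinomial K) (hA : IsSpecial A) (ε : A →ₐ[K] K)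
    (hε : IsAugLambdaAlg K A ε) (m : ℕ) (hm : 1 ≤ m) (z : A)
    (hz : z ∈ gammaFil (ε : A →+* K) m) :
    gamma m z - (-1 : A) ^ (m - 1) * ((m - 1).factorial : A) * z ∈
      gammaFil (ε : A →+* K) (m + 1) := by
  have hc := lamCong_gammaFil hKb hA ε hε m hm hz
  have hid := congrArg (fun t : ℤ => (t : A)) (binid' m hm)
  simp only [Int.cast_sum, Int.cast_mul, Int.cast_natCast, Int.cast_pow, Int.cast_neg,
    Int.cast_one] at hid
  rw [← hid]
  unfold gamma
  rw [if_neg (by omega), Finset.sum_mul, ← Finset.sum_sub_distrib]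
  refine Ideal.sum_mem _ fun j _ => ?_
  by_cases hj : j = 0
  · subst hj
    simp
  · rw [if_neg hj, if_neg hj, mul_assoc, ← mul_sub]
    exact Ideal.mul_mem_left _ _ (hc.2 j (by omega))

end main

end Groth.Agent.H43
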