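import Groth.Agent.H43.S8698aux
import Groth.Agent.H43.RankBase
import Groth.Agent.H43.RankShift

set_option autoImplicit false
universe u v

namespace Groth.Agent.H43

open LambdaRing MvPolynomial Finset nonZeroDivisors

section two

variable {A : Type v} [CommRing A] [LambdaOps A]

/-- products of good elements, for a filtration acting on another one -/
theorem gammaGood_mul_two (hA : IsSpecial A) {F M : ℕ → Ideal A}
    (hF : MulFil (K := A) (A := A) F) (hM : MulFil (K := A) (A := A) M)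
    (hFM : ∀ a b : ℕ, 1 ≤ b → ∀ r ∈ F a, ∀ s ∈ M b, r * s ∈ M (a + b))
    {y z : A} (hy : y ∈ gammaGood (K := A) F) (hz : z ∈ gammaGood (K := A) M) :
    y * z ∈ gammaGood (K := A) M := by
  intro i
  rcases Nat.eq_zero_or_pos i with hi | hi
  · subst hi
    rw [gamma_zero]
    exact hM.one_mem
  obtain ⟨P, hPw, hP⟩ := exists_gamma_mul_poly.{v} i
  have h0 := hP A hA y 0
  rw [mul_zero, gamma_zero_arg, if_neg (by omega)] at h0
  have hz0 : (fun k : Fin i => gamma ((k : ℕ) + 1) (0 : A)) = fun _ => 0 := by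
    funext k
    rw [gamma_zero_arg, if_neg (Nat.succ_ne_zero _)]
  rw [hz0] at h0
  rw [hP A hA y z, ← sub_zero (aeval _ P), h0, aeval_def, aeval_def, eval₂_eq', eval₂_eq',
    ← Finset.sum_sub_distrib]
  refine Ideal.sum_mem _ fun m hm => ?_
  rw [← mul_sub]
  apply Ideal.mul_mem_left
  rw [Fintype.prod_sum_type, Fintype.prod_sum_type]
  simp only [Sum.elim_inl, Sum.elim_inr]
  rw [← mul_sub]
  by_cases hβ : ∀ k : Fin i, m (Sum.inr k) = 0
  · simp [hβ]
  · push Not at hβ
    obtain ⟨k0, hk0⟩ := hβ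
    have hzero : ∏ k : Fin i, (0 : A) ^ m (Sum.inr k) = 0 :=
      Finset.prod_eq_zero (Finset.mem_univ k0) (zero_pow hk0)
    rw [hzero, sub_zero]
    refine hM.anti _ _ (hPw m hm) (hFM _ _ ?_ _ ?_ _ ?_)
    · have h1 : 1 ≤ ((k0 : ℕ) + 1) * m (Sum.inr k0) :=
        Nat.mul_pos (Nat.succ_pos _) (Nat.pos_of_ne_zero hk0)
      exact le_trans h1 (Finset.single_le_sum
        (f := fun k : Fin i => ((k : ℕ) + 1) * m (Sum.inr k)) (fun _ _ => Nat.zero_le _)
        (Finset.mem_univ k0))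
    · exact hF.prod_mem Finset.univ (fun k : Fin i => ((k : ℕ) + 1) * m (Sum.inl k)) _
        (fun k _ => hF.pow_mem (hy _) _)
    · exact hM.prod_mem Finset.univ (fun k : Fin i => ((k : ℕ) + 1) * m (Sum.inr k)) _
        (fun k _ => hM.pow_mem (hz _) _)

end two

section shift

variable {K : Type u} [CommRing K] {A : Type v} [CommRing A] [LambdaOps A]

/-- the filtration `w · Fil^(p-d)` for `p ≥ 1`, the whole ring for `p = 0` -/
def shiftFil (ε : A →+* K) (w : A) (d : ℕ) (p : ℕ) : Ideal A :=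
  if p = 0 then ⊤ else Ideal.span {w} * gammaFil ε (p - d)

theorem mem_shiftFil (ε : A →+* K) (w : A) (d : ℕ) {p : ℕ} (hp : 1 ≤ p) (t : A) :
    t ∈ shiftFil ε w d p ↔ ∃ z ∈ gammaFil ε (p - d), w * z = t := by
  rw [shiftFil, if_neg (by omega)]
  exact Ideal.mem_span_singleton_mul

theorem mulFil_shiftFil (ε : A →+* K) {w : A} {d : ℕ} (hw : w ∈ gammaFil ε d) :
    MulFil (K := A) (A := A) (shiftFil ε w d) where
  one_mem := by simp [shiftFil]
  mul_mem := by
    intro a b y z hy hz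
    have hF := mulFil_gammaFil ε
    rcases Nat.eq_zero_or_pos a with ha | ha
    · subst ha
      rw [zero_add]
      exact Ideal.mul_mem_left _ _ hz
    rcases Nat.eq_zero_or_pos b with hb | hb
    · subst hb
      rw [add_zero]
      exact Ideal.mul_mem_right _ _ hy
    obtain ⟨f, hf, rfl⟩ := (mem_shiftFil ε w d ha y).mp hy
    obtain ⟨f', hf', rfl⟩ := (mem_shiftFil ε w d hb z).mp hz
    refine (mem_shiftFil ε w d (by omega) _).mpr ⟨w * (f * f'), ?_, by ring⟩
    exact hF.anti _ _ (by omega) (hF.mul_mem _ _ _ _ hw (hF.mul_mem _ _ _ _ hf hf'))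
  anti := by
    intro a b hab
    rcases Nat.eq_zero_or_pos b with hb | hb
    · subst hb
      simp [shiftFil]
    · intro t ht
      obtain ⟨f, hf, rfl⟩ := (mem_shiftFil ε w d (by omega) t).mp ht
      exact (mem_shiftFil ε w d hb _).mpr
        ⟨f, (mulFil_gammaFil ε).anti _ _ (by omega) hf, rfl⟩

theorem fil_mul_shiftFil (ε : A →+* K) (w : A) (d : ℕ) (a b : ℕ) (hb : 1 ≤ b) :
    ∀ r ∈ gammaFil ε a, ∀ s ∈ shiftFil ε w d b, r * s ∈ shiftFil ε w d (a + b) := by
  intro r hr s hs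
  obtain ⟨f, hf, rfl⟩ := (mem_shiftFil ε w d hb s).mp hs
  refine (mem_shiftFil ε w d (by omega) _).mpr ⟨r * f, ?_, by ring⟩
  exact (mulFil_gammaFil ε).anti _ _ (by omega) ((mulFil_gammaFil ε).mul_mem _ _ _ _ hr hf)

end shift

section main

variable {K : Type u} [CommRing K] [LambdaOps K] [BinomialRing K]
  {A : Type v} [CommRing A] [LambdaOps A] [Algebra K A]

/-- for `u` of rank `d` and `w = γ^d(u)`, every multiple `a w` has `γ^p(a w) ∈ w Fil^(p-d)` -/
theorem mul_top_gamma_good (hKb : IsBinomial K) (hA : IsSpecial A) (ε : A →ₐ[K] K)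
    (hε : IsAugLambdaAlg K A ε) (d : ℕ) (hd : 1 ≤ d) {u : A} (hu : ε u = 0)
    (hrank : ∀ k, d < k → gamma k u = 0) (a : A) :
    a * gamma d u ∈ gammaGood (K := A) (shiftFil (ε : A →+* K) (gamma d u) d) := by
  set ε' : A →+* K := (ε : A →+* K) with hε'
  set w := gamma d u with hw
  have hwd : w ∈ gammaFil ε' d := gamma_mem_gammaFil ε' hu d
  have hM := mulFil_shiftFil ε' hwd
  have hbase : w ∈ gammaGood (K := A) (shiftFil ε' w d) := by
    intro p
    rcases Nat.eq_zero_or_pos p with hp | hp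
    · subst hp
      rw [gamma_zero]
      exact hM.one_mem
    · obtain ⟨y, hy, hy'⟩ := gamma_top_gamma_div hA ε' d hd hu hrank p hp
      exact (mem_shiftFil ε' w d hp _).mpr ⟨y, hy, by rw [← hy', mul_comm]⟩
  have ha : a = (a - algebraMap K A (ε a)) + algebraMap K A (ε a) := by ring
  rw [ha, add_mul]
  refine gammaGood_add hM ?_ (gammaGood_smul_binom hKb hA hε.isLambdaAlg hM _ hbase)
  refine gammaGood_mul_two hA (mulFil_gammaFil ε') hM (fil_mul_shiftFil ε' w d) ?_ hbase
  intro i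
  apply gamma_mem_gammaFil
  change ε (a - algebraMap K A (ε a)) = 0
  rw [map_sub, AlgHom.commutes, Algebra.algebraMap_self, RingHom.id_apply, sub_self]

theorem S8695_main (hKb : IsBinomial K) (hA : IsSpecial A) (ε : A →ₐ[K] K)
    (hε : IsAugLambdaAlg K A ε) (d : ℕ) (hd : 1 ≤ d) (N : A)
    (hN : ∀ k : ℕ, d < k → LambdaOps.lam k N = 0) (hNε : ε N = (d : K))
    (hnzd : (∑ j ∈ range (d + 1), (-1 : A) ^ j * LambdaOps.lam j N) ∈ A⁰)
    (p : ℕ) (hp : 1 ≤ p) (x y : A)
    (hy : y * (∑ j ∈ range (d + 1), (-1 : A) ^ j * LambdaOps.lam j N) =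
      gamma p (x * (∑ j ∈ range (d + 1), (-1 : A) ^ j * LambdaOps.lam j N))) :
    y ∈ gammaFil (ε : A →+* K) (p - d) := by
  set e : A := ∑ j ∈ range (d + 1), (-1 : A) ^ j * LambdaOps.lam j N with he
  set u : A := N - (d : A) with hu_def
  have hu : ε u = 0 := by
    rw [hu_def, map_sub, hNε, map_natCast, sub_self]
  have hrank : ∀ k, d < k → gamma k u = 0 :=
    gamma_sub_natCast_eq_zero hA.lam_one_eq_zero N d hN
  have htop : gamma d u = (-1) ^ d * e := gamma_sub_natCast_top hA.lam_one_eq_zero N d hN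
  set s : A := (-1) ^ d with hs
  have hs2 : s * s = 1 := by
    rw [hs, ← pow_add, ← two_mul, pow_mul]
    simp
  have key := mul_top_gamma_good hKb hA ε hε d hd hu hrank (s * x) p
  have hxe : s * x * gamma d u = x * e := by
    rw [htop]
    linear_combination (x * e) * hs2
  rw [hxe, ← hy] at key
  obtain ⟨z, hz, hz'⟩ := (mem_shiftFil _ _ _ hp _).mp key
  have h2 : (s * z) * e = y * e := by
    rw [htop] at hz'
    linear_combination hz'
  rw [← (mul_cancel_right_mem_nonZeroDivisors hnzd).mp h2]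
  exact Ideal.mul_mem_left _ _ hz

end main

end Groth.Agent.H43
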