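import Groth.Agent.H43.RelLam
import Groth.Agent.H43.RankBase
import Groth.Agent.H43.RankShift

set_option autoImplicit false
universe u v

namespace Groth.Agent.H43

open LambdaRing Finset nonZeroDivisors

section gam

variable {A : Type v} [CommRing A] [LambdaOps A]

/-- from the congruences for the `λ^j` to the congruence for `γ^m` -/
theorem gamma_sub_factorial_mem {T : Ideal A} (m : ℕ) (hm : 1 ≤ m) (z : A)
    (h : ∀ j : ℕ, 1 ≤ j → LambdaOps.lam j z - ((lamConst m j : ℤ) : A) * z ∈ T) :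
    gamma m z - (-1 : A) ^ (m - 1) * ((m - 1).factorial : A) * z ∈ T := by
  have hid := congrArg (fun t : ℤ => (t : A)) (binid' m hm)
  simp only [Int.cast_sum, Int.cast_mul, Int.cast_natCast, Int.cast_pow, Int.cast_neg,
    Int.cast_one] at hid
  rw [← hid]
  unfold gamma
  rw [if_neg (by omega), Finset.sum_mul, ← Finset.sum_sub_distrib]
  refine Ideal.sum_mem _ fun j _ => ?_
  by_cases hj : j = 0
  · subst hj
    simp
  · rw [if_neg hj, if_neg hj, mul_assoc, ← mul_sub]
    exact Ideal.mul_mem_left _ _ (h j (by omega))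

end gam

section rel

variable {K : Type u} [CommRing K] {A : Type v} [CommRing A] [LambdaOps A]

/-- the filtration `w · Fil^b` -/
def relFil (ε : A →+* K) (w : A) (b : ℕ) : Ideal A := Ideal.span {w} * gammaFil ε b

theorem mem_relFil (ε : A →+* K) (w : A) (b : ℕ) (t : A) :
    t ∈ relFil ε w b ↔ ∃ z ∈ gammaFil ε b, w * z = t :=
  Ideal.mem_span_singleton_mul

theorem relFil_anti (ε : A →+* K) (w : A) {b b' : ℕ} (h : b ≤ b') :
    relFil ε w b' ≤ relFil ε w b :=
  Ideal.mul_mono_right ((mulFil_gammaFil ε).anti _ _ h)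

theorem fil_mul_relFil (ε : A →+* K) (w : A) (a b : ℕ) :
    gammaFil ε a * relFil ε w b ≤ relFil ε w (a + b) := by
  rw [Ideal.mul_le]
  intro r hr s hs
  obtain ⟨z, hz, rfl⟩ := (mem_relFil ε w b s).mp hs
  exact (mem_relFil ε w (a + b) _).mpr
    ⟨r * z, (mulFil_gammaFil ε).mul_mem _ _ _ _ hr hz, by ring⟩

theorem relFil_mul_relFil (ε : A →+* K) {w : A} (hw : w ∈ gammaFil ε 1) (b b' : ℕ) :
    relFil ε w b * relFil ε w b' ≤ relFil ε w (b + b' + 1) := by
  rw [Ideal.mul_le]
  intro r hr s hs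
  obtain ⟨z, hz, rfl⟩ := (mem_relFil ε w b r).mp hr
  obtain ⟨z', hz', rfl⟩ := (mem_relFil ε w b' s).mp hs
  refine (mem_relFil ε w _ _).mpr ⟨w * (z * z'), ?_, by ring⟩
  have := (mulFil_gammaFil ε).mul_mem _ _ _ _ hw ((mulFil_gammaFil ε).mul_mem _ _ _ _ hz hz')
  rwa [show 1 + (b + b') = b + b' + 1 by ring] at this

theorem isLambdaIdeal_relFil (hA : IsSpecial A) (ε : A →+* K) {w : A}
    (hw : w ∈ lamStable (Ideal.span {w})) (b : ℕ) : IsLambdaIdeal (relFil ε w b) := by
  intro j hj t ht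
  obtain ⟨z, hz, rfl⟩ := (mem_relFil ε w b t).mp ht
  exact lamStable_mul' hA hw (fun k hk => isLambdaIdeal_gammaFil hA ε b k hk z hz) j hj

end rel

section main

variable {K : Type u} [CommRing K] [LambdaOps K] [BinomialRing K]
  {A : Type v} [CommRing A] [LambdaOps A] [Algebra K A]

/-- the relative key congruence: for `u` of rank `d`, `w = γ^d(u)` and `f ∈ Fil^b`,
`λ^j(f w) ≡ (-1)^(j-1) j^(b+d-1) f w` modulo `w Fil^(b+1)` -/
theorem lamCong_relFil (hKb : IsBinomial K) (hA : IsSpecial A) (ε : A →ₐ[K] K)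
    (hε : IsAugLambdaAlg K A ε) (d : ℕ) (hd : 1 ≤ d) {u : A} (hu : ε u = 0)
    (hrank : ∀ k, d < k → gamma k u = 0) (b : ℕ) {f : A} (hf : f ∈ gammaFil (ε : A →+* K) b) :
    f * gamma d u ∈ lamCong (relFil (ε : A →+* K) (gamma d u) b)
      (relFil (ε : A →+* K) (gamma d u) (b + 1)) (lamConst (b + d)) := by
  set ε' : A →+* K := (ε : A →+* K) with hε'
  set w := gamma d u with hw
  have hF := mulFil_gammaFil ε'
  have hwd : w ∈ gammaFil ε' d := gamma_mem_gammaFil ε' hu d
  have hw1 : w ∈ gammaFil ε' 1 := hF.anti _ _ hd hwd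
  have hbase := lam_top_gamma_div hA ε' d hd hu hrank
  have hwst : w ∈ lamStable (Ideal.span {w}) := by
    intro j hj
    obtain ⟨l, hl, -⟩ := hbase j hj
    rw [← hl]
    exact Ideal.mul_mem_left _ _ (Ideal.mem_span_singleton_self w)
  have hM : ∀ b, IsLambdaIdeal (relFil ε' w b) := isLambdaIdeal_relFil hA ε' hwst
  have hMM : ∀ b, relFil ε' w b * relFil ε' w b ≤ relFil ε' w (b + 1) := fun b =>
    le_trans (relFil_mul_relFil ε' hw1 b b) (relFil_anti ε' w (by omega))
  -- the base congruence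
  have hw0 : w ∈ lamCong (relFil ε' w 0) (relFil ε' w 1) (lamConst d) := by
    refine ⟨(mem_relFil ε' w 0 w).mpr ⟨1, hF.one_mem, mul_one w⟩, fun j hj => ?_⟩
    obtain ⟨l, hl, hl'⟩ := hbase j hj
    refine (mem_relFil ε' w 1 _).mpr ⟨l - ((lamConst d j : ℤ) : A), hl', ?_⟩
    rw [← hl]
    ring
  -- products with generators
  have hprod : ∀ (a : ℕ) (g : A), 1 ≤ a →
      g ∈ lamCong (gammaFil ε' a) (gammaFil ε' (a + 1)) (lamConst a) →
      g * w ∈ lamCong (relFil ε' w a) (relFil ε' w (a + 1)) (lamConst (a + d)) := by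
    intro a g ha hg
    refine ⟨(mem_relFil ε' w a _).mpr ⟨g, hg.1, mul_comm w g⟩, fun j hj => ?_⟩
    have h := lamCong_mul' hA (T := relFil ε' w (a + 1)) (isLambdaIdeal_gammaFil hA ε' a) (hM 0)
      ?_ ?_ ?_ ?_ hg hw0 j hj
    · rwa [lamConst_mul a d j ha hd] at h
    · refine le_trans (Ideal.mul_mono_left ?_) (le_trans (fil_mul_relFil ε' w (a + a) 0)
        (relFil_anti ε' w (by omega)))
      rw [Ideal.mul_le]
      exact fun r hr s hs => hF.mul_mem _ _ _ _ hr hs
    · exact le_trans (Ideal.mul_mono_right (hMM 0)) (le_trans (fil_mul_relFil ε' w a (0 + 1))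
        (relFil_anti ε' w (by omega)))
    · exact le_trans (fil_mul_relFil ε' w (a + 1) 0) (relFil_anti ε' w (by omega))
    · exact fil_mul_relFil ε' w a 1
  -- scalars and augmentation-zero multiples
  have hsplit : ∀ (a t : A), t ∈ lamCong (relFil ε' w b) (relFil ε' w (b + 1)) (lamConst (b + d)) →
      a * t ∈ lamCong (relFil ε' w b) (relFil ε' w (b + 1)) (lamConst (b + d)) := by
    intro a t ht
    have ha : a = (a - algebraMap K A (ε a)) + algebraMap K A (ε a) := by ring
    rw [ha, add_mul]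
    refine lamCong_add (hM b) (hMM b) _ ?_ ?_
    · apply mem_lamCong_of_mem' (hM (b + 1)) (relFil_anti ε' w (by omega))
      have h0 : a - algebraMap K A (ε a) ∈ gammaFil ε' 1 := by
        have h00 : ε' (a - algebraMap K A (ε a)) = 0 := by
          change ε (a - algebraMap K A (ε a)) = 0
          rw [map_sub, AlgHom.commutes, Algebra.algebraMap_self, RingHom.id_apply, sub_self]
        have := gamma_mem_gammaFil ε' h00 1
        rwa [gamma_one] at this
      have := fil_mul_relFil ε' w 1 b (Ideal.mul_mem_mul h0 ht.1)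
      rwa [add_comm] at this
    · exact lamCong_smul' hKb hA hε.isLambdaAlg (hM b) (hMM b) _ _ ht
  suffices h : ∀ a : A, a * f * w ∈ lamCong (relFil ε' w b) (relFil ε' w (b + 1))
      (lamConst (b + d)) by simpa using h 1
  unfold gammaFil at hf
  induction hf using Submodule.span_induction with
  | mem g hg =>
    obtain ⟨l, hl, hml, rfl⟩ := hg
    intro a
    rw [mul_assoc]
    rcases Nat.lt_or_ge b (l.map Prod.fst).sum with hlt | hge
    · apply mem_lamCong_of_mem' (hM (b + 1)) (relFil_anti ε' w (by omega))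
      apply Ideal.mul_mem_left
      exact (mem_relFil ε' w (b + 1) _).mpr
        ⟨_, Ideal.subset_span ⟨l, hl, hlt, rfl⟩, mul_comm _ _⟩
    · have hEq : (l.map Prod.fst).sum = b := le_antisymm hge hml
      apply hsplit
      rcases Nat.eq_zero_or_pos b with hb0 | hbpos
      · rw [prod_gamma_eq_one l (by omega), one_mul, hb0]
        simp only [zero_add]
        exact hw0
      · have hg0 := prod_gamma_lamCong hA ε' l hl (by omega)
        rw [hEq] at hg0
        exact hprod b _ hbpos hg0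
  | zero =>
    intro a
    rw [mul_zero, zero_mul]
    exact lamCong_zero (hM b) (hMM b) _
  | add x y _ _ hx hy =>
    intro a
    rw [mul_add, add_mul]
    exact lamCong_add (hM b) (hMM b) _ (hx a) (hy a)
  | smul c x _ hx =>
    intro a
    rw [smul_eq_mul, ← mul_assoc]
    exact hx (a * c)

theorem S8696_main (hKb : IsBinomial K) (hA : IsSpecial A) (ε : A →ₐ[K] K)
    (hε : IsAugLambdaAlg K A ε) (d : ℕ) (hd : 1 ≤ d) (N : A)
    (hN : ∀ k : ℕ, d < k → LambdaOps.lam k N = 0) (hNε : ε N = (d : K))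
    (hnzd : (∑ j ∈ range (d + 1), (-1 : A) ^ j * LambdaOps.lam j N) ∈ A⁰)
    (i : ℕ) (x : A) (hx : x ∈ gammaFil (ε : A →+* K) i) (y : A)
    (hy : y * (∑ j ∈ range (d + 1), (-1 : A) ^ j * LambdaOps.lam j N) =
      gamma (d + i) (x * (∑ j ∈ range (d + 1), (-1 : A) ^ j * LambdaOps.lam j N))) :
    y - (-1 : A) ^ (d + i - 1) * ((d + i - 1).factorial : A) * x ∈
      gammaFil (ε : A →+* K) (i + 1) := by
  set e : A := ∑ j ∈ range (d + 1), (-1 : A) ^ j * LambdaOps.lam j N with he
  set u : A := N - (d : A) with hu_def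
  have hu : (ε : A →+* K) u = 0 := by
    change ε (N - (d : A)) = 0
    rw [map_sub, hNε, map_natCast, sub_self]
  have hrank : ∀ k, d < k → gamma k u = 0 :=
    gamma_sub_natCast_eq_zero hA.lam_one_eq_zero N d hN
  have htop : gamma d u = (-1) ^ d * e := gamma_sub_natCast_top hA.lam_one_eq_zero N d hN
  set s : A := (-1) ^ d with hs
  have hs2 : s * s = 1 := by
    rw [hs, ← pow_add, ← two_mul, pow_mul]
    simp
  have hx' : s * x ∈ gammaFil (ε : A →+* K) i := Ideal.mul_mem_left _ _ hx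
  have key := lamCong_relFil hKb hA ε hε d hd hu hrank i hx'
  have hxe : s * x * gamma d u = x * e := by
    rw [htop]
    linear_combination (x * e) * hs2
  rw [hxe] at key
  have h1 := gamma_sub_factorial_mem (T := relFil (ε : A →+* K) (gamma d u) (i + 1)) (d + i)
    (by omega) (x * e) (fun j hj => by
      have := key.2 j hj
      rwa [add_comm i d] at this)
  rw [← hy] at h1
  obtain ⟨z, hz, hz'⟩ := (mem_relFil _ _ _ _).mp h1
  have h2 : (s * z) * e = (y - (-1 : A) ^ (d + i - 1) * ((d + i - 1).factorial : A) * x) * e := by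
    rw [htop] at hz'
    linear_combination hz'
  rw [← (mul_cancel_right_mem_nonZeroDivisors hnzd).mp h2]
  exact Ideal.mul_mem_left _ _ hz

end main

end Groth.Agent.H43
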