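import Groth.Agent.H43.GammaProd
import Groth.Agent.H43.BinomScalar

set_option autoImplicit false
universe u v w

namespace Groth.Agent.H43

open LambdaRing MvPolynomial Finset Pointwise

section mul

variable {A : Type v} [CommRing A] [LambdaOps A]

/-- the good elements for a multiplicative filtration by ideals are stable under products -/
theorem gammaGood_mul (hA : IsSpecial A) {M : ℕ → Ideal A} (hM : MulFil (K := A) (A := A) M)
    {y z : A} (hy : y ∈ gammaGood (K := A) M) (hz : z ∈ gammaGood (K := A) M) :
    y * z ∈ gammaGood (K := A) M := by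
  intro i
  obtain ⟨P, hPw, hP⟩ := exists_gamma_mul_poly.{v} i
  rw [hP A hA y z, aeval_def, eval₂_eq']
  refine Ideal.sum_mem _ fun m hm => Ideal.mul_mem_left _ _ ?_
  rw [Fintype.prod_sum_type]
  simp only [Sum.elim_inl, Sum.elim_inr]
  refine hM.anti _ _ (hPw m hm) (hM.mul_mem _ _ _ _ ?_ ?_)
  · exact hM.prod_mem Finset.univ (fun k : Fin i => ((k : ℕ) + 1) * m (Sum.inl k)) _
      (fun k _ => hM.pow_mem (hy _) _)
  · exact hM.prod_mem Finset.univ (fun k : Fin i => ((k : ℕ) + 1) * m (Sum.inr k)) _
      (fun k _ => hM.pow_mem (hz _) _)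

end mul

section mapfil

variable {K : Type u} [CommRing K] {A : Type v} [CommRing A] [LambdaOps A]
  {B : Type w} [CommRing B] [LambdaOps B]

theorem map_gammaFil (εA : A →+* K) (εB : B →+* K) (f : A →+* B)
    (hf : ∀ (n : ℕ) (a : A), f (LambdaOps.lam n a) = LambdaOps.lam n (f a))
    (hε : ∀ a : A, εB (f a) = εA a) (j : ℕ) {y : A} (hy : y ∈ gammaFil εA j) :
    f y ∈ gammaFil εB j := by
  unfold gammaFil at hy
  induction hy using Submodule.span_induction with
  | mem y hy =>
    obtain ⟨l, hl, hj, rfl⟩ := hy
    apply Ideal.subset_span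
    refine ⟨l.map fun p => (p.1, f p.2), ?_, ?_, ?_⟩
    · intro p hp
      obtain ⟨q, hq, rfl⟩ := List.mem_map.mp hp
      simp only
      rw [hε]
      exact hl q hq
    · rw [List.map_map]
      exact hj
    · rw [map_list_prod, List.map_map, List.map_map]
      congr 1
      apply List.map_congr_left
      intro p _
      simp only [Function.comp_apply]
      exact map_gamma f hf p.1 p.2
  | zero => rw [map_zero]; exact zero_mem _
  | add x y _ _ hx hy => rw [map_add]; exact add_mem hx hy
  | smul a x _ hx => rw [smul_eq_mul, map_mul]; exact Ideal.mul_mem_left _ _ hx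

end mapfil

section rel

variable {K : Type u} [CommRing K] {A : Type v} [CommRing A] [LambdaOps A]
  {B : Type w} [CommRing B] [Algebra A B]

/-- the relative weight ideal -/
def relIdeal (εA : A →+* K) (g : ℕ → B) (k : ℕ) : Ideal B :=
  Ideal.span {b : B | ∃ (e : ℕ →₀ ℕ) (a : A),
    a ∈ gammaFil εA (k - e.sum fun j n => (j + 1) * n) ∧
    b = algebraMap A B a * e.prod fun j n => g j ^ n}

theorem mulFil_relIdeal (εA : A →+* K) (g : ℕ → B) :
    MulFil (K := B) (A := B) (fun k => relIdeal εA g k) where
  one_mem := by
    apply Ideal.subset_span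
    refine ⟨0, 1, ?_, by simp⟩
    simpa using (mulFil_gammaFil εA).one_mem
  mul_mem := by
    intro a b y z hy hz
    have h := Ideal.mul_mem_mul hy hz
    unfold relIdeal at h ⊢
    rw [Ideal.span_mul_span'] at h
    refine Ideal.span_mono ?_ h
    rintro _ ⟨y, ⟨e1, a1, h1, rfl⟩, z, ⟨e2, a2, h2, rfl⟩, rfl⟩
    refine ⟨e1 + e2, a1 * a2, ?_, ?_⟩
    · rw [Finsupp.sum_add_index' (fun _ => by simp) (fun _ _ _ => by ring)]
      exact (mulFil_gammaFil εA).anti _ _ (by omega)
        ((mulFil_gammaFil εA).mul_mem _ _ _ _ h1 h2)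
    · rw [Finsupp.prod_add_index' (fun _ => by simp) (fun _ _ _ => pow_add _ _ _), map_mul]
      ring
  anti := by
    intro a b hab
    apply Ideal.span_mono
    rintro y ⟨e, a', h1, h2⟩
    exact ⟨e, a', (mulFil_gammaFil εA).anti _ _ (by omega) h1, h2⟩

end rel

section final

variable {K : Type u} [CommRing K] [LambdaOps K] [BinomialRing K]
  {A : Type v} [CommRing A] [LambdaOps A] [Algebra K A]
  {B : Type w} [CommRing B] [LambdaOps B] [Algebra K B] [Algebra A B] [IsScalarTower K A B]

theorem S8698_main (hKb : IsBinomial K) (εA : A →ₐ[K] K)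
    (hB : IsSpecial B) (hAB : IsLambdaAlg A B) (εB : B →ₐ[K] K) (hεB : IsAugLambdaAlg K B εB)
    (hεAB : ∀ a : A, εB (algebraMap A B a) = εA a) (x : B) (hx : εB x = 0)
    (hgen : Algebra.adjoin A (Set.range fun j : ℕ => gamma (j + 1) x) = ⊤) (k : ℕ) :
    gammaFil (εB : B →+* K) k = relIdeal (εA : A →+* K) (fun j : ℕ => gamma (j + 1) x) k := by
  classical
  set g : ℕ → B := fun j => gamma (j + 1) x with hg
  have hV := mulFil_relIdeal (εA : A →+* K) g
  have hF := mulFil_gammaFil (εB : B →+* K)
  have hεg : ∀ j : ℕ, εB (g j) = 0 := by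
    intro j
    have := map_gamma (εB : B →+* K) (fun m a => hεB.map_lam m a) (j + 1) x
    rw [RingHom.coe_coe, hx, gamma_zero_arg, if_neg (Nat.succ_ne_zero _)] at this
    exact this
  have htop : ∀ a : A, a ∈ gammaFil (εA : A →+* K) 0 := by
    intro a
    have : gammaFil (εA : A →+* K) 0 = ⊤ :=
      (Ideal.eq_top_iff_one _).mpr (mulFil_gammaFil (εA : A →+* K)).one_mem
    rw [this]
    trivial
  apply le_antisymm
  · apply gammaFil_le_of_good (εB : B →+* K) hV
    intro z hz
    -- elements of the augmentation ideal of `A`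
    have hgoodA : ∀ a' : A, εA a' = 0 →
        algebraMap A B a' ∈ gammaGood (K := B) (fun k => relIdeal (εA : A →+* K) g k) := by
      intro a' ha' i
      rw [← map_gamma (algebraMap A B) (fun m a => hAB m a) i a']
      apply Ideal.subset_span
      refine ⟨0, gamma i a', ?_, by simp⟩
      simpa using gamma_mem_gammaFil (εA : A →+* K) ha' i
    -- monomials
    have hmono : ∀ e : ℕ →₀ ℕ, e ≠ 0 →
        (e.prod fun j n => g j ^ n) ∈ gammaGood (K := B) (fun k => relIdeal (εA : A →+* K) g k) := by
      intro e he i
      obtain ⟨H, hHw, hH⟩ := exists_gamma_poly_inf.{w} (monomial e (1 : ℤ))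
        (by rw [constantCoeff_monomial, if_neg he]) i
      have hH' := hH B hB x
      rw [aeval_monomial, map_one, one_mul] at hH'
      rw [hH', aeval_def, eval₂_eq]
      refine Ideal.sum_mem _ fun m hm => ?_
      apply Ideal.subset_span
      refine ⟨m, ((H.coeff m : ℤ) : A), ?_, ?_⟩
      · rw [Nat.sub_eq_zero_of_le (hHw m hm)]
        exact htop _
      · rw [map_intCast, eq_intCast]
        rfl
    have key : ∀ p : MvPolynomial ℕ A,
        aeval g p - algebraMap K B (εB (aeval g p)) ∈ gammaGoodSubgroup hV := by
      intro p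
      induction p using MvPolynomial.induction_on' with
      | monomial e a =>
        rw [aeval_monomial]
        have hsplit : algebraMap A B a = algebraMap A B (a - algebraMap K A (εA a)) +
            algebraMap K B (εA a) := by
          rw [map_sub, ← IsScalarTower.algebraMap_apply, sub_add_cancel]
        have ha' : εA (a - algebraMap K A (εA a)) = 0 := by
          rw [map_sub, AlgHom.commutes, Algebra.algebraMap_self_apply, sub_self]
        by_cases he : e = 0
        · subst he
          rw [Finsupp.prod_zero_index, mul_one, hεAB]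
          have : algebraMap A B a - algebraMap K B (εA a) =
              algebraMap A B (a - algebraMap K A (εA a)) := by
            rw [map_sub, ← IsScalarTower.algebraMap_apply]
          rw [this]
          exact hgoodA _ ha'
        · have h0 : εB (e.prod fun j n => g j ^ n) = 0 := by
            rw [map_finsuppProd]
            obtain ⟨j, hj⟩ := Finsupp.support_nonempty_iff.mpr he
            apply Finset.prod_eq_zero hj
            beta_reduce
            rw [map_pow, hεg, zero_pow (Finsupp.mem_support_iff.mp hj)]
          rw [map_mul, h0, mul_zero, map_zero, sub_zero, hsplit, add_mul]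
          refine add_mem ?_ ?_
          · exact gammaGood_mul hB hV (hgoodA _ ha') (hmono e he)
          · exact gammaGood_smul_binom hKb hB hεB.isLambdaAlg hV _ (hmono e he)
      | add p q hp hq =>
        have : aeval g (p + q) - algebraMap K B (εB (aeval g (p + q))) =
            (aeval g p - algebraMap K B (εB (aeval g p))) +
              (aeval g q - algebraMap K B (εB (aeval g q))) := by
          rw [map_add, map_add, map_add]; ring
        rw [this]
        exact add_mem hp hq
    have hzmem : z ∈ (aeval g : MvPolynomial ℕ A →ₐ[A] B).range := by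
      rw [← Algebra.adjoin_range_eq_range_aeval, hgen]
      trivial
    obtain ⟨p, rfl⟩ := hzmem
    have := key p
    have hz' : εB (aeval g p) = 0 := hz
    rwa [hz', map_zero, sub_zero] at this
  · unfold relIdeal
    rw [Ideal.span_le]
    rintro b ⟨e, a, ha, rfl⟩
    have h1 : algebraMap A B a ∈ gammaFil (εB : B →+* K) (k - e.sum fun j n => (j + 1) * n) :=
      map_gammaFil (εA : A →+* K) (εB : B →+* K) (algebraMap A B) (fun m a => hAB m a) hεAB _ ha
    have h2 : (e.prod fun j n => g j ^ n) ∈
        gammaFil (εB : B →+* K) (e.sum fun j n => (j + 1) * n) :=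
      hF.prod_mem e.support (fun j => (j + 1) * e j) (fun j => g j ^ e j)
        (fun j _ => hF.pow_mem (gamma_mem_gammaFil (εB : B →+* K) hx (j + 1)) (e j))
    exact hF.anti _ _ (by omega) (hF.mul_mem _ _ _ _ h1 h2)

end final

end Groth.Agent.H43
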