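import Groth.Agent.H43.GammaGen
import Groth.Prelude.Def_LambdaSp

set_option autoImplicit false
universe u v

namespace Groth.Agent.H43

open LambdaRing Finset Pointwise

section

variable {K : Type u} [CommRing K] {A : Type v} [CommRing A] [LambdaOps A] [Algebra K A]
  (ε : A →ₐ[K] K) (S : Set A)

/-- the generators built from `S` -/
def genS (n : ℕ) : Set A :=
  {y : A | ∃ l : List (ℕ × A), (∀ p ∈ l, p.2 ∈ S) ∧ n ≤ (l.map Prod.fst).sum ∧
    y = (l.map fun p => gamma p.1 (p.2 - algebraMap K A (ε p.2))).prod}

theorem genS_mul (a b : ℕ) : genS ε S a * genS ε S b ⊆ genS ε S (a + b) := by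
  rintro _ ⟨y, ⟨l1, h1, h1', rfl⟩, z, ⟨l2, h2, h2', rfl⟩, rfl⟩
  refine ⟨l1 ++ l2, ?_, ?_, ?_⟩
  · intro p hp
    rcases List.mem_append.mp hp with hp | hp
    · exact h1 p hp
    · exact h2 p hp
  · rw [List.map_append, List.sum_append]; omega
  · simp only [List.map_append, List.prod_append]

theorem mulFil_genS : MulFil (fun n => Submodule.span K (genS ε S n)) where
  one_mem := Submodule.subset_span ⟨[], by simp, by simp, by simp⟩
  mul_mem := by
    intro a b y z hy hz
    have h := Submodule.mul_mem_mul hy hz
    rw [Submodule.span_mul_span] at h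
    exact Submodule.span_mono (genS_mul ε S a b) h
  anti := by
    intro a b hab
    apply Submodule.span_mono
    rintro y ⟨l, h1, h2, h3⟩
    exact ⟨l, h1, hab.trans h2, h3⟩

theorem sub_eps_mem_good (hS : AddSubgroup.closure S = ⊤) (x : A) :
    x - algebraMap K A (ε x) ∈ gammaGood (fun n => Submodule.span K (genS ε S n)) := by
  have hx : x ∈ AddSubgroup.closure S := by rw [hS]; trivial
  have hM := mulFil_genS ε S
  induction hx using AddSubgroup.closure_induction with
  | mem s hs =>
    intro i
    apply Submodule.subset_span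
    exact ⟨[(i, s)], by simpa using hs, by simp, by simp⟩
  | zero => simpa using gammaGood_zero hM
  | add x y _ _ hx hy =>
    have : x + y - algebraMap K A (ε (x + y)) =
        (x - algebraMap K A (ε x)) + (y - algebraMap K A (ε y)) := by
      rw [map_add, map_add]; ring
    rw [this]
    exact gammaGood_add hM hx hy
  | neg x _ hx =>
    have : -x - algebraMap K A (ε (-x)) = -(x - algebraMap K A (ε x)) := by
      rw [map_neg, map_neg]; ring
    rw [this]
    exact gammaGood_neg hM hx

theorem gammaFil_eq_span_genS (hS : AddSubgroup.closure S = ⊤) (n : ℕ) :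
    (gammaFil (ε : A →+* K) n).restrictScalars K = Submodule.span K (genS ε S n) := by
  have hM := mulFil_genS ε S
  apply le_antisymm
  · intro x hx
    rw [Submodule.restrictScalars_mem] at hx
    unfold gammaFil at hx
    induction hx using Submodule.span_induction with
    | mem y hy =>
      obtain ⟨l, hl, hn, rfl⟩ := hy
      refine hM.anti _ _ hn (prod_gamma_mem hM l fun p hp => ?_)
      have := sub_eps_mem_good ε S hS p.2
      have h0 : ε p.2 = 0 := hl p hp
      rwa [h0, map_zero, sub_zero] at this
    | zero => exact zero_mem _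
    | add x y _ _ hx hy => exact add_mem hx hy
    | smul a x _ hx =>
      have h1 : a • x = (a - algebraMap K A (ε a)) * x + ε a • x := by
        rw [smul_eq_mul, Algebra.smul_def]; ring
      rw [h1]
      refine add_mem ?_ (Submodule.smul_mem _ _ hx)
      have h2 := sub_eps_mem_good ε S hS a 1
      rw [gamma_one] at h2
      exact hM.anti _ _ (by omega) (hM.mul_mem 1 n _ _ h2 hx)
  · rw [Submodule.span_le]
    rintro y ⟨l, hl, hn, rfl⟩
    rw [SetLike.mem_coe, Submodule.restrictScalars_mem]
    apply Ideal.subset_span
    refine ⟨l.map fun p => (p.1, p.2 - algebraMap K A (ε p.2)), ?_, ?_, ?_⟩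
    · intro p hp
      obtain ⟨q, _, rfl⟩ := List.mem_map.mp hp
      simp
    · rw [List.map_map]
      exact hn
    · rw [List.map_map]
      rfl

end

end Groth.Agent.H43
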