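import Mathlib

set_option autoImplicit false
universe u v

namespace Groth.Agent.H43.S8705aux

/-- a symmetric 2-cocycle on `P` with values in `Q` -/
structure SymCocycle (P : Type u) (Q : Type v) [AddCommGroup P] [AddCommGroup Q] where
  c : P → P → Q
  symm : ∀ p q, c p q = c q p
  coc : ∀ p q r, c (p + q) r + c p q = c p (q + r) + c q r

variable {P : Type u} {Q : Type v} [AddCommGroup P] [AddCommGroup Q]

theorem SymCocycle.c_zero_right (γ : SymCocycle P Q) (p : P) : γ.c p 0 = γ.c 0 0 := by
  have h := γ.coc p 0 0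
  rw [add_zero, add_zero] at h
  exact add_left_cancel h

/-- the extension attached to a symmetric cocycle -/
@[ext] structure Ext (γ : SymCocycle P Q) where
  a : Q
  p : P

namespace Ext

variable (γ : SymCocycle P Q)

instance : Add (Ext γ) := ⟨fun x y => ⟨x.a + y.a + γ.c x.p y.p, x.p + y.p⟩⟩
instance : Zero (Ext γ) := ⟨⟨-γ.c 0 0, 0⟩⟩
instance : Neg (Ext γ) := ⟨fun x => ⟨-x.a - γ.c (-x.p) x.p - γ.c 0 0, -x.p⟩⟩

@[simp] theorem add_a (x y : Ext γ) : (x + y).a = x.a + y.a + γ.c x.p y.p := rfl
@[simp] theorem add_p (x y : Ext γ) : (x + y).p = x.p + y.p := rfl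
@[simp] theorem zero_a : (0 : Ext γ).a = -γ.c 0 0 := rfl
@[simp] theorem zero_p : (0 : Ext γ).p = 0 := rfl
@[simp] theorem neg_a (x : Ext γ) : (-x).a = -x.a - γ.c (-x.p) x.p - γ.c 0 0 := rfl
@[simp] theorem neg_p (x : Ext γ) : (-x).p = -x.p := rfl

instance : AddCommGroup (Ext γ) :=
  { AddGroup.ofLeftAxioms (G := Ext γ)
      (by
        intro x y z
        ext
        · simp only [add_a, add_p]
          have := γ.coc x.p y.p z.p
          have h : x.a + y.a + γ.c x.p y.p + z.a + γ.c (x.p + y.p) z.p =
              x.a + y.a + z.a + (γ.c (x.p + y.p) z.p + γ.c x.p y.p) := by abel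
          rw [h, this]
          abel
        · simp only [add_p, add_assoc])
      (by
        intro x
        ext
        · simp only [add_a, zero_a, zero_p]
          rw [γ.symm 0 x.p, γ.c_zero_right x.p]
          abel
        · simp)
      (by
        intro x
        ext
        · simp only [add_a, neg_a, neg_p, zero_a]
          abel
        · simp) with
    add_comm := by
      intro x y
      ext
      · simp only [add_a]
        rw [γ.symm x.p y.p]
        abel
      · simp only [add_p, add_comm] }

/-- the inclusion of `Q` -/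
def ι : Q →+ Ext γ where
  toFun a := ⟨a - γ.c 0 0, 0⟩
  map_zero' := by ext <;> simp
  map_add' := by
    intro a b
    ext
    · simp only [add_a]
      abel
    · simp

theorem ι_injective : Function.Injective (ι γ) := by
  intro a b h
  have := congrArg Ext.a h
  simpa [ι] using this

/-- the set-theoretic section -/
def s (p : P) : Ext γ := ⟨0, p⟩

theorem s_add (p q : P) : s γ p + s γ q = s γ (p + q) + ι γ (γ.c p q) := by
  ext
  · simp only [add_a, s, ι, AddMonoidHom.coe_mk, ZeroHom.coe_mk, γ.c_zero_right]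
    abel
  · simp [s, ι]

end Ext

end Groth.Agent.H43.S8705aux

namespace Groth.Agent.H43.S8705aux

open Finsupp

section main

variable (P : Type u) [AddCommGroup P]

/-- augmentation -/
noncomputable abbrev εm : (P →₀ ℤ) →ₗ[ℤ] P := Finsupp.linearCombination ℤ (fun p : P => p)

noncomputable abbrev d0 : (P × P →₀ ℤ) →ₗ[ℤ] (P →₀ ℤ) := Finsupp.linearCombination ℤ
  (fun pq : P × P => Finsupp.single (pq.1 + pq.2) 1 - Finsupp.single pq.1 1 - Finsupp.single pq.2 1)

noncomputable abbrev d1 : (P × P × P →₀ ℤ) →ₗ[ℤ] (P × P →₀ ℤ) := Finsupp.linearCombination ℤ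
  (fun t : P × P × P => Finsupp.single (t.1 + t.2.1, t.2.2) 1 - Finsupp.single (t.1, t.2.1 + t.2.2) 1
    + Finsupp.single (t.1, t.2.1) 1 - Finsupp.single (t.2.1, t.2.2) 1)

noncomputable abbrev d1' : (P × P →₀ ℤ) →ₗ[ℤ] (P × P →₀ ℤ) := Finsupp.linearCombination ℤ
  (fun pq : P × P => Finsupp.single pq 1 - Finsupp.single (pq.2, pq.1) 1)

theorem ε_surjective : Function.Surjective (εm P) := by
  intro p
  exact ⟨Finsupp.single p 1, by simp⟩

theorem ε_comp_d0 : (εm P).comp (d0 P) = 0 := by
  apply Finsupp.lhom_ext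
  intro pq n
  simp [Finsupp.linearCombination_single, sub_eq_add_neg]

theorem d0_comp_d1 : (d0 P).comp (d1 P) = 0 := by
  apply Finsupp.lhom_ext
  intro t n
  simp only [LinearMap.comp_apply, Finsupp.linearCombination_single, map_smul, map_sub, map_add,
    one_smul, LinearMap.zero_apply]
  rw [add_assoc t.1 t.2.1 t.2.2]
  abel_nf

theorem d0_comp_d1' : (d0 P).comp (d1' P) = 0 := by
  apply Finsupp.lhom_ext
  intro t n
  simp only [LinearMap.comp_apply, Finsupp.linearCombination_single, map_smul, map_sub,
    one_smul, LinearMap.zero_apply]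
  rw [add_comm t.2 t.1]
  abel_nf

theorem ker_ε : LinearMap.ker (εm P) = LinearMap.range (d0 P) := by
  apply le_antisymm
  · intro f hf
    rw [LinearMap.mem_ker] at hf
    -- the section P → coker d0
    let Q0 := (P →₀ ℤ) ⧸ LinearMap.range (d0 P)
    let mk : (P →₀ ℤ) →+ Q0 := (LinearMap.range (d0 P)).mkQ.toAddMonoidHom
    let s : P →+ Q0 := AddMonoidHom.mk' (fun p => mk (Finsupp.single p 1)) (by
      intro p q
      rw [← sub_eq_zero, ← map_add, ← map_sub]
      change (LinearMap.range (d0 P)).mkQ _ = 0
      rw [Submodule.mkQ_apply, Submodule.Quotient.mk_eq_zero]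
      refine ⟨Finsupp.single (p, q) 1, ?_⟩
      simp only [Finsupp.linearCombination_single, one_smul]
      abel)
    have hs : s.comp (εm P).toAddMonoidHom = mk := by
      apply Finsupp.addHom_ext
      intro p n
      simp only [AddMonoidHom.comp_apply, LinearMap.toAddMonoidHom_coe,
        Finsupp.linearCombination_single, map_zsmul]
      change n • mk (Finsupp.single p 1) = mk (Finsupp.single p n)
      rw [← map_zsmul, Finsupp.smul_single, smul_eq_mul, mul_one]
    have h2 : mk f = 0 := by
      rw [← hs, AddMonoidHom.comp_apply, LinearMap.toAddMonoidHom_coe, hf, map_zero]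
    change (LinearMap.range (d0 P)).mkQ f = 0 at h2
    rwa [Submodule.mkQ_apply, Submodule.Quotient.mk_eq_zero] at h2
  · exact LinearMap.range_le_ker_iff.mpr (ε_comp_d0 P)

end main

end Groth.Agent.H43.S8705aux

namespace Groth.Agent.H43.S8705aux

open Finsupp

section main2

variable (P : Type u) [AddCommGroup P]

/-- the submodule of relations -/
noncomputable abbrev Rel : Submodule ℤ (P × P →₀ ℤ) := LinearMap.range (d1 P) ⊔ LinearMap.range (d1' P)

/-- the universal symmetric cocycle -/
noncomputable def univCocycle : SymCocycle P ((P × P →₀ ℤ) ⧸ Rel P) where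
  c p q := (Rel P).mkQ (Finsupp.single (p, q) 1)
  symm := by
    intro p q
    rw [← sub_eq_zero, ← map_sub, Submodule.mkQ_apply, Submodule.Quotient.mk_eq_zero]
    apply Submodule.mem_sup_right
    exact ⟨Finsupp.single (p, q) 1, by simp [Finsupp.linearCombination_single]⟩
  coc := by
    intro p q r
    rw [← sub_eq_zero, ← map_add, ← map_add, ← map_sub, Submodule.mkQ_apply,
      Submodule.Quotient.mk_eq_zero]
    apply Submodule.mem_sup_left
    refine ⟨Finsupp.single (p, q, r) 1, ?_⟩
    simp only [Finsupp.linearCombination_single, one_smul]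
    abel

theorem ker_d0 : LinearMap.ker (d0 P) = Rel P := by
  apply le_antisymm
  · intro f hf
    rw [LinearMap.mem_ker] at hf
    let γ := univCocycle P
    let φ : (P →₀ ℤ) →+ Ext γ :=
      Finsupp.liftAddHom (fun p => (zmultiplesHom (Ext γ)) (Ext.s γ p))
    have hφ : ∀ (p : P) (n : ℤ), φ (Finsupp.single p n) = n • Ext.s γ p := by
      intro p n
      simp [φ]
    have key : φ.comp (d0 P).toAddMonoidHom =
        -((Ext.ι γ).comp (Rel P).mkQ.toAddMonoidHom) := by
      apply Finsupp.addHom_ext
      intro pq n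
      obtain ⟨p, q⟩ := pq
      simp only [AddMonoidHom.comp_apply, LinearMap.toAddMonoidHom_coe,
        Finsupp.linearCombination_single, AddMonoidHom.neg_apply]
      rw [map_zsmul, map_sub, map_sub, hφ, hφ, hφ, one_smul, one_smul, one_smul]
      have h1 := Ext.s_add γ p q
      have h2 : Ext.s γ (p + q) - Ext.s γ p - Ext.s γ q = -(Ext.ι γ (γ.c p q)) := by
        rw [sub_sub, h1]; abel
      rw [h2]
      have h3 : (Rel P).mkQ (Finsupp.single (p, q) n) = n • γ.c p q := by
        change _ = n • (Rel P).mkQ (Finsupp.single (p, q) 1)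
        rw [← map_zsmul, Finsupp.smul_single, smul_eq_mul, mul_one]
      rw [h3, map_zsmul, smul_neg]
    have h4 := DFunLike.congr_fun key f
    simp only [AddMonoidHom.comp_apply, LinearMap.toAddMonoidHom_coe, hf, map_zero,
      AddMonoidHom.neg_apply] at h4
    have h5 : Ext.ι γ ((Rel P).mkQ f) = 0 := by
      rw [← neg_eq_zero]; exact h4.symm
    have h6 := Ext.ι_injective γ (h5.trans (map_zero _).symm)
    rwa [Submodule.mkQ_apply, Submodule.Quotient.mk_eq_zero] at h6
  · apply sup_le
    · exact LinearMap.range_le_ker_iff.mpr (d0_comp_d1 P)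
    · exact LinearMap.range_le_ker_iff.mpr (d0_comp_d1' P)

theorem main : Function.Surjective (εm P) ∧ LinearMap.ker (εm P) = LinearMap.range (d0 P) ∧
    LinearMap.ker (d0 P) = LinearMap.range (d1 P) ⊔ LinearMap.range (d1' P) :=
  ⟨ε_surjective P, ker_ε P, ker_d0 P⟩

end main2

end Groth.Agent.H43.S8705aux
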