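import Groth.Agent.H43.TorLES

set_option autoImplicit false
universe u

namespace Groth.Agent.H43.TorLES

open CategoryTheory CategoryTheory.Limits

section

variable (R B' B C S : Type u) [CommRing R] [CommRing B'] [CommRing B]
  [CommRing C] [CommRing S] [Algebra R B'] [Algebra R B] [Algebra R C] [Algebra R S]
  (f : B' →ₐ[R] B) (g : C →ₐ[R] B)

/-- the fibre product -/
abbrev fibProd : Subalgebra R (B' × C) :=
  AlgHom.equalizer (f.comp (AlgHom.fst R B' C)) (g.comp (AlgHom.snd R B' C))

/-- `ker f → B'` -/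
noncomputable def sc1 : ShortComplex (ModuleCat.{u} R) :=
  ShortComplex.mk (ModuleCat.ofHom (LinearMap.ker f.toLinearMap).subtype)
    (ModuleCat.ofHom f.toLinearMap) (by
      ext x
      exact x.2)

theorem sc1_shortExact (hf : Function.Surjective f) : (sc1 R B' B f).ShortExact where
  exact := by
    rw [ShortComplex.ShortExact.moduleCat_exact_iff_function_exact]
    intro y
    constructor
    · intro hy
      exact ⟨⟨y, hy⟩, rfl⟩
    · rintro ⟨x, rfl⟩
      exact x.2
  mono_f := by
    rw [ModuleCat.mono_iff_injective]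
    exact Subtype.val_injective
  epi_g := by
    rw [ModuleCat.epi_iff_surjective]
    exact hf

/-- `ker f → P`, `b' ↦ (b', 0)` -/
def kerToFib : LinearMap.ker f.toLinearMap →ₗ[R] fibProd R B' B C f g where
  toFun x := ⟨(x.1, 0), by
    change f x.1 = g 0
    rw [map_zero]
    exact x.2⟩
  map_add' x y := by
    apply Subtype.ext
    simp
  map_smul' r x := by
    apply Subtype.ext
    simp

/-- `P → C` -/
def fibToC : fibProd R B' B C f g →ₗ[R] C where
  toFun x := x.1.2
  map_add' x y := rfl
  map_smul' r x := rfl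

noncomputable def sc2 : ShortComplex (ModuleCat.{u} R) :=
  ShortComplex.mk (ModuleCat.ofHom (kerToFib R B' B C f g))
    (ModuleCat.ofHom (fibToC R B' B C f g)) (by
      ext x
      rfl)

theorem sc2_shortExact (hf : Function.Surjective f) : (sc2 R B' B C f g).ShortExact where
  exact := by
    rw [ShortComplex.ShortExact.moduleCat_exact_iff_function_exact]
    intro y
    constructor
    · intro hy
      have hy' : y.1.2 = 0 := hy
      have hmem : f y.1.1 = g y.1.2 := y.2
      refine ⟨⟨y.1.1, ?_⟩, ?_⟩
      · change f y.1.1 = 0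
        rw [hmem, hy', map_zero]
      · apply Subtype.ext
        apply Prod.ext
        · rfl
        · exact hy'.symm
    · rintro ⟨x, rfl⟩
      rfl
  mono_f := by
    rw [ModuleCat.mono_iff_injective]
    intro x y hxy
    have := congrArg (fun z : fibProd R B' B C f g => z.1.1) hxy
    exact Subtype.ext this
  epi_g := by
    rw [ModuleCat.epi_iff_surjective]
    intro c
    obtain ⟨b', hb'⟩ := hf (g c)
    exact ⟨⟨(b', c), hb'⟩, rfl⟩

theorem S8710_main (hf : Function.Surjective f) [Module.Flat R B'] (n : ℕ)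
    (hC : ∀ i : ℕ, 0 < i → i < n →
      IsZero (((Tor (ModuleCat.{u} R) i).obj (ModuleCat.of R C)).obj (ModuleCat.of R S)))
    (hB : ∀ i : ℕ, 0 < i → i ≤ n →
      IsZero (((Tor (ModuleCat.{u} R) i).obj (ModuleCat.of R B)).obj (ModuleCat.of R S))) :
    ∀ i : ℕ, 0 < i → i < n →
      IsZero (((Tor (ModuleCat.{u} R) i).obj (ModuleCat.of R ↥(fibProd R B' B C f g))).obj
        (ModuleCat.of R S)) := by
  intro i hi0 hin
  obtain ⟨j, rfl⟩ := Nat.exists_eq_succ_of_ne_zero (Nat.pos_iff_ne_zero.mp hi0)
  have hker : IsZero (((Tor (ModuleCat.{u} R) (j + 1)).obj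
      (ModuleCat.of R (LinearMap.ker f.toLinearMap))).obj (ModuleCat.of R S)) := by
    refine isZero_tor_left (sc1 R B' B f) (sc1_shortExact R B' B f hf) (ModuleCat.of R S) (j + 1)
      ?_ ?_
    · exact hB (j + 1 + 1) (Nat.succ_pos _) hin
    · haveI : Module.Flat R ↑(sc1 R B' B f).X₂ := by
        change Module.Flat R B'
        infer_instance
      exact isZero_tor_flat (sc1 R B' B f).X₂ (ModuleCat.of R S) j
  exact isZero_tor_mid (sc2 R B' B C f g) (sc2_shortExact R B' B C f g hf) (ModuleCat.of R S)
    (j + 1) hker (hC (j + 1) hi0 hin)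

end

end Groth.Agent.H43.TorLES
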