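import Groth.Agent.H43.SigmaCoh1

/-!
# Cohomology of arbitrary coproducts of modules on a qcqs scheme (helper43)

* `sigmaHom M p : (⨁ k, H^p(X, M k)) →+ H^p(X, ∐ M)`, `sigmaHom_injective` (always),
  `sigmaHom_bijective` (qcqs, index type in `Type u`), `sigmaHom_bijective_of_equiv`,
  `sigmaHom_bijective_nat` (index `ℕ`, unfolded statement).
-/

set_option autoImplicit false
universe u
noncomputable section
namespace Groth.Agent.H43.SigmaCoh
open CategoryTheory CategoryTheory.Limits Opposite TopologicalSpace AlgebraicGeometry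

variable {X : Scheme.{u}}

/-- the canonical map from the direct sum of the cohomologies of the summands -/
def sigmaHom {I : Type*} [DecidableEq I] (M : I → X.Modules) [HasCoproduct M] (p : ℕ) :
    (DirectSum I fun k => Coh.HH X (M k) p) →+ Coh.HH X (∐ M) p :=
  DirectSum.toAddMonoid fun k => Hm (Sigma.ι M k) p

lemma sigmaHom_of {I : Type*} [DecidableEq I] (M : I → X.Modules) [HasCoproduct M] (p : ℕ) (k : I)
    (z : Coh.HH X (M k) p) :
    sigmaHom M p (DirectSum.of (fun k => Coh.HH X (M k) p) k z) = Hm (Sigma.ι M k) p z :=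
  DirectSum.toAddMonoid_of _ _ _

lemma Hm_pr_sigmaHom {I : Type*} [DecidableEq I] (M : I → X.Modules) [HasCoproduct M] (p : ℕ)
    (x : DirectSum I fun k => Coh.HH X (M k) p) (k : I) :
    Hm (pr M k) p (sigmaHom M p x) = x k := by
  induction x using DirectSum.induction_on with
  | zero => rw [map_zero, map_zero]; rfl
  | of j v =>
    rw [sigmaHom_of, ← Hm_comp]
    by_cases h : j = k
    · subst h
      rw [ι_pr_self, Hm_id, DirectSum.of_eq_same]
    · rw [ι_pr_ne M k j h, Hm_zero, DirectSum.of_eq_of_ne _ _ _ (Ne.symm h)]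
  | add x y hx hy => rw [map_add, map_add, hx, hy, DirectSum.add_apply]

theorem sigmaHom_injective {I : Type*} [DecidableEq I] (M : I → X.Modules) [HasCoproduct M]
    (p : ℕ) : Function.Injective (sigmaHom M p) := by
  rw [injective_iff_map_eq_zero]
  intro x hx
  ext k
  rw [← Hm_pr_sigmaHom, hx, map_zero]
  rfl

theorem sigmaHom_surjective_of_rep {I : Type*} [DecidableEq I] (M : I → X.Modules)
    [HasCoproduct M] (p : ℕ)
    (h : ∀ y : Coh.HH X (∐ M) p, ∃ (S : Finset I) (z : ∀ k, Coh.HH X (M k) p),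
      y = ∑ k ∈ S, Hm (Sigma.ι M k) p (z k)) : Function.Surjective (sigmaHom M p) := by
  intro y
  obtain ⟨S, z, rfl⟩ := h y
  refine ⟨∑ k ∈ S, DirectSum.of (fun k => Coh.HH X (M k) p) k (z k), ?_⟩
  rw [map_sum]
  exact Finset.sum_congr rfl fun k _ => sigmaHom_of M p k (z k)

/-- **cohomology commutes with coproducts** on a quasi-compact quasi-separated scheme
(index type in the universe of the scheme) -/
theorem sigmaHom_bijective [CompactSpace X] [QuasiSeparatedSpace X] {I : Type u} [DecidableEq I]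
    (M : I → X.Modules) (p : ℕ) : Function.Bijective (sigmaHom M p) :=
  ⟨sigmaHom_injective M p, sigmaHom_surjective_of_rep M p (exists_rep M p)⟩

lemma Hm_eqToHom_family {I' : Type*} (N : I' → X.Modules) (p : ℕ) (k k' : I') (h : k' = k)
    (hN : N k' = N k) (z : ∀ k, Coh.HH X (N k) p) : Hm (eqToHom hN) p (z k') = z k := by
  subst h
  rw [eqToHom_refl, Hm_id]

/-- transport of `exists_rep` along an equivalence of index types -/
theorem exists_rep_of_equiv [CompactSpace X] [QuasiSeparatedSpace X] {I' : Type u} {I : Type*}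
    (ε : I' ≃ I) (M : I → X.Modules) [HasCoproduct M] (p : ℕ) (y : Coh.HH X (∐ M) p) :
    ∃ (S : Finset I) (z : ∀ k, Coh.HH X (M k) p), y = ∑ k ∈ S, Hm (Sigma.ι M k) p (z k) := by
  classical
  let e : (∐ fun k => M (ε k)) ≅ ∐ M := Sigma.whiskerEquiv ε (fun _ => Iso.refl _)
  have he : ∀ k, Sigma.ι (fun k => M (ε k)) k ≫ e.hom = Sigma.ι M (ε k) := by
    intro k
    simp [e, Sigma.whiskerEquiv]
  obtain ⟨S', z', hz'⟩ := exists_rep (fun k => M (ε k)) p (Hm e.inv p y)
  have hy : y = Hm e.hom p (Hm e.inv p y) := by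
    rw [← Hm_comp, Iso.inv_hom_id, Hm_id]
  have h1 : ∀ k : I, M (ε (ε.symm k)) = M k := fun k => congrArg M (ε.apply_symm_apply k)
  refine ⟨S'.image ε, fun k => Hm (eqToHom (h1 k)) p (z' (ε.symm k)), ?_⟩
  rw [hy, hz', map_sum, Finset.sum_image (fun a _ b _ h => ε.injective h)]
  refine Finset.sum_congr rfl fun k _ => ?_
  rw [← Hm_comp, he]
  exact congrArg (Hm (Sigma.ι M (ε k)) p)
    (Hm_eqToHom_family (fun k => M (ε k)) p k (ε.symm (ε k)) (ε.symm_apply_apply k) (h1 (ε k))
      z').symm

/-- **cohomology commutes with coproducts** on a quasi-compact quasi-separated scheme, for an index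
type equivalent to one in the universe of the scheme -/
theorem sigmaHom_bijective_of_equiv [CompactSpace X] [QuasiSeparatedSpace X] {I' : Type u}
    {I : Type*} [DecidableEq I] (ε : I' ≃ I) (M : I → X.Modules) [HasCoproduct M] (p : ℕ) :
    Function.Bijective (sigmaHom M p) :=
  ⟨sigmaHom_injective M p, sigmaHom_surjective_of_rep M p (exists_rep_of_equiv ε M p)⟩

/-- **cohomology commutes with countable coproducts** on a quasi-compact quasi-separated scheme:
`⨁ k, H^p(X, M k) → H^p(X, ∐ M)` is bijective -/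
theorem sigmaHom_bijective_nat [CompactSpace X] [QuasiSeparatedSpace X] (M : ℕ → X.Modules)
    [HasCoproduct M] (p : ℕ) :
    Function.Bijective (DirectSum.toAddMonoid (fun k =>
      (Sheaf.H.map ((SheafOfModules.toSheaf.{u} X.ringCatSheaf).map (Sigma.ι M k)) p :
        Coh.HH X (M k) p →+ Coh.HH X (∐ M) p)) :
      (DirectSum ℕ fun k => Coh.HH X (M k) p) →+ Coh.HH X (∐ M) p) :=
  sigmaHom_bijective_of_equiv (Equiv.ulift.{u, 0}) M p

end Groth.Agent.H43.SigmaCoh
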