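import Groth.Agent.H45.ExtColim.SchemeColim
import Groth.Agent.H31.SheafOfModulesToSheaf
import Groth.Agent.H43.LerayLin1

/-!
# Cohomology of coproducts of modules: the filtered-colimit step (helper43)

`Hm φ p : H^p(X, M) →+ H^p(X, N)` is the map induced by `φ : M ⟶ N`.

* `exists_finset_lift`: on a quasi-compact quasi-separated scheme every class in `H^p(X, ∐ M)` comes
  from a finite sub-coproduct.
-/

set_option autoImplicit false
universe u
noncomputable section
namespace Groth.Agent.H43.SigmaCoh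
open CategoryTheory CategoryTheory.Limits Opposite TopologicalSpace AlgebraicGeometry

variable {X : Scheme.{u}}

/-- the forgetful functor from modules to abelian sheaves -/
abbrev T (X : Scheme.{u}) : X.Modules ⥤ Sheaf (Opens.grothendieckTopology X) AddCommGrpCat.{u} :=
  SheafOfModules.toSheaf.{u} X.ringCatSheaf

/-- the map on cohomology induced by a morphism of modules -/
def Hm {M N : X.Modules} (φ : M ⟶ N) (p : ℕ) : Coh.HH X M p →+ Coh.HH X N p :=
  Sheaf.H.map ((T X).map φ) p

lemma Hm_comp {M N P : X.Modules} (φ : M ⟶ N) (ψ : N ⟶ P) (p : ℕ) (x : Coh.HH X M p) :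
    Hm (φ ≫ ψ) p x = Hm ψ p (Hm φ p x) :=
  (congrArg (fun f => Sheaf.H.map f p x) ((T X).map_comp φ ψ)).trans
    (Sheaf.H.map_comp_apply _ _ x)

lemma Hm_id (M : X.Modules) (p : ℕ) (x : Coh.HH X M p) : Hm (𝟙 M) p x = x :=
  (congrArg (fun f => Sheaf.H.map f p x) ((T X).map_id M)).trans (Sheaf.H.map_id_apply x)

lemma Hm_zero {M N : X.Modules} (p : ℕ) (x : Coh.HH X M p) : Hm (0 : M ⟶ N) p x = 0 := by
  refine (congrArg (fun f => Sheaf.H.map f p x) (Functor.map_zero (SheafOfModules.toSheaf.{u} X.ringCatSheaf) M N)).trans ?_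
  change Sheaf.H.map 0 p x = 0
  rw [Sheaf.H.map_apply, Abelian.Ext.mk₀_zero, Abelian.Ext.comp_zero]

lemma Hm_add {M N : X.Modules} (f g : M ⟶ N) (p : ℕ) (x : Coh.HH X M p) :
    Hm (f + g) p x = Hm f p x + Hm g p x :=
  (congrArg (fun f => Sheaf.H.map f p x) (Functor.map_add (SheafOfModules.toSheaf.{u} X.ringCatSheaf) (f := f) (g := g))).trans
    (Sheaf.H.map_add_apply _ _ x)

/-- on a quasi-compact quasi-separated scheme, every class in `H^p(X, ∐ M)` comes from a finite
sub-coproduct -/
theorem exists_finset_lift [CompactSpace X] [QuasiSeparatedSpace X] {I : Type u}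
    (M : I → X.Modules) (p : ℕ) (y : Coh.HH X (∐ M) p) :
    ∃ (S : Finset (Discrete I)) (v : Coh.HH X (∐ fun x : {x // x ∈ S} => M x.1.as) p),
      y = Hm (Sigma.desc fun s : {x // x ∈ S} => Sigma.ι M s.1.as) p v := by
  classical
  let D := CoproductsFromFiniteFiltered.liftToFinsetObj (Discrete.functor M)
  let c := CoproductsFromFiniteFiltered.finiteSubcoproductsCocone M
  have hc : IsColimit c := CoproductsFromFiniteFiltered.isColimitFiniteSubproductsCocone M
  have hT : PreservesColimitsOfSize.{u, u} (T X) :=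
    Groth.Agent.H31.toSheaf_preservesColimits X.ringCatSheaf
  have hc' : IsColimit ((T X).mapCocone c) := isColimitOfPreserves (T X) hc
  let G := (Sheaf.cohomologyPresheafFunctor (Opens.grothendieckTopology X) p).flip.obj
    (op (⊤ : X.Opens))
  have hG : PreservesColimit (D ⋙ T X) G := by
    apply Groth.Agent.H45.ExtColim.preservesColimit_cohomology_of_mem_Bqs
    exact ⟨isCompact_univ, IsQuasiSeparated.of_quasiSeparatedSpace _⟩
  obtain ⟨hc''⟩ : Nonempty (IsColimit (G.mapCocone ((T X).mapCocone c))) := hG.preserves hc'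
  have hT₀ : IsTerminal (⊤ : X.Opens) := isTerminalTop
  let e := fun N : X.Modules =>
    Groth.Agent.H43.LerayLin.hEquiv (J := Opens.grothendieckTopology X) hT₀ ((T X).obj N) p
  obtain ⟨S, w, hw⟩ := Concrete.isColimit_exists_rep _ hc'' ((e (∐ M)).symm y)
  refine ⟨S, e (D.obj S) w, ?_⟩
  have h1 := Groth.Agent.H43.LerayLin.hEquiv_natural (J := Opens.grothendieckTopology X) hT₀
    ((T X).map (c.ι.app S)) p w
  have h2 : CechEdge.HUmap ((T X).map (c.ι.app S)) p (⊤ : X.Opens) w = (e (∐ M)).symm y := hw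
  rw [h2] at h1
  exact ((e (∐ M)).apply_symm_apply y).symm.trans h1

end Groth.Agent.H43.SigmaCoh
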