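import Groth.Agent.H43.SigmaCoh0

/-!
# Cohomology of arbitrary coproducts of modules on a qcqs scheme (helper43)

`Hm φ p : H^p(X, M) →+ H^p(X, N)` is the map induced by `φ : M ⟶ N` (file `SigmaCoh0`).

* `exists_rep`: on a quasi-compact quasi-separated scheme every class in `H^p(X, ∐ M)` is a finite sum
  of classes pushed forward from the summands.
* `pr M k : ∐ M ⟶ M k`, `ι_pr_self`, `ι_pr_ne`: the projections of a coproduct.
* `sigmaHom M p : (⨁ k, H^p(X, M k)) →+ H^p(X, ∐ M)`, `sigmaHom_injective` (always),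
  `sigmaHom_bijective` (qcqs, index type in `Type u`), `sigmaHom_bijective_of_equiv`,
  `sigmaHom_bijective_nat` (index `ℕ`, unfolded statement).
-/

set_option autoImplicit false
universe u
noncomputable section
namespace Groth.Agent.H43.SigmaCoh
open CategoryTheory CategoryTheory.Limits Opposite TopologicalSpace AlgebraicGeometry

variable {X : Scheme.{u}}

lemma Hm_sum {M N : X.Modules} {K : Type*} (s : Finset K) (f : K → (M ⟶ N)) (p : ℕ)
    (x : Coh.HH X M p) : Hm (∑ k ∈ s, f k) p x = ∑ k ∈ s, Hm (f k) p x := by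
  classical
  induction s using Finset.induction_on with
  | empty => rw [Finset.sum_empty, Finset.sum_empty, Hm_zero]
  | insert a s ha ih => rw [Finset.sum_insert ha, Finset.sum_insert ha, Hm_add, ih]

/-- projections of a coproduct (any index type) -/
def pr {I : Type*} [DecidableEq I] (M : I → X.Modules) [HasCoproduct M] (k : I) : (∐ M) ⟶ M k :=
  Sigma.desc (fun j : I => if h : j = k then eqToHom (by rw [h]) else 0)

lemma ι_pr_self {I : Type*} [DecidableEq I] (M : I → X.Modules) [HasCoproduct M] (k : I) :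
    Sigma.ι M k ≫ pr M k = 𝟙 _ := by
  unfold pr
  rw [Sigma.ι_desc, dif_pos rfl]
  rfl

lemma ι_pr_ne {I : Type*} [DecidableEq I] (M : I → X.Modules) [HasCoproduct M] (k j : I)
    (h : j ≠ k) : Sigma.ι M j ≫ pr M k = 0 := by
  unfold pr
  rw [Sigma.ι_desc, dif_neg h]

lemma sum_pr_ι {K : Type*} [Fintype K] [DecidableEq K] (N : K → X.Modules) [HasCoproduct N] :
    ∑ k : K, pr N k ≫ Sigma.ι N k = 𝟙 (∐ N) := by
  apply Sigma.hom_ext
  intro j
  rw [Preadditive.comp_sum, Category.comp_id]
  rw [Finset.sum_eq_single j]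
  · rw [← Category.assoc, ι_pr_self, Category.id_comp]
  · intro b _ hb
    rw [← Category.assoc, ι_pr_ne N b j (Ne.symm hb), zero_comp]
  · intro h
    exact absurd (Finset.mem_univ j) h

/-- every class in the cohomology of a FINITE coproduct is a sum of classes from the summands -/
theorem exists_rep_fintype {K : Type*} [Fintype K] (N : K → X.Modules) [HasCoproduct N] (p : ℕ)
    (y : Coh.HH X (∐ N) p) :
    ∃ z : ∀ k, Coh.HH X (N k) p, y = ∑ k, Hm (Sigma.ι N k) p (z k) := by
  classical
  refine ⟨fun k => Hm (pr N k) p y, ?_⟩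
  have h := Hm_sum Finset.univ (fun k => pr N k ≫ Sigma.ι N k) p y
  rw [sum_pr_ι, Hm_id] at h
  exact h.trans (Finset.sum_congr rfl fun k _ => Hm_comp _ _ p y)

/-- on a quasi-compact quasi-separated scheme, every class in `H^p(X, ∐ M)` is a finite sum of classes
pushed forward from the summands -/
theorem exists_rep [CompactSpace X] [QuasiSeparatedSpace X] {I : Type u}
    (M : I → X.Modules) (p : ℕ) (y : Coh.HH X (∐ M) p) :
    ∃ (S : Finset I) (z : ∀ k, Coh.HH X (M k) p), y = ∑ k ∈ S, Hm (Sigma.ι M k) p (z k) := by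
  classical
  obtain ⟨S, v, hy⟩ := exists_finset_lift M p y
  obtain ⟨z, hz⟩ := exists_rep_fintype (K := {x // x ∈ S}) (fun x => M x.1.as) p v
  have hz' : ∀ k : {x // x ∈ S}, z k =
      (if h : (Discrete.mk k.1.as) ∈ S then z ⟨Discrete.mk k.1.as, h⟩ else 0) := by
    rintro ⟨⟨i⟩, hi⟩
    dsimp only
    rw [dif_pos hi]
  refine ⟨S.image Discrete.as,
    fun k => if h : (Discrete.mk k) ∈ S then z ⟨Discrete.mk k, h⟩ else 0, ?_⟩
  rw [hy, hz, map_sum, Finset.sum_image (fun a _ b _ h => Discrete.ext h), ← Finset.sum_coe_sort S]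
  refine Finset.sum_congr rfl fun k hk => ?_
  have h3 : Sigma.ι (fun x : {x // x ∈ S} => M x.1.as) k ≫
      (Sigma.desc fun s : {x // x ∈ S} => Sigma.ι M s.1.as) = Sigma.ι M k.1.as :=
    Sigma.ι_desc _ _
  rw [← Hm_comp, h3]
  exact congrArg _ (hz' k)


end Groth.Agent.H43.SigmaCoh
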