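import Mathlib.RingTheory.Ideal.KrullsHeightTheorem
import Mathlib.RingTheory.Ideal.MinimalPrime.Noetherian
import Mathlib.Logic.Relation

set_option autoImplicit false
universe u

namespace Groth.Agent.H43

open Ideal

section key

variable {A : Type u} [CommRing A] [IsNoetherianRing A] [IsLocalRing A]

local notation "𝔪" => IsLocalRing.maximalIdeal A

/-- every prime containing `I + (x)` is the maximal ideal, when `x` avoids the minimal primes of
`I` other than the maximal ideal and `I + (y)` is primary to the maximal ideal for some `y` -/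
theorem le_radical_sup_span_of_avoid {I : Ideal A} (hI : I ≤ 𝔪) {y : A} (hy : y ∈ 𝔪)
    (hIy : 𝔪 ≤ (I ⊔ span {y}).radical) {x : A}
    (hx : ∀ p ∈ I.minimalPrimes, p ≠ 𝔪 → x ∉ p) : 𝔪 ≤ (I ⊔ span {x}).radical := by
  rw [radical_eq_sInf]
  refine le_sInf ?_
  rintro q ⟨hq, hqp⟩
  by_contra hmq
  have hqm : q ≤ 𝔪 := IsLocalRing.le_maximalIdeal hqp.ne_top
  have hlt : q < 𝔪 := lt_of_le_of_ne hqm (fun h => hmq (h ▸ le_rfl))
  have hmin : 𝔪 ∈ (span (insert y (I : Set A))).minimalPrimes := by
    rw [span_insert, span_eq, sup_comm]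
    refine ⟨⟨inferInstance, sup_le hI ((span_singleton_le_iff_mem _).mpr hy)⟩, ?_⟩
    rintro q' ⟨hq'p, hq'⟩ _
    exact le_trans hIy (hq'p.radical_le_iff.mpr hq')
  have hq_min : q ∈ (span (I : Set A)).minimalPrimes :=
    Ideal.mem_minimalPrimes_span_of_mem_minimalPrimes_span_insert hlt y (I : Set A) hmin
      (I : Set A) (fun z hz => (le_trans le_sup_left hq) hz)
      (fun z hz => le_radical (subset_span (Set.mem_insert_of_mem _ hz)))
  rw [span_eq] at hq_min
  exact hx q hq_min (ne_of_lt hlt)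
    ((le_trans le_sup_right hq) (mem_span_singleton_self x))

/-- simultaneous choice of a parameter for two ideals -/
theorem exists_common_parameter {I I' : Ideal A} (hI : I ≤ 𝔪) (hI' : I' ≤ 𝔪) {y y' : A}
    (hy : y ∈ 𝔪) (hy' : y' ∈ 𝔪) (hIy : 𝔪 ≤ (I ⊔ span {y}).radical)
    (hIy' : 𝔪 ≤ (I' ⊔ span {y'}).radical) :
    ∃ x ∈ 𝔪, 𝔪 ≤ (I ⊔ span {x}).radical ∧ 𝔪 ≤ (I' ⊔ span {x}).radical := by
  classical
  have hfin : (I.minimalPrimes ∪ I'.minimalPrimes).Finite :=
    (Ideal.finite_minimalPrimes_of_isNoetherianRing A I).union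
      (Ideal.finite_minimalPrimes_of_isNoetherianRing A I')
  set s : Finset (Ideal A) := hfin.toFinset.filter (fun p => p ≠ 𝔪) with hs
  have hsp : ∀ p ∈ s, p.IsPrime := by
    intro p hp
    rw [hs, Finset.mem_filter, Set.Finite.mem_toFinset] at hp
    rcases hp.1 with h | h
    · exact h.1.1
    · exact h.1.1
  have hnot : ¬ ((𝔪 : Set A) ⊆ ⋃ p ∈ (↑s : Set (Ideal A)), (p : Set A)) := by
    intro hsub
    obtain ⟨p, hp, hmp⟩ := (Ideal.subset_union_prime (f := fun p : Ideal A => p) ⊥ ⊥
      (fun p hp _ _ => hsp p hp)).mp hsub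
    have hpm : p ≤ 𝔪 := IsLocalRing.le_maximalIdeal (hsp p hp).ne_top
    rw [hs, Finset.mem_filter] at hp
    exact hp.2 (le_antisymm hpm hmp)
  rw [Set.not_subset] at hnot
  obtain ⟨x, hxm, hxs⟩ := hnot
  have hxs' : ∀ p ∈ s, x ∉ p := by
    intro p hp hxp
    apply hxs
    simp only [Set.mem_iUnion]
    exact ⟨p, hp, hxp⟩
  refine ⟨x, hxm, ?_, ?_⟩
  · apply le_radical_sup_span_of_avoid hI hy hIy
    intro p hp hpm
    apply hxs'
    rw [hs, Finset.mem_filter, Set.Finite.mem_toFinset]
    exact ⟨Or.inl hp, hpm⟩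
  · apply le_radical_sup_span_of_avoid hI' hy' hIy'
    intro p hp hpm
    apply hxs'
    rw [hs, Finset.mem_filter, Set.Finite.mem_toFinset]
    exact ⟨Or.inr hp, hpm⟩

end key

section chain

/-- turn a reflexive-transitive chain into a finite sequence -/
theorem exists_fin_chain {α : Type*} (G : α → Prop) (S : α → α → Prop) {a b : α} (ha : G a)
    (h : Relation.ReflTransGen (fun x y => G y ∧ S x y) a b) :
    ∃ (n : ℕ) (w : Fin (n + 1) → α), w 0 = a ∧ w (Fin.last n) = b ∧ (∀ k, G (w k)) ∧
      ∀ k : Fin n, S (w k.castSucc) (w k.succ) := by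
  induction h with
  | refl => exact ⟨0, fun _ => a, rfl, rfl, fun _ => ha, fun k => k.elim0⟩
  | tail hab hbc ih =>
    rename_i b c
    obtain ⟨n, w, h0, hl, hG, hS⟩ := ih
    refine ⟨n + 1, Fin.snoc w c, ?_, ?_, ?_, ?_⟩
    · have : (0 : Fin (n + 2)) = Fin.castSucc (0 : Fin (n + 1)) := rfl
      rw [this, Fin.snoc_castSucc, h0]
    · rw [Fin.snoc_last]
    · intro k
      refine Fin.lastCases ?_ (fun k' => ?_) k
      · rw [Fin.snoc_last]; exact hbc.1
      · rw [Fin.snoc_castSucc]; exact hG k'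
    · intro k
      refine Fin.lastCases ?_ (fun k' => ?_) k
      · rw [Fin.succ_last, Fin.snoc_last, Fin.snoc_castSucc, hl]
        exact hbc.2
      · have h1 : (Fin.castSucc (Fin.castSucc k') : Fin (n + 2)) = Fin.castSucc k'.castSucc := rfl
        have h2 : (Fin.castSucc k' : Fin (n + 1)).succ = Fin.castSucc k'.succ := rfl
        rw [h2, Fin.snoc_castSucc, Fin.snoc_castSucc]
        exact hS k'

end chain

section sop

variable {A : Type u} [CommRing A] [IsNoetherianRing A] [IsLocalRing A]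

local notation "𝔪" => IsLocalRing.maximalIdeal A

/-- a tuple of elements of the maximal ideal generating an ideal primary to it -/
def IsSopTuple {d : ℕ} (w : Fin d → A) : Prop :=
  (∀ i, w i ∈ 𝔪) ∧ 𝔪 ≤ (span (Set.range w)).radical

/-- two tuples differing in at most one coordinate -/
def OneStep {d : ℕ} (w w' : Fin d → A) : Prop :=
  ∃ i : Fin d, ∀ i' : Fin d, i' ≠ i → w i' = w' i'

omit [IsNoetherianRing A] [IsLocalRing A] in
theorem span_range_split {d : ℕ} (w : Fin d → A) (i₀ : Fin d) :
    span (Set.range w) = span (w '' {i | i ≠ i₀}) ⊔ span {w i₀} := by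
  rw [sup_comm, ← span_insert]
  congr 1
  ext z
  constructor
  · rintro ⟨i, rfl⟩
    by_cases h : i = i₀
    · subst h; exact Set.mem_insert _ _
    · exact Set.mem_insert_of_mem _ ⟨i, h, rfl⟩
  · rintro (rfl | ⟨i, -, rfl⟩)
    · exact ⟨i₀, rfl⟩
    · exact ⟨i, rfl⟩

omit [IsNoetherianRing A] [IsLocalRing A] in
theorem image_update_ne {d : ℕ} (w : Fin d → A) (i₀ : Fin d) (x : A) :
    (Function.update w i₀ x) '' {i | i ≠ i₀} = w '' {i | i ≠ i₀} := by
  ext z
  constructor
  · rintro ⟨i, hi, rfl⟩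
    exact ⟨i, hi, (Function.update_of_ne hi _ _).symm⟩
  · rintro ⟨i, hi, rfl⟩
    exact ⟨i, hi, Function.update_of_ne hi _ _⟩

theorem sop_connected {d : ℕ} (k : ℕ) :
    ∀ u v : Fin d → A, IsSopTuple u → IsSopTuple v → (∀ i : Fin d, k ≤ (i : ℕ) → u i = v i) →
      Relation.ReflTransGen (fun x y : Fin d → A => IsSopTuple y ∧ OneStep x y) u v := by
  induction k with
  | zero =>
    intro u v _ _ h
    have : u = v := funext fun i => h i (Nat.zero_le _)
    rw [this]
  | succ k ih =>
    intro u v hu hv h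
    by_cases hk : k < d
    · set i₀ : Fin d := ⟨k, hk⟩ with hi₀
      set I := span (u '' {i | i ≠ i₀}) with hI
      set I' := span (v '' {i | i ≠ i₀}) with hI'
      have hIm : I ≤ 𝔪 := by
        rw [hI, span_le]
        rintro _ ⟨i, -, rfl⟩
        exact hu.1 i
      have hI'm : I' ≤ 𝔪 := by
        rw [hI', span_le]
        rintro _ ⟨i, -, rfl⟩
        exact hv.1 i
      have h1 : 𝔪 ≤ (I ⊔ span {u i₀}).radical := by
        rw [hI, ← span_range_split]; exact hu.2
      have h2 : 𝔪 ≤ (I' ⊔ span {v i₀}).radical := by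
        rw [hI', ← span_range_split]; exact hv.2
      obtain ⟨x, hxm, hx1, hx2⟩ := exists_common_parameter hIm hI'm (hu.1 i₀) (hv.1 i₀) h1 h2
      set u' := Function.update u i₀ x with hu'
      set v' := Function.update v i₀ x with hv'
      have hu'sop : IsSopTuple u' := by
        refine ⟨fun i => ?_, ?_⟩
        · by_cases hi : i = i₀
          · rw [hu', hi, Function.update_self]; exact hxm
          · rw [hu', Function.update_of_ne hi]; exact hu.1 i
        · rw [span_range_split u' i₀, hu', image_update_ne, Function.update_self]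
          exact hx1
      have hv'sop : IsSopTuple v' := by
        refine ⟨fun i => ?_, ?_⟩
        · by_cases hi : i = i₀
          · rw [hv', hi, Function.update_self]; exact hxm
          · rw [hv', Function.update_of_ne hi]; exact hv.1 i
        · rw [span_range_split v' i₀, hv', image_update_ne, Function.update_self]
          exact hx2
      have hagree : ∀ i : Fin d, k ≤ (i : ℕ) → u' i = v' i := by
        intro i hi
        by_cases hii : i = i₀
        · rw [hu', hv', hii, Function.update_self, Function.update_self]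
        · rw [hu', hv', Function.update_of_ne hii, Function.update_of_ne hii]
          apply h
          have : (i : ℕ) ≠ k := fun hh => hii (Fin.ext hh)
          omega
      have hmid := ih u' v' hu'sop hv'sop hagree
      have hfirst : (fun x y : Fin d → A => IsSopTuple y ∧ OneStep x y) u u' :=
        ⟨hu'sop, i₀, fun i' hi' => (Function.update_of_ne hi' _ _).symm⟩
      have hlast : (fun x y : Fin d → A => IsSopTuple y ∧ OneStep x y) v' v :=
        ⟨hv, i₀, fun i' hi' => Function.update_of_ne hi' _ _⟩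
      exact Relation.ReflTransGen.tail (Relation.ReflTransGen.trans
        (Relation.ReflTransGen.single hfirst) hmid) hlast
    · apply ih u v hu hv
      intro i _
      apply h
      have := i.2
      omega

theorem S8586_main (d : ℕ) (u v : Fin d → A)
    (hu : ∀ i, u i ∈ 𝔪) (hu' : 𝔪 ≤ (span (Set.range u)).radical)
    (hv : ∀ i, v i ∈ 𝔪) (hv' : 𝔪 ≤ (span (Set.range v)).radical) :
    ∃ (m : ℕ) (w : Fin (m + 1) → Fin d → A), w 0 = u ∧ w (Fin.last m) = v ∧
      (∀ k : Fin (m + 1), (∀ i, w k i ∈ 𝔪) ∧ 𝔪 ≤ (span (Set.range (w k))).radical) ∧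
      (∀ k : Fin m, ∃ i : Fin d, ∀ i' : Fin d, i' ≠ i → w k.castSucc i' = w k.succ i') := by
  have h := sop_connected (A := A) d u v ⟨hu, hu'⟩ ⟨hv, hv'⟩ (fun i hi => absurd i.2 (by omega))
  obtain ⟨n, w, h0, hl, hG, hS⟩ := exists_fin_chain (fun w : Fin d → A => IsSopTuple w)
    (fun x y => OneStep x y) ⟨hu, hu'⟩ h
  exact ⟨n, w, h0, hl, hG, hS⟩

end sop

end Groth.Agent.H43
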