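import Groth.Agent.H43.Newton
import Groth.Agent.H43.SymmTwo
import Groth.Agent.H43.AdamsQ

set_option autoImplicit false
universe u

namespace Groth.Agent.H43

open Finset LambdaRing MvPolynomial

section multiset

theorem map_multiset_esymm {A B : Type*} [CommSemiring A] [CommSemiring B] (f : A →+* B)
    (s : Multiset A) (n : ℕ) : f (s.esymm n) = (s.map f).esymm n := by
  rw [Multiset.esymm, Multiset.esymm, map_multiset_sum, Multiset.powersetCard_map,
    Multiset.map_map, Multiset.map_map]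
  congr 1
  refine Multiset.map_congr rfl fun t _ => ?_
  simp only [Function.comp_apply, map_multiset_prod]

end multiset

section gens

/-- the multiset of products `T_a U_b` -/
noncomputable def mulRoots (N : ℕ) : Multiset (MvPolynomial (Fin N ⊕ Fin N) ℤ) :=
  (Finset.univ : Finset (Fin N × Fin N)).val.map
    fun ab => (X (Sum.inl ab.1) * X (Sum.inr ab.2) : MvPolynomial (Fin N ⊕ Fin N) ℤ)

theorem mulGen_eq (N k : ℕ) : mulGen N k = (mulRoots N).esymm k := rfl

/-- the multiset of the monomials `∏_{a ∈ s} T_a`, `s` of cardinality `i` -/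
noncomputable def compRoots (N i : ℕ) : Multiset (MvPolynomial (Fin N) ℤ) :=
  ((Finset.univ : Finset (Fin N)).powersetCard i).val.map
    fun s => (∏ a ∈ s, X a : MvPolynomial (Fin N) ℤ)

theorem compGen_eq (N i j : ℕ) : compGen N i j = (compRoots N i).esymm j := rfl

theorem rename_mulRoots_left (N : ℕ) (σ : Equiv.Perm (Fin N)) :
    (mulRoots N).map (rename (Sum.map σ id)) = mulRoots N := by
  rw [mulRoots, Multiset.map_map]
  have : ((rename (Sum.map σ id) : MvPolynomial (Fin N ⊕ Fin N) ℤ → _) ∘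
      fun ab : Fin N × Fin N => (X (Sum.inl ab.1) * X (Sum.inr ab.2))) =
      (fun ab : Fin N × Fin N => (X (Sum.inl ab.1) * X (Sum.inr ab.2) :
        MvPolynomial (Fin N ⊕ Fin N) ℤ)) ∘ (Equiv.prodCongr σ (Equiv.refl _)) := by
    funext ab
    simp
  rw [this, ← Multiset.map_map, Multiset.map_univ_val_equiv]

theorem rename_mulRoots_right (N : ℕ) (τ : Equiv.Perm (Fin N)) :
    (mulRoots N).map (rename (Sum.map id τ)) = mulRoots N := by
  rw [mulRoots, Multiset.map_map]
  have : ((rename (Sum.map id τ) : MvPolynomial (Fin N ⊕ Fin N) ℤ → _) ∘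
      fun ab : Fin N × Fin N => (X (Sum.inl ab.1) * X (Sum.inr ab.2))) =
      (fun ab : Fin N × Fin N => (X (Sum.inl ab.1) * X (Sum.inr ab.2) :
        MvPolynomial (Fin N ⊕ Fin N) ℤ)) ∘ (Equiv.prodCongr (Equiv.refl _) τ) := by
    funext ab
    simp
  rw [this, ← Multiset.map_map, Multiset.map_univ_val_equiv]

theorem exists_esymm2_eq_mulGen (N k : ℕ) :
    ∃ P : MvPolynomial (Fin N ⊕ Fin N) ℤ, esymm2 ℤ N N P = mulGen N k := by
  apply exists_esymm2_eq
  · intro σ
    rw [mulGen_eq, ← AlgHom.coe_toRingHom, map_multiset_esymm]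
    exact congrArg (fun M => Multiset.esymm M k) (rename_mulRoots_left N σ)
  · intro τ
    rw [mulGen_eq, ← AlgHom.coe_toRingHom, map_multiset_esymm]
    exact congrArg (fun M => Multiset.esymm M k) (rename_mulRoots_right N τ)

theorem rename_compRoots (N i : ℕ) (σ : Equiv.Perm (Fin N)) :
    (compRoots N i).map (rename σ) = compRoots N i := by
  classical
  rw [compRoots, Multiset.map_map]
  have h1 : ((rename σ : MvPolynomial (Fin N) ℤ → _) ∘
      fun s : Finset (Fin N) => (∏ a ∈ s, X a : MvPolynomial (Fin N) ℤ)) =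
      (fun s : Finset (Fin N) => (∏ a ∈ s, X a : MvPolynomial (Fin N) ℤ)) ∘
        (fun s => s.map σ.toEmbedding) := by
    funext s
    simp only [Function.comp_apply, map_prod, rename_X, Finset.prod_map, Equiv.coe_toEmbedding]
  rw [h1, ← Multiset.map_map]
  congr 1
  -- the powerset of cardinality `i` is permuted
  have h2 : ((Finset.univ : Finset (Fin N)).powersetCard i).val.map (fun s => s.map σ.toEmbedding) =
      (((Finset.univ : Finset (Fin N)).powersetCard i).map
        (Finset.mapEmbedding σ.toEmbedding).toEmbedding).val := by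
    rw [Finset.map_val]; rfl
  rw [h2]
  congr 1
  ext s
  simp only [Finset.mem_map, Finset.mem_powersetCard, Finset.subset_univ, true_and,
    RelEmbedding.coe_toEmbedding, Finset.mapEmbedding_apply]
  constructor
  · rintro ⟨t, ht, rfl⟩
    rw [Finset.card_map, ht]
  · intro hs
    refine ⟨s.map σ.symm.toEmbedding, by rw [Finset.card_map, hs], ?_⟩
    ext a
    simp

theorem exists_esymm1_eq_compGen (N i j : ℕ) :
    ∃ Q : MvPolynomial (Fin N) ℤ, esymm1 ℤ N N Q = compGen N i j := by
  apply exists_esymm1_eq_of_isSymmetric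
  intro σ
  rw [compGen_eq, ← AlgHom.coe_toRingHom, map_multiset_esymm]
  exact congrArg (fun M => Multiset.esymm M j) (rename_compRoots N i σ)

end gens

end Groth.Agent.H43

namespace Groth.Agent.H43

open Finset LambdaRing MvPolynomial

section evalLam

variable {K : Type u} [CommRing K] [LambdaOps K]

/-- evaluation `X_k ↦ λ^{k+1}(x)` -/
noncomputable def evalLam1 (x : K) (N : ℕ) : MvPolynomial (Fin N) ℤ →ₐ[ℤ] K :=
  aeval fun k : Fin N => LambdaOps.lam ((k : ℕ) + 1) x

/-- evaluation `X_k ↦ λ^{k+1}(x)`, `Y_k ↦ λ^{k+1}(y)` -/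
noncomputable def evalLam2 (x y : K) (N : ℕ) : MvPolynomial (Fin N ⊕ Fin N) ℤ →ₐ[ℤ] K :=
  aeval (Sum.elim (fun k : Fin N => LambdaOps.lam ((k : ℕ) + 1) x)
    (fun k : Fin N => LambdaOps.lam ((k : ℕ) + 1) y))

theorem evalLam2_rename_inl (x y : K) (N : ℕ) (p : MvPolynomial (Fin N) ℤ) :
    evalLam2 x y N (rename Sum.inl p) = evalLam1 x N p := by
  rw [evalLam2, aeval_rename]; rfl

theorem evalLam2_rename_inr (x y : K) (N : ℕ) (p : MvPolynomial (Fin N) ℤ) :
    evalLam2 x y N (rename Sum.inr p) = evalLam1 y N p := by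
  rw [evalLam2, aeval_rename]; rfl

theorem esymm2_rename_inl (N : ℕ) (p : MvPolynomial (Fin N) ℤ) :
    esymm2 ℤ N N (rename Sum.inl p) = rename Sum.inl (esymm1 ℤ N N p) := by
  rw [esymm2, aeval_rename, esymm1]
  induction p using MvPolynomial.induction_on with
  | C r => simp
  | add p q hp hq => simp only [map_add, hp, hq]
  | mul_X p i hp => simp only [map_mul, hp, aeval_X, Function.comp_apply, Sum.elim_inl]

theorem esymm2_rename_inr (N : ℕ) (p : MvPolynomial (Fin N) ℤ) :
    esymm2 ℤ N N (rename Sum.inr p) = rename Sum.inr (esymm1 ℤ N N p) := by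
  rw [esymm2, aeval_rename, esymm1]
  induction p using MvPolynomial.induction_on with
  | C r => simp
  | add p q hp hq => simp only [map_add, hp, hq]
  | mul_X p i hp => simp only [map_mul, hp, aeval_X, Function.comp_apply, Sum.elim_inr]

/-- the generators `1, X_0, X_1, ...` of the source ring, as a sequence -/
noncomputable def genSeq (N : ℕ) (k : ℕ) : MvPolynomial (Fin N) ℤ :=
  if h0 : k = 0 then 1 else if h : k ≤ N then X ⟨k - 1, by omega⟩ else 0

theorem esymm1_genSeq (N k : ℕ) (hk : k ≤ N) :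
    esymm1 ℤ N N (genSeq N k) = (Finset.univ.val.map (X : Fin N → MvPolynomial (Fin N) ℤ)).esymm k := by
  rw [← esymm_eq_multiset_esymm]
  unfold genSeq
  by_cases h0 : k = 0
  · subst h0; simp [esymm_zero]
  · rw [dif_neg h0, dif_pos hk, esymm1, aeval_X]
    congr 1
    simp only; omega

theorem evalLam1_genSeq (x : K) (N k : ℕ) (hk : k ≤ N) :
    evalLam1 x N (genSeq N k) = LambdaOps.lam k x := by
  unfold genSeq
  by_cases h0 : k = 0
  · subst h0; simp [LambdaOps.lam_zero]
  · rw [dif_neg h0, dif_pos hk, evalLam1, aeval_X]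
    congr 1
    simp only; omega

theorem psum_isSymmetric' (N r : ℕ) : (psum (Fin N) ℤ r).IsSymmetric := by
  intro σ
  simp only [psum, map_sum, map_pow, rename_X]
  exact Equiv.sum_comp σ (fun i => (X i : MvPolynomial (Fin N) ℤ) ^ r)

/-- Newton: the power sum polynomial evaluates to the Adams operation -/
theorem evalLam1_psum (x : K) (N r : ℕ) (hr1 : 1 ≤ r) (hrN : r ≤ N) (Pi0 : MvPolynomial (Fin N) ℤ)
    (hPi0 : esymm1 ℤ N N Pi0 = psum (Fin N) ℤ r) : evalLam1 x N Pi0 = adamsOp r x := by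
  -- choose preimages of all power sums
  have hex : ∀ q : ℕ, ∃ Pq : MvPolynomial (Fin N) ℤ, esymm1 ℤ N N Pq = psum (Fin N) ℤ q :=
    fun q => exists_esymm1_eq_of_isSymmetric ℤ N (psum_isSymmetric' N q)
  choose P hP using hex
  have key := transfer_p (esymm1 ℤ N N : MvPolynomial (Fin N) ℤ →+* MvPolynomial (Fin N) ℤ)
    (esymm1_injective ℤ (le_refl N)) (evalLam1 x N : MvPolynomial (Fin N) ℤ →+* K)
    (Finset.univ.val.map (X : Fin N → MvPolynomial (Fin N) ℤ)) (genSeq N) P N
    (fun k hk => esymm1_genSeq N k hk)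
    (fun q _ _ => by
      rw [RingHom.coe_coe, hP q, psum, Multiset.map_map]
      rfl)
    (fun k => LambdaOps.lam k x) (fun q => adamsOp q x)
    (fun k _ _ => newtonRel_lam x k)
    (fun k hk => evalLam1_genSeq x N k hk) r hr1 hrN
  have : Pi0 = P r := esymm1_injective ℤ (le_refl N) (by rw [hPi0, hP r])
  rw [this]
  exact key

end evalLam

end Groth.Agent.H43

namespace Groth.Agent.H43

open Finset LambdaRing MvPolynomial

section mulpart

variable {K : Type u} [CommRing K] [LambdaOps K]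

theorem sum_pow_mulRoots (N r : ℕ) :
    ((mulRoots N).map (· ^ r)).sum =
      rename Sum.inl (psum (Fin N) ℤ r) * rename Sum.inr (psum (Fin N) ℤ r) := by
  rw [mulRoots, Multiset.map_map]
  change ∑ ab : Fin N × Fin N, (X (Sum.inl ab.1) * X (Sum.inr ab.2) :
    MvPolynomial (Fin N ⊕ Fin N) ℤ) ^ r = _
  simp only [psum, map_sum, map_pow, rename_X]
  rw [Finset.sum_mul_sum, ← Finset.sum_product']
  refine Finset.sum_congr rfl fun ab _ => ?_
  rw [mul_pow]

/-- `λ^k(xy)` is given by any polynomial representing `e_k(T_a U_b)` in `N ≥ k` variables. -/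
theorem lam_mul_eq_evalLam2 [IsAddTorsionFree K] (x y : K) (N : ℕ)
    (hmul : ∀ r, 1 ≤ r → r ≤ N → adamsOp r (x * y) = adamsOp r x * adamsOp r y)
    (k : ℕ) (hk : k ≤ N) (P : MvPolynomial (Fin N ⊕ Fin N) ℤ)
    (hP : esymm2 ℤ N N P = mulGen N k) :
    LambdaOps.lam k (x * y) = evalLam2 x y N P := by
  have hexC : ∀ j : ℕ, ∃ C : MvPolynomial (Fin N ⊕ Fin N) ℤ, esymm2 ℤ N N C = mulGen N j :=
    fun j => exists_esymm2_eq_mulGen N j
  choose C hC using hexC
  have hexP : ∀ q : ℕ, ∃ Pq : MvPolynomial (Fin N) ℤ, esymm1 ℤ N N Pq = psum (Fin N) ℤ q :=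
    fun q => exists_esymm1_eq_of_isSymmetric ℤ N (psum_isSymmetric' N q)
  choose Pr hPr using hexP
  have key := transfer_e
    (esymm2 ℤ N N : MvPolynomial (Fin N ⊕ Fin N) ℤ →+* MvPolynomial (Fin N ⊕ Fin N) ℤ)
    (esymm2_injective ℤ (le_refl N)) (evalLam2 x y N : MvPolynomial (Fin N ⊕ Fin N) ℤ →+* K)
    (mulRoots N) C (fun r => rename Sum.inl (Pr r) * rename Sum.inr (Pr r)) N
    (fun j _ => by rw [RingHom.coe_coe, hC j, mulGen_eq])
    (fun r _ _ => by
      rw [RingHom.coe_coe, map_mul, esymm2_rename_inl, esymm2_rename_inr, hPr r, sum_pow_mulRoots])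
    (fun j => LambdaOps.lam j (x * y)) (fun r => adamsOp r (x * y)) (LambdaOps.lam_zero _)
    (fun j _ _ => newtonRel_lam (x * y) j)
    (fun r hr1 hrN => by
      rw [RingHom.coe_coe, map_mul, evalLam2_rename_inl, evalLam2_rename_inr,
        evalLam1_psum x N r hr1 hrN _ (hPr r), evalLam1_psum y N r hr1 hrN _ (hPr r),
        hmul r hr1 hrN])
    k hk
  have : P = C k := esymm2_injective ℤ (le_refl N) (by rw [hP, hC k])
  rw [this]
  exact key.symm

end mulpart

end Groth.Agent.H43

namespace Groth.Agent.H43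

open Finset LambdaRing MvPolynomial

section comppart

variable {K : Type u} [CommRing K] [LambdaOps K]

theorem adamsOp_zero_arg (k : ℕ) : adamsOp k (0 : K) = 0 := by
  have h := adamsOp_add k (0 : K) 0
  rw [add_zero] at h
  exact (left_eq_add.mp h)

/-- the Adams operation as a ring homomorphism -/
noncomputable def adamsRingHom (h1 : ∀ k : ℕ, 1 ≤ k → adamsOp k (1 : K) = 1)
    (hmul : ∀ k : ℕ, 1 ≤ k → ∀ x y : K, adamsOp k (x * y) = adamsOp k x * adamsOp k y)
    (k : ℕ) (hk : 1 ≤ k) : K →+* K where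
  toFun := adamsOp k
  map_one' := h1 k hk
  map_mul' := hmul k hk
  map_zero' := adamsOp_zero_arg k
  map_add' := adamsOp_add k

/-- the multiset of `r`-th powers of the variables -/
noncomputable def powRoots (N r : ℕ) : Multiset (MvPolynomial (Fin N) ℤ) :=
  (Finset.univ : Finset (Fin N)).val.map fun a => (X a : MvPolynomial (Fin N) ℤ) ^ r

theorem rename_powRoots (N r : ℕ) (σ : Equiv.Perm (Fin N)) :
    (powRoots N r).map (rename σ) = powRoots N r := by
  rw [powRoots, Multiset.map_map]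
  have : ((rename σ : MvPolynomial (Fin N) ℤ → _) ∘ fun a : Fin N => (X a) ^ r) =
      (fun a : Fin N => (X a : MvPolynomial (Fin N) ℤ) ^ r) ∘ σ := by
    funext a; simp
  rw [this, ← Multiset.map_map, Multiset.map_univ_val_equiv]

theorem exists_esymm1_eq_powRoots (N r i : ℕ) :
    ∃ D : MvPolynomial (Fin N) ℤ, esymm1 ℤ N N D = (powRoots N r).esymm i := by
  apply exists_esymm1_eq_of_isSymmetric
  intro σ
  rw [← AlgHom.coe_toRingHom, map_multiset_esymm]
  exact congrArg (fun M => Multiset.esymm M i) (rename_powRoots N r σ)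

theorem sum_pow_powRoots (N r q : ℕ) :
    ((powRoots N r).map (· ^ q)).sum = psum (Fin N) ℤ (r * q) := by
  rw [powRoots, Multiset.map_map, psum]
  change ∑ a : Fin N, ((X a : MvPolynomial (Fin N) ℤ) ^ r) ^ q = _
  simp only [pow_mul]

theorem sum_pow_compRoots (N i r : ℕ) :
    ((compRoots N i).map (· ^ r)).sum = (powRoots N r).esymm i := by
  rw [compRoots, Multiset.map_map, powRoots, Finset.esymm_map_val]
  change ∑ s ∈ (Finset.univ : Finset (Fin N)).powersetCard i,
    (∏ a ∈ s, (X a : MvPolynomial (Fin N) ℤ)) ^ r = _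
  simp only [Finset.prod_pow]

variable (h1 : ∀ k : ℕ, 1 ≤ k → adamsOp k (1 : K) = 1)
  (hmul : ∀ k : ℕ, 1 ≤ k → ∀ x y : K, adamsOp k (x * y) = adamsOp k x * adamsOp k y)
  (hcomp : ∀ k k' : ℕ, 1 ≤ k → 1 ≤ k' → ∀ x : K, adamsOp k (adamsOp k' x) = adamsOp (k * k') x)

include h1 hmul hcomp

/-- `ψ^r(λ^i x)` is the value of the polynomial representing `e_i(T_1^r, …, T_N^r)`. -/
theorem adams_lam_eq_evalLam1 [IsAddTorsionFree K] (x : K) (N r i : ℕ) (hr : 1 ≤ r)
    (hN : r * i ≤ N) (i' : ℕ) (hi' : i' ≤ i) (D : MvPolynomial (Fin N) ℤ)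
    (hD : esymm1 ℤ N N D = (powRoots N r).esymm i') :
    evalLam1 x N D = adamsOp r (LambdaOps.lam i' x) := by
  have hexC : ∀ j : ℕ, ∃ C : MvPolynomial (Fin N) ℤ, esymm1 ℤ N N C = (powRoots N r).esymm j :=
    fun j => exists_esymm1_eq_powRoots N r j
  choose C hC using hexC
  have hexP : ∀ q : ℕ, ∃ Pq : MvPolynomial (Fin N) ℤ, esymm1 ℤ N N Pq = psum (Fin N) ℤ q :=
    fun q => exists_esymm1_eq_of_isSymmetric ℤ N (psum_isSymmetric' N q)
  choose Pr hPr using hexP
  have key := transfer_e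
    (esymm1 ℤ N N : MvPolynomial (Fin N) ℤ →+* MvPolynomial (Fin N) ℤ)
    (esymm1_injective ℤ (le_refl N)) (evalLam1 x N : MvPolynomial (Fin N) ℤ →+* K)
    (powRoots N r) C (fun q => Pr (r * q)) i
    (fun j _ => by rw [RingHom.coe_coe, hC j])
    (fun q _ _ => by rw [RingHom.coe_coe, hPr, sum_pow_powRoots])
    (fun j => adamsOp r (LambdaOps.lam j x)) (fun q => adamsOp (r * q) x)
    (by simp only [LambdaOps.lam_zero]; exact h1 r hr)
    (fun j _ _ => by
      have h := (newtonRel_lam x j).map (adamsRingHom h1 hmul r hr)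
      exact NewtonRel.congr (fun _ _ => rfl) (fun q hq1 _ => hcomp r q hr hq1 x) h)
    (fun q hq1 hqi => by
      rw [RingHom.coe_coe]
      refine evalLam1_psum x N (r * q) (Nat.mul_pos hr hq1) ?_ _ (hPr _)
      exact (Nat.mul_le_mul_left r hqi).trans hN)
    i' hi'
  have : D = C i' := esymm1_injective ℤ (le_refl N) (by rw [hD, hC i'])
  rw [this]
  exact key

/-- `λ^j(λ^i x)` is given by any polynomial representing `compGen N i j`, `N ≥ i j`. -/
theorem lam_lam_eq_evalLam1 [IsAddTorsionFree K] (x : K) (N i j : ℕ) (hN : i * j ≤ N)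
    (k : ℕ) (hk : k ≤ j) (Q : MvPolynomial (Fin N) ℤ) (hQ : esymm1 ℤ N N Q = compGen N i k) :
    LambdaOps.lam k (LambdaOps.lam i x) = evalLam1 x N Q := by
  have hexC : ∀ l : ℕ, ∃ C : MvPolynomial (Fin N) ℤ, esymm1 ℤ N N C = compGen N i l :=
    fun l => exists_esymm1_eq_compGen N i l
  choose C hC using hexC
  have hexD : ∀ r : ℕ, ∃ D : MvPolynomial (Fin N) ℤ, esymm1 ℤ N N D = (powRoots N r).esymm i :=
    fun r => exists_esymm1_eq_powRoots N r i
  choose D hD using hexD
  have key := transfer_e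
    (esymm1 ℤ N N : MvPolynomial (Fin N) ℤ →+* MvPolynomial (Fin N) ℤ)
    (esymm1_injective ℤ (le_refl N)) (evalLam1 x N : MvPolynomial (Fin N) ℤ →+* K)
    (compRoots N i) C D j
    (fun l _ => by rw [RingHom.coe_coe, hC l, compGen_eq])
    (fun r _ _ => by rw [RingHom.coe_coe, hD r, sum_pow_compRoots])
    (fun l => LambdaOps.lam l (LambdaOps.lam i x)) (fun r => adamsOp r (LambdaOps.lam i x))
    (LambdaOps.lam_zero _)
    (fun l _ _ => newtonRel_lam (LambdaOps.lam i x) l)
    (fun r hr1 hrj => by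
      rw [RingHom.coe_coe]
      refine adams_lam_eq_evalLam1 h1 hmul hcomp x N r i hr1 ?_ i le_rfl _ (hD r)
      calc r * i ≤ j * i := Nat.mul_le_mul_right i hrj
        _ = i * j := Nat.mul_comm j i
        _ ≤ N := hN)
    k hk
  have : Q = C k := esymm1_injective ℤ (le_refl N) (by rw [hQ, hC k])
  rw [this]
  exact key.symm

end comppart

end Groth.Agent.H43

namespace Groth.Agent.H43

open Finset LambdaRing MvPolynomial

section main

variable {K : Type u} [CommRing K] [LambdaOps K]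

theorem lamSeries_one_of_adams [IsAddTorsionFree K]
    (h1 : ∀ k : ℕ, 1 ≤ k → adamsOp k (1 : K) = 1) :
    lamSeries (1 : K) = 1 + PowerSeries.X := by
  have hL : logDerivSeries (1 : K) = PowerSeries.mk fun k => (-1 : K) ^ k := by
    ext k
    rw [coeff_logDerivSeries, h1 (k + 1) (by omega), mul_one, PowerSeries.coeff_mk]
  have hmul : (PowerSeries.mk fun k => (-1 : K) ^ k) * (1 + PowerSeries.X) = 1 := by
    ext n
    rw [mul_add, mul_one, map_add, PowerSeries.coeff_mk, PowerSeries.coeff_one]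
    match n with
    | 0 => simp
    | (n + 1) => simp [PowerSeries.coeff_succ_mul_X, pow_succ]
  apply eq_of_logDeriv_eq (constantCoeff_lamSeries _) (by simp)
  rw [← logDerivSeries_mul, hL]
  simp only [map_add, PowerSeries.derivative_one, PowerSeries.derivative_X, zero_add, one_mul]
  rw [mul_comm, ← mul_assoc, mul_comm (1 + PowerSeries.X), hmul, one_mul]

theorem isSpecial_of_adams [IsAddTorsionFree K]
    (h1 : ∀ k : ℕ, 1 ≤ k → adamsOp k (1 : K) = 1)
    (hmul : ∀ k : ℕ, 1 ≤ k → ∀ x y : K, adamsOp k (x * y) = adamsOp k x * adamsOp k y)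
    (hcomp : ∀ k k' : ℕ, 1 ≤ k → 1 ≤ k' → ∀ x : K,
      adamsOp k (adamsOp k' x) = adamsOp (k * k') x) : IsSpecial K where
  lam_one_eq_zero := by
    intro n hn
    rw [← coeff_lamSeries, lamSeries_one_of_adams h1, map_add, PowerSeries.coeff_one,
      PowerSeries.coeff_X, if_neg (by omega), if_neg (by omega), add_zero]
  lam_mul := by
    intro n P hP x y
    exact lam_mul_eq_evalLam2 x y n (fun r hr _ => hmul r hr x y) n le_rfl P hP.1
  lam_lam := by
    intro i j Q hQ x
    exact lam_lam_eq_evalLam1 h1 hmul hcomp x (i * j) i j le_rfl j le_rfl Q hQ.1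

end main

end Groth.Agent.H43
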