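import Mathlib.Algebra.Homology.ShortComplex.Ab
import Mathlib.Algebra.Category.Grp.Preadditive

/-!
# The exact complex attached to a tower of split monomorphisms

Given `B ↪ A 0 ↪ A 1 ↪ ⋯` split monomorphisms of abelian groups, we construct differentials
`d p : A p ⟶ A (p+1)` such that `0 → B → A 0 → A 1 → ⋯` is exact.
-/

set_option autoImplicit false

namespace Groth.Agent.H43.SplitTower

open CategoryTheory Limits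

universe u

variable {B : AddCommGrpCat.{u}} {A : ℕ → AddCommGrpCat.{u}}
  (i₀ : B ⟶ A 0) (r₀ : A 0 ⟶ B)
  (ι : ∀ p, A p ⟶ A (p + 1)) (ρ : ∀ p, A (p + 1) ⟶ A p)

/-- The idempotents. -/
noncomputable def e : ∀ p, A p ⟶ A p
  | 0 => r₀ ≫ i₀
  | p + 1 => ρ p ≫ (𝟙 _ - e p) ≫ ι p

/-- The differentials. -/
noncomputable def d (p : ℕ) : A p ⟶ A (p + 1) := (𝟙 _ - e i₀ r₀ ι ρ p) ≫ ι p

lemma e_succ (p : ℕ) : e i₀ r₀ ι ρ (p + 1) = ρ p ≫ d i₀ r₀ ι ρ p := rfl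

variable (h₀ : i₀ ≫ r₀ = 𝟙 B) (hι : ∀ p, ι p ≫ ρ p = 𝟙 (A p))

include h₀ hι in
lemma e_idem (p : ℕ) : e i₀ r₀ ι ρ p ≫ e i₀ r₀ ι ρ p = e i₀ r₀ ι ρ p := by
  induction p with
  | zero =>
    change (r₀ ≫ i₀) ≫ (r₀ ≫ i₀) = r₀ ≫ i₀
    rw [Category.assoc, ← Category.assoc i₀, h₀, Category.id_comp]
  | succ p ih =>
    change (ρ p ≫ (𝟙 _ - e i₀ r₀ ι ρ p) ≫ ι p) ≫ (ρ p ≫ (𝟙 _ - e i₀ r₀ ι ρ p) ≫ ι p) = _
    have h1 : (𝟙 _ - e i₀ r₀ ι ρ p) ≫ (𝟙 _ - e i₀ r₀ ι ρ p) = 𝟙 _ - e i₀ r₀ ι ρ p := by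
      simp only [Preadditive.sub_comp, Preadditive.comp_sub, Category.id_comp, Category.comp_id, ih]
      abel
    calc _ = ρ p ≫ (𝟙 _ - e i₀ r₀ ι ρ p) ≫ (ι p ≫ ρ p) ≫ (𝟙 _ - e i₀ r₀ ι ρ p) ≫ ι p := by
          simp only [Category.assoc]
      _ = ρ p ≫ ((𝟙 _ - e i₀ r₀ ι ρ p) ≫ (𝟙 _ - e i₀ r₀ ι ρ p)) ≫ ι p := by
          rw [hι, Category.id_comp, Category.assoc]
      _ = _ := by rw [h1]; rfl

include hι in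
lemma d_comp_ρ (p : ℕ) : d i₀ r₀ ι ρ p ≫ ρ p = 𝟙 _ - e i₀ r₀ ι ρ p := by
  rw [d, Category.assoc, hι, Category.comp_id]

include hι in
lemma htpy_succ (p : ℕ) :
    ρ p ≫ d i₀ r₀ ι ρ p + d i₀ r₀ ι ρ (p + 1) ≫ ρ (p + 1) = 𝟙 (A (p + 1)) := by
  rw [d_comp_ρ i₀ r₀ ι ρ hι, ← e_succ]
  abel

include hι in
lemma htpy_zero : r₀ ≫ i₀ + d i₀ r₀ ι ρ 0 ≫ ρ 0 = 𝟙 (A 0) := by
  rw [d_comp_ρ i₀ r₀ ι ρ hι]
  change r₀ ≫ i₀ + (𝟙 _ - r₀ ≫ i₀) = 𝟙 _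
  abel

include h₀ hι in
lemma d_comp_d (p : ℕ) : d i₀ r₀ ι ρ p ≫ d i₀ r₀ ι ρ (p + 1) = 0 := by
  have h1 := e_idem i₀ r₀ ι ρ h₀ hι p
  have h2 : (𝟙 _ - e i₀ r₀ ι ρ p) ≫ (𝟙 _ - e i₀ r₀ ι ρ p) = 𝟙 _ - e i₀ r₀ ι ρ p := by
    simp only [Preadditive.sub_comp, Preadditive.comp_sub, Category.id_comp, Category.comp_id, h1]
    abel
  have h3 : d i₀ r₀ ι ρ p ≫ e i₀ r₀ ι ρ (p + 1) = d i₀ r₀ ι ρ p := by
    rw [e_succ, ← Category.assoc, d_comp_ρ i₀ r₀ ι ρ hι, d, ← Category.assoc, h2]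
  have h4 : d i₀ r₀ ι ρ (p + 1) = (𝟙 _ - e i₀ r₀ ι ρ (p + 1)) ≫ ι (p + 1) := rfl
  rw [h4, ← Category.assoc, Preadditive.comp_sub, Category.comp_id, h3, sub_self, zero_comp]

include h₀ in
lemma i₀_comp_d : i₀ ≫ d i₀ r₀ ι ρ 0 = 0 := by
  change i₀ ≫ (𝟙 _ - r₀ ≫ i₀) ≫ ι 0 = 0
  rw [← Category.assoc, Preadditive.comp_sub, Category.comp_id, ← Category.assoc, h₀,
    Category.id_comp, sub_self, zero_comp]

include h₀ in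
lemma mono_i₀ : Mono i₀ := by
  have : IsSplitMono i₀ := ⟨⟨⟨r₀, h₀⟩⟩⟩
  infer_instance

include h₀ hι in
lemma exact_succ (p : ℕ) :
    (ShortComplex.mk (d i₀ r₀ ι ρ p) (d i₀ r₀ ι ρ (p + 1)) (d_comp_d i₀ r₀ ι ρ h₀ hι p)).Exact := by
  rw [ShortComplex.ab_exact_iff]
  intro x hx
  refine ⟨(ρ p).hom x, ?_⟩
  have h := congrArg (fun f => f.hom x) (htpy_succ i₀ r₀ ι ρ hι p)
  simp only [AddCommGrpCat.hom_add, AddCommGrpCat.hom_comp, AddMonoidHom.add_apply,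
    AddMonoidHom.comp_apply, AddCommGrpCat.hom_id, AddMonoidHom.id_apply] at h
  dsimp at hx ⊢
  rw [hx, map_zero, add_zero] at h
  exact h

include h₀ hι in
lemma exact_zero :
    (ShortComplex.mk i₀ (d i₀ r₀ ι ρ 0) (i₀_comp_d i₀ r₀ ι ρ h₀)).Exact := by
  rw [ShortComplex.ab_exact_iff]
  intro x hx
  refine ⟨r₀.hom x, ?_⟩
  have h := congrArg (fun f => f.hom x) (htpy_zero i₀ r₀ ι ρ hι)
  simp only [AddCommGrpCat.hom_add, AddCommGrpCat.hom_comp, AddMonoidHom.add_apply,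
    AddMonoidHom.comp_apply, AddCommGrpCat.hom_id, AddMonoidHom.id_apply] at h
  dsimp at hx ⊢
  rw [hx, map_zero, add_zero] at h
  exact h

end Groth.Agent.H43.SplitTower
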