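import Groth.Agent.H43.TorResField

set_option autoImplicit false
universe u

namespace Groth.Agent.H43.TorResField

open TensorProduct LinearMap

variable {A : Type u} [CommRing A]

/-- products of flat modules are flat -/
instance flat_prod (X Y : Type u) [AddCommGroup X] [Module A X] [AddCommGroup Y] [Module A Y]
    [Module.Flat A X] [Module.Flat A Y] : Module.Flat A (X × Y) := by
  rw [Module.Flat.iff_rTensor_preserves_injective_linearMap]
  intro N' N _ _ _ _ f hf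
  have hcomm : (TensorProduct.prodRight A A N X Y).toLinearMap ∘ₗ rTensor (X × Y) f =
      (LinearMap.prodMap (rTensor X f) (rTensor Y f)) ∘ₗ
        (TensorProduct.prodRight A A N' X Y).toLinearMap := by
    apply TensorProduct.ext'
    intro n z
    simp
  have h1 : Function.Injective ((TensorProduct.prodRight A A N X Y).toLinearMap ∘ₗ
      rTensor (X × Y) f) := by
    rw [hcomm, LinearMap.coe_comp]
    refine Function.Injective.comp ?_ (TensorProduct.prodRight A A N' X Y).injective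
    rw [LinearMap.coe_prodMap]
    exact Function.Injective.prodMap
      (Module.Flat.rTensor_preserves_injective_linearMap f hf)
      (Module.Flat.rTensor_preserves_injective_linearMap f hf)
  exact Function.Injective.of_comp h1

section plain

variable {X Y : ℕ → Type u} [∀ i, AddCommGroup (X i)] [∀ i, Module A (X i)]
  [∀ i, AddCommGroup (Y i)] [∀ i, Module A (Y i)]
  (dX : ∀ i, X (i + 1) →ₗ[A] X i) (dY : ∀ i, Y (i + 1) →ₗ[A] Y i)
  (φ : ∀ i, X (i + 1) →ₗ[A] Y i)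

/-- the differential of the cone of a degree `-1` map `φ` -/
def coneD (i : ℕ) : (X (i + 1) × Y (i + 1)) →ₗ[A] (X i × Y i) :=
  LinearMap.prod (-(dX i ∘ₗ LinearMap.fst A _ _))
    (φ i ∘ₗ LinearMap.fst A _ _ + dY i ∘ₗ LinearMap.snd A _ _)

@[simp] theorem coneD_apply (i : ℕ) (z : X (i + 1) × Y (i + 1)) :
    coneD dX dY φ i z = (-(dX i z.1), φ i z.1 + dY i z.2) := rfl

variable {dX dY φ}

theorem coneD_comp (hX : ∀ i (x : X (i + 1 + 1)), dX i (dX (i + 1) x) = 0)
    (hY : ∀ i (y : Y (i + 1 + 1)), dY i (dY (i + 1) y) = 0)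
    (hφ : ∀ i (x : X (i + 1 + 1)), φ i (dX (i + 1) x) = dY i (φ (i + 1) x))
    (i : ℕ) (z : X (i + 1 + 1) × Y (i + 1 + 1)) :
    coneD dX dY φ i (coneD dX dY φ (i + 1) z) = 0 := by
  simp only [coneD_apply, map_neg, map_add, hX, hY, hφ, neg_zero]
  ext
  · simp
  · simp

/-- the cone is exact at position `j+1` if `φ` is injective on homology at `X (j+1)` and surjective
on homology at `Y (j+1)` -/
theorem cone_exact
    (hφ : ∀ i (x : X (i + 1 + 1)), φ i (dX (i + 1) x) = dY i (φ (i + 1) x)) (j : ℕ)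
    (hinj : ∀ x : X (j + 1), dX j x = 0 → (∃ y' : Y (j + 1), dY j y' = φ j x) →
      ∃ x' : X (j + 1 + 1), dX (j + 1) x' = x)
    (hsurj : ∀ y : Y (j + 1), dY j y = 0 → ∃ x : X (j + 1 + 1), dX (j + 1) x = 0 ∧
      ∃ y' : Y (j + 1 + 1), y = φ (j + 1) x + dY (j + 1) y')
    (z : X (j + 1) × Y (j + 1)) (hz : coneD dX dY φ j z = 0) :
    ∃ w : X (j + 1 + 1) × Y (j + 1 + 1), coneD dX dY φ (j + 1) w = z := by
  obtain ⟨x, y⟩ := z
  rw [coneD_apply, Prod.mk_eq_zero] at hz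
  obtain ⟨hz1, hz2⟩ := hz
  simp only at hz1 hz2
  have hx : dX j x = 0 := neg_eq_zero.mp hz1
  obtain ⟨x', hx'⟩ := hinj x hx ⟨-y, by rw [map_neg]; exact (eq_neg_of_add_eq_zero_right hz2).symm ▸ (by simp)⟩
  have hcyc : dY j (φ (j + 1) x' + y) = 0 := by
    rw [map_add, ← hφ, hx', hz2]
  obtain ⟨x'', hx'', y', hy'⟩ := hsurj _ hcyc
  refine ⟨(x'' - x', y'), ?_⟩
  rw [coneD_apply]
  ext
  · simp only [map_sub, hx'', hx']
    abel
  · simp only [map_sub]
    have : y = φ (j + 1) x'' + dY (j + 1) y' - φ (j + 1) x' := by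
      rw [← hy']; abel
    rw [this]
    abel

end plain

section tensor

variable {X Y : ℕ → Type u} [∀ i, AddCommGroup (X i)] [∀ i, Module A (X i)]
  [∀ i, AddCommGroup (Y i)] [∀ i, Module A (Y i)]
  {dX : ∀ i, X (i + 1) →ₗ[A] X i} {dY : ∀ i, Y (i + 1) →ₗ[A] Y i}
  {φ : ∀ i, X (i + 1) →ₗ[A] Y i}

theorem prodRight_lTensor_coneD (N : Type u) [AddCommGroup N] [Module A N] (i : ℕ)
    (z : N ⊗[A] (X (i + 1) × Y (i + 1))) :
    TensorProduct.prodRight A A N (X i) (Y i) (lTensor N (coneD dX dY φ i) z) =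
      coneD (X := fun i => N ⊗[A] X i) (Y := fun i => N ⊗[A] Y i)
        (fun i => lTensor N (dX i)) (fun i => lTensor N (dY i)) (fun i => lTensor N (φ i)) i
        (TensorProduct.prodRight A A N (X (i + 1)) (Y (i + 1)) z) := by
  induction z using TensorProduct.induction_on with
  | zero => rw [map_zero, map_zero, map_zero, map_zero]
  | tmul n z =>
    simp only [lTensor_tmul, coneD_apply, prodRight_tmul, tmul_neg, tmul_add]
  | add z₁ z₂ h₁ h₂ => rw [map_add, map_add, h₁, h₂, map_add, map_add]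

theorem acyc_cone
    (hφ : ∀ i (x : X (i + 1 + 1)), φ i (dX (i + 1) x) = dY i (φ (i + 1) x))
    (N : Type u) [AddCommGroup N] [Module A N] (j : ℕ)
    (hinj : ∀ x : N ⊗[A] X (j + 1), lTensor N (dX j) x = 0 →
      (∃ y' : N ⊗[A] Y (j + 1), lTensor N (dY j) y' = lTensor N (φ j) x) →
      ∃ x' : N ⊗[A] X (j + 1 + 1), lTensor N (dX (j + 1)) x' = x)
    (hsurj : ∀ y : N ⊗[A] Y (j + 1), lTensor N (dY j) y = 0 →
      ∃ x : N ⊗[A] X (j + 1 + 1), lTensor N (dX (j + 1)) x = 0 ∧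
      ∃ y' : N ⊗[A] Y (j + 1 + 1), y = lTensor N (φ (j + 1)) x + lTensor N (dY (j + 1)) y') :
    Acyc (fun i => X i × Y i) (coneD dX dY φ) N j := by
  intro z hz
  have hφ' : ∀ i (x : N ⊗[A] X (i + 1 + 1)),
      lTensor N (φ i) (lTensor N (dX (i + 1)) x) = lTensor N (dY i) (lTensor N (φ (i + 1)) x) := by
    intro i x
    rw [← LinearMap.comp_apply, ← LinearMap.comp_apply, ← lTensor_comp, ← lTensor_comp]
    congr 2
    ext x
    exact hφ i x
  have hz' := congrArg (TensorProduct.prodRight A A N (X j) (Y j)) hz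
  rw [prodRight_lTensor_coneD, map_zero] at hz'
  obtain ⟨w, hw⟩ := cone_exact (X := fun i => N ⊗[A] X i) (Y := fun i => N ⊗[A] Y i)
    (dX := fun i => lTensor N (dX i)) (dY := fun i => lTensor N (dY i))
    (φ := fun i => lTensor N (φ i)) hφ' j hinj hsurj _ hz'
  refine ⟨(TensorProduct.prodRight A A N _ _).symm w, ?_⟩
  apply (TensorProduct.prodRight A A N (X (j + 1)) (Y (j + 1))).injective
  rw [prodRight_lTensor_coneD, LinearEquiv.apply_symm_apply, hw]

end tensor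

section shift

variable (L : ℕ → Type u) [∀ i, AddCommGroup (L i)] [∀ i, Module A (L i)]

/-- prepend a zero term to a family -/
def ShX : ℕ → Type u
  | 0 => PUnit.{u + 1}
  | (i + 1) => L i

instance ShX.addCommGroup : ∀ i, AddCommGroup (ShX L i)
  | 0 => (PUnit.addCommGroup : AddCommGroup PUnit.{u + 1})
  | (i + 1) => (inferInstance : AddCommGroup (L i))

instance ShX.module : ∀ i, Module A (ShX L i)
  | 0 => (PUnit.module : Module A PUnit.{u + 1})
  | (i + 1) => (inferInstance : Module A (L i))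

instance ShX.flat [∀ i, Module.Flat A (L i)] : ∀ i, Module.Flat A (ShX L i)
  | 0 => (inferInstance : Module.Flat A PUnit.{u + 1})
  | (i + 1) => (inferInstance : Module.Flat A (L i))

instance ShX.subsingleton_zero : Subsingleton (ShX L 0) :=
  (inferInstance : Subsingleton PUnit.{u + 1})

variable {L}

/-- the shifted differential -/
def shD (d : ∀ i, L (i + 1) →ₗ[A] L i) : ∀ i, ShX L (i + 1) →ₗ[A] ShX L i
  | 0 => 0
  | (i + 1) => d i

theorem shD_comp {d : ∀ i, L (i + 1) →ₗ[A] L i}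
    (hd : ∀ i (x : L (i + 1 + 1)), d i (d (i + 1) x) = 0) :
    ∀ i (x : ShX L (i + 1 + 1)), shD d i (shD d (i + 1) x) = 0
  | 0, _ => rfl
  | (i + 1), x => hd i x

/-- the shifted chain map -/
def shφ {Q : ℕ → Type u} [∀ i, AddCommGroup (Q i)] [∀ i, Module A (Q i)]
    (φ : ∀ i, L i →ₗ[A] Q i) : ∀ i, ShX L i →ₗ[A] ShX Q i
  | 0 => 0
  | (i + 1) => φ i

end shift

section main

variable {P Q : ℕ → Type u} [∀ i, AddCommGroup (P i)] [∀ i, Module A (P i)]
  [∀ i, AddCommGroup (Q i)] [∀ i, Module A (Q i)]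
  (dP : ∀ i, P (i + 1) →ₗ[A] P i) (dQ : ∀ i, Q (i + 1) →ₗ[A] Q i) (φ : ∀ i, P i →ₗ[A] Q i)

/-- elementwise form of "`N ⊗ φ` is a quasi-isomorphism" -/
structure QIsoElem (N : Type u) [AddCommGroup N] [Module A N] : Prop where
  inj0 : ∀ x : N ⊗[A] P 0, (∃ y' : N ⊗[A] Q 1, lTensor N (dQ 0) y' = lTensor N (φ 0) x) →
    ∃ x' : N ⊗[A] P 1, lTensor N (dP 0) x' = x
  injS : ∀ (i : ℕ) (x : N ⊗[A] P (i + 1)), lTensor N (dP i) x = 0 →
    (∃ y' : N ⊗[A] Q (i + 1 + 1), lTensor N (dQ (i + 1)) y' = lTensor N (φ (i + 1)) x) →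
    ∃ x' : N ⊗[A] P (i + 1 + 1), lTensor N (dP (i + 1)) x' = x
  surj0 : ∀ y : N ⊗[A] Q 0, ∃ x : N ⊗[A] P 0, ∃ y' : N ⊗[A] Q 1,
    y = lTensor N (φ 0) x + lTensor N (dQ 0) y'
  surjS : ∀ (i : ℕ) (y : N ⊗[A] Q (i + 1)), lTensor N (dQ i) y = 0 →
    ∃ x : N ⊗[A] P (i + 1), lTensor N (dP i) x = 0 ∧ ∃ y' : N ⊗[A] Q (i + 1 + 1),
      y = lTensor N (φ (i + 1)) x + lTensor N (dQ (i + 1)) y'

/-- the (doubly shifted) cone family of `φ` -/
abbrev ConeX (P Q : ℕ → Type u) (i : ℕ) : Type u := ShX (ShX P) i × ShX Q i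

/-- the degree `-1` map underlying the cone -/
def coneφ : ∀ i, ShX (ShX P) (i + 1) →ₗ[A] ShX Q i := fun i => shφ φ i

/-- differential of the cone family -/
abbrev coneDD : ∀ i, ConeX P Q (i + 1) →ₗ[A] ConeX P Q i :=
  coneD (shD (shD dP)) (shD dQ) (coneφ φ)

variable {dP dQ φ}

theorem coneφ_comm (hφ : ∀ i (x : P (i + 1)), φ i (dP i x) = dQ i (φ (i + 1) x)) :
    ∀ i (x : ShX (ShX P) (i + 1 + 1)),
      coneφ φ i (shD (shD dP) (i + 1) x) = shD dQ i (coneφ φ (i + 1) x)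
  | 0, _ => Subsingleton.elim (α := ShX Q 0) _ _
  | (i + 1), x => hφ i x

theorem coneDD_comp (hP : ∀ i (x : P (i + 1 + 1)), dP i (dP (i + 1) x) = 0)
    (hQ : ∀ i (x : Q (i + 1 + 1)), dQ i (dQ (i + 1) x) = 0)
    (hφ : ∀ i (x : P (i + 1)), φ i (dP i x) = dQ i (φ (i + 1) x)) :
    ∀ i (z : ConeX P Q (i + 1 + 1)), coneDD dP dQ φ i (coneDD dP dQ φ (i + 1) z) = 0 :=
  coneD_comp (shD_comp (shD_comp hP)) (shD_comp hQ) (coneφ_comm hφ)

theorem acyc_coneDD (hφ : ∀ i (x : P (i + 1)), φ i (dP i x) = dQ i (φ (i + 1) x))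
    (N : Type u) [AddCommGroup N] [Module A N] (h : QIsoElem dP dQ φ N) :
    ∀ j, Acyc (ConeX P Q) (coneDD dP dQ φ) N j
  | 0 => by
    refine acyc_cone (coneφ_comm hφ) N 0 ?_ ?_
    · intro x _ _
      haveI : Subsingleton (N ⊗[A] ShX (ShX P) (0 + 1)) :=
        inferInstanceAs (Subsingleton (N ⊗[A] PUnit.{u + 1}))
      exact ⟨0, Subsingleton.elim _ _⟩
    · intro y _
      obtain ⟨x, y', hxy⟩ := h.surj0 y
      exact ⟨x, Subsingleton.elim (α := N ⊗[A] PUnit.{u + 1}) _ _, y', hxy⟩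
  | 1 => by
    refine acyc_cone (coneφ_comm hφ) N 1 ?_ ?_
    · intro x _ hx
      exact h.inj0 x hx
    · intro y hy
      exact h.surjS 0 y hy
  | (j + 2) => by
    refine acyc_cone (coneφ_comm hφ) N (j + 2) ?_ ?_
    · intro x hx hx'
      exact h.injS j x hx hx'
    · intro y hy
      exact h.surjS (j + 1) y hy

theorem acyc_self {L : ℕ → Type u} [∀ i, AddCommGroup (L i)] [∀ i, Module A (L i)]
    {d : ∀ i, L (i + 1) →ₗ[A] L i} (j : ℕ) (h : Acyc L d A j) (z : L (j + 1)) (hz : d j z = 0) :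
    ∃ w : L (j + 1 + 1), d (j + 1) w = z := by
  obtain ⟨w, hw⟩ := h ((1 : A) ⊗ₜ z) (by rw [lTensor_tmul, hz, tmul_zero])
  refine ⟨TensorProduct.lid A _ w, ?_⟩
  have key : ∀ w : A ⊗[A] L (j + 1 + 1), d (j + 1) (TensorProduct.lid A _ w) =
      TensorProduct.lid A _ (lTensor A (d (j + 1)) w) := by
    intro w
    induction w using TensorProduct.induction_on with
    | zero => simp
    | tmul a l => simp
    | add w₁ w₂ h₁ h₂ => rw [map_add, map_add, h₁, h₂, map_add, map_add]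
  rw [key, hw, TensorProduct.lid_tmul, one_smul]

/-- **Main module-level theorem for maps**: a chain map of complexes of flat modules over a
Noetherian ring which becomes a quasi-isomorphism after tensoring with every residue field is
(at the bottom) a quasi-isomorphism. -/
theorem quasiIso_main [IsNoetherianRing A] [∀ i, Module.Flat A (P i)] [∀ i, Module.Flat A (Q i)]
    (hP : ∀ i (x : P (i + 1 + 1)), dP i (dP (i + 1) x) = 0)
    (hQ : ∀ i (x : Q (i + 1 + 1)), dQ i (dQ (i + 1) x) = 0)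
    (hφ : ∀ i (x : P (i + 1)), φ i (dP i x) = dQ i (φ (i + 1) x))
    (hk : ∀ (p : Ideal A) [p.IsPrime], QIsoElem dP dQ φ p.ResidueField) :
    (∀ q : Q 0, ∃ x : P 0, ∃ y : Q 1, q = φ 0 x + dQ 0 y) ∧
    (∀ x : P 0, (∃ y : Q 1, φ 0 x = dQ 0 y) → ∃ x' : P 1, x = dP 0 x') := by
  have hall : ∀ j, Acyc (ConeX P Q) (coneDD dP dQ φ) A j := fun j =>
    acyc_of_residueField (coneDD_comp hP hQ hφ) 0
      (fun p _ j _ => acyc_coneDD hφ _ (hk p) j) A j (Nat.zero_le j)
  constructor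
  · intro q
    obtain ⟨w, hw⟩ := acyc_self 0 (hall 0) ((0 : PUnit.{u + 1}), q)
      (Subsingleton.elim (α := PUnit.{u + 1} × PUnit.{u + 1}) _ _)
    have h2 := congrArg Prod.snd hw
    exact ⟨w.1, w.2, h2.symm⟩
  · rintro x ⟨y, hy⟩
    have hz : coneDD dP dQ φ 1 ((x, -y) : P 0 × Q 1) = 0 := by
      apply Prod.ext
      · exact Subsingleton.elim (α := PUnit.{u + 1}) _ _
      · change φ 0 x + dQ 0 (-y) = 0
        rw [map_neg, hy, add_neg_cancel]
    obtain ⟨w, hw⟩ := acyc_self 1 (hall 1) ((x, -y) : P 0 × Q 1) hz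
    have h1 := congrArg Prod.fst hw
    set w1 : P 1 := w.1 with hw1
    change -(dP 0 w1) = x at h1
    exact ⟨-w1, by rw [map_neg, h1]⟩

end main

end Groth.Agent.H43.TorResField
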