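import Groth.Agent.H43.TorResFieldCat
import Groth.Agent.H43.TorCone

set_option autoImplicit false
universe u

namespace Groth.Agent.H43.TorResField

open CategoryTheory CategoryTheory.Limits MonoidalCategory Groth.Agent.H43.TorLES

variable {A : Type u} [CommRing A]

section shortComplex

variable {S₁ S₂ : ShortComplex (ModuleCat.{u} A)} (ψ : S₁ ⟶ S₂)

theorem isIso_φH_of_isIso_homologyMap [IsIso (ShortComplex.homologyMap ψ)]
    (γ : ShortComplex.LeftHomologyMapData ψ S₁.moduleCatLeftHomologyData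
      S₂.moduleCatLeftHomologyData) : IsIso γ.φH := by
  have h := γ.homologyMap_eq
  have h3 : γ.φH = S₁.moduleCatLeftHomologyData.homologyIso.inv ≫ ShortComplex.homologyMap ψ ≫
      S₂.moduleCatLeftHomologyData.homologyIso.hom := by
    rw [h]; simp
  rw [h3]
  infer_instance

theorem inj_of_isIso_homologyMap [IsIso (ShortComplex.homologyMap ψ)]
    (z : S₁.X₂) (hz : S₁.g z = 0) (w : S₂.X₁) (hw : S₂.f w = ψ.τ₂ z) :
    ∃ w' : S₁.X₁, S₁.f w' = z := by
  let h₁ := S₁.moduleCatLeftHomologyData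
  let h₂ := S₂.moduleCatLeftHomologyData
  let γ : ShortComplex.LeftHomologyMapData ψ h₁ h₂ := default
  haveI : IsIso γ.φH := isIso_φH_of_isIso_homologyMap ψ γ
  have hinj : Function.Injective γ.φH.hom :=
    ((ConcreteCategory.isIso_iff_bijective γ.φH).mp inferInstance).1
  let k : h₁.K := ⟨z, hz⟩
  have e3 : h₂.i (γ.φK k) = ψ.τ₂ z := by
    have := congrArg (fun f => f k) (ModuleCat.hom_ext_iff.1 γ.commi)
    simp only [ModuleCat.hom_comp, LinearMap.comp_apply] at this
    rw [this]
    rfl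
  have e4 : γ.φK k = S₂.moduleCatToCycles w := by
    apply Subtype.ext
    change h₂.i (γ.φK k) = S₂.f w
    rw [e3, hw]
  have e1 : h₂.π (γ.φK k) = 0 := by
    rw [e4]
    change (LinearMap.range S₂.moduleCatToCycles).mkQ (S₂.moduleCatToCycles w) = 0
    rw [Submodule.mkQ_apply, Submodule.Quotient.mk_eq_zero]
    exact ⟨w, rfl⟩
  have e2 : γ.φH (h₁.π k) = 0 := by
    have := congrArg (fun f => f k) (ModuleCat.hom_ext_iff.1 γ.commπ)
    simp only [ModuleCat.hom_comp, LinearMap.comp_apply] at this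
    rw [this]
    exact e1
  have e5 : h₁.π k = 0 := hinj (by rw [map_zero]; exact e2)
  have e6 : k ∈ LinearMap.range S₁.moduleCatToCycles := by
    have : (LinearMap.range S₁.moduleCatToCycles).mkQ k = 0 := e5
    rwa [Submodule.mkQ_apply, Submodule.Quotient.mk_eq_zero] at this
  obtain ⟨w', hw'⟩ := e6
  refine ⟨w', ?_⟩
  have := congrArg Subtype.val hw'
  exact this

theorem surj_of_isIso_homologyMap [IsIso (ShortComplex.homologyMap ψ)]
    (y : S₂.X₂) (hy : S₂.g y = 0) :
    ∃ z : S₁.X₂, S₁.g z = 0 ∧ ∃ w : S₂.X₁, y = ψ.τ₂ z + S₂.f w := by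
  let h₁ := S₁.moduleCatLeftHomologyData
  let h₂ := S₂.moduleCatLeftHomologyData
  let γ : ShortComplex.LeftHomologyMapData ψ h₁ h₂ := default
  haveI : IsIso γ.φH := isIso_φH_of_isIso_homologyMap ψ γ
  have hsurj : Function.Surjective γ.φH.hom :=
    ((ConcreteCategory.isIso_iff_bijective γ.φH).mp inferInstance).2
  let k₂ : LinearMap.ker S₂.g.hom := ⟨y, hy⟩
  obtain ⟨h, hh⟩ := hsurj (h₂.π k₂)
  obtain ⟨k₁, rfl⟩ : ∃ k₁ : h₁.K, h₁.π k₁ = h :=
    Submodule.mkQ_surjective (LinearMap.range S₁.moduleCatToCycles) h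
  have e2 : γ.φH (h₁.π k₁) = h₂.π (γ.φK k₁) := by
    have := congrArg (fun f => f k₁) (ModuleCat.hom_ext_iff.1 γ.commπ)
    simp only [ModuleCat.hom_comp, LinearMap.comp_apply] at this
    exact this
  have e3 : h₂.i (γ.φK k₁) = ψ.τ₂ k₁.1 := by
    have := congrArg (fun f => f k₁) (ModuleCat.hom_ext_iff.1 γ.commi)
    simp only [ModuleCat.hom_comp, LinearMap.comp_apply] at this
    rw [this]
    rfl
  let c : LinearMap.ker S₂.g.hom := γ.φK k₁
  have e4 : (LinearMap.range S₂.moduleCatToCycles).mkQ (k₂ - c) = 0 := by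
    rw [map_sub, sub_eq_zero]
    have : h₂.π (γ.φK k₁) = h₂.π k₂ := by rw [← e2]; exact hh
    exact this.symm
  rw [Submodule.mkQ_apply, Submodule.Quotient.mk_eq_zero] at e4
  obtain ⟨w, hw⟩ := e4
  refine ⟨k₁.1, k₁.2, w, ?_⟩
  have h5 := congrArg Subtype.val hw
  have h6 : S₂.f w = y - h₂.i (γ.φK k₁) := h5
  rw [e3] at h6
  rw [h6]
  abel

end shortComplex

section complexes

variable {C₁ C₂ : ChainComplex (ModuleCat.{u} A) ℕ} (ψ : C₁ ⟶ C₂)

theorem isIso_homologyMap_sc' (a i b : ℕ) (ha : (ComplexShape.down ℕ).prev i = a)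
    (hb : (ComplexShape.down ℕ).next i = b) [h : IsIso (HomologicalComplex.homologyMap ψ i)] :
    IsIso (ShortComplex.homologyMap
      ((HomologicalComplex.shortComplexFunctor' _ _ a i b).map ψ)) := by
  subst ha hb
  exact h

/-- the map `K ⊗ C₁ ⟶ K ⊗ C₂` -/
noncomputable abbrev tensMap (K : ModuleCat.{u} A) : tensCx K C₁ ⟶ tensCx K C₂ :=
  ((tensorLeft K).mapHomologicalComplex _).map ψ

theorem qIsoElem_of_isIso (K : ModuleCat.{u} A)
    (h : ∀ i, IsIso (HomologicalComplex.homologyMap (tensMap ψ K) i)) :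
    QIsoElem (cxD C₁) (cxD C₂) (fun i => (ψ.f i).hom) K where
  inj0 := by
    rintro x ⟨y', hy'⟩
    haveI := h 0
    haveI := isIso_homologyMap_sc' (tensMap ψ K) 1 0 0 (by simp) (by simp)
    have hx : ((HomologicalComplex.shortComplexFunctor' _ _ 1 0 0).obj (tensCx K C₁)).g x = 0 := by
      change ((tensCx K C₁).d 0 0) x = 0
      rw [(tensCx K C₁).shape 0 0 (by simp)]
      rfl
    exact inj_of_isIso_homologyMap
      ((HomologicalComplex.shortComplexFunctor' _ _ 1 0 0).map (tensMap ψ K)) x hx y' hy'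
  injS := by
    rintro i x hx ⟨y', hy'⟩
    haveI := h (i + 1)
    haveI := isIso_homologyMap_sc' (tensMap ψ K) (i + 1 + 1) (i + 1) i (by simp) (by simp)
    exact inj_of_isIso_homologyMap
      ((HomologicalComplex.shortComplexFunctor' _ _ (i + 1 + 1) (i + 1) i).map (tensMap ψ K))
      x hx y' hy'
  surj0 := by
    intro y
    haveI := h 0
    haveI := isIso_homologyMap_sc' (tensMap ψ K) 1 0 0 (by simp) (by simp)
    have hy : ((HomologicalComplex.shortComplexFunctor' _ _ 1 0 0).obj (tensCx K C₂)).g y = 0 := by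
      change ((tensCx K C₂).d 0 0) y = 0
      rw [(tensCx K C₂).shape 0 0 (by simp)]
      rfl
    obtain ⟨z, -, w, hw⟩ := surj_of_isIso_homologyMap
      ((HomologicalComplex.shortComplexFunctor' _ _ 1 0 0).map (tensMap ψ K)) y hy
    exact ⟨z, w, hw⟩
  surjS := by
    intro i y hy
    haveI := h (i + 1)
    haveI := isIso_homologyMap_sc' (tensMap ψ K) (i + 1 + 1) (i + 1) i (by simp) (by simp)
    obtain ⟨z, hz, w, hw⟩ := surj_of_isIso_homologyMap
      ((HomologicalComplex.shortComplexFunctor' _ _ (i + 1 + 1) (i + 1) i).map (tensMap ψ K)) y hy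
    exact ⟨z, hz, w, hw⟩

end complexes

theorem isIso_of_tor_residueField_isIso [IsNoetherianRing A] {M N : ModuleCat.{u} A} (u : M ⟶ N)
    (h : ∀ (x : Ideal A) [x.IsPrime] (i : ℕ),
      IsIso (((Tor (ModuleCat.{u} A) i).obj (ModuleCat.of A x.ResidueField)).map u)) :
    IsIso u := by
  let PM := ProjectiveResolution.of M
  let PN := ProjectiveResolution.of N
  let ũ := ProjectiveResolution.lift u PM PN
  haveI : ∀ i, Module.Flat A (PM.complex.X i) := fun i => flat_of_projective_obj _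
  haveI : ∀ i, Module.Flat A (PN.complex.X i) := fun i => flat_of_projective_obj _
  have hk : ∀ (x : Ideal A) [x.IsPrime], QIsoElem (cxD PM.complex) (cxD PN.complex)
      (fun i => (ũ.f i).hom) x.ResidueField := by
    intro x _
    apply qIsoElem_of_isIso ũ (ModuleCat.of A x.ResidueField)
    intro i
    have e := Functor.leftDerived_map_eq (tensorLeft (ModuleCat.of A x.ResidueField)) i u
      (P := PM) (Q := PN) ũ (ProjectiveResolution.lift_commutes u PM PN)
    have h1 : IsIso (((tensorLeft (ModuleCat.of A x.ResidueField)).leftDerived i).map u) := h x i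
    rw [e] at h1
    haveI := h1
    haveI h2 := IsIso.of_isIso_comp_left
      (PM.isoLeftDerivedObj (tensorLeft (ModuleCat.of A x.ResidueField)) i).hom
      (((tensorLeft (ModuleCat.of A x.ResidueField)).mapHomologicalComplex _ ⋙
        HomologicalComplex.homologyFunctor _ _ i).map ũ ≫
        (PN.isoLeftDerivedObj (tensorLeft (ModuleCat.of A x.ResidueField)) i).inv)
    exact IsIso.of_isIso_comp_right
      (((tensorLeft (ModuleCat.of A x.ResidueField)).mapHomologicalComplex _ ⋙
        HomologicalComplex.homologyFunctor _ _ i).map ũ)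
      (PN.isoLeftDerivedObj (tensorLeft (ModuleCat.of A x.ResidueField)) i).inv
  have hφ : ∀ i (x : PM.complex.X (i + 1)),
      (ũ.f i).hom (cxD PM.complex i x) = cxD PN.complex i ((ũ.f (i + 1)).hom x) := by
    intro i x
    have hc := ũ.comm (i + 1) i
    have h2 : (PM.complex.d (i + 1) i ≫ ũ.f i).hom x = (ũ.f (i + 1) ≫ PN.complex.d (i + 1) i).hom x := by
      rw [hc]
    rw [ModuleCat.hom_comp, ModuleCat.hom_comp, LinearMap.comp_apply, LinearMap.comp_apply] at h2
    exact h2
  obtain ⟨hS, hI⟩ := quasiIso_main (cxD_comp PM.complex) (cxD_comp PN.complex) hφ hk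
  -- augmentations
  have hεM : Function.Surjective (PM.π.f 0).hom := (ModuleCat.epi_iff_surjective _).mp inferInstance
  have hεN : Function.Surjective (PN.π.f 0).hom := (ModuleCat.epi_iff_surjective _).mp inferInstance
  have hexM := (ShortComplex.moduleCat_exact_iff _).mp PM.exact₀
  have hexN := (ShortComplex.moduleCat_exact_iff _).mp PN.exact₀
  have hcomm : ∀ x : PM.complex.X 0, (PN.π.f 0).hom ((ũ.f 0).hom x) = u.hom ((PM.π.f 0).hom x) := by
    intro x
    have hc := ProjectiveResolution.lift_commutes_zero u PM PN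
    have h2 := congrArg (fun f => (ModuleCat.Hom.hom f) x) hc
    simp only [ModuleCat.hom_comp, LinearMap.comp_apply] at h2
    exact h2
  rw [ConcreteCategory.isIso_iff_bijective]
  constructor
  · rw [injective_iff_map_eq_zero]
    intro m hm
    obtain ⟨x, rfl⟩ := hεM m
    have h1 : (PN.π.f 0).hom ((ũ.f 0).hom x) = 0 := by
      rw [hcomm]
      exact hm
    obtain ⟨y, hy⟩ := hexN _ h1
    obtain ⟨x', hx'⟩ := hI x ⟨y, hy.symm⟩
    rw [hx']
    exact ShortComplex.moduleCat_zero_apply (ShortComplex.mk _ _ PM.complex_d_comp_π_f_zero) x'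
  · intro n
    obtain ⟨q, rfl⟩ := hεN n
    obtain ⟨x, y, hxy⟩ := hS q
    refine ⟨(PM.π.f 0).hom x, ?_⟩
    have h0 : (PN.π.f 0).hom (cxD PN.complex 0 y) = 0 :=
      ShortComplex.moduleCat_zero_apply (ShortComplex.mk _ _ PN.complex_d_comp_π_f_zero) y
    rw [hxy, map_add, h0, add_zero]
    exact (hcomm x).symm

end Groth.Agent.H43.TorResField
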