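import Mathlib

set_option autoImplicit false
universe u

namespace Groth.Agent.H43.TorResField

open TensorProduct LinearMap

variable {A : Type u} [CommRing A]
variable (L : ℕ → Type u) [∀ i, AddCommGroup (L i)] [∀ i, Module A (L i)]
  (d : ∀ i, L (i + 1) →ₗ[A] L i)

/-- exactness of `N ⊗ L` at position `j+1` (the nontrivial inclusion) -/
def Acyc (N : Type u) [AddCommGroup N] [Module A N] (j : ℕ) : Prop :=
  ∀ z : N ⊗[A] L (j + 1), lTensor N (d j) z = 0 →
    ∃ w : N ⊗[A] L (j + 1 + 1), lTensor N (d (j + 1)) w = z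

variable {L d}

theorem lTensor_dd (hd : ∀ i (x : L (i + 1 + 1)), d i (d (i + 1) x) = 0)
    (N : Type u) [AddCommGroup N] [Module A N] (i : ℕ) (w : N ⊗[A] L (i + 1 + 1)) :
    lTensor N (d i) (lTensor N (d (i + 1)) w) = 0 := by
  rw [← LinearMap.comp_apply, ← lTensor_comp]
  have : d i ∘ₗ d (i + 1) = 0 := by
    ext x
    exact hd i x
  rw [this, lTensor_zero, LinearMap.zero_apply]

theorem comm_apply {N N' : Type u} [AddCommGroup N] [Module A N] [AddCommGroup N'] [Module A N']
    (f : N →ₗ[A] N') (i : ℕ) (z : N ⊗[A] L (i + 1)) :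
    lTensor N' (d i) (rTensor (L (i + 1)) f z) = rTensor (L i) f (lTensor N (d i) z) := by
  rw [← LinearMap.comp_apply, ← LinearMap.comp_apply, lTensor_comp_rTensor, rTensor_comp_lTensor]

theorem acyc_of_subsingleton (N : Type u) [AddCommGroup N] [Module A N] [Subsingleton N] (j : ℕ) :
    Acyc L d N j := by
  intro z _
  exact ⟨0, Subsingleton.elim _ _⟩

theorem acyc_mid [∀ i, Module.Flat A (L i)]
    (hd : ∀ i (x : L (i + 1 + 1)), d i (d (i + 1) x) = 0)
    {N' N N'' : Type u} [AddCommGroup N'] [Module A N'] [AddCommGroup N] [Module A N]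
    [AddCommGroup N''] [Module A N'']
    (f : N' →ₗ[A] N) (g : N →ₗ[A] N'')
    (hf : Function.Injective f) (hg : Function.Surjective g) (hfg : Function.Exact f g) (j : ℕ)
    (h1 : Acyc L d N' j) (h3 : Acyc L d N'' j) : Acyc L d N j := by
  intro z hz
  have hz'' : lTensor N'' (d j) (rTensor (L (j + 1)) g z) = 0 := by
    rw [comm_apply, hz, map_zero]
  obtain ⟨w'', hw''⟩ := h3 _ hz''
  obtain ⟨w, rfl⟩ := rTensor_surjective (L (j + 1 + 1)) hg w''
  have h0 : rTensor (L (j + 1)) g (z - lTensor N (d (j + 1)) w) = 0 := by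
    rw [map_sub, ← hw'', comm_apply, sub_self]
  obtain ⟨z', hz'⟩ := (rTensor_exact (L (j + 1)) hfg hg _).mp h0
  have hz'c : lTensor N' (d j) z' = 0 := by
    apply Module.Flat.rTensor_preserves_injective_linearMap (M := L j) f hf
    rw [map_zero, ← comm_apply, hz', map_sub, hz, lTensor_dd hd, sub_zero]
  obtain ⟨w', hw'⟩ := h1 _ hz'c
  refine ⟨w + rTensor _ f w', ?_⟩
  rw [map_add, comm_apply, hw', hz']
  abel

theorem acyc_inj [∀ i, Module.Flat A (L i)]
    (hd : ∀ i (x : L (i + 1 + 1)), d i (d (i + 1) x) = 0)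
    {N' N C : Type u} [AddCommGroup N'] [Module A N'] [AddCommGroup N] [Module A N]
    [AddCommGroup C] [Module A C]
    (f : N' →ₗ[A] N) (g : N →ₗ[A] C)
    (hf : Function.Injective f) (hg : Function.Surjective g) (hfg : Function.Exact f g) (j : ℕ)
    (h3 : Acyc L d C (j + 1)) (z : N' ⊗[A] L (j + 1))
    (w : N ⊗[A] L (j + 1 + 1)) (hw : lTensor N (d (j + 1)) w = rTensor (L (j + 1)) f z) :
    ∃ w' : N' ⊗[A] L (j + 1 + 1), lTensor N' (d (j + 1)) w' = z := by
  have hwc : lTensor C (d (j + 1)) (rTensor (L (j + 1 + 1)) g w) = 0 := by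
    rw [comm_apply, hw, ← LinearMap.comp_apply, ← rTensor_comp]
    have : g ∘ₗ f = 0 := by
      ext x
      exact hfg.apply_apply_eq_zero x
    rw [this, rTensor_zero, LinearMap.zero_apply]
  obtain ⟨v'', hv''⟩ := h3 _ hwc
  obtain ⟨v, rfl⟩ := rTensor_surjective (L (j + 1 + 1 + 1)) hg v''
  have h0 : rTensor (L (j + 1 + 1)) g (w - lTensor N (d (j + 1 + 1)) v) = 0 := by
    rw [map_sub, ← hv'', comm_apply, sub_self]
  obtain ⟨w₁, hw₁⟩ := (rTensor_exact (L (j + 1 + 1)) hfg hg _).mp h0
  refine ⟨w₁, ?_⟩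
  apply Module.Flat.rTensor_preserves_injective_linearMap (M := L (j + 1)) f hf
  rw [← comm_apply, hw₁, map_sub, lTensor_dd hd, sub_zero, hw]

theorem acyc_of_equiv [∀ i, Module.Flat A (L i)]
    (hd : ∀ i (x : L (i + 1 + 1)), d i (d (i + 1) x) = 0)
    {N N' : Type u} [AddCommGroup N'] [Module A N'] [AddCommGroup N] [Module A N]
    (e : N' ≃ₗ[A] N) (j : ℕ) (h : Acyc L d N' j) : Acyc L d N j := by
  refine acyc_mid hd (N'' := PUnit.{u+1}) e.toLinearMap 0 e.injective ?_ ?_ j h
    (acyc_of_subsingleton _ j)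
  · intro x
    exact ⟨0, Subsingleton.elim _ _⟩
  · intro y
    constructor
    · intro _
      exact ⟨e.symm y, e.apply_symm_apply y⟩
    · intro _
      rfl

theorem acyc_of_cyclic [∀ i, Module.Flat A (L i)]
    (hd : ∀ i (x : L (i + 1 + 1)), d i (d (i + 1) x) = 0)
    {I : Ideal A} (j : ℕ) (IH : ∀ J : Ideal A, I < J → Acyc L d (A ⧸ J) j)
    {N : Type u} [AddCommGroup N] [Module A N] (ψ : A →ₗ[A] N) (hψ : Function.Surjective ψ)
    (hI : I < LinearMap.ker ψ) : Acyc L d N j :=
  acyc_of_equiv hd (ψ.quotKerEquivOfSurjective hψ) j (IH (LinearMap.ker ψ) hI)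

/-- clearing denominators in `k(p) ⊗ L` -/
theorem exists_denominator (p : Ideal A) [p.IsPrime] (X : Type u) [AddCommGroup X] [Module A X]
    (w : p.ResidueField ⊗[A] X) :
    ∃ a : A, a ∉ p ∧ ∃ w' : (A ⧸ p) ⊗[A] X,
      a • w = rTensor X (IsScalarTower.toAlgHom A (A ⧸ p) p.ResidueField).toLinearMap w' := by
  induction w using TensorProduct.induction_on with
  | zero => exact ⟨1, fun h => (Ideal.IsPrime.ne_top inferInstance) ((Ideal.eq_top_iff_one p).mpr h),
      0, by simp⟩
  | tmul x l =>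
    obtain ⟨⟨b, s⟩, hbs⟩ := IsLocalization.surj (nonZeroDivisors (A ⧸ p)) x
    obtain ⟨a, ha⟩ := Ideal.Quotient.mk_surjective (s : A ⧸ p)
    have hap : a ∉ p := by
      intro h
      have h0 : (s : A ⧸ p) = 0 := by
        rw [← ha]
        exact Ideal.Quotient.eq_zero_iff_mem.mpr h
      exact (nonZeroDivisors.ne_zero s.2) h0
    refine ⟨a, hap, b ⊗ₜ l, ?_⟩
    rw [rTensor_tmul, TensorProduct.smul_tmul']
    congr 1
    simp only [AlgHom.toLinearMap_apply, IsScalarTower.coe_toAlgHom']
    rw [← hbs, ← ha, Algebra.smul_def, mul_comm]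
    congr 1
  | add w₁ w₂ h₁ h₂ =>
    obtain ⟨a₁, ha₁, w₁', h₁'⟩ := h₁
    obtain ⟨a₂, ha₂, w₂', h₂'⟩ := h₂
    refine ⟨a₁ * a₂, fun h => ?_, a₂ • w₁' + a₁ • w₂', ?_⟩
    · rcases Ideal.IsPrime.mem_or_mem inferInstance h with h | h
      · exact ha₁ h
      · exact ha₂ h
    · rw [smul_add, map_add, map_smul, map_smul, ← h₁', ← h₂', smul_smul, smul_smul, mul_comm a₂ a₁]

theorem acyc_prime [∀ i, Module.Flat A (L i)]
    (hd : ∀ i (x : L (i + 1 + 1)), d i (d (i + 1) x) = 0)
    (p : Ideal A) [p.IsPrime] (j : ℕ) (hk : Acyc L d p.ResidueField j)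
    (IH : ∀ J : Ideal A, p < J → Acyc L d (A ⧸ J) (j + 1)) : Acyc L d (A ⧸ p) j := by
  intro z hz
  set ι : (A ⧸ p) →ₗ[A] p.ResidueField :=
    (IsScalarTower.toAlgHom A (A ⧸ p) p.ResidueField).toLinearMap with hι
  have hιinj : Function.Injective ι := Ideal.injective_algebraMap_quotient_residueField p
  have hιz : lTensor p.ResidueField (d j) (rTensor (L (j + 1)) ι z) = 0 := by
    rw [comm_apply, hz, map_zero]
  obtain ⟨w, hw⟩ := hk _ hιz
  obtain ⟨a, hap, w', hw'⟩ := exists_denominator p (L (j + 1 + 1)) w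
  have haz : lTensor (A ⧸ p) (d (j + 1)) w' = a • z := by
    apply Module.Flat.rTensor_preserves_injective_linearMap (M := L (j + 1)) ι hιinj
    rw [← comm_apply, ← hw', map_smul, map_smul, hw]
  -- multiplication by `a` on `A ⧸ p`
  set f : (A ⧸ p) →ₗ[A] (A ⧸ p) := LinearMap.lsmul A (A ⧸ p) a with hf
  have hfinj : Function.Injective f := by
    rw [← LinearMap.ker_eq_bot, LinearMap.ker_eq_bot']
    intro x hx
    obtain ⟨x, rfl⟩ := Ideal.Quotient.mk_surjective x
    have : (Ideal.Quotient.mk p) (a * x) = 0 := by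
      rw [map_mul, ← hx, hf, LinearMap.lsmul_apply, Algebra.smul_def]
      rfl
    rw [Ideal.Quotient.eq_zero_iff_mem] at this ⊢
    exact (Ideal.IsPrime.mem_or_mem inferInstance this).resolve_left hap
  set g := (LinearMap.range f).mkQ with hg
  have hfg : Function.Exact f g := LinearMap.exact_map_mkQ_range f
  have hgs : Function.Surjective g := Submodule.mkQ_surjective _
  have h3 : Acyc L d ((A ⧸ p) ⧸ LinearMap.range f) (j + 1) := by
    refine acyc_of_cyclic hd (I := p) (j + 1) IH (g ∘ₗ (Submodule.mkQ p)) ?_ ?_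
    · exact hgs.comp (Submodule.mkQ_surjective _)
    · refine lt_of_le_of_ne ?_ ?_
      · intro x hx
        rw [LinearMap.mem_ker, LinearMap.comp_apply]
        have : Submodule.mkQ p x = 0 := (Submodule.Quotient.mk_eq_zero p).mpr hx
        rw [this, map_zero]
      · intro h
        apply hap
        rw [h, LinearMap.mem_ker, LinearMap.comp_apply, hg, Submodule.mkQ_apply,
          Submodule.Quotient.mk_eq_zero]
        refine ⟨Submodule.mkQ p 1, ?_⟩
        rw [hf, LinearMap.lsmul_apply, ← map_smul, smul_eq_mul, mul_one]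
  refine acyc_inj hd f g hfinj hgs hfg j h3 z w' ?_
  rw [haz, hf]
  have : LinearMap.lsmul A (A ⧸ p) a = a • LinearMap.id := by
    ext
    simp
  rw [this, LinearMap.rTensor_smul, LinearMap.rTensor_id, LinearMap.smul_apply, LinearMap.id_apply]

theorem acyc_quotient [IsNoetherianRing A] [∀ i, Module.Flat A (L i)]
    (hd : ∀ i (x : L (i + 1 + 1)), d i (d (i + 1) x) = 0) (n : ℕ)
    (hk : ∀ (p : Ideal A) [p.IsPrime] (j : ℕ), n ≤ j → Acyc L d p.ResidueField j)
    (I : Ideal A) : ∀ j, n ≤ j → Acyc L d (A ⧸ I) j := by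
  induction I using WellFoundedGT.induction with
  | ind I IH =>
  intro j hj
  by_cases hI : I.IsPrime
  · exact acyc_prime hd I j (hk I j hj) (fun J hJ => IH J hJ (j + 1) (by omega))
  · rcases Ideal.not_isPrime_iff.mp hI with rfl | ⟨a, ha, b, hb, hab⟩
    · haveI : Subsingleton (A ⧸ (⊤ : Ideal A)) := Ideal.Quotient.subsingleton_iff.mpr rfl
      exact acyc_of_subsingleton _ j
    · set f0 : (A ⧸ I) →ₗ[A] (A ⧸ I) := LinearMap.lsmul A (A ⧸ I) a with hf0
      have h1 : Acyc L d (LinearMap.range f0) j := by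
        refine acyc_of_cyclic hd (I := I) j (fun J hJ => IH J hJ j hj)
          (f0.rangeRestrict ∘ₗ Submodule.mkQ I) ?_ ?_
        · exact (LinearMap.surjective_rangeRestrict f0).comp (Submodule.mkQ_surjective _)
        · refine lt_of_le_of_ne ?_ ?_
          · intro x hx
            rw [LinearMap.mem_ker, LinearMap.comp_apply]
            have : Submodule.mkQ I x = 0 := (Submodule.Quotient.mk_eq_zero I).mpr hx
            rw [this, map_zero]
          · intro h
            apply hb
            rw [h, LinearMap.mem_ker, LinearMap.comp_apply]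
            apply Subtype.ext
            rw [LinearMap.codRestrict_apply, hf0, LinearMap.lsmul_apply, ← map_smul, smul_eq_mul]
            exact (Submodule.Quotient.mk_eq_zero I).mpr hab
      have h3 : Acyc L d ((A ⧸ I) ⧸ LinearMap.range f0) j := by
        refine acyc_of_cyclic hd (I := I) j (fun J hJ => IH J hJ j hj)
          ((LinearMap.range f0).mkQ ∘ₗ Submodule.mkQ I) ?_ ?_
        · exact (Submodule.mkQ_surjective _).comp (Submodule.mkQ_surjective _)
        · refine lt_of_le_of_ne ?_ ?_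
          · intro x hx
            rw [LinearMap.mem_ker, LinearMap.comp_apply]
            have : Submodule.mkQ I x = 0 := (Submodule.Quotient.mk_eq_zero I).mpr hx
            rw [this, map_zero]
          · intro h
            apply ha
            rw [h, LinearMap.mem_ker, LinearMap.comp_apply, Submodule.mkQ_apply,
              Submodule.Quotient.mk_eq_zero]
            refine ⟨Submodule.mkQ I 1, ?_⟩
            rw [hf0, LinearMap.lsmul_apply, ← map_smul, smul_eq_mul, mul_one]
      exact acyc_mid hd (LinearMap.range f0).subtype (LinearMap.range f0).mkQ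
        (Submodule.injective_subtype _) (Submodule.mkQ_surjective _)
        (LinearMap.exact_subtype_mkQ _) j h1 h3

theorem acyc_finite [IsNoetherianRing A] [∀ i, Module.Flat A (L i)]
    (hd : ∀ i (x : L (i + 1 + 1)), d i (d (i + 1) x) = 0) (n : ℕ)
    (hk : ∀ (p : Ideal A) [p.IsPrime] (j : ℕ), n ≤ j → Acyc L d p.ResidueField j)
    (N : Type u) [AddCommGroup N] [Module A N] [hN : Module.Finite A N] :
    ∀ j, n ≤ j → Acyc L d N j := by
  refine IsNoetherianRing.induction_on_isQuotientEquivQuotientPrime A (M := N) hN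
    (motive := fun N _ _ _ => ∀ j, n ≤ j → Acyc L d N j) ?_ ?_ ?_
  · intro N _ _ _ _ j _
    exact acyc_of_subsingleton N j
  · intro N _ _ _ p e j hj
    haveI := p.isPrime
    exact acyc_of_equiv hd e.symm j (acyc_quotient hd n hk p.asIdeal j hj)
  · intro N₁ _ _ _ N₂ _ _ _ N₃ _ _ _ f g hf hg hfg h1 h3 j hj
    exact acyc_mid hd f g hf hg hfg j (h1 j hj) (h3 j hj)

/-- **Main module-level theorem**: for a complex of flat modules over a Noetherian ring,
acyclicity of `k(x) ⊗ L` above degree `n` for all primes `x` implies acyclicity of `N ⊗ L` above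
degree `n` for every module `N`. -/
theorem acyc_of_residueField [IsNoetherianRing A] [∀ i, Module.Flat A (L i)]
    (hd : ∀ i (x : L (i + 1 + 1)), d i (d (i + 1) x) = 0) (n : ℕ)
    (hk : ∀ (p : Ideal A) [p.IsPrime] (j : ℕ), n ≤ j → Acyc L d p.ResidueField j)
    (N : Type u) [AddCommGroup N] [Module A N] (j : ℕ) (hj : n ≤ j) : Acyc L d N j := by
  intro z hz
  obtain ⟨N', hN', hzN'⟩ := TensorProduct.exists_finite_submodule_left_of_setFinite {z}
    (Set.finite_singleton z)
  obtain ⟨z', hz'⟩ := hzN' (Set.mem_singleton z)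
  have hz'c : lTensor N' (d j) z' = 0 := by
    apply Module.Flat.rTensor_preserves_injective_linearMap (M := L j) N'.subtype
      (Submodule.injective_subtype _)
    rw [map_zero, ← comm_apply, hz', hz]
  obtain ⟨w', hw'⟩ := acyc_finite hd n hk N' j hj z' hz'c
  refine ⟨rTensor _ N'.subtype w', ?_⟩
  rw [comm_apply, hw', hz']

end Groth.Agent.H43.TorResField
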