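import Groth.Agent.H43.TorLES
import Groth.Agent.H43.TorResField

set_option autoImplicit false
universe u

namespace Groth.Agent.H43.TorResField

open CategoryTheory CategoryTheory.Limits MonoidalCategory Groth.Agent.H43.TorLES

variable {A : Type u} [CommRing A]

/-- differentials of a chain complex as linear maps -/
abbrev cxD (K : ChainComplex (ModuleCat.{u} A) ℕ) (i : ℕ) : K.X (i + 1) →ₗ[A] K.X i :=
  (K.d (i + 1) i).hom

theorem cxD_comp (K : ChainComplex (ModuleCat.{u} A) ℕ) (i : ℕ) (x : K.X (i + 1 + 1)) :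
    cxD K i (cxD K (i + 1) x) = 0 := by
  have h := K.d_comp_d (i + 1 + 1) (i + 1) i
  have h2 : (K.d (i + 1 + 1) (i + 1) ≫ K.d (i + 1) i).hom x = (0 : K.X (i + 1 + 1) ⟶ K.X i).hom x := by
    rw [h]
  rw [ModuleCat.hom_comp, LinearMap.comp_apply] at h2
  exact h2

theorem exactAt_tensCx_iff (N : ModuleCat.{u} A) (K : ChainComplex (ModuleCat.{u} A) ℕ) (j : ℕ) :
    (tensCx N K).ExactAt (j + 1) ↔ Acyc (fun i => K.X i) (cxD K) N j := by
  rw [HomologicalComplex.exactAt_iff' _ (j + 1 + 1) (j + 1) j (by simp) (by simp),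
    ShortComplex.moduleCat_exact_iff]
  constructor
  · intro h z hz
    exact h z hz
  · intro h z hz
    exact h z hz

theorem flat_of_projective_obj (X : ModuleCat.{u} A) [Projective X] : Module.Flat A X := by
  have : Module.Projective A X := (IsProjective.iff_projective X).mpr inferInstance
  infer_instance

theorem isZero_tor_succ_iff (N M : ModuleCat.{u} A) (Q : ProjectiveResolution M) (j : ℕ) :
    IsZero (((Tor (ModuleCat.{u} A) (j + 1)).obj N).obj M) ↔
      Acyc (fun i => Q.complex.X i) (cxD Q.complex) N j := by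
  rw [isZero_tor_iff N M Q, ← HomologicalComplex.exactAt_iff_isZero_homology, exactAt_tensCx_iff]

end Groth.Agent.H43.TorResField
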