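import Groth.Prelude.Def_Tors
import Mathlib.CategoryTheory.Sites.Subsheaf
import Mathlib.CategoryTheory.Sites.EpiMono
import Mathlib.CategoryTheory.Sites.LeftExact
import Mathlib.Algebra.Homology.DerivedCategory.Ext.ExactSequences

/-!
# Torsors under an abelian sheaf: basic API, global sections, the torsor of lifts

(helper43)
-/

set_option autoImplicit false
universe u
open CategoryTheory Limits Opposite

namespace Groth.Agent.H43.TorsBasic

variable {C : Type u} [SmallCategory C] {J : GrothendieckTopology C}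

section Diff

variable {G : Sheaf J AddCommGrpCat.{u}} (T : Tors.Torsor G)

/-- the difference `q - p` of two sections of a torsor -/
noncomputable def diff {U : Cᵒᵖ} (q p : T.P.obj.obj U) : G.obj.obj U :=
  (T.free_transitive p q).choose

lemma vadd_diff {U : Cᵒᵖ} (q p : T.P.obj.obj U) : T.vadd (diff T q p) p = q :=
  (T.free_transitive p q).choose_spec.1

lemma eq_diff {U : Cᵒᵖ} {q p : T.P.obj.obj U} {g : G.obj.obj U} (h : T.vadd g p = q) :
    g = diff T q p :=
  (T.free_transitive p q).choose_spec.2 g h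

lemma diff_vadd {U : Cᵒᵖ} (g : G.obj.obj U) (p : T.P.obj.obj U) : diff T (T.vadd g p) p = g :=
  (eq_diff T rfl).symm

lemma diff_self {U : Cᵒᵖ} (p : T.P.obj.obj U) : diff T p p = 0 :=
  (eq_diff T (T.zero_vadd p)).symm

lemma diff_add_diff {U : Cᵒᵖ} (r q p : T.P.obj.obj U) :
    diff T r q + diff T q p = diff T r p := by
  apply eq_diff
  rw [T.add_vadd, vadd_diff, vadd_diff]

lemma diff_vadd_left {U : Cᵒᵖ} (g : G.obj.obj U) (q p : T.P.obj.obj U) :
    diff T (T.vadd g q) p = g + diff T q p := by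
  symm
  apply eq_diff
  rw [T.add_vadd, vadd_diff]

lemma map_diff {U V : Cᵒᵖ} (f : U ⟶ V) (q p : T.P.obj.obj U) :
    G.obj.map f (diff T q p) = diff T (T.P.obj.map f q) (T.P.obj.map f p) := by
  apply eq_diff
  rw [← T.map_vadd, vadd_diff]

end Diff

section Global

variable {G : Sheaf J AddCommGrpCat.{u}} (T : Tors.Torsor G)

/-- a torsor has a section iff it has a compatible family of sections over all objects -/
lemma hasSection_iff :
    T.HasSection ↔ ∃ t : ∀ U : Cᵒᵖ, T.P.obj.obj U,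
      ∀ {U V : Cᵒᵖ} (f : U ⟶ V), T.P.obj.map f (t U) = t V := by
  constructor
  · rintro ⟨σ⟩
    let Gs : Sheaf J (Type u) := (sheafCompose J (forget AddCommGrpCat.{u})).obj G
    let z : Gs ⟶ ⊤_ (Sheaf J (Type u)) := terminal.from _
    refine ⟨fun U => σ.hom.app U (z.hom.app U (0 : G.obj.obj U)), ?_⟩
    intro U V f
    have h1 := ConcreteCategory.congr_hom (σ.hom.naturality f) (z.hom.app U (0 : G.obj.obj U))
    have h2 := ConcreteCategory.congr_hom (z.hom.naturality f) (0 : G.obj.obj U)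
    have h3 : Gs.obj.map f (0 : G.obj.obj U) = (0 : G.obj.obj V) := map_zero (G.obj.map f).hom
    simp only [types_comp_apply] at h1 h2
    rw [← h1, ← h2, h3]
  · rintro ⟨t, ht⟩
    exact ⟨⟨{ app := fun U => TypeCat.ofHom (fun _ => t U)
              naturality := fun U V f => by
                ext x
                exact (ht f).symm }⟩⟩

/-- a torsor admitting an equivariant map to the group has a section -/
lemma hasSection_of_equivariant (φ : ∀ U : Cᵒᵖ, T.P.obj.obj U → G.obj.obj U)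
    (φ_map : ∀ {U V : Cᵒᵖ} (f : U ⟶ V) (t : T.P.obj.obj U),
      G.obj.map f (φ U t) = φ V (T.P.obj.map f t))
    (φ_vadd : ∀ (U : Cᵒᵖ) (g : G.obj.obj U) (t : T.P.obj.obj U),
      φ U (T.vadd g t) = g + φ U t) : T.HasSection := by
  have inj : ∀ (U : Cᵒᵖ) (t t' : T.P.obj.obj U), φ U t = φ U t' → t = t' := by
    intro U t t' h
    have h1 : φ U t' = diff T t' t + φ U t := by
      rw [← φ_vadd, vadd_diff]
    have h2 : diff T t' t = 0 := by
      rw [← h] at h1
      exact (add_eq_right.1 h1.symm)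
    rw [← vadd_diff T t' t, h2, T.zero_vadd]
  have ex : ∀ U : Cᵒᵖ, ∃ t : T.P.obj.obj U, φ U t = 0 := by
    intro U
    obtain ⟨S, hS, hne⟩ := T.locally_nonempty U.unop
    have hsheaf : Presieve.IsSheafFor T.P.obj S.arrows :=
      (isSheaf_iff_isSheaf_of_type J _).1 T.P.property S hS
    let x : Presieve.FamilyOfElements T.P.obj S.arrows := fun V f hf =>
      T.vadd (-(φ (op V) (hne f hf).some)) (hne f hf).some
    have hx0 : ∀ (V : C) (f : V ⟶ U.unop) (hf : S.arrows f), φ (op V) (x f hf) = 0 := by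
      intro V f hf
      change φ (op V) (T.vadd _ _) = 0
      rw [φ_vadd, neg_add_cancel]
    have hxc : x.Compatible := by
      intro Y₁ Y₂ Z g₁ g₂ f₁ f₂ h₁ h₂ e
      apply inj
      rw [← φ_map, ← φ_map, hx0 _ f₁ h₁, hx0 _ f₂ h₂, map_zero, map_zero]
    obtain ⟨t, ht, -⟩ := hsheaf x hxc
    refine ⟨t, ?_⟩
    have hG : Presieve.IsSheaf J (G.obj ⋙ forget AddCommGrpCat.{u}) :=
      (isSheaf_iff_isSheaf_of_type J _).1
        ((sheafCompose J (forget AddCommGrpCat.{u})).obj G).property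
    apply (hG.isSeparated _ hS).ext
    intro V f hf
    change G.obj.map f.op (φ U t) = G.obj.map f.op 0
    rw [φ_map, ht f hf, hx0 _ f hf, map_zero]
  choose t ht using ex
  exact (hasSection_iff T).2 ⟨t, fun {U V} f => inj _ _ _ (by rw [← φ_map, ht, ht, map_zero])⟩

end Global

section Lifts

variable {S : ShortComplex (Sheaf J AddCommGrpCat.{u})} (hS : S.ShortExact)
  (q : ∀ U : Cᵒᵖ, S.X₃.obj.obj U)
  (hq : ∀ {U V : Cᵒᵖ} (f : U ⟶ V), S.X₃.obj.map f (q U) = q V)

omit hS q in
variable (S) in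
lemma app_zero (U : Cᵒᵖ) (g : S.X₁.obj.obj U) : S.g.hom.app U (S.f.hom.app U g) = 0 := by
  have := ConcreteCategory.congr_hom (congrArg (fun m => m.hom.app U) S.zero) g
  exact this

include hS in
lemma app_f_injective (U : Cᵒᵖ) : Function.Injective (S.f.hom.app U).hom := by
  have := hS.mono_f
  let FV : Sheaf J AddCommGrpCat.{u} ⥤ AddCommGrpCat.{u} :=
    sheafToPresheaf J AddCommGrpCat.{u} ⋙ (evaluation Cᵒᵖ AddCommGrpCat.{u}).obj U
  have hmono : Mono (FV.map S.f) := inferInstance
  exact (AddCommGrpCat.mono_iff_injective _).1 hmono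

include hS in
lemma app_exact (U : Cᵒᵖ) (s : S.X₂.obj.obj U) (hs : S.g.hom.app U s = 0) :
    ∃ g : S.X₁.obj.obj U, S.f.hom.app U g = s := by
  have := hS.mono_f
  let FV : Sheaf J AddCommGrpCat.{u} ⥤ AddCommGrpCat.{u} :=
    sheafToPresheaf J AddCommGrpCat.{u} ⋙ (evaluation Cᵒᵖ AddCommGrpCat.{u}).obj U
  have hex : (S.map FV).Exact :=
    hS.exact.map_of_mono_of_preservesKernel FV inferInstance inferInstance
  rw [ShortComplex.ab_exact_iff] at hex
  exact hex s hs

/-- the subfunctor of lifts of `q` -/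
def liftSub : Subfunctor (S.X₂.obj ⋙ forget AddCommGrpCat.{u}) where
  obj U := {s | S.g.hom.app U s = q U}
  map {U V} f s hs := by
    change S.g.hom.app V (S.X₂.obj.map f s) = q V
    have := ConcreteCategory.congr_hom (S.g.hom.naturality f) s
    rw [← hq f, ← (show S.g.hom.app U s = q U from hs)]
    exact this

lemma isSheaf_liftSub : Presheaf.IsSheaf J (liftSub q hq).toFunctor := by
  rw [isSheaf_iff_isSheaf_of_type]
  have hX₂ : Presieve.IsSheaf J (S.X₂.obj ⋙ forget AddCommGrpCat.{u}) :=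
    (isSheaf_iff_isSheaf_of_type J _).1
      ((sheafCompose J (forget AddCommGrpCat.{u})).obj S.X₂).property
  have hX₃ : Presieve.IsSheaf J (S.X₃.obj ⋙ forget AddCommGrpCat.{u}) :=
    (isSheaf_iff_isSheaf_of_type J _).1
      ((sheafCompose J (forget AddCommGrpCat.{u})).obj S.X₃).property
  rw [Subfunctor.isSheaf_iff _ hX₂]
  intro U s hs
  change S.g.hom.app U s = q U
  apply (hX₃.isSeparated _ hs).ext
  intro V f hf
  have h1 := ConcreteCategory.congr_hom (S.g.hom.naturality f.op) s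
  have h2 : S.g.hom.app (op V) (S.X₂.obj.map f.op s) = q (op V) := hf
  change S.X₃.obj.map f.op (S.g.hom.app U s) = S.X₃.obj.map f.op (q U)
  rw [hq f.op, ← h2]
  exact h1.symm

/-- the underlying section of a lift -/
def lval {U : Cᵒᵖ} (p : (liftSub q hq).toFunctor.obj U) : S.X₂.obj.obj U := p.1

lemma lval_prop {U : Cᵒᵖ} (p : (liftSub q hq).toFunctor.obj U) :
    S.g.hom.app U (lval q hq p) = q U := p.2

lemma lval_ext {U : Cᵒᵖ} {p p' : (liftSub q hq).toFunctor.obj U}
    (h : lval q hq p = lval q hq p') : p = p' := Subtype.ext h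

/-- make a lift -/
def lmk {U : Cᵒᵖ} (s : S.X₂.obj.obj U) (hs : S.g.hom.app U s = q U) :
    (liftSub q hq).toFunctor.obj U := ⟨s, hs⟩

@[simp] lemma lval_lmk {U : Cᵒᵖ} (s : S.X₂.obj.obj U) (hs : S.g.hom.app U s = q U) :
    lval q hq (lmk q hq s hs) = s := rfl

lemma lval_map {U V : Cᵒᵖ} (f : U ⟶ V) (p : (liftSub q hq).toFunctor.obj U) :
    lval q hq ((liftSub q hq).toFunctor.map f p) = S.X₂.obj.map f (lval q hq p) := rfl

/-- the torsor of lifts of a global section `q` of `S.X₃` to `S.X₂` -/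
noncomputable def liftTorsor : Tors.Torsor S.X₁ where
  P := ⟨(liftSub q hq).toFunctor, isSheaf_liftSub q hq⟩
  vadd {U} g p := lmk q hq (S.f.hom.app U g + lval q hq p) (by
    rw [map_add, app_zero, zero_add, lval_prop])
  zero_vadd {U} p := lval_ext q hq (by
    rw [lval_lmk, map_zero, zero_add])
  add_vadd {U} g h p := lval_ext q hq (by
    rw [lval_lmk, lval_lmk, lval_lmk, map_add, add_assoc])
  map_vadd {U V} f g p := lval_ext q hq (by
    rw [lval_lmk, lval_map, lval_lmk, map_add, lval_map]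
    congr 1
    exact (ConcreteCategory.congr_hom (S.f.hom.naturality f) g).symm)
  free_transitive {U} p p' := by
    have h0 : S.g.hom.app U (lval q hq p' - lval q hq p) = 0 := by
      rw [map_sub, lval_prop, lval_prop, sub_self]
    obtain ⟨g, hg⟩ := app_exact hS U _ h0
    refine ⟨g, lval_ext q hq ?_, ?_⟩
    · rw [lval_lmk, hg, sub_add_cancel]
    · intro g' hg'
      apply app_f_injective hS U
      have : S.f.hom.app U g' + lval q hq p = lval q hq p' := congrArg (lval q hq) hg'
      change S.f.hom.app U g' = S.f.hom.app U g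
      rw [hg, ← this, add_sub_cancel_right]
  locally_nonempty U := by
    have := hS.epi_g
    have hls : Sheaf.IsLocallySurjective S.g :=
      (Sheaf.isLocallySurjective_iff_epi' (φ := S.g)).2 this
    refine ⟨_, Presheaf.imageSieve_mem J S.g.hom (q (op U)), ?_⟩
    rintro V f ⟨t, ht⟩
    exact ⟨lmk q hq t (ht.trans (hq f.op))⟩

include hS in
lemma exists_lift_of_hasSection (h : (liftTorsor hS q hq).HasSection) :
    ∃ s : ∀ U : Cᵒᵖ, S.X₂.obj.obj U,
      (∀ {U V : Cᵒᵖ} (f : U ⟶ V), S.X₂.obj.map f (s U) = s V) ∧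
        ∀ U, S.g.hom.app U (s U) = q U := by
  obtain ⟨t, ht⟩ := (hasSection_iff _).1 h
  refine ⟨fun U => lval q hq (t U), ?_, fun U => lval_prop q hq (t U)⟩
  intro U V f
  exact congrArg (lval q hq) (ht f)

end Lifts

section Const

variable (J)

/-- the constant presheaf `ℤ` -/
abbrev Zc : Cᵒᵖ ⥤ AddCommGrpCat.{u} := (Functor.const _).obj (AddCommGrpCat.of (ULift.{u} ℤ))

/-- the constant sheaf `ℤ` -/
noncomputable abbrev ZJ : Sheaf J AddCommGrpCat.{u} :=
  (presheafToSheaf J AddCommGrpCat.{u}).obj (Zc (C := C))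

lemma ZJ_eq : ZJ J = (constantSheaf J AddCommGrpCat.{u}).obj (AddCommGrpCat.of (ULift.{u} ℤ)) :=
  rfl

variable {J} (F : Sheaf J AddCommGrpCat.{u})

/-- the morphism of presheaves `ℤ → F` given by a compatible family of sections -/
def ofFamilyP (s : ∀ U : Cᵒᵖ, F.obj.obj U)
    (hs : ∀ {U V : Cᵒᵖ} (f : U ⟶ V), F.obj.map f (s U) = s V) : Zc (C := C) ⟶ F.obj where
  app U := AddCommGrpCat.ofHom
    ((zmultiplesHom (F.obj.obj U) (s U)).comp (AddEquiv.ulift (α := ℤ)).toAddMonoidHom)
  naturality U V f := by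
    ext n
    change (n.down • s V) = F.obj.map f (n.down • s U)
    rw [map_zsmul, hs f]

/-- the morphism `ℤ_J → F` given by a compatible family of sections -/
noncomputable def ofFamily (s : ∀ U : Cᵒᵖ, F.obj.obj U)
    (hs : ∀ {U V : Cᵒᵖ} (f : U ⟶ V), F.obj.map f (s U) = s V) : ZJ J ⟶ F :=
  ((sheafificationAdjunction J AddCommGrpCat.{u}).homEquiv (Zc (C := C)) F).symm (ofFamilyP F s hs)

variable {F}

/-- the family of sections given by a morphism `ℤ_J → F` -/
noncomputable def toFamily (a : ZJ J ⟶ F) (U : Cᵒᵖ) : F.obj.obj U :=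
  (((sheafificationAdjunction J AddCommGrpCat.{u}).homEquiv (Zc (C := C)) F a).app U).hom
    (ULift.up 1)

lemma toFamily_map (a : ZJ J ⟶ F) {U V : Cᵒᵖ} (f : U ⟶ V) :
    F.obj.map f (toFamily a U) = toFamily a V := by
  have := ConcreteCategory.congr_hom
    (((sheafificationAdjunction J AddCommGrpCat.{u}).homEquiv (Zc (C := C)) F a).naturality f)
    (ULift.up 1)
  exact this.symm

lemma toFamily_comp {F' : Sheaf J AddCommGrpCat.{u}} (a : ZJ J ⟶ F) (b : F ⟶ F') (U : Cᵒᵖ) :
    toFamily (a ≫ b) U = b.hom.app U (toFamily a U) := by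
  unfold toFamily
  rw [Adjunction.homEquiv_naturality_right]
  rfl

lemma toFamily_ofFamily (s : ∀ U : Cᵒᵖ, F.obj.obj U)
    (hs : ∀ {U V : Cᵒᵖ} (f : U ⟶ V), F.obj.map f (s U) = s V) (U : Cᵒᵖ) :
    toFamily (ofFamily F s hs) U = s U := by
  unfold toFamily ofFamily
  rw [Equiv.apply_symm_apply]
  change (1 : ℤ) • s U = s U
  rw [one_smul]

lemma toFamily_injective {a b : ZJ J ⟶ F} (h : ∀ U, toFamily a U = toFamily b U) : a = b := by
  apply ((sheafificationAdjunction J AddCommGrpCat.{u}).homEquiv (Zc (C := C)) F).injective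
  ext U n
  have hn : n = n.down • (ULift.up 1 : ULift.{u} ℤ) := by
    apply ULift.ext
    simp
  rw [hn, map_zsmul, map_zsmul]
  exact congrArg _ (h U)

end Const

end Groth.Agent.H43.TorsBasic
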