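import Groth.Agent.H43.TorsBasic

/-!
# The free abelian presheaf on a torsor and the difference map on its augmentation kernel

(helper43)
-/

set_option autoImplicit false
universe u
open CategoryTheory Limits Opposite

namespace Groth.Agent.H43.TorsFree

open TorsBasic

variable {C : Type u} [SmallCategory C] {J : GrothendieckTopology C}
  {G : Sheaf J AddCommGrpCat.{u}} (T : Tors.Torsor G)

/-- the free abelian group on the sections of the torsor -/
abbrev ZT (U : Cᵒᵖ) : Type u := FreeAbelianGroup (T.P.obj.obj U)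

/-- restriction on the free abelian groups -/
noncomputable def zmap {U V : Cᵒᵖ} (f : U ⟶ V) : ZT T U →+ ZT T V :=
  FreeAbelianGroup.map (T.P.obj.map f)

@[simp] lemma zmap_of {U V : Cᵒᵖ} (f : U ⟶ V) (t : T.P.obj.obj U) :
    zmap T f (FreeAbelianGroup.of t) = FreeAbelianGroup.of (T.P.obj.map f t) :=
  FreeAbelianGroup.map_of_apply _

/-- the augmentation -/
noncomputable def aug (U : Cᵒᵖ) : ZT T U →+ ULift.{u} ℤ :=
  FreeAbelianGroup.lift (fun _ => ULift.up 1)

@[simp] lemma aug_of (U : Cᵒᵖ) (t : T.P.obj.obj U) :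
    aug T U (FreeAbelianGroup.of t) = ULift.up 1 :=
  FreeAbelianGroup.lift_apply_of _ _

lemma aug_map {U V : Cᵒᵖ} (f : U ⟶ V) (x : ZT T U) :
    aug T V (zmap T f x) = aug T U x := by
  have : (aug T V).comp (zmap T f) = aug T U := by
    apply FreeAbelianGroup.lift_ext
    intro t
    rw [AddMonoidHom.comp_apply, zmap_of, aug_of, aug_of]
  exact DFunLike.congr_fun this x

/-- the difference map based at `t₀` -/
noncomputable def rr {U : Cᵒᵖ} (t₀ : T.P.obj.obj U) : ZT T U →+ G.obj.obj U :=
  FreeAbelianGroup.lift (fun t => diff T t t₀)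

@[simp] lemma rr_of {U : Cᵒᵖ} (t₀ t : T.P.obj.obj U) :
    rr T t₀ (FreeAbelianGroup.of t) = diff T t t₀ :=
  FreeAbelianGroup.lift_apply_of _ _

lemma rr_change {U : Cᵒᵖ} (t₀ t₁ : T.P.obj.obj U) (x : ZT T U) :
    rr T t₀ x = rr T t₁ x + (aug T U x).down • diff T t₁ t₀ := by
  have : rr T t₀ = rr T t₁ +
      ((zmultiplesHom (G.obj.obj U) (diff T t₁ t₀)).comp
        (AddEquiv.ulift (α := ℤ)).toAddMonoidHom).comp (aug T U) := by
    apply FreeAbelianGroup.lift_ext
    intro t
    rw [AddMonoidHom.add_apply, AddMonoidHom.comp_apply, rr_of, rr_of, aug_of]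
    change _ = _ + (1 : ℤ) • diff T t₁ t₀
    rw [one_smul, diff_add_diff]
  exact DFunLike.congr_fun this x

lemma rr_eq_of_aug_eq_zero {U : Cᵒᵖ} (t₀ t₁ : T.P.obj.obj U)
    (x : ZT T U) (hx : aug T U x = 0) : rr T t₀ x = rr T t₁ x := by
  rw [rr_change T t₀ t₁, hx]
  change _ + (0 : ℤ) • diff T t₁ t₀ = _
  rw [zero_smul, add_zero]

lemma rr_map {U V : Cᵒᵖ} (f : U ⟶ V) (t₀ : T.P.obj.obj U) (x : ZT T U) :
    G.obj.map f (rr T t₀ x) = rr T (T.P.obj.map f t₀) (zmap T f x) := by
  have : (G.obj.map f).hom.comp (rr T t₀) =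
      (rr T (T.P.obj.map f t₀)).comp (zmap T f) := by
    apply FreeAbelianGroup.lift_ext
    intro t
    rw [AddMonoidHom.comp_apply, AddMonoidHom.comp_apply, zmap_of, rr_of, rr_of]
    exact map_diff T f t t₀
  exact DFunLike.congr_fun this x

open Classical in
/-- the difference map with a chosen base point (zero if there is none) -/
noncomputable def rU (U : Cᵒᵖ) : ZT T U →+ G.obj.obj U :=
  if h : Nonempty (T.P.obj.obj U) then rr T h.some else 0

lemma rU_eq {U : Cᵒᵖ} (t₀ : T.P.obj.obj U) (x : ZT T U)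
    (hx : aug T U x = 0) : rU T U x = rr T t₀ x := by
  have h : Nonempty (T.P.obj.obj U) := ⟨t₀⟩
  unfold rU
  rw [dif_pos h]
  exact rr_eq_of_aug_eq_zero T _ _ x hx

lemma eq_zero_of_isEmpty {U : Cᵒᵖ} (h : ¬ Nonempty (T.P.obj.obj U))
    (x : ZT T U) : x = 0 := by
  have : ∀ y : ZT T U, AddMonoidHom.id _ y = (0 : ZT T U →+ ZT T U) y := by
    intro y
    refine DFunLike.congr_fun (FreeAbelianGroup.lift_ext _ _ (fun t => ?_)) y
    exact (h ⟨t⟩).elim
  exact this x

lemma rU_map {U V : Cᵒᵖ} (f : U ⟶ V) (x : ZT T U) (hx : aug T U x = 0) :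
    G.obj.map f (rU T U x) = rU T V (zmap T f x) := by
  by_cases h : Nonempty (T.P.obj.obj U)
  · obtain ⟨t₀⟩ := h
    rw [rU_eq T t₀ x hx, rU_eq T (T.P.obj.map f t₀) _ ((aug_map T f x).trans hx)]
    exact rr_map T f t₀ x
  · rw [eq_zero_of_isEmpty T h x, map_zero, map_zero, map_zero, map_zero]

lemma rU_of_sub_of {U : Cᵒᵖ} (g : G.obj.obj U) (t : T.P.obj.obj U) :
    rU T U (FreeAbelianGroup.of (T.vadd g t) - FreeAbelianGroup.of t) = g := by
  rw [rU_eq T t _ (by rw [map_sub, aug_of, aug_of, sub_self]), map_sub, rr_of, rr_of,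
    diff_vadd, diff_self, sub_zero]

/-! ### The presheaves -/

/-- the free abelian presheaf on the torsor -/
noncomputable abbrev Zp : Cᵒᵖ ⥤ AddCommGrpCat.{u} := T.P.obj ⋙ AddCommGrpCat.free.{u}

lemma Zp_map_apply {U V : Cᵒᵖ} (f : U ⟶ V) (x : ZT T U) :
    ((Zp T).map f).hom x = zmap T f x := rfl

/-- the augmentation as a morphism of presheaves -/
noncomputable def εp : Zp T ⟶ Zc (C := C) where
  app U := AddCommGrpCat.ofHom (aug T U)
  naturality U V f := by
    ext x
    exact aug_map T f x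

/-- inclusion of the kernel of the augmentation -/
noncomputable abbrev κ : kernel (εp T) ⟶ Zp T := kernel.ι (εp T)

lemma aug_κ (U : Cᵒᵖ) (x : (kernel (εp T)).obj U) : aug T U (((κ T).app U).hom x) = 0 := by
  have := ConcreteCategory.congr_hom (congrArg (fun m => m.app U) (kernel.condition (εp T))) x
  exact this

lemma exists_κ (U : Cᵒᵖ) (y : ZT T U) (hy : aug T U y = 0) :
    ∃ x : (kernel (εp T)).obj U, ((κ T).app U).hom x = y := by
  let Sp : ShortComplex (Cᵒᵖ ⥤ AddCommGrpCat.{u}) :=
    ShortComplex.mk (κ T) (εp T) (kernel.condition _)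
  have hSp : Sp.Exact := ShortComplex.exact_kernel (εp T)
  have hex : (Sp.map ((evaluation Cᵒᵖ AddCommGrpCat.{u}).obj U)).Exact :=
    hSp.map_of_mono_of_preservesKernel _ (inferInstanceAs (Mono (kernel.ι (εp T)))) inferInstance
  rw [ShortComplex.ab_exact_iff] at hex
  exact hex y hy

/-- the difference map on the kernel of the augmentation -/
noncomputable def mp : kernel (εp T) ⟶ G.obj where
  app U := (κ T).app U ≫ AddCommGrpCat.ofHom (rU T U)
  naturality U V f := by
    ext x
    have h1 := ConcreteCategory.congr_hom ((κ T).naturality f) x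
    change rU T V (((κ T).app V).hom (((kernel (εp T)).map f).hom x)) =
      G.obj.map f (rU T U (((κ T).app U).hom x))
    rw [rU_map T f _ (aug_κ T U x)]
    exact congrArg (rU T V) h1

lemma mp_apply (U : Cᵒᵖ) (x : (kernel (εp T)).obj U) :
    ((mp T).app U).hom x = rU T U (((κ T).app U).hom x) := rfl

/-! ### Sheafification -/

instance isLocallySurjective_εp : Presheaf.IsLocallySurjective J (εp T) where
  imageSieve_mem {U} s := by
    obtain ⟨S, hS, hne⟩ := T.locally_nonempty U
    refine J.superset_covering ?_ hS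
    intro V f hf
    obtain ⟨t⟩ := hne f hf
    refine ⟨(s.down • FreeAbelianGroup.of t : ZT T (op V)), ?_⟩
    change aug T (op V) (s.down • FreeAbelianGroup.of t) = s
    rw [map_zsmul, aug_of]
    apply ULift.ext
    simp

/-- the sheafified sequence `0 → K → ℤ[T] → ℤ → 0` -/
noncomputable def SS : ShortComplex (Sheaf J AddCommGrpCat.{u}) :=
  (ShortComplex.mk (κ T) (εp T) (kernel.condition _)).map (presheafToSheaf J AddCommGrpCat.{u})

lemma SS_shortExact : (SS T).ShortExact := by
  have h1 : (SS T).Exact :=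
    (ShortComplex.exact_kernel (εp T)).map_of_mono_of_preservesKernel
      (presheafToSheaf J AddCommGrpCat.{u}) (inferInstanceAs (Mono (kernel.ι (εp T))))
      inferInstance
  have h2 : Mono (SS T).f :=
    inferInstanceAs (Mono ((presheafToSheaf J AddCommGrpCat.{u}).map (kernel.ι (εp T))))
  have h3 : Epi (SS T).g := by
    have : Sheaf.IsLocallySurjective ((presheafToSheaf J AddCommGrpCat.{u}).map (εp T)) :=
      (Presheaf.isLocallySurjective_presheafToSheaf_map_iff J (εp T)).2 inferInstance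
    exact Sheaf.epi_of_isLocallySurjective ((presheafToSheaf J AddCommGrpCat.{u}).map (εp T))
  exact ShortComplex.ShortExact.mk' h1 h2 h3

end Groth.Agent.H43.TorsFree
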