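import Groth.Agent.H43.TorsBasic
import Groth.Agent.H43.TorsFree
import Mathlib.Algebra.Homology.DerivedCategory.Ext.EnoughInjectives
import Mathlib.Algebra.Homology.DerivedCategory.Ext.ExtClass

/-!
# `H¹(G) = 0` iff every `G`-torsor has a section

(helper43)
-/

set_option autoImplicit false
universe u
open CategoryTheory Limits Opposite

namespace Groth.Agent.H43.TorsH1

open TorsBasic TorsFree

variable {C : Type u} [SmallCategory C] {J : GrothendieckTopology C}
  (G : Sheaf J AddCommGrpCat.{u})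

/-- if every torsor has a section then `H¹` vanishes -/
theorem subsingleton_ext_of_sections (h : ∀ T : Tors.Torsor G, T.HasSection) :
    Subsingleton (Abelian.Ext.{u} (ZJ J) G 1) := by
  refine subsingleton_of_forall_eq 0 (fun x => ?_)
  let S : ShortComplex (Sheaf J AddCommGrpCat.{u}) :=
    ShortComplex.mk (Injective.ι G) (cokernel.π (Injective.ι G)) (cokernel.condition _)
  have hS : S.ShortExact := { exact := ShortComplex.exact_cokernel (Injective.ι G) }
  have hx : x.comp (Abelian.Ext.mk₀ S.f) (add_zero 1) = 0 :=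
    Abelian.Ext.eq_zero_of_injective (I := Injective.under G) _
  obtain ⟨x₃, hx₃⟩ := Abelian.Ext.covariant_sequence_exact₁ (ZJ J) hS x hx (n₀ := 0) rfl
  obtain ⟨q, rfl⟩ := (Abelian.Ext.mk₀_bijective _ _).2 x₃
  obtain ⟨s, hs, hsq⟩ := exists_lift_of_hasSection hS (toFamily q) (toFamily_map q)
    (h (liftTorsor hS (toFamily q) (toFamily_map q)))
  have hq : q = ofFamily S.X₂ s hs ≫ S.g :=
    toFamily_injective (fun U => by rw [toFamily_comp, toFamily_ofFamily, hsq])
  rw [← hx₃, hq, ← Abelian.Ext.mk₀_comp_mk₀, Abelian.Ext.comp_assoc_of_second_deg_zero,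
    hS.comp_extClass, Abelian.Ext.comp_zero]

variable {G}

/-- if `H¹` vanishes then every torsor has a section -/
theorem hasSection_of_subsingleton_ext (h : Subsingleton (Abelian.Ext.{u} (ZJ J) G 1))
    (T : Tors.Torsor G) : T.HasSection := by
  let adj := sheafificationAdjunction J AddCommGrpCat.{u}
  have hS := SS_shortExact T
  let m : (SS T).X₁ ⟶ G := (adj.homEquiv (kernel (εp T)) G).symm (mp T)
  have hzero : hS.extClass.comp (Abelian.Ext.mk₀ m) (show 1 + 0 = 1 from rfl) = 0 :=
    @Subsingleton.elim _ h _ _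
  obtain ⟨x₂, hx₂⟩ := Abelian.Ext.contravariant_sequence_exact₁ hS G (Abelian.Ext.mk₀ m)
    (show 1 + 0 = 1 from rfl) hzero
  obtain ⟨ψ, rfl⟩ := (Abelian.Ext.mk₀_bijective _ _).2 x₂
  rw [Abelian.Ext.mk₀_comp_mk₀] at hx₂
  have hψ : (SS T).f ≫ ψ = m := (Abelian.Ext.mk₀_bijective _ _).1 hx₂
  let ψp : Zp T ⟶ G.obj := adj.homEquiv (Zp T) G ψ
  have hψp : κ T ≫ ψp = mp T := by
    have h1 : adj.homEquiv _ _ ((presheafToSheaf J AddCommGrpCat.{u}).map (κ T) ≫ ψ) =
        κ T ≫ ψp := adj.homEquiv_naturality_left _ _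
    rw [← h1]
    have h2 : (presheafToSheaf J AddCommGrpCat.{u}).map (κ T) ≫ ψ = m := hψ
    rw [h2]
    exact Equiv.apply_symm_apply _ _
  let φ : ∀ U : Cᵒᵖ, T.P.obj.obj U → G.obj.obj U :=
    fun U t => (ψp.app U).hom (FreeAbelianGroup.of t : ZT T U)
  apply hasSection_of_equivariant T φ
  · intro U V f t
    have := ConcreteCategory.congr_hom (ψp.naturality f) (FreeAbelianGroup.of t : ZT T U)
    change (ψp.app V).hom (((Zp T).map f).hom (FreeAbelianGroup.of t : ZT T U)) =
      G.obj.map f (φ U t) at this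
    rw [← this, Zp_map_apply, zmap_of]
  · intro U g t
    obtain ⟨x, hx⟩ := exists_κ T U
      (FreeAbelianGroup.of (T.vadd g t) - FreeAbelianGroup.of t)
      (by rw [map_sub, aug_of, aug_of, sub_self])
    have h1 := ConcreteCategory.congr_hom (congrArg (fun a => a.app U) hψp) x
    change (ψp.app U).hom (((κ T).app U).hom x) = rU T U (((κ T).app U).hom x) at h1
    rw [hx, rU_of_sub_of] at h1
    have h2 : (ψp.app U).hom ((FreeAbelianGroup.of (T.vadd g t) : ZT T U) -
        (FreeAbelianGroup.of t : ZT T U)) = φ U (T.vadd g t) - φ U t :=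
      map_sub (ψp.app U).hom _ _
    exact sub_eq_iff_eq_add.1 (h2.symm.trans h1)

end Groth.Agent.H43.TorsH1
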